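import Cfsg.Agent.H4.Deg
import Cfsg.Agent.H1.RepFrob
import Cfsg.Prelude.Def_DegreeGraph

/-! Character degrees: Taketa, Garrison, minimal non-abelian quotients. -/

set_option autoImplicit false
set_option linter.unusedSectionVars false

open Subgroup Function Cfsg CfsgH3 CfsgH2
open scoped ComplexConjugate commutatorElement

namespace CfsgH4

universe u v
variable {G : Type u} [Group G] [Finite G] {χ : G → ℂ}

theorem exists_mult [Fintype G] {φ : G → ℂ} (hφ : IsCharacter G φ) : ∃ a : IrrCharacter G → ℕ,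
    (∀ η : IrrCharacter G, classInner φ η.1 = a η) ∧ charDegree φ = ∑ η, a η * charDegree η.1 := by
  obtain ⟨a, ha, e⟩ := hφ.exists_coeff
  refine ⟨a, ha, charDegree_eq ?_⟩
  rw [congrFun e 1, Finset.sum_apply, Nat.cast_sum]
  exact Finset.sum_congr rfl fun η _ => by rw [Nat.cast_mul, coe_charDegree η.2.isChar]; rfl

theorem charDegree_mul {φ ψ : G → ℂ} (hφ : IsCharacter G φ) (hψ : IsCharacter G ψ) :
    charDegree (φ * ψ) = charDegree φ * charDegree ψ :=
  charDegree_eq (by rw [Nat.cast_mul, coe_charDegree hφ, coe_charDegree hψ]; rfl)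

theorem charDegree_one : charDegree (fun _ : G => (1 : ℂ)) = 1 := charDegree_eq Nat.cast_one.symm

theorem deg_mul_of_over {N : Subgroup G} [N.Normal] [Fintype N] {θ : N → ℂ} (hθ : IsIrrCharacter N θ)
    (hχ : IsIrrCharacter G χ) (hc : classInner (fun n : N => χ n) θ ≠ 0) :
    ∃ e, charDegree χ = e * charDegree θ ∧ e ∣ N.index := by
  obtain ⟨e, h1, h2⟩ := exists_deg_mul hθ hχ hc
  exact ⟨e, charDegree_eq (by rw [h1, Nat.cast_mul, coe_charDegree hθ.isChar]), h2⟩

theorem exists_over' {N : Subgroup G} [N.Normal] {θ : N → ℂ} (hθ : IsIrrCharacter N θ) :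
    ∃ χ e, IsIrrCharacter G χ ∧ charDegree χ = e * charDegree θ ∧ e ∣ N.index := by
  have := Fintype.ofFinite N
  obtain ⟨χ, hχ, hc⟩ := hθ.exists_over
  obtain ⟨e, h⟩ := deg_mul_of_over hθ hχ hc
  exact ⟨χ, e, hχ, h⟩

theorem exists_under' (hχ : IsIrrCharacter G χ) (N : Subgroup G) [N.Normal] :
    ∃ θ e, IsIrrCharacter N θ ∧ charDegree χ = e * charDegree θ ∧ e ∣ N.index := by
  have := Fintype.ofFinite N
  have := Fintype.ofFinite G
  obtain ⟨θ, hθ, hc⟩ := hχ.exists_res_constituent N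
  obtain ⟨e, h⟩ := deg_mul_of_over hθ hχ hc
  exact ⟨θ, e, hθ, h⟩

theorem irr_res_of_coprime (hχ : IsIrrCharacter G χ) {N : Subgroup G} [N.Normal]
    (h : (charDegree χ).Coprime N.index) : IsIrrCharacter N fun n : N => χ n := by
  have := Fintype.ofFinite N
  have := Fintype.ofFinite G
  obtain ⟨θ, hθ, hc⟩ := hχ.exists_res_constituent N
  obtain ⟨e, h1, h2⟩ := deg_mul_of_over hθ hχ hc
  obtain rfl : e = 1 := Nat.eq_one_of_dvd_coprimes h ⟨_, h1⟩ h2
  rwa [(hχ.isChar.restrict N).eq_of_constituent_of_deg_eq hθ hc (by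
    rw [coe_one, ← coe_charDegree hχ.isChar, h1, one_mul, coe_charDegree hθ.isChar])]

theorem exists_deg_mul_quot (hχ : IsIrrCharacter G χ) {N : Subgroup G} [N.Normal]
    (h : (charDegree χ).Coprime N.index) {β : G ⧸ N → ℂ} (hβ : IsIrrCharacter _ β) :
    ∃ ψ, IsIrrCharacter G ψ ∧ charDegree ψ = charDegree β * charDegree χ := by
  have := Fintype.ofFinite G
  exact ⟨_, (gallagher hχ.isChar (irr_res_of_coprime hχ h)).1 ⟨β, hβ⟩,
    charDegree_mul hβ.inflate.isChar hχ.isChar⟩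

theorem npc_of_dvd {p : ℕ} (hp : p.Prime) (h : ∀ χ, IsIrrCharacter G χ → charDegree χ = 1 ∨ p ∣ charDegree χ) :
    ∃ R : Subgroup G, R.Normal ∧ ¬ p ∣ Nat.card R ∧ ∃ k, R.index = p ^ k :=
  thompson_npc hp fun χ hχ _ hd => charDegree_eq hd ▸ h χ hχ

theorem deg_compl {p k : ℕ} (hp : p.Prime) {R : Subgroup G} [R.Normal] (hR : ¬ p ∣ Nat.card R)
    (hk : R.index = p ^ k) {θ : R → ℂ} (hθ : IsIrrCharacter R θ) :
    ∃ χ, IsIrrCharacter G χ ∧ charDegree θ = ordCompl[p] (charDegree χ) := by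
  obtain ⟨χ, e, hχ, h1, h2⟩ := exists_over' hθ
  obtain ⟨j, -, rfl⟩ := (Nat.dvd_prime_pow hp).1 (hk ▸ h2)
  exact ⟨χ, hχ, by rw [h1, Nat.ordCompl_pow_mul_of_not_dvd j hp fun k => hR (k.trans (charDegree_dvd_card hθ))]⟩

theorem comm_of_deg (h : ∀ χ, IsIrrCharacter G χ → charDegree χ = 1) (a b : G) : a * b = b * a :=
  comm_of_irr_deg_one (fun χ hχ => (charDegree_eq_one_iff hχ.isChar).1 (h χ hχ)) a b

theorem comm_of_deg' {N : Subgroup G} (h : ∀ θ, IsIrrCharacter N θ → charDegree θ = 1) :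
    ∀ a ∈ N, ∀ b ∈ N, a * b = b * a := fun a ha b hb =>
  congrArg Subtype.val (comm_of_deg h ⟨a, ha⟩ ⟨b, hb⟩)

theorem deg_le_index_of_comm (hχ : IsIrrCharacter G χ) {B : Subgroup G} (h : ∀ a ∈ B, ∀ b ∈ B, a * b = b * a) :
    charDegree χ ≤ B.index := by
  have := Fintype.ofFinite G
  have := Fintype.ofFinite B
  obtain ⟨θ, hθ, hc⟩ := hχ.exists_res_constituent B
  have h1 : θ 1 = 1 := hθ.deg_one_of_comm fun a b => Subtype.ext (h a a.2 b b.2)
  rw [Ne, CfsgH3.inner_eq_zero_symm, ← inner_indFun_left _ _ hχ.classFun] at hc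
  exact hθ.isChar.ind.deg_le_of_constituent hχ hc (by rw [indFun_one, h1, mul_one])
    (coe_charDegree hχ.isChar).symm

theorem finite_cd : (charDegrees G).Finite := Set.finite_range fun χ : IrrCharacter G => charDegree χ.1

theorem mem_cd (hχ : IsIrrCharacter G χ) : charDegree χ ∈ charDegrees G := ⟨⟨χ, hχ⟩, rfl⟩

theorem taketa_aux [Fintype G] (hm : ∀ χ, IsIrrCharacter G χ → IsMonomial χ) (k : ℕ) :
    ∀ χ, IsIrrCharacter G χ → {d ∈ charDegrees G | d ≤ charDegree χ}.ncard ≤ k →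
      ∀ x ∈ derivedSeries G k, χ x = χ 1 := by
  have hf : ∀ n, {d ∈ charDegrees G | d ≤ n}.Finite := fun n => finite_cd.subset fun _ h => h.1
  induction k with
  | zero =>
    intro χ hχ h
    exact absurd ((Set.ncard_pos (hf _)).2 ⟨_, mem_cd hχ, le_rfl⟩) (not_lt.2 h)
  | succ k ih =>
  intro χ hχ h x hx
  obtain ⟨H, lam, rfl⟩ := hm χ hχ
  have hd : charDegree (indFun H fun h => (lam h : ℂ)) = H.index :=
    charDegree_eq (by rw [indFun_one, map_one, Units.val_one, mul_one])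
  have h1 : derivedSeries G k ≤ H := fun y hy => mem_of_ind_one (apply_eq_of_constituents isChar_one.ind
    fun ψ hψ hc => by
      by_cases e : ψ = fun _ => 1
      · rw [e]
      have h2 := (isChar_one.ind (H := H)).sub_constituent isIrr_one (by rw [ip_indFun_one_one]; simp)
      have h3 := h2.deg_le_of_constituent hψ (by
        rwa [CfsgH3.inner_sub_left, isIrr_one.inner_of_ne hψ (Ne.symm e), sub_zero]) (a := H.index - 1)
        (by rw [Pi.sub_apply, indFun_one, Nat.cast_pred (Nat.pos_of_ne_zero index_ne_zero_of_finite), mul_one])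
        (coe_charDegree hψ.isChar).symm
      have := Nat.pos_of_ne_zero (index_ne_zero_of_finite (H := H))
      have h4 : {d ∈ charDegrees G | d ≤ charDegree ψ} ⊂ {d ∈ charDegrees G | d ≤ H.index} :=
        ⟨fun d h => ⟨h.1, h.2.trans (by omega)⟩, fun h => absurd (h ⟨hd ▸ mem_cd hχ, le_rfl⟩).2 (by omega)⟩
      exact ih ψ hψ (Nat.le_of_lt_succ ((Set.ncard_lt_ncard h4 (hf _)).trans_le (hd ▸ h))) y hy)
  have h2 : derivedSeries G (k + 1) ≤ (commutator H).map H.subtype := by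
    rw [map_subtype_commutator]; exact commutator_mono h1 h1
  rw [indFun_apply', indFun_apply']
  congr 1
  refine Finset.sum_congr rfl fun g _ => ?_
  obtain ⟨y, hy, e⟩ := h2 ((derivedSeries_normal G (k + 1)).conj_mem x hx g)
  rw [← e, coe_subtype, ext0_coe, lin_commutator lam hy, mul_one, mul_inv_cancel, ext0_of_mem _ _ (one_mem H)]
  exact congrArg Units.val (map_one lam).symm

theorem monomial_of_abelian_by_p {p : ℕ} [Fact p.Prime] [Fintype G] {A : Subgroup G} [hn : A.Normal]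
    (hA : ∀ a ∈ A, ∀ b ∈ A, a * b = b * a) (h : ∀ g : G, ∃ k, g ^ p ^ k ∈ A) (hχ : IsIrrCharacter G χ) :
    IsMonomial χ := by
  refine isMonomial_of_sections (fun G _ => ∃ A : Subgroup G, A.Normal ∧ (∀ a ∈ A, ∀ b ∈ A, a * b = b * a) ∧
    ∀ g : G, ∃ k, g ^ p ^ k ∈ A) ?_ ?_ G ⟨A, hn, hA, h⟩ hχ
  · rintro G _ _ H ⟨A, hn, hA, h⟩
    exact ⟨A.subgroupOf H, inferInstance, fun a ha b hb => Subtype.ext (hA _ ha _ hb), fun g => h g⟩
  · rintro G _ _ ⟨A, hn, hA, h⟩ K _ hK
    by_cases h1 : ∃ a ∈ A, ∃ g : G, a * g * a⁻¹ * g⁻¹ ∉ K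
    · exact ⟨A, hn, fun a ha b hb => by rw [hA a ha b hb]; simp, h1⟩
    push Not at h1
    have h2 : IsPGroup p ((G ⧸ K) ⧸ center (G ⧸ K)) := fun q => by
      obtain ⟨q, rfl⟩ := QuotientGroup.mk_surjective q
      obtain ⟨g, rfl⟩ := QuotientGroup.mk_surjective q
      obtain ⟨k, hk⟩ := h g
      refine ⟨k, ?_⟩
      rw [← QuotientGroup.mk_pow, QuotientGroup.eq_one_iff, ← QuotientGroup.mk_pow, mem_center_iff]
      intro y
      obtain ⟨y, rfl⟩ := QuotientGroup.mk_surjective y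
      have := (QuotientGroup.eq_one_iff _).2 (h1 _ hk y)
      simp only [QuotientGroup.mk_mul, QuotientGroup.mk_inv] at this
      exact (mul_inv_eq_iff_eq_mul.1 (mul_inv_eq_one.1 this)).symm
    have := h2.isNilpotent
    have := Subgroup.isNilpotent_of_ker_le_center (QuotientGroup.mk' (center (G ⧸ K))) (QuotientGroup.ker_mk' _).le
    obtain ⟨B, hB, h3, b, hb, h4⟩ := exists_abelian_normal_noncentral (G ⧸ K) (by
      by_contra k
      push Not at k
      refine hK (commutator_le.2 fun a _ b _ => (QuotientGroup.eq_one_iff _).1 ?_)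
      rw [← QuotientGroup.mk'_apply, map_commutatorElement, commutatorElement_eq_one_iff_mul_comm, k])
    obtain ⟨b, rfl⟩ := QuotientGroup.mk_surjective b
    refine ⟨B.comap (QuotientGroup.mk' K), inferInstance, fun x hx y hy => (QuotientGroup.eq_one_iff _).1 ?_,
      b, hb, by_contra fun k => h4 (mem_center_iff.2 fun y => ?_)⟩
    · simp only [QuotientGroup.mk_mul, QuotientGroup.mk_inv]
      rw [h3 (x : G ⧸ K) hx (y : G ⧸ K) hy]; simp
    · push Not at k
      obtain ⟨y, rfl⟩ := QuotientGroup.mk_surjective y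
      have := (QuotientGroup.eq_one_iff _).2 (k y)
      simp only [QuotientGroup.mk_mul, QuotientGroup.mk_inv] at this
      exact (mul_inv_eq_iff_eq_mul.1 (mul_inv_eq_one.1 this)).symm

theorem taketa_p {p j k : ℕ} (hp : p.Prime) {A : Subgroup G} [hn : A.Normal]
    (hA : ∀ a ∈ A, ∀ b ∈ A, a * b = b * a) (h : A.index = p ^ j) (hk : (charDegrees G).ncard ≤ k) :
    derivedSeries G k = ⊥ := by
  have := Fintype.ofFinite G
  have := Fact.mk hp
  exact eq_bot_iff.2 fun x hx => eq_one_of_forall_irr fun χ hχ => taketa_aux (fun χ hχ =>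
    monomial_of_abelian_by_p hA (fun g => ⟨j, h ▸ A.pow_index_mem g⟩) hχ) k χ hχ
    ((Set.ncard_le_ncard (fun _ h => h.1) finite_cd).trans hk) x hx

theorem cd_quot_subset (N : Subgroup G) [N.Normal] : charDegrees (G ⧸ N) ⊆ charDegrees G := by
  rintro _ ⟨β, rfl⟩
  exact mem_cd β.2.inflate

theorem garrison (n : ℕ) : ∀ (G : Type u) [Group G] [Finite G], Group.IsSolvable G →
    (charDegrees G).ncard ≤ n → ∃ N : ℕ → Subgroup G, N 0 = ⊥ ∧ N n = ⊤ ∧ Monotone N ∧ (∀ i, (N i).Normal) ∧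
      ∀ i, ∃ k, (N (i + 1)).lowerCentralSeries k ≤ N i := by
  induction n with
  | zero => intro G _ _ _ h; exact absurd ((Set.ncard_pos finite_cd).2 ⟨_, mem_cd isIrr_one⟩) (not_lt.2 h)
  | succ n ih =>
  intro G _ _ hs h
  obtain ⟨k, hk⟩ := (isNilpotent_iff_lowerCentralSeries _).1 (CfsgH1.isNilpotent_fitting G)
  by_cases hF : fittingSubgroup G = ⊤
  · refine ⟨fun i => Nat.casesOn i ⊥ fun _ => ⊤, rfl, rfl, monotone_nat_of_le_succ fun i => le_top,
      fun i => Nat.casesOn i normal_bot fun _ => normal_top, fun i => ?_⟩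
    cases i
    exacts [⟨k, (hF ▸ hk).le⟩, ⟨0, le_top⟩]
  obtain ⟨N, h0, h1, h2, h3, h4⟩ := ih (G ⧸ fittingSubgroup G) inferInstance (by
    refine Nat.le_of_lt_succ ((Set.ncard_lt_ncard ⟨cd_quot_subset _, fun hc => ?_⟩ finite_cd).trans_le h)
    obtain ⟨β, -, hβ⟩ := Finset.exists_max_image Finset.univ
      (fun β : IrrCharacter (G ⧸ fittingSubgroup G) => charDegree β.1) ⟨⟨_, isIrr_one⟩, Finset.mem_univ _⟩
    have hle : fittingSubgroup G ≤ β.2.inflate.isChar.ker := fun x hx => by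
      change β.1 _ = β.1 _
      rw [(QuotientGroup.eq_one_iff x).2 hx, QuotientGroup.mk_one]
    obtain ⟨ψ, hψ, -, h5⟩ := broline_garrison β.2.inflate (or_iff_not_imp_left.2 fun k =>
      have e := le_antisymm (not_not.1 k) hle
      ⟨e, inferInstance, fun k => hF (e.symm.trans k)⟩)
    obtain ⟨γ, e⟩ := hc (mem_cd hψ)
    exact absurd (hβ γ (Finset.mem_univ _)) (not_le.2 (e ▸ h5)))
  have hs := QuotientGroup.mk'_surjective (fittingSubgroup G)
  refine ⟨fun i => Nat.casesOn i ⊥ fun i => (N i).comap (QuotientGroup.mk' _), rfl, ?_,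
    monotone_nat_of_le_succ fun i => ?_,
    fun i => Nat.casesOn i normal_bot fun i => (h3 i).comap _, fun i => ?_⟩
  · change (N n).comap _ = ⊤
    rw [h1, comap_top]
  · cases i
    exacts [bot_le, comap_mono (h2 (Nat.le_succ _))]
  · cases i with
    | zero =>
      refine ⟨k, ?_⟩
      change ((N 0).comap _).lowerCentralSeries k ≤ ⊥
      rw [h0, MonoidHom.comap_bot, QuotientGroup.ker_mk', hk]
    | succ i =>
      obtain ⟨j, hj⟩ := h4 i
      refine ⟨j, map_le_iff_le_comap.1 ?_⟩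
      change (((N (i + 1)).comap _).lowerCentralSeries j).map _ ≤ _
      rwa [map_lowerCentralSeries, map_comap_eq_self_of_surjective hs]

/-- non-abelian, with all proper quotients abelian -/
def MinNA (G : Type u) [Group G] : Prop :=
  commutator G ≠ ⊥ ∧ ∀ L : Subgroup G, L.Normal → L ≠ ⊥ → commutator G ≤ L

theorem exists_minNA {K₀ : Subgroup G} [hn : K₀.Normal] (h : ¬ commutator G ≤ K₀) :
    ∃ (K : Subgroup G) (_ : K.Normal), K₀ ≤ K ∧ MinNA (G ⧸ K) := by
  obtain ⟨K, h1, hK⟩ := Finite.exists_le_maximal (p := fun K : Subgroup G => K.Normal ∧ ¬ commutator G ≤ K) ⟨hn, h⟩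
  have := hK.1.1
  refine ⟨K, this, h1, ?_, fun L hL h2 => ?_⟩
  · rw [commutator_quot, Ne, Subgroup.map_eq_bot_iff, QuotientGroup.ker_mk']; exact hK.1.2
  · rw [commutator_quot, map_le_iff_le_comap]
    by_contra k
    have h3 := hK.2 ⟨inferInstance, k⟩ (QuotientGroup.le_comap_mk' K L)
    refine h2 (eq_bot_iff.2 fun q hq => ?_)
    obtain ⟨g, rfl⟩ := QuotientGroup.mk_surjective q
    exact (QuotientGroup.eq_one_iff g).2 (h3 hq)

theorem conj_mul_inv_mem (x g : G) : x * g * x⁻¹ * g⁻¹ ∈ commutator G :=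
  commutator_mem_commutator (mem_top x) (mem_top g)

theorem MinNA.faithful (h : MinNA G) (hχ : IsIrrCharacter G χ) (h1 : charDegree χ ≠ 1) {g : G}
    (hg : χ g = χ 1) : g = 1 := by
  by_contra k
  exact h1 ((charDegree_eq_one_iff hχ.isChar).2 (hχ.deg_one_of_commutator (h.2 hχ.isChar.ker inferInstance
    fun e => k (mem_bot.1 (e.le hg)))))

theorem MinNA.cases (h : MinNA G) (hs : Group.IsSolvable G) : ∃ q, q.Prime ∧ IsPGroup q (commutator G) ∧
    (∀ a ∈ commutator G, ∀ b ∈ commutator G, a * b = b * a) ∧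
    ((IsPGroup q G ∧ Nat.card (commutator G) = q ∧ commutator G ≤ center G) ∨
      ∀ g ∉ commutator G, ∀ n ∈ commutator G, g * n = n * g → n = 1) := by
  obtain ⟨M, q, hq, hM, h1, h2, hc, h3, h4, -⟩ :=
    CfsgH1.exists_minNormal_elementary (commutator G) inferInstance h.1
  obtain rfl : M = commutator G := le_antisymm h2 (h.2 M hM h1)
  have hab : ∀ a ∈ commutator G, ∀ b ∈ commutator G, a * b = b * a := fun a ha b hb =>
    congrArg Subtype.val (mul_comm' (⟨a, ha⟩ : commutator G) ⟨b, hb⟩)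
  have := Fact.mk hq
  refine ⟨q, hq, h3, hab, (em (commutator G ≤ center G)).imp (fun hz => ⟨?_, ?_, hz⟩) fun hz => ?_⟩
  · have : Group.IsNilpotent G := Subgroup.nilpotent_iff_lowerCentralSeries.2 ⟨2, eq_bot_iff.2
      (commutator_le.2 fun a ha b _ => commutatorElement_eq_one_iff_mul_comm.2 (mem_center_iff.1 (hz ha) b).symm)⟩
    obtain ⟨k, hk⟩ := index_pPrimeCore_of_nilpotent q G
    have h5 : pPrimeCore q G = ⊥ := by_contra fun e => by
      obtain ⟨j, hj⟩ := IsPGroup.iff_card.1 h3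
      refine CfsgH1.not_dvd_card_pPrimeCore q G ((dvd_pow_self q fun e => h1 (card_eq_one.1 ?_)).trans
        (hj ▸ card_dvd_of_le (h.2 _ inferInstance e)))
      rw [hj, e, pow_zero]
    rw [h5, index_bot] at hk
    exact IsPGroup.of_card hk
  · obtain ⟨x, hx, hx1⟩ := (bot_or_exists_ne_one (commutator G)).resolve_left h1
    have h5 : zpowers x ≤ commutator G := zpowers_le_of_mem hx
    rw [le_antisymm (h.2 _ (normal_of_le_center' (h5.trans hz)) (by simpa using hx1)) h5, Nat.card_zpowers,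
      orderOf_eq_prime (h4 x hx) hx1]
  · have hZ : center G = ⊥ := by_contra fun e => hz (h.2 _ inferInstance e)
    have key : ∀ g, (∃ m ∈ commutator G, m * g ≠ g * m) → ∀ n ∈ commutator G, g * n = n * g → n = 1 := by
      rintro g ⟨m, hm, hg⟩ n hn hc
      by_contra k
      refine hg (mem_centralizer_singleton_iff.1 (h.2 (commutator G ⊓ centralizer {g}) ⟨fun y hy x =>
        ⟨hM.conj_mem y hy.1 x, mem_centralizer_singleton_iff.2 ?_⟩⟩ (fun e => k (mem_bot.1 (e.le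
          ⟨hn, mem_centralizer_singleton_iff.2 hc.symm⟩))) hm).2)
      have a1 := hab y hy.1 _ (conj_mul_inv_mem x⁻¹ g)
      have a2 := mem_centralizer_singleton_iff.1 hy.2
      calc x * y * x⁻¹ * g = x * (y * (x⁻¹ * g * x⁻¹⁻¹ * g⁻¹)) * g * x⁻¹ := by group
        _ = x * (x⁻¹ * g * x⁻¹⁻¹ * g⁻¹) * (y * g) * x⁻¹ := by rw [a1]; group
        _ = _ := by rw [a2]; group
    obtain ⟨m, hm, hm'⟩ := SetLike.not_le_iff_exists.1 hz
    obtain ⟨g₀, hg₀⟩ := not_forall.1 (mem_center_iff.not.1 hm')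
    have h6 := key g₀ ⟨m, hm, Ne.symm hg₀⟩
    refine fun g hg => key g (by_contra fun k => hg ?_)
    push Not at k
    obtain ⟨y, hy, e⟩ := exists_conj_of_fpf h6 (conj_mul_inv_mem g g₀)
    have h7 : y⁻¹ * g * g₀ = g₀ * (y⁻¹ * g) := by
      calc y⁻¹ * g * g₀ = y⁻¹ * (g * g₀ * g⁻¹ * g₀⁻¹ * g₀) * g := by group
        _ = _ := by rw [e]; group
    have h8 : ∀ n ∈ commutator G, n * (y⁻¹ * g) = y⁻¹ * g * n := fun n hn => by
      rw [← mul_assoc, hab n hn _ (inv_mem hy), mul_assoc, k n hn, mul_assoc]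
    generalize hd : y⁻¹ * g = d at h7 h8
    have h9 : d ∈ center G := mem_center_iff.2 fun x => by
      have a1 := h8 _ (conj_mul_inv_mem x⁻¹ g₀)
      have := h6 _ (conj_mul_inv_mem x d) (by
        calc g₀ * (x * d * x⁻¹ * d⁻¹) = x * (x⁻¹ * g₀ * x⁻¹⁻¹ * g₀⁻¹) * (g₀ * d) * x⁻¹ * d⁻¹ := by group
          _ = x * (x⁻¹ * g₀ * x⁻¹⁻¹ * g₀⁻¹ * d) * g₀ * x⁻¹ * d⁻¹ := by rw [← h7]; group
          _ = x * d * x⁻¹ * d⁻¹ * (d * g₀) * d⁻¹ := by rw [a1]; group
          _ = _ := by rw [h7]; group)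
      exact mul_inv_eq_iff_eq_mul.1 (mul_inv_eq_one.1 this)
    rw [hZ, mem_bot] at h9
    rw [h9, inv_mul_eq_one] at hd
    exact hd ▸ hy

theorem lin_eq_one_of_fpf {N : Subgroup G} [hN : N.Normal] {x : G} (hx : ∀ n ∈ N, x * n = n * x → n = 1)
    {κ : N →* ℂˣ} (h : ∀ b : N, κ (MulAut.conjNormal x b) = κ b) : κ = 1 := MonoidHom.ext fun b => by
  obtain ⟨y, hy, e⟩ := exists_conj_of_fpf hx b.2
  have : b = ⟨y, hy⟩ * MulAut.conjNormal x (⟨y, hy⟩⁻¹ : N) := Subtype.ext (by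
    rw [coe_mul, MulAut.conjNormal_apply, coe_inv, ← mul_inv_cancel_right (b : G) x, e]; group)
  rw [this, map_mul, h, ← map_mul, mul_inv_cancel, map_one, MonoidHom.one_apply]

theorem ind_twist {H : Type v} [Group H] [Finite H] (π : G →* H) (hπ : Surjective π) {q : ℕ} (hq : q.Prime)
    {B : Subgroup H} [B.Normal] (hB : IsPGroup q B) (h1 : B ≠ ⊥) (hab : ∀ a ∈ B, ∀ b ∈ B, a * b = b * a)
    (hf : ∀ g ∉ B, ∀ n ∈ B, g * n = n * g → n = 1) {ψ : B.comap π → ℂ} (hψ : IsIrrCharacter _ ψ)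
    (hd : ¬ q ∣ charDegree ψ) : ∃ χ, IsIrrCharacter G χ ∧ charDegree χ = (B.comap π).index * charDegree ψ := by
  have := Fintype.ofFinite G
  have := Fact.mk hq
  by_contra hno
  have h2 : ∀ ν : B →* ℂˣ, ∃ h, π h ∉ B ∧ h ∈ inertia fun n => ψ n * (ν.comp (π.subgroupComap B)) n :=
    fun ν => by_contra fun k => hno ⟨_, irr_indFun_of_inertia_le (hψ.mul_linear (ν.comp (π.subgroupComap B)))
      fun h hh => by_contra fun k' => k ⟨h, k', hh⟩, by
        rw [charDegree_ind (hψ.mul_linear _).isChar]; simp [charDegree]⟩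
  choose h hh hi using h2
  obtain ⟨b₀, hb₀, hb₁⟩ := (bot_or_exists_ne_one B).resolve_left h1
  obtain ⟨ν₀, hν₀⟩ := exists_lin_ne_one (G := B) (g := ⟨b₀, hb₀⟩) fun k => hb₁ (congrArg Subtype.val
    (mem_bot.1 (commutator_le.2 (fun a _ b _ => mem_bot.2 (commutatorElement_eq_one_iff_mul_comm.2
      (Subtype.ext (hab _ a.2 _ b.2)))) k)))
  have hE : Injective fun c : H ⧸ B => ν₀.comp (MulAut.conjNormal c.out).toMonoidHom := fun a c e => by
    rw [← a.out_eq, ← c.out_eq]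
    refine QuotientGroup.eq.2 (‹B.Normal›.mem_comm (by_contra fun k => hν₀ ?_))
    rw [lin_eq_one_of_fpf (hf _ k) (κ := ν₀) fun b => ?_, MonoidHom.one_apply]
    have := DFunLike.congr_fun e (MulAut.conjNormal a.out⁻¹ b)
    simp only [MonoidHom.comp_apply, MulEquiv.coe_toMonoidHom, ← MulAut.mul_apply, ← map_mul,
      mul_inv_cancel, map_one, MulAut.one_apply] at this
    exact this.symm
  have hF : Injective fun ν : B →* ℂˣ => (π (h ν) : H ⧸ B) := fun ν μ e => by
    have a1 : h μ ∈ inertia fun n => ψ n * (ν.comp (π.subgroupComap B)) n := by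
      have := mul_mem (hi ν) (le_inertia (hψ.mul_linear _).classFun (x := (h ν)⁻¹ * h μ) (by
        rw [mem_comap, map_mul, map_inv]; exact QuotientGroup.eq.1 e))
      rwa [mul_inv_cancel_left] at this
    rw [← div_eq_one]
    refine lin_eq_one_of_fpf (hf _ (hh μ)) fun b => ?_
    obtain ⟨g, hg⟩ := hπ b
    obtain ⟨n, hn⟩ := exists_isPPart (p := q) g
    have a2 : π n = b := isPPart_unique (hg ▸ isPPart_map' π hn) (isPPart_self (by
      simpa using IsPGroup.iff_orderOf.1 hB b))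
    have a3 : n ∈ B.comap π := by rw [mem_comap, a2]; exact b.2
    have a4 := ne_zero_of_not_dvd hq hψ.isChar hd (x := ⟨n, a3⟩) (by simpa using isPPart_order hn)
    have a5 := mem_inertia'.1 a1 ⟨n, a3⟩
    have a6 := mem_inertia'.1 (hi μ) ⟨n, a3⟩
    have b1 : π.subgroupComap B ⟨n, a3⟩ = b := Subtype.ext a2
    have b2 : π.subgroupComap B ⟨h μ * n * (h μ)⁻¹, Normal.conj_mem inferInstance n a3 _⟩ =
        MulAut.conjNormal (π (h μ)) b := Subtype.ext (by
      rw [MulAut.conjNormal_apply, ← a2, ← map_inv, ← map_mul, ← map_mul]; rfl)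
    simp only [MonoidHom.comp_apply, b1, b2] at a5 a6
    rw [MonoidHom.div_apply, MonoidHom.div_apply, div_eq_div_iff_mul_eq_mul, ← Units.val_inj, Units.val_mul,
      Units.val_mul]
    have a7 : ψ ⟨h μ * n * (h μ)⁻¹, Normal.conj_mem inferInstance n a3 _⟩ ≠ 0 :=
      left_ne_zero_of_mul (a5 ▸ mul_ne_zero a4 (Units.ne_zero _))
    refine mul_left_cancel₀ a7 ?_
    linear_combination (μ b : ℂ) * a5 - (ν b : ℂ) * a6
  obtain ⟨c, hc⟩ := Finite.injective_iff_surjective.1 (hF.comp hE) 1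
  exact hh _ ((QuotientGroup.eq_one_iff _).1 hc)

/-- the Frobenius case -/
structure FrobQ (N : Subgroup G) (q : ℕ) : Prop where
  prime : q.Prime
  comm_le : commutator G ≤ N
  not_dvd : ¬ q ∣ N.index
  ne_one : N.index ≠ 1
  ind : ∀ ψ, IsIrrCharacter N ψ → ¬ q ∣ charDegree ψ →
    ∃ χ, IsIrrCharacter G χ ∧ charDegree χ = N.index * charDegree ψ

theorem FrobQ.mem {N : Subgroup G} {q : ℕ} (h : FrobQ N q) : ∃ χ, IsIrrCharacter G χ ∧ charDegree χ = N.index := by
  simpa [charDegree_one] using h.ind _ isIrr_one (by rw [charDegree_one]; exact h.prime.not_dvd_one)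

theorem cases_of_minNA {K : Subgroup G} [K.Normal] (h : MinNA (G ⧸ K)) (hs : Group.IsSolvable (G ⧸ K)) :
    (∃ q, q.Prime ∧ IsPGroup q (G ⧸ K) ∧ Nat.card (commutator (G ⧸ K)) = q ∧
      commutator (G ⧸ K) ≤ center _) ∨ ∃ N : Subgroup G, N.Normal ∧ ∃ q, FrobQ N q := by
  obtain ⟨q, hq, h1, h2, h3⟩ := h.cases hs
  refine h3.imp (fun h3 => ⟨q, hq, h3⟩) fun h3 => ⟨(commutator (G ⧸ K)).comap (QuotientGroup.mk' K),
    inferInstance, q, hq, by rw [commutator_quot]; exact le_comap_map _ _, ?_, ?_,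
    fun ψ => ind_twist _ (QuotientGroup.mk'_surjective K) hq h1 h.1 h2 h3⟩ <;>
    rw [index_comap_of_surjective _ (QuotientGroup.mk'_surjective K)]
  · have := Fact.mk hq
    obtain ⟨P, hP⟩ := h1.exists_le_sylow
    obtain ⟨k, hk⟩ := IsPGroup.iff_card.1 h1
    obtain ⟨n, hn, hn1⟩ := (bot_or_exists_ne_one _).resolve_left (CfsgH1.inf_centralizer_ne_bot_of_isPGroup
      (K := commutator (G ⧸ K)) P.isPGroup' (by rw [normalizer_eq_top]; exact le_top)
      (hk ▸ dvd_pow_self q fun e => h.1 (card_eq_one.1 (by rw [hk, e, pow_zero]))))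
    rw [le_antisymm hP fun x hx => by_contra fun k => hn1 (h3 x k n hn.1 (hn.2 x hx))]
    exact P.not_dvd_index
  · rw [Ne, index_eq_one]
    exact fun e => h.1 (eq_bot_iff.2 (commutator_le.2 fun a _ b _ => commutatorElement_eq_one_iff_mul_comm.2
      (h2 a (e.ge trivial) b (e.ge trivial))))

end CfsgH4
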