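import Cfsg.Agent.H3.IndHom
import Cfsg.Agent.H3.Perm
import Cfsg.Agent.H1.Prim
import Mathlib.GroupTheory.RegularWreathProduct

/-! Dade's theorem: solvable groups embed in M-groups. -/

set_option autoImplicit false
open Cfsg CfsgH3 Function
open scoped ComplexConjugate

namespace CfsgH4
universe u

section pi
variable {ι : Type*} [Fintype ι] [DecidableEq ι] {U : ι → Type*} [∀ i, Group (U i)]

theorem ip_pi [∀ i, Fintype (U i)] (a b : ∀ i, U i → ℂ) :
    classInner (fun x : ∀ i, U i => ∏ i, a i (x i)) (fun x => ∏ i, b i (x i)) =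
      ∏ i, classInner (a i) (b i) := by
  unfold classInner
  rw [Finset.prod_mul_distrib, Finset.prod_univ_sum, Nat.card_pi]
  simp [map_prod, Finset.prod_mul_distrib, Finset.prod_inv_distrib]

omit [DecidableEq ι] in
theorem isChar_pi {a : ∀ i, U i → ℂ} (h : ∀ i, IsCharacter (U i) (a i)) :
    IsCharacter (∀ i, U i) fun x => ∏ i, a i (x i) := by
  classical
  have : ∀ s : Finset ι, IsCharacter (∀ i, U i) fun x => ∏ i ∈ s, a i (x i) := by
    intro s
    induction s using Finset.induction_on with
    | empty => simpa using isChar_one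
    | insert i s hi ih =>
      simp only [Finset.prod_insert hi]
      exact ((h i).comp (Pi.evalMonoidHom U i)).mul ih
  exact this _

omit [DecidableEq ι] in
theorem isIrr_pi [∀ i, Finite (U i)] {a : ∀ i, U i → ℂ} (h : ∀ i, IsIrrCharacter (U i) (a i)) :
    IsIrrCharacter (∀ i, U i) fun x => ∏ i, a i (x i) := by
  classical
  have := fun i => Fintype.ofFinite (U i)
  refine (isChar_pi fun i => (h i).isChar).irr_of_inner_eq_one ?_
  rw [ip_pi]
  exact Finset.prod_eq_one fun i _ => (h i).inner_self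

omit [DecidableEq ι] in
theorem exists_pi [∀ i, Finite (U i)] {ψ : (∀ i, U i) → ℂ} (h : IsIrrCharacter _ ψ) :
    ∃ a : ∀ i, U i → ℂ, (∀ i, IsIrrCharacter (U i) (a i)) ∧ ψ = fun x => ∏ i, a i (x i) := by
  classical
  have := fun i => Fintype.ofFinite (U i)
  by_contra hn
  have h0 : ∀ a : ∀ i, IrrCharacter (U i), classInner (fun x : ∀ i, U i => ∏ i, (a i).1 (x i)) ψ = 0 :=
    fun a => (isIrr_pi fun i => (a i).2).inner_of_ne h fun e => hn ⟨fun i => (a i).1, fun i => (a i).2, e.symm⟩
  have h1 : (fun x : ∀ i, U i => if x = 1 then ∏ i, (Nat.card (U i) : ℂ) else 0) =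
      ∑ a : ∀ i, IrrCharacter (U i), (∏ i, (a i).1 1) • fun x : ∀ i, U i => ∏ i, (a i).1 (x i) := by
    funext x
    have : ∏ i, ∑ φ : IrrCharacter (U i), φ.1 1 * φ.1 (x i) =
        if x = 1 then ∏ i, (Nat.card (U i) : ℂ) else 0 := by
      simp only [sum_irr_deg_mul']
      split_ifs with hx
      · simp [hx]
      · obtain ⟨i, hi⟩ := Function.ne_iff.1 hx
        exact Finset.prod_eq_zero (Finset.mem_univ i) (if_neg hi)
    rw [← this, Finset.prod_univ_sum]
    simp [Finset.prod_mul_distrib]
  have h2 := congrArg (fun f => classInner f ψ) h1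
  simp only [inner_sum_left, CfsgH3.inner_smul_left, h0, mul_zero, Finset.sum_const_zero] at h2
  unfold classInner at h2
  simp only [ite_mul, zero_mul, Finset.sum_ite_eq', Finset.mem_univ, if_true] at h2
  refine (mul_ne_zero (inv_ne_zero (card_ne_zero_complex _)) (mul_ne_zero
    (Finset.prod_ne_zero_iff.2 fun i _ => card_ne_zero_complex _) ?_)) h2
  simpa using h.one_ne_zero

end pi

theorem card_mul_deg_le {G : Type u} [Group G] [Fintype G] {a : G → ℂ} (ha : IsCharacter G a) {κ : Type*} [Fintype κ]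
    (ψ : κ → G → ℂ) (hψ : ∀ k, IsIrrCharacter G (ψ k)) (hi : Injective ψ)
    (hne : ∀ k, classInner a (ψ k) ≠ 0) {d n : ℕ} (hd : ∀ k, ψ k 1 = d) (hn : a 1 = n) :
    Nat.card κ * d ≤ n := by
  classical
  obtain ⟨m, hm, e⟩ := ha.exists_coeff
  have h1 : n = ∑ χ : IrrCharacter G, m χ * deg χ := by
    have := congrFun e 1
    rw [hn, Finset.sum_apply] at this
    simp only [Pi.smul_apply, smul_eq_mul, deg_spec] at this
    exact_mod_cast this
  let j : κ → IrrCharacter G := fun k => ⟨ψ k, hψ k⟩
  have hj : Injective j := fun k l h => hi (congrArg Subtype.val h)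
  calc Nat.card κ * d = ∑ _k : κ, d := by simp [Nat.card_eq_fintype_card]
    _ ≤ ∑ k, m (j k) * deg (j k) := Finset.sum_le_sum fun k _ => by
        have h2 : deg (j k) = d := by
          have := deg_spec (j k); rw [show (j k).1 1 = d from hd k] at this; exact_mod_cast this.symm
        have h3 : m (j k) ≠ 0 := fun h => hne k (by rw [show ψ k = (j k).1 from rfl, hm, h]; simp)
        rw [h2]; exact Nat.le_mul_of_pos_left _ (Nat.pos_of_ne_zero h3)
    _ = ∑ χ ∈ Finset.univ.image j, m χ * deg χ := by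
        rw [Finset.sum_image fun _ _ _ _ h => hj h]
    _ ≤ n := h1 ▸ Finset.sum_le_sum_of_subset (Finset.subset_univ _)

/-- degree form of monomiality -/
def MonD {G : Type u} [Group G] (χ : G → ℂ) : Prop :=
  ∃ (U : Type u) (_ : Group U) (_ : Fintype U) (f : U →* G) (l : U →* ℂˣ) (n : ℕ), Injective f ∧
    classInner (fun x => χ (f x)) (fun x => (l x : ℂ)) ≠ 0 ∧ χ 1 = n ∧ Nat.card G ≤ n * Nat.card U

theorem MonD.isMonomial {G : Type u} [Group G] [Fintype G] {χ : G → ℂ} (hχ : IsIrrCharacter G χ)
    (h : MonD χ) : IsMonomial χ := by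
  obtain ⟨U, _, _, f, l, n, hf, hne, hn, hc⟩ := h
  have hθ := (isIrr_unitsHom l).isChar.indH hf
  have h1 : classInner (ind f fun x => (l x : ℂ)) χ ≠ 0 := by
    rw [ip_ind_left hf _ hχ.classFun]; exact fun h => hne (inner_eq_zero_symm.1 h)
  have h2 : ind f (fun x => (l x : ℂ)) 1 = f.range.index := by rw [ind_one hf]; simp
  have h3 := hθ.deg_le_of_constituent hχ h1 h2 hn
  have h4 : f.range.index * Nat.card U = Nat.card G := by
    rw [Nat.card_congr (MonoidHom.ofInjective hf).toEquiv, Subgroup.index_mul_card]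
  have h5 : f.range.index ≤ n := Nat.le_of_mul_le_mul_right (h4 ▸ hc) Nat.card_pos
  have h6 := hθ.eq_of_constituent_of_deg_eq hχ h1 (by rw [h2, hn, le_antisymm h5 h3])
  exact ⟨f.range, l.comp (MonoidHom.ofInjective hf).symm.toMonoidHom, by
    rw [← h6, ind_eq_indFun hf]; rfl⟩

section wr
variable {H V Q : Type u} [Group H] [Group V] [Group Q]

/-- base group of the wreath product -/
def wrB (H Q : Type u) [Group H] [Group Q] : (Q → H) →* H ≀ᵣ Q where
  toFun x := ⟨x, 1⟩
  map_one' := rfl
  map_mul' _ _ := by ext <;> simp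

/-- functoriality of the wreath product -/
def wrM (Q : Type u) [Group Q] (f : V →* H) : V ≀ᵣ Q →* H ≀ᵣ Q where
  toFun v := ⟨fun q => f (v.left q), v.right⟩
  map_one' := by ext <;> simp
  map_mul' _ _ := by ext <;> simp

/-- the product character -/
def wrL (Q : Type u) [Group Q] [Fintype Q] (l : V →* ℂˣ) : V ≀ᵣ Q →* ℂˣ where
  toFun v := ∏ q, l (v.left q)
  map_one' := by simp
  map_mul' a b := by
    simp only [RegularWreathProduct.mul_left, Pi.mul_apply, map_mul, Finset.prod_mul_distrib]
    rw [← Equiv.prod_comp (Equiv.mulLeft a.right⁻¹) fun q => l (b.left q)]; rfl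

theorem monD_wr [Fintype H] [Fintype Q] (hQ : (Nat.card Q).Prime)
    (hH : ∀ φ, IsIrrCharacter H φ → MonD φ) {χ : H ≀ᵣ Q → ℂ} (hχ : IsIrrCharacter _ χ) : MonD χ := by
  classical
  have := Fact.mk hQ
  obtain ⟨n, hn0, hn⟩ := hχ.exists_deg
  have ha := hχ.isChar.comp (wrB H Q)
  have ha1 : χ (wrB H Q 1) = n := by rw [map_one, hn]
  obtain ⟨ψ, hψ, hne⟩ := ha.classFun.exists_constituent fun h => by
    have := congrFun h 1
    simp only [ha1, Pi.zero_apply, Nat.cast_eq_zero] at this
    omega
  obtain ⟨Φ, hΦ, rfl⟩ := exists_pi hψ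
  have key : ∀ (U : Q → Type u) [∀ q, Group (U q)] [∀ q, Fintype (U q)] (f : ∀ q, U q →* H)
      (l : ∀ q, U q →* ℂˣ), (∀ q, classInner (fun x => Φ q (f q x)) (fun x => (l q x : ℂ)) ≠ 0) →
      classInner (fun x : ∀ q, U q => χ (wrB H Q fun q => f q (x q))) (fun x => ∏ q, (l q (x q) : ℂ)) ≠ 0 := by
    intro U _ _ f l h
    refine ip_comp_ne_zero_of_constituent (MonoidHom.pi fun q => (f q).comp (Pi.evalMonoidHom U q)) ha hψ hne
      (isChar_pi fun q => (isIrr_unitsHom (l q)).isChar) ?_
    exact (ip_pi (fun q x => Φ q (f q x)) fun q x => (l q x : ℂ)).trans_ne (Finset.prod_ne_zero_iff.2 fun q _ => h q)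
  by_cases hc : ∀ q, Φ q = Φ 1
  · obtain ⟨U, _, _, f, l, m, hf, hl, hm, hU⟩ := hH _ (hΦ 1)
    have := Fintype.ofFinite (U ≀ᵣ Q)
    have hk := key (fun _ => U) (fun _ => f) (fun _ => l) fun q => by rw [hc q]; exact hl
    have hcomm : ∀ a b : Q, a * b = b * a := fun a b =>
      (isCyclic_of_prime_card rfl : IsCyclic Q).isMulCommutative.is_comm.comm a b
    have : ∃ β : IrrCharacter Q, classInner (fun v => χ (wrM Q f v))
        (fun v => (wrL Q l v : ℂ) * β.1 v.right) ≠ 0 := by
      by_contra! h0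
      have h1 : classInner (fun v => χ (wrM Q f v))
          (∑ β : IrrCharacter Q, β.1 1 • fun v => (wrL Q l v : ℂ) * β.1 v.right) = 0 := by
        simp only [inner_sum_right, CfsgH3.inner_smul_right, h0, mul_zero, Finset.sum_const_zero]
      have h2 : (∑ β : IrrCharacter Q, β.1 1 • fun v : U ≀ᵣ Q => (wrL Q l v : ℂ) * β.1 v.right) =
          fun v => if v.right = 1 then (wrL Q l v : ℂ) * Nat.card Q else 0 := by
        funext v
        have := sum_irr_deg_mul' v.right
        simp only [Finset.sum_apply, Pi.smul_apply, smul_eq_mul, mul_left_comm _ (wrL Q l v : ℂ),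
          ← Finset.mul_sum]
        rw [this]; split_ifs <;> simp
      rw [h2] at h1
      unfold classInner at h1 hk
      rw [← Equiv.sum_comp (RegularWreathProduct.equivProd U Q).symm, Fintype.sum_prod_type] at h1
      refine hk ?_
      rw [mul_eq_zero] at h1 ⊢
      refine Or.inr ?_
      have h3 := h1.resolve_left (inv_ne_zero (card_ne_zero_complex _))
      refine (mul_eq_zero.1 (?_ : _ * (Nat.card Q : ℂ) = 0)).resolve_right (card_ne_zero_complex _)
      rw [← h3, Finset.sum_mul]
      refine Finset.sum_congr rfl fun x _ => ?_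
      rw [Finset.sum_eq_single 1]
      · simp [RegularWreathProduct.equivProd, wrL, wrM, wrB, mul_assoc]
      · intro q _ hq
        simp [RegularWreathProduct.equivProd, hq]
      · simp
    obtain ⟨β, hβ⟩ := this
    obtain ⟨b, hb⟩ := β.2.isChar.exists_hom_of_deg_one (β.2.deg_one_of_comm hcomm)
    refine ⟨U ≀ᵣ Q, inferInstance, inferInstance, wrM Q f, wrL Q l * b.comp RegularWreathProduct.rightHom,
      n, fun x y h => ?_, ?_, hn, ?_⟩
    · exact RegularWreathProduct.ext (funext fun q => hf (congrFun (congrArg RegularWreathProduct.left h) q))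
        (congrArg (RegularWreathProduct.right (D := H)) h)
    · rw [hb] at hβ; simpa using hβ
    · have h1 : m ^ Nat.card Q ≤ n := ha.deg_le_of_constituent hψ hne ha1 (by
        simp [hc, hm, Nat.card_eq_fintype_card])
      rw [RegularWreathProduct.card, RegularWreathProduct.card, ← mul_assoc]
      refine Nat.mul_le_mul_right _ ((Nat.pow_le_pow_left hU _).trans ?_)
      rw [mul_pow]; exact Nat.mul_le_mul_right _ h1
  · choose U _ _ f l m hf hl hm hU using fun q => hH _ (hΦ q)
    have h1 : Nat.card Q * ∏ q, m q ≤ n := by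
      refine card_mul_deg_le ha (fun c x => ∏ q, Φ (c * q) (x q)) (fun c => isIrr_pi fun q => hΦ _)
        (fun c d h => ?_) (fun c => ?_) (fun c => ?_) ha1
      · by_contra hcd
        have h2 : ∀ q, Φ (c * q) = Φ (d * q) := fun q => by
          have h3 := (isIrr_pi fun q => hΦ (c * q)).inner_self
          conv_lhs at h3 => arg 2; rw [show (fun x : Q → H => ∏ q, Φ (c * q) (x q)) = _ from h]
          rw [ip_pi (fun q => Φ (c * q)) fun q => Φ (d * q)] at h3
          exact (hΦ _).eq_of_inner_ne_zero (hΦ _)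
            (Finset.prod_ne_zero_iff.1 (h3.trans_ne one_ne_zero) q (Finset.mem_univ _))
        let S : Subgroup Q :=
          { carrier := {g | ∀ q, Φ (g * q) = Φ q}
            mul_mem' := fun {a b} ha hb q => by rw [mul_assoc, ha, hb]
            one_mem' := fun q => by rw [one_mul]
            inv_mem' := fun {a} ha q => by rw [← ha, mul_inv_cancel_left] }
        have h3 : c * d⁻¹ ∈ S := fun q => by rw [mul_assoc, h2, mul_inv_cancel_left]
        rcases S.eq_bot_or_eq_top_of_prime_card with h4 | h4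
        · rw [h4, Subgroup.mem_bot, mul_inv_eq_one] at h3; exact hcd h3
        · exact hc fun q => by simpa using (h4 ▸ Subgroup.mem_top q : q ∈ S) 1
      · rw [← inner_comp_equiv (Equiv.arrowCongr (Equiv.mulLeft c⁻¹) (Equiv.refl H))]
        convert hne using 2
        · funext x
          rw [← hχ.classFun.conj' (wrB H Q x) (RegularWreathProduct.inl c)]
          congr 1
          ext <;> simp [wrB]
        · funext x
          rw [← Equiv.prod_comp (Equiv.mulLeft c) fun q => Φ q (x q)]
          simp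
      · refine (Equiv.prod_comp (Equiv.mulLeft c) fun q => Φ q 1).trans ?_
        simp [hm]
    refine ⟨∀ q, U q, inferInstance, inferInstance,
      (wrB H Q).comp (MonoidHom.pi fun q => (f q).comp (Pi.evalMonoidHom U q)),
      ∏ q, (l q).comp (Pi.evalMonoidHom U q), n, fun x y h => funext fun q =>
        hf q (congrFun (congrArg RegularWreathProduct.left h) q), ?_, hn, ?_⟩
    · have e1 : (fun x => (((∏ q, (l q).comp (Pi.evalMonoidHom U q) : (∀ q, U q) →* ℂˣ) x : ℂˣ) : ℂ)) =
          fun x => ∏ q, ((l q (x q) : ℂˣ) : ℂ) := by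
        funext x; simp [MonoidHom.finsetProd_apply]
      rw [e1]; exact key U f l hl
    · rw [RegularWreathProduct.card, Nat.card_pi]
      calc Nat.card H ^ Nat.card Q * Nat.card Q = (∏ _q : Q, Nat.card H) * Nat.card Q := by
            simp [Nat.card_eq_fintype_card]
        _ ≤ (∏ q, m q * Nat.card (U q)) * Nat.card Q :=
            Nat.mul_le_mul_right _ (Finset.prod_le_prod' fun q _ => hU q)
        _ = (Nat.card Q * ∏ q, m q) * ∏ q, Nat.card (U q) := by rw [Finset.prod_mul_distrib]; ring
        _ ≤ _ := Nat.mul_le_mul_right _ h1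

theorem exists_wr_emb {G : Type u} [Group G] (N : Subgroup G) [N.Normal] (e : N →* H) (he : Injective e) :
    ∃ f : G →* H ≀ᵣ (G ⧸ N), Injective f := by
  have hm : ∀ (g : G) (q : G ⧸ N), q.out⁻¹ * g * ((g : G ⧸ N)⁻¹ * q).out ∈ N := fun g q => by
    rw [← QuotientGroup.eq_one_iff]; simp
  refine ⟨MonoidHom.mk' (fun g => ⟨fun q => e ⟨_, hm g q⟩, g⟩) fun a b => ?_,
    (injective_iff_map_eq_one _).2 fun g h => ?_⟩
  · ext q
    · simp only [RegularWreathProduct.mul_left, Pi.mul_apply, ← map_mul]
      congr 1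
      ext
      simp [mul_assoc]
    · simp
  · have h1 : (g : G ⧸ N) = 1 := congrArg RegularWreathProduct.right h
    have h2 : e ⟨_, hm g 1⟩ = 1 := congrFun (congrArg RegularWreathProduct.left h) 1
    have h3 := congrArg Subtype.val ((injective_iff_map_eq_one _).1 he _ h2)
    simp only [h1, inv_one, mul_one, OneMemClass.coe_one] at h3
    simpa [mul_assoc, mul_eq_one_iff_inv_eq, mul_inv_eq_one] using h3

end wr

theorem exists_monD (n : ℕ) : ∀ (G : Type u) [Group G] [Finite G], Group.IsSolvable G → Nat.card G = n →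
    ∃ (M : Type u) (_ : Group M) (_ : Fintype M), (∀ χ, IsIrrCharacter M χ → MonD χ) ∧
      ∃ f : G →* M, Injective f := by
  induction n using Nat.strong_induction_on with
  | _ n ih =>
  intro G _ _ hs hn
  have := Fintype.ofFinite G
  rcases subsingleton_or_nontrivial G with h | h
  · refine ⟨G, inferInstance, inferInstance, fun χ hχ => ?_, MonoidHom.id G, injective_id⟩
    have h1 := hχ.deg_one_of_comm fun a b => Subsingleton.elim _ _
    obtain ⟨l, hl⟩ := hχ.isChar.exists_hom_of_deg_one h1
    exact ⟨G, inferInstance, inferInstance, MonoidHom.id G, l, 1, injective_id,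
      by rw [← hl]; exact hχ.inner_self.trans_ne one_ne_zero, by simpa using h1, by simp⟩
  · obtain ⟨N, _, hp, -⟩ := CfsgH1.exists_normal_index_prime (G := G)
    have hlt : Nat.card N < n := by
      rw [← hn, ← N.card_mul_index]; exact (Nat.lt_mul_iff_one_lt_right Nat.card_pos).2 hp.one_lt
    obtain ⟨M, _, _, hM, e, he⟩ := ih _ hlt N inferInstance rfl
    have := Fintype.ofFinite (G ⧸ N)
    exact ⟨M ≀ᵣ (G ⧸ N), inferInstance, Fintype.ofFinite _, fun χ hχ => monD_wr hp hM hχ,
      exists_wr_emb N e he⟩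

theorem dade_embed {G : Type u} [Group G] [Finite G] (h : Group.IsSolvable G) :
    ∃ (M : Type u) (_ : Group M) (_ : Fintype M), (∀ χ, IsIrrCharacter M χ → IsMonomial χ) ∧
      ∃ f : G →* M, Injective f := by
  obtain ⟨M, _, _, hM, hf⟩ := exists_monD _ G h rfl
  exact ⟨M, inferInstance, inferInstance, fun χ hχ => (hM χ hχ).isMonomial hχ, hf⟩

end CfsgH4
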