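import Cfsg.Agent.H4.Ord4
import Cfsg.Agent.H4.Dade

/-! Average degree of strongly real characters of `N ⋊ P`. -/

set_option autoImplicit false
open Cfsg CfsgH3 Function Subgroup
open scoped ComplexConjugate

namespace CfsgH4

theorem acd_count {G : Type*} [Group G] [Fintype G] {N T : Subgroup G} [N.Normal] [Fintype N] (hNT : N ≤ T)
    {θ : N → ℂ} (hθ : IsIrrCharacter N θ) (hT : T = inertia θ) (η : T →* ℂˣ)
    (hη : ∀ n : N, (η ⟨n, hNT n.2⟩ : ℂ) = θ n) (hN : ∀ n ∈ N, Odd (orderOf n)) (h2 : 2 ∣ T.index)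
    (hν : (Nat.card G : ℂ)⁻¹ * ∑ g, indFun T (fun t => (η t : ℂ)) (g * g) = 1) (S : Finset (IrrCharacter G))
    (hS : ∀ χ, χ ∈ S ↔ (charDegree χ.1 = 1 ∨ 2 ∣ charDegree χ.1) ∧ (Nat.card G : ℂ)⁻¹ * ∑ g, χ.1 (g * g) = 1) :
    4 * S.card ≤ 3 * ∑ χ ∈ S, charDegree χ.1 := by
  classical
  have := Fintype.ofFinite T
  let L := S.filter fun χ => charDegree χ.1 = 1
  have hL : ∀ μ ∈ L, ∃ l : G →* ℂˣ, μ.1 = (fun g => (l g : ℂ)) ∧ ∀ g, l (g * g) = 1 := fun μ hμ => by
    obtain ⟨h1, h3⟩ := Finset.mem_filter.1 hμ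
    obtain ⟨l, hl⟩ := μ.2.isChar.exists_hom_of_deg_one ((charDegree_eq_one_iff μ.2.isChar).1 h3)
    refine ⟨l, hl, fun g => ?_⟩
    rcases fs_cases_irr μ.2 with h | h
    · rw [((hS μ).1 h1).2] at h; exact absurd h.2 one_ne_zero
    · have h4 := congrFun h.1 g
      rw [← μ.2.isChar.apply_inv, hl] at h4
      rw [map_mul]
      conv_lhs => arg 1; rw [← Units.val_injective h4]
      simp
  have hres : ∀ l : G →* ℂˣ, (∀ g, l (g * g) = 1) →
      resLe hNT (fun t => ((η * l.comp T.subtype) t : ℂ)) = θ := fun l hl => by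
    funext n
    obtain ⟨k, hk⟩ := hN n n.2
    have : l n = 1 := by
      have h1 : (n : G) = n ^ (k + 1) * n ^ (k + 1) := by
        rw [← pow_add, show k + 1 + (k + 1) = orderOf (n : G) + 1 by omega, pow_succ, pow_orderOf_eq_one, one_mul]
      rw [h1, hl]
    simp [resLe, this, hη]
  have hne : ∀ l : G →* ℂˣ, (∀ g, l (g * g) = 1) →
      classInner (resLe hNT fun t => ((η * l.comp T.subtype) t : ℂ)) θ ≠ 0 := fun l hl => by
    rw [hres l hl, hθ.inner_self]; exact one_ne_zero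
  have hind : ∀ l : G →* ℂˣ, indFun T (fun t => ((η * l.comp T.subtype) t : ℂ)) =
      indFun T (fun t => (η t : ℂ)) * fun g => (l g : ℂ) := fun l => by
    rw [← indFun_mul_res _ _ (isIrr_unitsHom l).classFun]; rfl
  have hF : ∀ μ ∈ L, IsIrrCharacter G (indFun T (fun t => (η t : ℂ)) * μ.1) := fun μ hμ => by
    obtain ⟨l, h1, h3⟩ := hL μ hμ
    rw [h1, ← hind]
    exact (clifford_corr_irr hθ hT hNT (isIrr_unitsHom _) (hne l h3)).1
  let F : IrrCharacter G → IrrCharacter G := fun μ => if h : μ ∈ L then ⟨_, hF μ h⟩ else μ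
  have hFv : ∀ μ ∈ L, (F μ).1 = indFun T (fun t => (η t : ℂ)) * μ.1 := fun μ hμ => by simp [F, hμ]
  have hI : ∀ ψ ∈ L.image F, charDegree ψ.1 = T.index ∧ ψ ∈ S := fun ψ hψ => by
    obtain ⟨μ, hμ, rfl⟩ := Finset.mem_image.1 hψ
    obtain ⟨l, h1, h3⟩ := hL μ hμ
    have h4 : charDegree (F μ).1 = T.index := charDegree_eq (by rw [hFv μ hμ, h1]; simp [indFun_one])
    refine ⟨h4, (hS _).2 ⟨Or.inr (h4 ▸ h2), ?_⟩⟩
    rw [hFv μ hμ, h1, ← hν]
    simp only [Pi.mul_apply, h3, Units.val_one, mul_one]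
  have hc : L.card ≤ T.index * (L.image F).card := by
    refine Finset.card_le_mul_card_image _ _ fun ψ hψ => ?_
    obtain ⟨μ, hμ, rfl⟩ := Finset.mem_image.1 hψ
    obtain ⟨l, h1, h3⟩ := hL μ hμ
    have := card_mul_deg_le ((isIrr_unitsHom (l.comp T.subtype)).isChar.ind)
      (fun ν : L.filter fun ν => F ν = F μ => ν.1.1) (fun ν => ν.1.2)
      (fun a b h => Subtype.ext (Subtype.ext h)) (fun ν => ?_) (d := 1) (n := T.index)
      (fun ν => by
        simpa using (charDegree_eq_one_iff ν.1.2.isChar).1 (Finset.mem_filter.1 (Finset.mem_filter.1 ν.2).1).2)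
      (by simp [indFun_one])
    · rwa [mul_one, Nat.card_eq_fintype_card, Fintype.card_coe] at this
    · obtain ⟨h4, h5⟩ := Finset.mem_filter.1 ν.2
      obtain ⟨m, h6, h7⟩ := hL _ h4
      have h8 := congrArg Subtype.val h5
      rw [hFv _ h4, hFv _ hμ, h1, h6, ← hind, ← hind] at h8
      have h9 := clifford_corr_inj hθ hT hNT (isIrr_unitsHom _) (hne m h7) (isIrr_unitsHom _) (hne l h3) h8
      have h10 : (fun t : T => ν.1.1 t) = fun t => (l.comp T.subtype t : ℂ) := funext fun t => by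
        simpa [h6] using congrFun h9 t
      rw [inner_indFun_left _ _ ν.1.2.classFun, h10, (isIrr_unitsHom _).inner_self]
      exact one_ne_zero
  have hj : 2 ≤ T.index := Nat.le_of_dvd (Nat.pos_of_ne_zero index_ne_zero_of_finite) h2
  have hs : ∑ χ ∈ S, (4 + if χ ∈ L.image F then T.index else 0) ≤
      ∑ χ ∈ S, (3 * charDegree χ.1 + if charDegree χ.1 = 1 then 1 else 0) := Finset.sum_le_sum fun χ hχ => by
    have h0 : charDegree χ.1 ≠ 0 := fun e => χ.2.one_ne_zero (by rw [← coe_charDegree χ.2.isChar, e]; simp)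
    have h1 := ((hS χ).1 hχ).1
    split_ifs with h3 h4
    · have := (hI χ h3).1; omega
    · have := (hI χ h3).1; omega
    · omega
    · omega
  rw [Finset.sum_add_distrib, Finset.sum_add_distrib, Finset.sum_ite_mem,
    Finset.inter_eq_right.2 fun ψ hψ => (hI ψ hψ).2, ← Finset.mul_sum, ← Finset.card_filter] at hs
  simp only [Finset.sum_const, smul_eq_mul] at hs
  change _ ≤ _ + L.card at hs
  nlinarith

theorem acd_bound {G : Type*} [Group G] [Fintype G] (N P : Subgroup G) [hN : N.Normal] (q : ℕ) [hq' : Fact q.Prime]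
    (hq : q ≠ 2) (hNel : IsElementaryAbelian q N) (hP : IsPGroup 2 P) (hP1 : P ≠ ⊥) (hdisj : N ⊓ P = ⊥)
    (hprod : N ⊔ P = ⊤) (hmin : N ≠ ⊥ ∧ ∀ M : Subgroup G, M.Normal → M ≠ ⊥ → N ≤ M) (S : Finset (IrrCharacter G))
    (hS : ∀ χ, χ ∈ S ↔ (charDegree χ.1 = 1 ∨ 2 ∣ charDegree χ.1) ∧ (Nat.card G : ℂ)⁻¹ * ∑ g, χ.1 (g * g) = 1) :
    4 * S.card ≤ 3 * ∑ χ ∈ S, charDegree χ.1 := by
  classical
  have := Fintype.ofFinite N
  have := Fintype.ofFinite P
  have : Fact (Nat.Prime 2) := ⟨Nat.prime_two⟩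
  have hc : IsComplement' N P := isComplement'_of_disjoint_and_mul_eq_univ (disjoint_iff.2 hdisj)
    (by rw [← normal_mul, hprod, coe_top])
  have hab : ∀ a ∈ N, ∀ b ∈ N, a * b = b * a := fun a ha b hb =>
    congrArg Subtype.val (hNel.1.is_comm.comm (⟨a, ha⟩ : N) ⟨b, hb⟩)
  have hodd : ∀ n ∈ N, Odd (orderOf n) := fun n hn =>
    (hq'.out.odd_of_ne_two hq).of_dvd_nat (orderOf_dvd_of_pow_eq_one (hNel.2 n hn))
  have : Nontrivial P := (nontrivial_iff_ne_bot P).2 hP1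
  have := hP.center_nontrivial
  obtain ⟨z0, hz0⟩ := exists_prime_orderOf_dvd_card' (G := center P) 2
    (((hP.to_subgroup _).card_eq_or_dvd).resolve_left Finite.one_lt_card.ne')
  obtain ⟨z, hzP, hz, hzc⟩ : ∃ z ∈ P, orderOf z = 2 ∧ ∀ x ∈ P, x * z = z * x :=
    ⟨z0.1.1, z0.1.2, by rw [orderOf_coe, orderOf_coe, hz0], fun x hx => congrArg Subtype.val (mem_center_iff.1 z0.2 ⟨x, hx⟩)⟩
  have hz2 : z * z = 1 := by rw [← sq, ← hz, pow_orderOf_eq_one]
  have hdec : ∀ g : G, ∃ n ∈ N, ∃ x ∈ P, g = n * x := fun g => by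
    obtain ⟨⟨a, b⟩, rfl⟩ := hc.2 g; exact ⟨a, a.2, b, b.2, rfl⟩
  have hC : N ⊓ centralizer {z} = ⊥ := by
    by_contra h
    have h1 := hmin.2 _ ⟨fun a ha g => ?_⟩ h
    · have h2 : zpowers z ≤ center G := zpowers_le.2 (mem_center_iff.2 fun g => by
        obtain ⟨n, hn, x, hx, rfl⟩ := hdec g
        rw [mul_assoc, hzc x hx, ← mul_assoc, mem_centralizer_singleton_iff.1 (h1 hn).2, mul_assoc])
      have h3 := hmin.2 (zpowers z) ⟨fun a ha g => by
        rw [mem_center_iff.1 (h2 ha) g, mul_inv_cancel_right]; exact ha⟩ (by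
        rw [Ne, zpowers_eq_bot]; rintro rfl; simp at hz)
      exact hmin.1 (eq_bot_iff.2 (hdisj ▸ le_inf le_rfl (h3.trans (zpowers_le.2 hzP))))
    · obtain ⟨n, hn, x, hx, rfl⟩ := hdec g
      have h2 : n * x * a * (n * x)⁻¹ = x * a * x⁻¹ := by
        rw [show n * x * a * (n * x)⁻¹ = n * (x * a * x⁻¹) * n⁻¹ by group,
          hab n hn _ (hN.conj_mem a ha.1 x), mul_inv_cancel_right]
      refine h2 ▸ ⟨hN.conj_mem a ha.1 x, mem_centralizer_singleton_iff.2 ?_⟩
      rw [mul_assoc, hzc _ (inv_mem hx), ← mul_assoc, mul_assoc x, mem_centralizer_singleton_iff.1 ha.2,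
        ← mul_assoc, hzc x hx]; group
  have hinv : ∀ n ∈ N, n * (z * n * z⁻¹) = 1 := fun n hn => by
    have h1 := hN.conj_mem n hn z
    refine mem_bot.1 (hC ▸ mem_inf.2 ⟨mul_mem hn h1, mem_centralizer_singleton_iff.2 ?_⟩)
    calc n * (z * n * z⁻¹) * z = (z * z) * n * z * n := by rw [hz2]; group
      _ = z * ((z * n * z⁻¹) * (z * z) * n) * 1 := by group
      _ = _ := by rw [hz2, mul_one, mul_one, hab _ h1 n hn]
  obtain ⟨n0, hn0⟩ := ne_bot_iff_exists_ne_one.1 hmin.1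
  have := hNel.1
  obtain ⟨θ, hθ⟩ := exists_lin_ne_one (g := n0) (by
    rw [(commutator_eq_bot_iff_center_eq_top _).2 (center_eq_top_iff.2 inferInstance)]; simpa using hn0)
  let T := inertia fun n : N => (θ n : ℂ)
  have hNT : N ≤ T := le_inertia (isIrr_unitsHom θ).classFun
  have hT : ∀ g ∈ T, ∀ n : N, θ ⟨g * n * g⁻¹, hN.conj_mem n n.2 g⟩ = θ n := fun g hg n =>
    Units.val_injective (mem_inertia'.1 hg n)
  let e := hc.equiv
  have he : ∀ (n : N) (x : P), e (n * x) = (n, x) := fun n x => e.apply_symm_apply (n, x)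
  have he' : ∀ g, ((e g).1 : G) * (e g).2 = g := fun g => e.symm_apply_apply g
  have hmul : ∀ (a b : N) (x y : P), (a : G) * x * (b * y) =
      (a * ⟨x * b * (x : G)⁻¹, hN.conj_mem b b.2 x⟩ : N) * (x * y : P) := fun a b x y => by simp [mul_assoc]
  let η : T →* ℂˣ := MonoidHom.mk' (fun t => θ (e t).1) fun s t => by
    have h1 : ((e s).2 : G) ∈ T := (mul_mem_cancel_left (hNT (e s).1.2)).1 (by rw [he']; exact s.2)
    have h2 := hmul (e s).1 (e t).1 (e s).2 (e t).2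
    rw [he', he'] at h2
    change θ (e ((s : G) * t)).1 = _
    rw [h2, he, map_mul, hT _ h1]
  have hη : ∀ (n : N) (x : P) h, η ⟨n * x, h⟩ = θ n := fun n x h => by simp [η, he]
  have hη1 : ∀ n : N, (η ⟨n, hNT n.2⟩ : ℂ) = θ n := fun n => by
    rw [← hη n 1 (by simpa using hNT n.2)]; simp
  have hzT : z ∉ T := fun h => hθ (by
    obtain ⟨k, hk⟩ := hodd n0 n0.2
    have h1 : θ n0 * θ n0 = 1 := by
      conv_lhs => arg 2; rw [← hT z h n0]
      rw [← map_mul, ← map_one θ]; congr 1; exact Subtype.ext (hinv n0 n0.2)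
    have h2 : θ n0 ^ (2 * k + 1) = 1 := by rw [← map_pow, ← hk, orderOf_coe, pow_orderOf_eq_one, map_one]
    rwa [pow_succ, pow_mul, sq, h1, one_pow, one_mul] at h2)
  have hirr := (clifford_corr_irr (isIrr_unitsHom θ) rfl hNT (isIrr_unitsHom η) (by
    rw [show resLe hNT (fun t => (η t : ℂ)) = fun n => (θ n : ℂ) from funext hη1, (isIrr_unitsHom θ).inner_self]
    exact one_ne_zero)).1
  refine acd_count hNT (isIrr_unitsHom θ) rfl η hη1 hodd ?_ ?_ S hS
  · obtain ⟨k, hk⟩ := IsPGroup.iff_card.1 hP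
    obtain ⟨i, -, hi⟩ := (Nat.dvd_prime_pow Nat.prime_two).1
      (hk ▸ hc.symm.index_eq_card ▸ index_dvd_of_le hNT : T.index ∣ 2 ^ k)
    rcases i with _ | i
    · exact absurd (index_eq_one.1 (by simpa using hi) ▸ mem_top z) hzT
    · exact hi ▸ dvd_pow_self 2 (by omega)
  have c1 : ∀ x : P, ∃ k : ℕ, ∑ n : N, extendByZero T (fun t => (η t : ℂ)) (n * x * (n * x)) = k ∧
      ((x : G) = z → 0 < k) := fun x => by
    by_cases h : ((x * x : P) : G) ∈ T
    · let f : N →* ℂ := (Units.coeHom ℂ).comp (θ * θ.comp (MulAut.conjNormal (x : G)).toMonoidHom)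
      have h1 : ∀ n : N, extendByZero T (fun t => (η t : ℂ)) (n * x * (n * x)) = f n := fun n => by
        rw [hmul, ext0_of_mem _ _ (mul_mem (hNT (Subtype.prop _)) h), hη, map_mul]; rfl
      simp only [h1, sum_hom_units f]
      refine ⟨_, rfl, fun hx => ?_⟩
      rw [if_pos]
      · exact Fintype.card_pos
      · ext n
        change ((θ n * θ _ : ℂˣ) : ℂ) = 1
        rw [← map_mul, show n * _ = 1 from Subtype.ext (hx ▸ hinv n n.2 :), map_one, Units.val_one]
    · refine ⟨0, by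
        rw [Nat.cast_zero]
        exact Finset.sum_eq_zero fun n _ => by
          rw [hmul]; exact ext0_of_not_mem _ _ fun h' => h ((mul_mem_cancel_left (hNT (Subtype.prop _))).1 h'),
        fun hx => absurd (by rw [coe_mul, hx, hz2]; exact one_mem _) h⟩
  choose k hk hk' using c1
  have c2 : ∑ g, extendByZero T (fun t => (η t : ℂ)) (g * g) = (∑ x, k x : ℕ) := by
    rw [← Equiv.sum_comp e.symm, Fintype.sum_prod_type_right, Nat.cast_sum]
    exact Finset.sum_congr rfl fun x _ => hk x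
  have c3 : 0 < ∑ x, k x := (hk' ⟨z, hzP⟩ rfl).trans_le
    (Finset.single_le_sum (f := k) (fun _ _ => Nat.zero_le _) (Finset.mem_univ _))
  have c4 : (Nat.card G : ℂ)⁻¹ * ∑ g, indFun T (fun t => (η t : ℂ)) (g * g) =
      (Nat.card T : ℂ)⁻¹ * (∑ x, k x : ℕ) := by
    simp only [indFun_apply', ← Finset.mul_sum]
    rw [Finset.sum_comm, Finset.sum_congr rfl fun y _ => (show _ = ((∑ x, k x : ℕ) : ℂ) from ?_)]
    · rw [Finset.sum_const, Finset.card_univ, ← Nat.card_eq_fintype_card, nsmul_eq_mul]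
      have := card_ne_zero_complex G
      field_simp
    · rw [← c2, ← Equiv.sum_comp (MulAut.conj y).toEquiv fun g => extendByZero T _ (g * g)]
      exact Finset.sum_congr rfl fun g _ => by simp [mul_assoc]
  have c5 := card_ne_zero_complex T
  rcases fs_cases_irr hirr with h | ⟨-, h | h⟩
  · rw [c4] at h
    exact absurd ((mul_eq_zero.1 h.2).resolve_left (inv_ne_zero c5)) (by exact_mod_cast c3.ne')
  · exact h
  · rw [c4, inv_mul_eq_iff_eq_mul₀ c5, mul_neg_one, eq_neg_iff_add_eq_zero] at h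
    have : ∑ x, k x + Nat.card T = 0 := by exact_mod_cast h
    omega

end CfsgH4
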