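import Cfsg.Agent.H4.Dom

/-! Brauer–Feit type bounds for the number of characters in a block. -/

set_option autoImplicit false
set_option linter.unusedSectionVars false
open MonoidAlgebra Subgroup CfsgH2 Function Cfsg CfsgH3 CfsgH8
open scoped ComplexConjugate commutatorElement

namespace CfsgH4

theorem cyc_ineq {ι : Type*} (X : Finset ι) (m a : ι → ℤ) (ha : ∀ i ∈ X, a i = 1 ∨ a i = -1)
    {e n : ℤ} (he : X.card = e) (hn : e + 1 ≤ n) (h0 : ∃ i ∈ X, m i ≠ 0) :
    e ^ 2 ≤ e * n * ∑ i ∈ X, m i ^ 2 - (∑ i ∈ X, m i * a i) ^ 2 * (n - 1) := by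
  have h1 : ∀ i ∈ X, (m i * a i) ^ 2 = m i ^ 2 := fun i hi => by
    rcases ha i hi with h | h <;> simp [h]
  have h2 : (∑ i ∈ X, m i * a i) ^ 2 ≤ e * ∑ i ∈ X, m i ^ 2 := by
    rw [← he, ← Finset.sum_congr rfl h1]
    exact sq_sum_le_card_mul_sum_sq
  have h3 : |∑ i ∈ X, m i * a i| ≤ ∑ i ∈ X, m i ^ 2 :=
    (Finset.abs_sum_le_sum_abs _ _).trans (Finset.sum_le_sum fun i hi => by
      rw [← h1 i hi, ← sq_abs]; exact Int.le_self_sq _)
  have h4 : 1 ≤ ∑ i ∈ X, m i ^ 2 := by
    obtain ⟨i, hi, h⟩ := h0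
    exact le_trans (by have := pow_pos (abs_pos.2 h) 2; rw [sq_abs] at this; omega)
      (Finset.single_le_sum (f := fun i => m i ^ 2) (fun _ _ => sq_nonneg _) hi)
  have h5 : (∑ i ∈ X, m i * a i) ^ 2 ≤ (∑ i ∈ X, m i ^ 2) ^ 2 := by
    rw [← sq_abs]; exact pow_le_pow_left₀ (abs_nonneg _) h3 2
  have he0 : 0 ≤ e := he ▸ Nat.cast_nonneg _
  generalize ∑ i ∈ X, m i ^ 2 = N at *
  generalize (∑ i ∈ X, m i * a i) ^ 2 = s at *
  rcases le_or_gt e N with h | h
  · nlinarith [mul_le_mul_of_nonneg_right h2 (by omega : 0 ≤ n - 1),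
      mul_le_mul_of_nonneg_left h he0]
  · have h6 := mul_le_mul_of_nonneg_right h5 (by omega : 0 ≤ n - 1)
    have h7 : 0 ≤ N * (e - N) * (n - (e + 1)) := by
      apply mul_nonneg (mul_nonneg _ _) <;> omega
    have h8 : 0 ≤ (e - N) * e * (N - 1) := by
      apply mul_nonneg (mul_nonneg _ _) <;> omega
    nlinarith

variable {M : Ideal AlgInt} [hM : M.IsMaximal] {G : Type*} [Group G] {p : ℕ} [Fintype G]
  [hp : Fact p.Prime] [CharP (Res M) p] {B : Set (IrrCharacter G)} {χ : IrrCharacter G}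

theorem card_le_of_min {H : Subgroup G} {z : H} {b : Set (IrrCharacter H)} (h : SubEl p H z)
    (hind : IsInducedBlock M H b B) {c : ℝ} (hc : 0 ≤ c)
    (hl : ∀ v ∈ Lat p b, v ≠ 0 → c ≤ (Bq p b v v).re) (S : Finset (IrrCharacter G))
    (hS : ∀ χ ∈ S, χ ∈ B ∧ classInner (cmp p H b z χ.1) χ.1 ≠ 0) :
    c * S.card ≤ p ^ blockDefect p b * blockRank p b := by
  have := Fintype.ofFinite H
  have hb := (isInducedBlock_iff.1 hind).1
  have hs := eSet_mem_SG hb
  obtain ⟨k, hk⟩ := h.exists_pow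
  have hJ : (JJ (p ^ (k + 1))).Nonempty := ⟨1, one_mem_JJ hp.out k⟩
  obtain ⟨w, h1, h2⟩ := h.exists_expand hs hk
  have := card_le_of_avg S hJ (fun χ j => ‖mJ p z b (blockDefect p b) χ.1 χ.1 j‖) (fun _ => c)
    (T := p ^ blockDefect p b * blockRank p b) (fun χ hχ => ?_) fun j hj => ?_
  · rwa [Finset.sum_const, nsmul_eq_mul, mul_comm] at this
  · refine (brauer_avg _ (Lat p b) hc hl hp.out _ w (fun ξ _ => h1 ξ) _
      (fun ξ hξ => aX_mem (p := p) (χ.2.isGen.restrict H) hξ) (j₀ := 1) hp.out.not_dvd_one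
      fun e => ?_).trans (Finset.sum_le_sum fun j hj => le_of_eq ?_)
    · have := h2 1 (mem_JJ.1 (one_mem_JJ hp.out k)).2 χ.1 χ.1 χ.2.isGen
      rw [e, map_zero, LinearMap.zero_apply, mJ, pow_one] at this
      exact mul_ne_zero (p_pow_ne_zero _) (hS χ hχ).2 this
    · rw [← h2 j (mem_JJ.1 hj).2 _ _ χ.2.isGen, h.mJ_self hs hj _ χ.2.classFun]; simp
  · rw [← h.trace_mJ hind hj]
    exact Finset.sum_le_sum_of_subset_of_nonneg (fun χ hχ => mem_irrF.2 (hS χ hχ).1)
      fun _ _ _ => norm_nonneg _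

section fam
variable {A : Type*} [Group A] [Fintype A] {K : Subgroup (MulAut A)} {Φ : A → G → ℂ}
  [IsMulCommutative A] [Nontrivial A] {X : Finset (IrrCharacter G)} {ζ : OrbK K → IrrCharacter G}
  {a : IrrCharacter G → ℤ} {δ : ℤ}

theorem Fam.mR_X (h : Fam M p B K Φ) (S : CyS B K Φ X ζ a δ) {χ ψ : IrrCharacter G} (hχ : χ ∈ X)
    (hψ : ψ ∈ X) [Decidable (χ = ψ)] : Nat.card K * (Nat.card A * mR p χ.1 ψ.1) =
      Nat.card K * Nat.card A * (if χ = ψ then 1 else 0) - a χ * a ψ * (Nat.card A - 1) := by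
  classical
  have hK : (Nat.card K : ℂ) ≠ 0 := Nat.cast_ne_zero.2 Nat.card_pos.ne'
  have e : regPart p χ.1 = χ.1 - ((Nat.card K : ℂ)⁻¹ * a χ) • ∑ u ∈ Finset.univ.erase 1, Φ u := by
    funext g
    simp only [Pi.sub_apply, Pi.smul_apply, Finset.sum_apply, smul_eq_mul]
    by_cases hg : p ∣ orderOf g
    · rw [regPart_of_dvd _ hg, h.sing χ ((S.mem χ).2 (Or.inl hχ)) g hg,
        ← Finset.add_sum_erase _ _ (Finset.mem_univ 1), h.one, Pi.zero_apply, mul_zero, zero_add,
        mul_assoc, Finset.mul_sum _ _ (a χ : ℂ), Finset.sum_congr rfl fun u hu => by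
          rw [h.dX S hχ (Finset.ne_of_mem_erase hu)], sub_self]
    · rw [regPart_of_not_dvd _ hg, Finset.sum_eq_zero fun u _ => h.reg u g hg, mul_zero, sub_zero]
  have e2 : Nat.card A * classInner (∑ u ∈ Finset.univ.erase 1, Φ u) ψ.1 =
      a ψ * (Nat.card A - 1) := by
    rw [CfsgH3.inner_sum_left, Finset.mul_sum, Finset.sum_congr rfl fun u hu =>
      (show _ = (a ψ : ℂ) by
        rw [← map_intCast (starRingEnd ℂ), ← h.dX S hψ (Finset.ne_of_mem_erase hu), map_mul,
          CfsgH3.inner_conj_symm, map_natCast]), Finset.sum_const,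
      Finset.card_erase_of_mem (Finset.mem_univ _), Finset.card_univ, ← Nat.card_eq_fintype_card,
      nsmul_eq_mul, Nat.cast_sub Nat.card_pos, Nat.cast_one, mul_comm]
  rw [mR_eq_inner_irr, e, CfsgH3.inner_sub_left, CfsgH3.inner_smul_left, inner_irr, mul_sub,
    mul_sub, mul_left_comm (Nat.card A : ℂ) (_ * _), e2]
  split_ifs <;> field_simp

theorem Fam.Lat_min (h : Fam M p B K Φ) (S : CyS B K Φ X ζ a δ)
    (hA : Nat.card A = p ^ blockDefect p B) (hK : Nat.card K + 1 ≤ Nat.card A) :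
    ∀ v ∈ Lat p B, v ≠ 0 → (Nat.card K : ℝ) ≤ (Bq p B v v).re := by
  classical
  rintro _ ⟨θ, h1, h2, rfl⟩ h0
  choose n hn using fun χ : IrrCharacter G => h1.inner_int χ.2.isGen
  have hδ : (δ : ℂ) * δ = 1 := by rcases S.sign with h | h <;> simp [h]
  set m : IrrCharacter G → ℤ := fun χ => n χ + (∑ o, n (ζ o)) * δ * a χ
  have e : regPart p θ = regPart p (∑ χ ∈ X, (m χ : ℂ) • χ.1) := regPart_congr fun g hg => by
    have h3 := fun o => h.exc.rel S.toExcS o hg
    have h4 : ∀ o, (ζ o).1 g = δ * ∑ χ ∈ X, a χ * χ.1 g := fun o => by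
      have := h3 o
      simp only [Int.cast_zero, mul_zero, zero_sub] at this
      linear_combination (-δ) * this + (-(ζ o).1 g) * hδ
    rw [← h2, blockPart_apply, S.sum_B]
    simp only [hn, h4, m, Finset.sum_apply, Pi.smul_apply, smul_eq_mul]
    push_cast
    simp only [add_mul, Finset.sum_add_distrib, ← Finset.sum_mul]
    congr 1
    rw [← mul_assoc, Finset.mul_sum]
    exact Finset.sum_congr rfl fun _ _ => by ring
  have h5 : ∃ χ ∈ X, m χ ≠ 0 := by
    by_contra! c
    refine h0 ?_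
    rw [e, Finset.sum_eq_zero fun χ hχ => by rw [c χ hχ, Int.cast_zero, zero_smul]]
    exact (regL p).map_zero
  have h6 := cyc_ineq X m a S.signX (e := Nat.card K) (n := Nat.card A) (by rw [S.card])
    (by exact_mod_cast hK) h5
  have h7 : Nat.card K * Bq p B (regPart p θ) (regPart p θ) =
      ((Nat.card K * Nat.card A * ∑ i ∈ X, m i ^ 2 -
        (∑ i ∈ X, m i * a i) ^ 2 * (Nat.card A - 1) : ℤ) : ℂ) := by
    rw [e, Bq_reg, Bq_apply, mR_sum_left]
    have : (p : ℂ) ^ blockDefect p B = Nat.card A := by rw [hA]; push_cast; rfl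
    simp only [mR_smul_left, mR_sum_right, mR_smul_right, this, Finset.mul_sum]
    rw [Finset.sum_congr rfl fun χ hχ => Finset.sum_congr rfl fun ψ hψ =>
      (show _ = (m χ : ℂ) * m ψ * (Nat.card K * Nat.card A * (if χ = ψ then 1 else 0) -
        a χ * a ψ * (Nat.card A - 1)) by rw [← h.mR_X S hχ hψ]; ring)]
    push_cast
    simp only [mul_sub ((m _ : ℂ) * _), Finset.sum_sub_distrib, mul_ite, mul_one, mul_zero,
      Finset.sum_ite_eq]
    congr 1
    · exact Finset.sum_congr rfl fun χ hχ => by rw [if_pos hχ]; ring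
    · rw [sq, Finset.sum_mul_sum, Finset.sum_mul]
      refine Finset.sum_congr rfl fun _ _ => ?_
      rw [Finset.sum_mul]
      exact Finset.sum_congr rfl fun _ _ => by ring
  have h8 := congrArg Complex.re h7
  rw [Complex.intCast_re, ← Complex.ofReal_natCast, Complex.re_ofReal_mul] at h8
  have h9 : (0 : ℝ) < Nat.card K := Nat.cast_pos.2 Nat.card_pos
  refine le_of_mul_le_mul_left ?_ h9
  rw [h8, ← sq]
  exact_mod_cast h6

end fam

theorem cyc_data (hB : IsPBlock M B) {P : Subgroup G} (hP : IsDef p ⊤ (bId M B) P)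
    (hc : IsCyclic P) : (∀ v ∈ Lat p B, v ≠ 0 → (blockRank p B : ℝ) ≤ (Bq p B v v).re) ∧
      Nat.card B ≤ p ^ blockDefect p B := by
  have hA := card_isDef hB hP
  by_cases h1 : P = ⊥
  · rw [h1, card_bot, eq_comm, Nat.pow_eq_one] at hA
    have h0 : blockDefect p B = 0 := hA.resolve_left hp.out.ne_one
    obtain ⟨χ, hχ⟩ := block_nonempty hB
    have h2 : Nat.card B = 1 := by rw [eq_singleton_of_defect_zero hB h0 hχ]; simp
    refine ⟨fun v hv v0 => ?_, by rw [h2, h0, pow_zero]⟩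
    obtain ⟨n, n0, hn⟩ := Lat_pos hv v0
    have := blockRank_le_card (p := p) B
    rw [hn, Complex.natCast_re]
    exact_mod_cast (by omega : blockRank p B ≤ n)
  obtain ⟨e, hm⟩ := hP.exists_mp (isPrim_bId hB)
  have := Fintype.ofFinite P
  have := (Subgroup.nontrivial_iff_ne_bot P).2 h1
  obtain ⟨K, Φ, -, h, h2, h3⟩ := hm.fam_cyc hB hc h1 (MulEquiv.refl P)
  obtain ⟨X, ζ, a, δ, S⟩ := h.exists_S h2
  have h4 : Nat.card K + 1 ≤ Nat.card P := by
    have h5 := Nat.le_of_dvd (by have := hp.out.two_le; omega) h3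
    have h6 : p ≤ Nat.card P := Nat.le_of_dvd Nat.card_pos (by
      rw [hA]
      refine dvd_pow_self _ fun h0 => ?_
      rw [h0, pow_zero] at hA
      exact h1 (card_eq_one.1 hA))
    have := hp.out.two_le
    omega
  have h5 := h.card
  rw [h.rank_eq S h2] at h5 ⊢
  refine ⟨h.Lat_min S hA h4, ?_⟩
  rw [← hA]
  have h6 : 0 < Nat.card K := Nat.card_pos
  generalize Nat.card K = e at *
  generalize Nat.card P = n at *
  by_contra! c
  nlinarith

theorem exists_major (hB : IsPBlock M B) {P : Subgroup G} (hP : IsDef p ⊤ (bId M B) P) {u : G}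
    (hu : u ∈ P) (hc : u ∈ centralizer (P : Set G)) :
    ∃ b : Set (IrrCharacter (centralizer ({u} : Set G))), IsInducedBlock M _ b B ∧
      blockDefect p b = blockDefect p B ∧ IsDef p ⊤ (bId M b) (P.subgroupOf _) := by
  obtain ⟨e, hm⟩ := hP.exists_mp (isPrim_bId hB)
  have h1 := hm.abelian_isDef (fb_sl hm.bp hu) (le_cent_zpowers hc)
  rw [Cn_top, centralizer_zpowers, ← bIdS_blk (fb_mem hm.bp hu)] at h1
  have hb := isPBlock_blk (fb_mem hm.bp hu)
  exact ⟨_, hm.induced_fb hB ⟨u, hu⟩, hm.defect_fb hB (u := ⟨u, hu⟩) hc,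
    (isDefectGroup_iff hb).1 ((isDefectGroup_iff_S' hb h1.le).2 h1)⟩

omit [Fintype G] hp in
theorem normal_zpowers_zc (u : G) : (zpowers (zc u)).Normal :=
  ⟨fun n hn g => by
    have : Commute g n := by
      obtain ⟨k, rfl⟩ := hn
      exact Commute.zpow_right (Subtype.ext (mem_centralizer_singleton_iff.1 g.2)) k
    rwa [this.eq, mul_inv_cancel_right]⟩

omit [Fintype G] hp in
theorem mem_centralizer_zc (u : G) (x : centralizer ({u} : Set G)) :
    x ∈ centralizer (zpowers (zc u) : Set (centralizer ({u} : Set G))) := by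
  rw [centralizer_zpowers, mem_centralizer_singleton_iff]
  exact Subtype.ext (mem_centralizer_singleton_iff.1 x.2)

omit [Fintype G] in
theorem isPGroup_zc {u : G} (hu : ∃ k, orderOf u = p ^ k) : IsPGroup p (zpowers (zc u)) :=
  let ⟨k, hk⟩ := hu
  isPGroup_zpowers_of_orderOf (k := k) (by rw [← hk, ← orderOf_coe]; rfl)

/-- Reduction to the dominated block of `C(u)/⟨u⟩`. -/
theorem exists_major_quot (hB : IsPBlock M B) {P : Subgroup G} (hP : IsDef p ⊤ (bId M B) P) {u : G}
    (hu : u ∈ P) (hc : u ∈ centralizer (P : Set G)) :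
    haveI := normal_zpowers_zc u
    ∃ (b : Set (IrrCharacter (centralizer ({u} : Set G))))
      (b' : Set (IrrCharacter (centralizer ({u} : Set G) ⧸ zpowers (zc u)))),
      IsInducedBlock M _ b B ∧ blockDefect p b = blockDefect p B ∧ IsPBlock M b' ∧
      IsDef p ⊤ (bId M b') ((P.subgroupOf _).map (QuotientGroup.mk' _)) ∧
      blockRank p b = blockRank p b' ∧ p ^ blockDefect p B = orderOf u * p ^ blockDefect p b' ∧
      ∀ c : ℝ, (∀ v ∈ Lat p b', v ≠ 0 → c ≤ (Bq p b' v v).re) →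
        ∀ v ∈ Lat p b, v ≠ 0 → c ≤ (Bq p b v v).re := by
  have := normal_zpowers_zc u
  obtain ⟨b, h1, h2, h3⟩ := exists_major hB hP hu hc
  have h4 := isPGroup_zc (exists_orderOf_eq_pow hP.pgroup hu)
  have h5 := fun x (_ : ¬ p ∣ orderOf x) => mem_centralizer_zc u x
  refine ⟨b, _, h1, h2, isPBlock_dom h4 h5 h1.1, isDef_dom h4 h5 h1.1 h3,
    blockRank_dom h4 h5 h1.1, ?_, fun c => Lat_min_dom h4 h5 h1.1⟩
  rw [← h2, pow_defect_dom h4 h5 h1.1, Nat.card_zpowers, ← orderOf_coe]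
  rfl

theorem card_le_of_cyc_quot (hB : IsPBlock M B) {P : Subgroup G} (hP : IsDef p ⊤ (bId M B) P)
    {u w : G} (hu : u ∈ P) (hw : w ∈ P) (hc : u ∈ centralizer (P : Set G))
    (hg : P ≤ zpowers u ⊔ zpowers w) : Nat.card B ≤ p ^ blockDefect p B := by
  have := normal_zpowers_zc u
  obtain ⟨b, b', h1, h2, h3, h4, h5, -, h7⟩ := exists_major_quot hB hP hu hc
  have hP' := le_centralizer_singleton_iff.2 hc
  have := Fintype.ofFinite (centralizer ({u} : Set G) ⧸ zpowers (zc u))
  have h8 : (P.subgroupOf (centralizer ({u} : Set G))).map (QuotientGroup.mk' (zpowers (zc u))) ≤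
      zpowers (QuotientGroup.mk' _ ⟨w, hP' hw⟩) := by
    rw [← MonoidHom.map_zpowers, Subgroup.map_le_map_iff, QuotientGroup.ker_mk', ← map_le_map_iff_of_injective
      (centralizer ({u} : Set G)).subtype_injective, map_subgroupOf_eq_of_le hP', Subgroup.map_sup,
      MonoidHom.map_zpowers, MonoidHom.map_zpowers, sup_comm]
    exact hg
  have h9 := card_le_of_min (subEl_zc (exists_orderOf_eq_pow hP.pgroup hu)) h1 (Nat.cast_nonneg _)
    (h7 _ (cyc_data h3 h4 (Subgroup.isCyclic_of_le h8)).1) (irrF B) fun χ hχ =>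
      ⟨mem_irrF.1 hχ, fun e => cmp_ne_zero_major (subEl_zc (exists_orderOf_eq_pow hP.pgroup hu))
        h1 h2 (mem_irrF.1 hχ) ((inner_cmp_self_eq_zero
          (subEl_zc (exists_orderOf_eq_pow hP.pgroup hu)) (eSet_mem_SG h1.1) χ.2.classFun).1 e)⟩
  rw [card_irrF, h2, h5, mul_comm] at h9
  exact_mod_cast le_of_mul_le_mul_right h9 (Nat.cast_pos.2 (blockRank_pos (block_nonempty h3)))

omit [Fintype G] in
theorem isCyclic_of_card_le {P : Subgroup G} [Finite G] {d : ℕ} (h : Nat.card P = p ^ d)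
    (hd : d ≤ 1) : IsCyclic P := by
  interval_cases d
  · have := (Nat.card_eq_one_iff_unique.1 h).1
    infer_instance
  · exact isCyclic_of_prime_card (h.trans (pow_one p))

theorem card_le_of_defect_le_two (hB : IsPBlock M B) (hd : blockDefect p B ≤ 2) :
    Nat.card B ≤ p ^ blockDefect p B := by
  obtain ⟨P, hP⟩ := (isPrim_bId hB).exists_isDef p le_rfl le_normalizer
  have h1 := card_isDef hB hP
  by_cases hc : IsCyclic P
  · exact (cyc_data hB hP hc).2
  have h2 : blockDefect p B = 2 := by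
    by_contra c
    exact hc (isCyclic_of_card_le h1 (by omega))
  rw [h2] at h1
  have hab := IsPGroup.isMulCommutative_of_card_eq_prime_sq h1
  have h3 : ∀ K : Subgroup G, K ≤ P → K = ⊥ ∨ Nat.card K = p ∨ K = P := fun K hK => by
    obtain ⟨i, hi, e⟩ := (Nat.dvd_prime_pow hp.out).1 (h1 ▸ card_dvd_of_le hK)
    interval_cases i
    · exact Or.inl (card_eq_one.1 e)
    · exact Or.inr (Or.inl (e.trans (pow_one p)))
    · exact Or.inr (Or.inr (eq_of_le_of_card_ge hK (by rw [e, h1])))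
  have h4 : P ≠ ⊥ := by rintro rfl; exact hc inferInstance
  obtain ⟨⟨u, hu⟩, h5⟩ := ne_bot_iff_exists_ne_one.1 h4
  have h6 : ¬ P ≤ zpowers u := fun h => hc (Subgroup.isCyclic_of_le h)
  obtain ⟨w, hw, h7⟩ := SetLike.not_le_iff_exists.1 h6
  have h8 : zpowers u ⊔ zpowers w ≤ P := sup_le (zpowers_le.2 hu) (zpowers_le.2 hw)
  refine card_le_of_cyc_quot hB hP hu hw (le_centralizer P hu) ?_
  have h9 : zpowers u ≠ ⊥ := fun e => h5 (Subtype.ext (zpowers_eq_bot.1 e))
  rcases h3 _ h8 with h | h | h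
  · exact absurd (le_bot_iff.1 (h ▸ le_sup_left)) h9
  · rcases h3 _ (zpowers_le.2 hu) with h' | h' | h'
    · exact absurd h' h9
    · exact absurd (eq_of_le_of_card_ge le_sup_left (by rw [h, h']) ▸
        (le_sup_right : zpowers w ≤ zpowers u ⊔ zpowers w) (mem_zpowers w)) h7
    · exact absurd h'.ge h6
  · exact h.ge

universe u in
theorem card_le_brauer_feit (d : ℕ) : ∀ {G : Type u} [Group G] [Finite G]
    {B : Set (IrrCharacter G)}, IsPBlock M B → blockDefect p B = d + 2 →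
      Nat.card B ≤ p ^ (2 * d + 2) := by
  induction d with
  | zero =>
    intro G _ _ B hB hd
    have := Fintype.ofFinite G
    exact hd ▸ card_le_of_defect_le_two hB hd.le
  | succ d ih =>
    intro G _ _ B hB hd
    classical
    have := Fintype.ofFinite G
    by_cases hh : ∀ χ ∈ B, blockHeight p B χ.1 = 0
    · obtain ⟨P, hP⟩ := (isPrim_bId hB).exists_isDef p le_rfl le_normalizer
      have h1 := card_isDef hB hP
      have : Nontrivial P := Finite.one_lt_card_iff_nontrivial.1 (by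
        rw [h1, hd]; exact Nat.one_lt_pow (by omega) hp.out.one_lt)
      have := hP.pgroup.center_nontrivial
      obtain ⟨u, hu⟩ := exists_prime_orderOf_dvd_card' (G := center P) p
        ((hP.pgroup.to_subgroup _).card_eq_or_dvd.resolve_left Finite.one_lt_card.ne')
      have hc : ((u : P) : G) ∈ centralizer (P : Set G) := fun x hx =>
        congrArg Subtype.val (mem_center_iff.1 u.2 ⟨x, hx⟩)
      have := normal_zpowers_zc ((u : P) : G)
      obtain ⟨b, b', h2, h3, h4, -, h5, h6, -⟩ := exists_major_quot hB hP (u : P).2 hc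
      rw [orderOf_coe, orderOf_coe, hu, hd, ← pow_succ'] at h6
      have h7 := ih h4 (by have := Nat.pow_right_injective hp.out.two_le h6; omega)
      have h8 := card_sq_le_of_major (subEl_zc (exists_orderOf_eq_pow hP.pgroup (u : P).2)) h2 hh
      rw [h3, hd, h5] at h8
      have h9 := h8.trans (Nat.mul_le_mul_left _ ((blockRank_le_card _).trans h7))
      rw [← pow_add, show 2 * (d + 1 + 2) + (2 * d + 2) = (2 * (d + 1) + 2) * 2 by ring,
        pow_mul] at h9
      exact (Nat.pow_le_pow_iff_left two_ne_zero).1 h9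
    · push Not at hh
      obtain ⟨χ, hχ, h0⟩ := hh
      have h1 := four_mul_card_pos_height_le (p := p) hB
      have h2 := four_mul_card_height_zero_le hB hχ h0
      have h3 := Finset.card_filter_add_card_filter_not (s := irrF B)
        (fun χ => blockHeight p B χ.1 = 0)
      rw [card_irrF] at h3
      rw [hd, show 2 * (d + 1 + 2) = 2 + (2 * (d + 1) + 2) by ring, pow_add] at h1 h2
      have h4 : 0 < p ^ 2 := pow_pos hp.out.pos 2
      simp only [ne_eq] at h1
      generalize p ^ (2 * (d + 1) + 2) = T at *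
      generalize p ^ 2 = q at *
      rw [← h3]
      nlinarith

end CfsgH4
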