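import Mathlib
import Cfsg.Agent.H2.SylowIn

/-! The Camina-Herzog theorem: if every 2-element is 2-central then Sylow 2-subgroups are abelian. -/

set_option autoImplicit false
open Subgroup CfsgH2

namespace CfsgH4
variable {G : Type*} [Group G] [Finite G]

theorem exists_sq_mem {Q E : Subgroup G} (hQ : IsPGroup 2 Q) (h : E < Q) :
    ∃ t ∈ Q, t ∈ normalizer (E : Set G) ∧ t ∉ E ∧ t * t ∈ E := by
  classical
  obtain ⟨t, ht, h1⟩ := SetLike.exists_of_lt (lt_inf_normalizer hQ h)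
  obtain ⟨k, hk⟩ := exists_orderOf_eq_pow hQ ht.1
  have ex : ∃ n, t ^ 2 ^ n ∈ E := ⟨k, by rw [← hk, pow_orderOf_eq_one]; exact one_mem _⟩
  have h0 : Nat.find ex ≠ 0 := fun c => h1 (by simpa [c] using Nat.find_spec ex)
  obtain ⟨n, hn⟩ := Nat.exists_eq_succ_of_ne_zero h0
  refine ⟨t ^ 2 ^ n, pow_mem ht.1 _, pow_mem ht.2 _, Nat.find_min ex (by omega), ?_⟩
  have := Nat.find_spec ex
  rwa [hn, pow_succ, pow_mul, pow_two] at this

theorem camina_step (H : ∀ x : G, (∃ k, orderOf x = 2 ^ k) → ∃ Q, IsSylowIn 2 Q ⊤ ∧ Q ≤ centralizer ({x} : Set G)) {j : ℕ}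
    (ih : ∀ s : G, (∃ k, orderOf s = 2 ^ k) → ∀ Q, IsSylowIn 2 Q ⊤ → s ^ 2 ^ (j + 1) ∈ Q →
      Q ≤ centralizer ({s ^ 2 ^ (j + 1)} : Set G))
    (s : G) (hs : ∃ k, orderOf s = 2 ^ k) (Q : Subgroup G) (hQ : IsSylowIn 2 Q ⊤) (hv : s ^ 2 ^ j ∈ Q) :
    Q ≤ centralizer ({s ^ 2 ^ j} : Set G) := by
  by_contra c
  set v := s ^ 2 ^ j with hvd
  obtain ⟨t, htQ, htN, htE, htt⟩ := exists_sq_mem hQ.pgroup (E := Q ⊓ centralizer ({v} : Set G))
    (inf_lt_left.2 c)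
  have mc : ∀ {a b : G}, a ∈ centralizer ({b} : Set G) ↔ Commute a b := mem_centralizer_singleton_iff
  have hv' : Commute (t⁻¹ * v * t) v := mc.1 (conj_mem_of_mem_normalizer' htN ⟨hv, mc.2 (Commute.refl v)⟩).2
  have h2 : Commute (t * t) v := mc.1 htt.2
  have cjc : ∀ {a b : G}, Commute a b → Commute (t⁻¹ * a * t) (t⁻¹ * b * t) := fun {a b} h => by
    simpa only [MulAut.conj_apply, inv_inv] using h.map (MulAut.conj t⁻¹)
  have e2 : t⁻¹ * (t⁻¹ * v * t) * t = v := by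
    calc t⁻¹ * (t⁻¹ * v * t) * t = (t * t)⁻¹ * (v * (t * t)) := by group
      _ = v := by rw [← h2.eq]; group
  set D := centralizer ({v} : Set G) ⊓ centralizer ({t⁻¹ * v * t} : Set G) with hD
  have tD : t ∈ normalizer (D : Set G) := inv_mem_iff.1 (mem_normalizer_of_conj_mem fun x hx => by
    rw [inv_inv]; exact ⟨mc.2 (e2 ▸ cjc (mc.1 hx.2)), mc.2 (cjc (mc.1 hx.1))⟩)
  have ttD : t * t ∈ D := ⟨mc.2 h2, mc.2 (by simpa [mul_assoc] using cjc h2)⟩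
  obtain ⟨kt, hkt⟩ := exists_orderOf_eq_pow hQ.pgroup htQ
  obtain ⟨R, hR, hRt⟩ := IsSylowIn.exists_le (isPGroup_zpowers_of_orderOf hkt) (le_sup_right : _ ≤ D ⊔ zpowers t)
  have tR : t ∈ R := hRt (mem_zpowers t)
  have hE := hR.inf_of_normalizer' (le_sup_left : D ≤ _) (sup_le le_normalizer (zpowers_le.2 tD))
  have add : ∀ y ∈ D, (∃ k, orderOf y = 2 ^ k) → (∀ x ∈ R ⊓ D, Commute x y) → y ∈ R ⊓ D := fun y hy ⟨k, hk⟩ hc =>
    hE.le_of_le_normalizer (isPGroup_zpowers_of_orderOf hk) (zpowers_le.2 hy) (zpowers_le.2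
      (mem_normalizer_of_conj_mem fun x hx => by rw [← (hc x hx).eq]; simpa using hx)) (mem_zpowers y)
  obtain ⟨kv, hkv⟩ := exists_orderOf_eq_pow hQ.pgroup hv
  have v'E : t⁻¹ * v * t ∈ R ⊓ D := add _ ⟨mc.2 hv', mc.2 (Commute.refl _)⟩
    ⟨kv, by rw [← hkv, ← orderOf_conj' t⁻¹ v, inv_inv]⟩ fun x hx => mc.1 hx.2.2
  obtain ⟨P, hP, hPs⟩ := H s hs
  have hPv : P ≤ centralizer ({v} : Set G) := fun x hx => mc.2 ((mc.1 (hPs hx)).pow_right _)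
  obtain ⟨m, hm, hmP⟩ := (hP.mono hPv le_top).exists_cj_le hE.pgroup (inf_le_right.trans inf_le_left)
  have hS := hP.cj m⁻¹
  rw [cj_top] at hS
  have hES : R ⊓ D ≤ cj m⁻¹ P := cj_le_iff_le_cj_inv.1 hmP
  set y := m⁻¹ * s * m⁻¹⁻¹ with hy
  have yS : ∀ x ∈ cj m⁻¹ P, Commute x y := fun x hx => mc.1 (by rw [hy, ← cj_centralizer_singleton]; exact cj_mono _ hPs hx)
  have yv : y ^ 2 ^ j = v := by rw [hy, conj_pow, ← hvd, mul_assoc, inv_inv, ← (mc.1 hm).eq]; group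
  have yE : y ∈ R ⊓ D := add y ⟨mc.2 (yv ▸ Commute.self_pow _ _), mc.2 (yS _ (hES v'E)).symm⟩
    (by rw [hy, orderOf_conj']; exact hs) fun x hx => yS x (hES hx)
  have nE : ∀ x ∈ R ⊓ D, t⁻¹ * x * t ∈ R ⊓ D := fun x hx =>
    ⟨R.mul_mem (R.mul_mem (R.inv_mem tR) hx.1) tR, conj_mem_of_mem_normalizer' tD hx.2⟩
  have ttE : t * t ∈ R ⊓ D := ⟨mul_mem tR tR, ttD⟩
  have c1 : Commute (t * t) (t⁻¹ * y * t) := by simpa [mul_assoc] using cjc (yS _ (hES ttE))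
  have c2 : Commute (t * t * (t⁻¹ * y * t)) y := yS _ (hES (mul_mem ttE (nE y yE)))
  have e3 : (t * y) ^ 2 ^ (j + 1) = t ^ 2 ^ (j + 1) * (t⁻¹ * v * t) * v := by
    rw [pow_succ' 2, pow_mul, pow_mul, show (t * y) ^ 2 = t * t * (t⁻¹ * y * t) * y by rw [pow_two]; group, c2.mul_pow,
      c1.mul_pow, yv, pow_two, ← yv]
    congr 2
    simpa only [inv_inv] using conj_pow (i := 2 ^ j) (a := t⁻¹) (b := y)
  have e4 : t ^ 2 ^ (j + 1) ∈ R ⊓ D := by rw [pow_succ', pow_mul, pow_two]; exact pow_mem ttE _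
  have vE : v ∈ R ⊓ D := yv ▸ pow_mem yE _
  have a1 := ih (t * y) (exists_orderOf_eq_pow hR.pgroup (mul_mem tR yE.1)) _ hS
    (e3 ▸ hES (mul_mem (mul_mem e4 v'E) vE))
  have a2 := ih t ⟨kt, hkt⟩ _ hS (hES e4)
  have SD : cj m⁻¹ P ≤ D := fun x hx => by
    have b1 : Commute x v := yv ▸ (yS x hx).pow_right _
    refine ⟨mc.2 b1, mc.2 ?_⟩
    have := ((mc.1 (a2 hx)).inv_right.mul_right (mc.1 (a1 hx))).mul_right b1.inv_right
    rw [e3] at this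
    simpa [mul_assoc] using this
  have f1 := hE.eq_of_le hS.pgroup hES SD
  have f2 := hS.eq_of_le hR.pgroup (f1.le.trans inf_le_left) le_top
  exact htE ⟨htQ, (SD (f2 ▸ tR)).1⟩

theorem camina_herzog (H : ∀ x : G, (∃ k, orderOf x = 2 ^ k) → ∃ Q, IsSylowIn 2 Q ⊤ ∧ Q ≤ centralizer ({x} : Set G))
    (P : Sylow 2 G) : IsMulCommutative (P : Subgroup G) := by
  have key : ∀ j : ℕ, ∀ s : G, (∃ k, orderOf s = 2 ^ k) → ∀ Q, IsSylowIn 2 Q ⊤ → s ^ 2 ^ j ∈ Q →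
      Q ≤ centralizer ({s ^ 2 ^ j} : Set G) := fun j => by
    refine Nat.decreasingInduction (motive := fun j _ => ∀ s : G, (∃ k, orderOf s = 2 ^ k) → ∀ Q, IsSylowIn 2 Q ⊤ →
      s ^ 2 ^ j ∈ Q → Q ≤ centralizer ({s ^ 2 ^ j} : Set G)) (fun k _ ih => camina_step H ih) ?_
      (Nat.le_add_right j (Nat.card G))
    rintro s ⟨k, hk⟩ Q - -
    have h1 : k ≤ Nat.card G := (Nat.lt_two_pow_self.le.trans hk.ge).trans (orderOf_le_card)
    rw [orderOf_dvd_iff_pow_eq_one.1 (hk ▸ pow_dvd_pow 2 (by omega))]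
    exact fun x _ => mem_centralizer_singleton_iff.2 (by simp)
  refine ⟨⟨fun a b => Subtype.ext ?_⟩⟩
  have := key 0 b (exists_orderOf_eq_pow P.isPGroup' b.2) P (IsSylowIn.of_sylow_top P) (by simp) a.2
  simpa using mem_centralizer_singleton_iff.1 this

end CfsgH4
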