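import Mathlib
import Cfsg.Agent.H4.CamH
import Cfsg.Agent.FS.Norm

/-! The Camina-Herzog theorem for saturated fusion systems. -/

set_option autoImplicit false
open Subgroup Cfsg Cfsg.FusionSystem CfsgH9 CfsgFS

namespace CfsgH4
variable {Ω : Type*} [Group Ω] {S : Subgroup Ω} [Finite S] {F : FusionSystem S}

theorem camf_t (hS : IsPGroup 2 S) {v : Ω} (hv : v ∈ S) (c : v ∉ CC(S)) :
    ∃ t ∈ S, Commute (t * t) v ∧ Commute (t⁻¹ * v * t) v ∧ ¬ Commute t v := by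
  have mc : ∀ {a b : S}, a ∈ centralizer ({b} : Set S) ↔ Commute a b := mem_centralizer_singleton_iff
  have hlt : centralizer ({⟨v, hv⟩} : Set S) < ⊤ := lt_top_iff_ne_top.2 fun e => c fun x hx =>
    congrArg Subtype.val (mc.1 (e ▸ mem_top (⟨x, hx⟩ : S) : (⟨x, hx⟩ : S) ∈ centralizer ({⟨v, hv⟩} : Set S))).eq
  obtain ⟨t, -, h1, h2, h3⟩ := exists_sq_mem (hS.of_equiv topEquiv.symm) hlt
  refine ⟨t, t.2, congrArg Subtype.val (mc.1 h3).eq, ?_, fun e => h2 (mc.2 (Subtype.ext e.eq))⟩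
  exact congrArg Subtype.val (mc.1 (CfsgH2.conj_mem_of_mem_normalizer' h1 (mc.2 (Commute.refl _)))).eq

theorem camf_core (hF : Sat F 2) {j : ℕ}
    (ih : ∀ s ∈ S, ∀ P f, Mor F P f → s ^ 2 ^ (j + 1) ∈ P → f (s ^ 2 ^ (j + 1)) ∈ CC(S))
    {z t v : Ω} {V : Subgroup Ω} {α : Ω → Ω} (hz : z ∈ S) (hzc : z ∈ CC(S)) (ht : t ∈ S) (hα : Mor F (zpowers v) α)
    (e : α v = z ^ 2 ^ j) (hV : F.IsFullyCentralized V) (h2 : Commute (t * t) v) (hv' : Commute (t⁻¹ * v * t) v)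
    (vV : v ∈ V) (cV : ∀ (H : Subgroup Ω), v ∈ H → t⁻¹ * v * t ∈ H → V ≤ H) (v'V : t⁻¹ * v * t ∈ V) : Commute t v := by
  have mc : ∀ {a b : Ω}, a ∈ centralizer ({b} : Set Ω) ↔ Commute a b := mem_centralizer_singleton_iff
  have cz : ∀ {a b : Ω}, a ∈ CC(zpowers b) ↔ Commute a b := fun {a b} =>
    ⟨fun h => (show Commute b a from h b (mem_zpowers b)).symm, fun h x ⟨n, hn⟩ => hn ▸ (h.symm.zpow_left n).eq⟩
  have hvS : v ∈ S := hα.le (mem_zpowers v)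
  have him : im (zpowers v) α ≤ CC(S) := im_le.2 fun x ⟨n, hn⟩ => by
    rw [← hn]; dsimp only; rw [hα.zpow (mem_zpowers v), e]; exact zpow_mem (pow_mem hzc _) _
  obtain ⟨ψ, hψ, eψ⟩ := Iso.extend_C hα.iso (hF.rc (fc_of_central hα.im_le_S (le_centralizer_iff.1 him)))
  have ψv : ψ v = z ^ 2 ^ j := (eψ v (mem_zpowers v)).trans e
  have mE : ∀ {x : Ω}, x ∈ CI(S, V) ↔ x ∈ S ∧ Commute x v ∧ Commute x (t⁻¹ * v * t) := fun {x} =>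
    ⟨fun h => ⟨h.1, (show Commute v x from h.2 v vV).symm, (show Commute _ x from h.2 _ v'V).symm⟩,
      fun h => ⟨h.1, fun y hy => mc.1 (cV _ (mc.2 h.2.1.symm) (mc.2 h.2.2.symm) hy)⟩⟩
  have EM : CI(S, V) ≤ zpowers v ⊔ CI(S, zpowers v) := fun x hx =>
    mem_sup_right ⟨hx.1, cz.2 (mE.1 hx).2.1⟩
  have v'S : t⁻¹ * v * t ∈ S := mul_mem (mul_mem (inv_mem ht) hvS) ht
  have vE : v ∈ CI(S, V) := mE.2 ⟨hvS, Commute.refl _, hv'.symm⟩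
  have v'E : t⁻¹ * v * t ∈ CI(S, V) := mE.2 ⟨v'S, hv', Commute.refl _⟩
  have VM : V ≤ zpowers v ⊔ CI(S, zpowers v) := cV _ (EM vE) (EM v'E)
  have hi := im_CI_eq hV hψ VM EM
  have hE := hψ.restrict EM
  obtain ⟨y, yE, ψy⟩ := hE.mem_im.1 (hi.ge (⟨hz, fun x hx => hzc x ((hψ.restrict VM).im_le_S hx)⟩ : z ∈ CI(S, im V ψ)))
  have yS : ∀ x ∈ CI(S, V), Commute x y := fun x hx => hE.inj (mul_mem hx yE) (mul_mem yE hx) (by
    rw [hE.mul hx yE, hE.mul yE hx, ψy]; exact hzc _ (hE.mem hx))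
  have yv : y ^ 2 ^ j = v := hE.inj (pow_mem yE _) vE (by rw [hE.pow yE, ψy, ψv])
  have cjc : ∀ {a b : Ω}, Commute a b → Commute (t⁻¹ * a * t) (t⁻¹ * b * t) := fun {a b} h => by
    simpa only [MulAut.conj_apply, inv_inv] using h.map (MulAut.conj t⁻¹)
  have e2 : t⁻¹ * (t⁻¹ * v * t) * t = v := by
    calc t⁻¹ * (t⁻¹ * v * t) * t = (t * t)⁻¹ * (v * (t * t)) := by group
      _ = v := by rw [← h2.eq]; group
  have nE : ∀ x ∈ CI(S, V), t⁻¹ * x * t ∈ CI(S, V) := fun x hx =>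
    mE.2 ⟨mul_mem (mul_mem (inv_mem ht) hx.1) ht, e2 ▸ cjc (mE.1 hx).2.2, cjc (mE.1 hx).2.1⟩
  have ttE : t * t ∈ CI(S, V) := mE.2 ⟨mul_mem ht ht, h2, by simpa [mul_assoc] using cjc h2⟩
  have c1 : Commute (t * t) (t⁻¹ * y * t) := by simpa [mul_assoc] using cjc (yS _ ttE)
  have c2 : Commute (t * t * (t⁻¹ * y * t)) y := yS _ (mul_mem ttE (nE y yE))
  have e3 : (t * y) ^ 2 ^ (j + 1) = t ^ 2 ^ (j + 1) * (t⁻¹ * v * t) * v := by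
    rw [pow_succ' 2, pow_mul, pow_mul, show (t * y) ^ 2 = t * t * (t⁻¹ * y * t) * y by rw [pow_two]; group, c2.mul_pow,
      c1.mul_pow, yv, pow_two, ← yv]
    congr 2
    simpa only [inv_inv] using conj_pow (i := 2 ^ j) (a := t⁻¹) (b := y)
  have e4 : t ^ 2 ^ (j + 1) ∈ CI(S, V) := by rw [pow_succ', pow_mul, pow_two]; exact pow_mem ttE _
  have a1 := ih (t * y) (mul_mem ht yE.1) _ _ hE (e3 ▸ mul_mem (mul_mem e4 v'E) vE)
  have a2 := ih t ht _ _ hE e4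
  rw [e3, hE.mul (mul_mem e4 v'E) vE, hE.mul e4 v'E] at a1
  have a3 : ψ v ∈ CC(S) := ψv ▸ pow_mem hzc _
  have a4 : ψ (t⁻¹ * v * t) ∈ CC(S) := (mul_mem_cancel_left a2).1 ((mul_mem_cancel_right a3).1 a1)
  let H : Subgroup Ω := (CC(S).comap hE.homOn.toHom).map CI(S, V).subtype
  have hH : V ≤ H := cV H ⟨⟨_, vE⟩, a3, rfl⟩ ⟨⟨_, v'E⟩, a4, rfl⟩
  have a5 : im V ψ ≤ CC(S) := im_le.2 fun x hx => by
    obtain ⟨w, h1, rfl⟩ := hH hx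
    exact h1
  have a6 : CI(S, im V ψ) = S := inf_eq_left.2 (le_centralizer_iff.1 a5)
  have a7 : CI(S, V) = S := eq_of_le_of_card_ge inf_le_left (by rw [← hE.card_im, hi, a6])
  exact (mE.1 (a7.symm ▸ ht)).2.1

theorem camf_step (hF : Sat F 2) (h : ∀ x ∈ S, ∃ z ∈ S ⊓ CC(S), F.IsConjElt x z) {j : ℕ}
    (ih : ∀ s ∈ S, ∀ P f, Mor F P f → s ^ 2 ^ (j + 1) ∈ P → f (s ^ 2 ^ (j + 1)) ∈ CC(S)) :
    ∀ s ∈ S, ∀ P f, Mor F P f → s ^ 2 ^ j ∈ P → f (s ^ 2 ^ j) ∈ CC(S) := by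
  intro s hs P f hf hP
  by_contra c
  obtain ⟨z, hz, hc⟩ := h s hs
  obtain ⟨g, hg, gs⟩ := conjElt_iff.1 hc
  set v := f (s ^ 2 ^ j) with hvd
  have hv : v ∈ S := hf.mem hP
  obtain ⟨t, ht, h2, h3, h4⟩ := camf_t hF.pg hv c
  have e2 : t⁻¹ * (t⁻¹ * v * t) * t = v := by
    calc t⁻¹ * (t⁻¹ * v * t) * t = (t * t)⁻¹ * (v * (t * t)) := by group
      _ = v := by rw [← h2.eq]; group
  have e3 : t * v * t⁻¹ = t⁻¹ * v * t := by
    calc t * v * t⁻¹ = t⁻¹ * (t * t * v) * t⁻¹ := by group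
      _ = _ := by rw [h2.eq]; group
  set V := closure ({v, t⁻¹ * v * t} : Set Ω) with hV
  have vV : v ∈ V := subset_closure (by simp)
  have v'V : t⁻¹ * v * t ∈ V := subset_closure (by simp)
  have cV : ∀ H : Subgroup Ω, v ∈ H → t⁻¹ * v * t ∈ H → V ≤ H := fun H a b =>
    (closure_le H).2 (by rintro x (rfl | rfl); exacts [a, b])
  have VS : V ≤ S := cV S hv (mul_mem (mul_mem (inv_mem ht) hv) ht)
  have tN : t ∈ NI(S, V) := ⟨ht, mem_normalizer_iff.2 fun x => ⟨fun hx =>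
      cV (V.comap (MulAut.conj t).toMonoidHom) (show t * v * t⁻¹ ∈ V from e3 ▸ v'V)
        (show t * (t⁻¹ * v * t) * t⁻¹ ∈ V by simpa [mul_assoc] using vV) hx, fun hx => by
      have := cV (V.comap (MulAut.conj t⁻¹).toMonoidHom) (show t⁻¹ * v * t⁻¹⁻¹ ∈ V by rwa [inv_inv])
        (show t⁻¹ * (t⁻¹ * v * t) * t⁻¹⁻¹ ∈ V by rwa [inv_inv, e2]) hx
      simpa [mul_assoc] using this⟩⟩
  have VN : V ≤ NI(S, V) := le_inf VS le_normalizer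
  obtain ⟨φ, hφ, hn⟩ := hF.exists_fn_nmap VS
  have vN := VN vV
  have cj : φ (t⁻¹ * v * t) = (φ t)⁻¹ * φ v * φ t := by
    rw [hφ.mul (mul_mem (inv_mem tN) vN) tN, hφ.mul (inv_mem tN) vN, hφ.inv tN]
  have cm : ∀ {a b : Ω}, a ∈ NI(S, V) → b ∈ NI(S, V) → (Commute (φ a) (φ b) ↔ Commute a b) := fun {a b} ha hb =>
    ⟨fun e => hφ.inj (mul_mem ha hb) (mul_mem hb ha) (by rw [hφ.mul ha hb, hφ.mul hb ha, e.eq]),
      fun e => by rw [Commute, SemiconjBy, ← hφ.mul ha hb, ← hφ.mul hb ha, e.eq]⟩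
  have k1 : Mor F (zpowers (s ^ 2 ^ j)) (fun x => φ (f x)) := (hf.restrict (zpowers_le.2 hP)).comp hφ fun x ⟨n, hn⟩ => by
    rw [← hn]; dsimp only; rw [hf.zpow hP]; exact zpow_mem vN _
  obtain ⟨β, hβ, eβ⟩ := k1.symm
  have k2 : zpowers (φ v) ≤ im (zpowers (s ^ 2 ^ j)) (fun x => φ (f x)) :=
    zpowers_le.2 (mem_im_of_mem (fun x => φ (f x)) (mem_zpowers _))
  have βv : β (φ v) = s ^ 2 ^ j := eβ _ (mem_zpowers _)
  have k3 := (hβ.restrict k2).comp hg fun x ⟨n, hn⟩ => by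
    rw [← hn]; dsimp only; rw [hβ.zpow (k2 (mem_zpowers _)), βv]; exact zpow_mem (pow_mem (mem_zpowers s) _) _
  refine h4 ((cm tN vN).1 (camf_core hF ih hz.1 hz.2 (hφ.mem tN) k3 (by rw [βv, hg.pow (mem_zpowers s), gs])
    (hF.fc hn) ?_ ?_ (mem_im_of_mem φ vV) (fun H a b => im_le.2 fun x hx => ?_) (cj ▸ mem_im_of_mem φ v'V)))
  · rw [← hφ.mul tN tN]; exact (cm (mul_mem tN tN) vN).2 h2
  · rw [← cj]; exact (cm (VN v'V) vN).2 h3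
  · obtain ⟨w, h1, rfl⟩ := cV ((H.comap hφ.homOn.toHom).map NI(S, V).subtype) ⟨⟨_, vN⟩, a, rfl⟩
      ⟨⟨_, VN v'V⟩, show φ (t⁻¹ * v * t) ∈ H from cj ▸ b, rfl⟩ hx
    exact h1

theorem camina_herzog_fus (hF : Sat F 2) (h : ∀ x ∈ S, ∃ z ∈ S ⊓ CC(S), F.IsConjElt x z) : IsMulCommutative S := by
  have key : ∀ j : ℕ, ∀ s ∈ S, ∀ P f, Mor F P f → s ^ 2 ^ j ∈ P → f (s ^ 2 ^ j) ∈ CC(S) := fun j => by
    refine Nat.decreasingInduction (motive := fun j _ => ∀ s ∈ S, ∀ P f, Mor F P f → s ^ 2 ^ j ∈ P →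
      f (s ^ 2 ^ j) ∈ CC(S)) (fun k _ ih => camf_step hF h ih) ?_ (Nat.le_add_right j (Nat.card S))
    intro s hs P f hf _
    obtain ⟨k, hk⟩ := IsPGroup.iff_orderOf.1 hF.pg ⟨s, hs⟩
    have h1 : k ≤ Nat.card S := (Nat.lt_two_pow_self.le.trans hk.ge).trans (orderOf_le_card)
    rw [← orderOf_coe] at hk
    rw [orderOf_dvd_iff_pow_eq_one.1 (hk ▸ pow_dvd_pow 2 (by omega)), hf.one]
    exact one_mem _
  refine ⟨⟨fun a b => Subtype.ext ?_⟩⟩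
  have := key 0 b b.2 S _ (mor_id F le_rfl) (by simp) a a.2
  simpa using this

end CfsgH4
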