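import Cfsg.Agent.H4.Sub2

/-! Averages of contributions over the generators of a cyclic group. -/

set_option autoImplicit false

open MonoidAlgebra Subgroup CfsgH2 Function Cfsg CfsgH3 Polynomial
open scoped ComplexConjugate IntermediateField

namespace CfsgH4

section IE
variable {N : ℕ} {f y : ℕ → ℂ} {x : ℂ}

/-- Residues prime to `N`. -/
def JJ (N : ℕ) : Finset ℕ := (Finset.range N).filter (N.Coprime ·)

theorem mem_JJ {j : ℕ} : j ∈ JJ N ↔ j < N ∧ N.Coprime j := by simp [JJ]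

theorem card_JJ {p : ℕ} (hp : p.Prime) (k : ℕ) : (JJ (p ^ (k + 1))).card = p ^ k * (p - 1) :=
  Nat.totient_prime_pow_succ hp k

theorem coprime_iff {p : ℕ} (hp : p.Prime) {k j : ℕ} : (p ^ (k + 1)).Coprime j ↔ ¬ p ∣ j := by
  rw [Nat.coprime_pow_left_iff k.succ_pos, hp.coprime_iff_not_dvd]

theorem one_mem_JJ {p : ℕ} (hp : p.Prime) (k : ℕ) : 1 ∈ JJ (p ^ (k + 1)) :=
  mem_JJ.2 ⟨Nat.one_lt_pow k.succ_ne_zero hp.one_lt, Nat.coprime_one_right _⟩

open Classical in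
theorem geom_root (h : x ^ N = 1) : ∑ j ∈ Finset.range N, x ^ j = if x = 1 then (N : ℂ) else 0 := by
  split_ifs with e
  · simp [e]
  · have := mul_geom_sum x N
    rw [h, sub_self, mul_eq_zero, sub_eq_zero] at this
    exact this.resolve_left e

theorem conj_root (hN : N ≠ 0) (h : x ^ N = 1) : conj x = x⁻¹ :=
  (Complex.inv_eq_conj (Complex.norm_eq_one_of_pow_eq_one h hN)).symm

theorem inv_root (hN : N ≠ 0) (h : x ^ N = 1) : x⁻¹ = x ^ (N - 1) :=
  inv_eq_of_mul_eq_one_left (by rw [← pow_succ, Nat.sub_add_cancel (Nat.pos_of_ne_zero hN), h])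

/-- A primitive `N`-th root of unity. -/
noncomputable def zt (N : ℕ) : ℂ := Complex.exp (2 * Real.pi * Complex.I / N)

theorem zt_prim (hN : N ≠ 0) : IsPrimitiveRoot (zt N) N := Complex.isPrimitiveRoot_exp N hN

/-- Integral combinations of the functions `j ↦ x ^ j`, `x ^ N = 1`, on residues prime to `N`. -/
def IE (N : ℕ) : Subring (ℕ → ℂ) where
  carrier := {f | ∃ g : ℤ[X], ∀ j, N.Coprime j → f j = aeval (zt N ^ j) g}
  mul_mem' := by
    rintro _ _ ⟨g, hg⟩ ⟨g', hg'⟩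
    exact ⟨g * g', fun j hj => by rw [Pi.mul_apply, hg j hj, hg' j hj, map_mul]⟩
  one_mem' := ⟨1, fun j _ => by simp⟩
  add_mem' := by
    rintro _ _ ⟨g, hg⟩ ⟨g', hg'⟩
    exact ⟨g + g', fun j hj => by rw [Pi.add_apply, hg j hj, hg' j hj, map_add]⟩
  zero_mem' := ⟨0, fun j _ => by simp⟩
  neg_mem' := by
    rintro _ ⟨g, hg⟩
    exact ⟨-g, fun j hj => by rw [Pi.neg_apply, hg j hj, map_neg]⟩

theorem IE_congr (hf : f ∈ IE N) (h : ∀ j, N.Coprime j → y j = f j) : y ∈ IE N :=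
  let ⟨g, hg⟩ := hf; ⟨g, fun j hj => (h j hj).trans (hg j hj)⟩

theorem IE_pow (hN : N ≠ 0) (h : x ^ N = 1) : (fun j => x ^ j) ∈ IE N := by
  have : NeZero N := ⟨hN⟩
  obtain ⟨i, -, rfl⟩ := (zt_prim hN).eq_pow_of_pow_eq_one h
  exact ⟨X ^ i, fun j _ => by simp [← pow_mul, mul_comm]⟩

theorem IE_int (n : ℤ) : (fun _ => (n : ℂ)) ∈ IE N := intCast_mem (IE N) n

theorem IE_sum {ι : Type*} (s : Finset ι) {F : ι → ℕ → ℂ} (h : ∀ i ∈ s, F i ∈ IE N) :
    (fun j => ∑ i ∈ s, F i j) ∈ IE N :=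
  IE_congr (sum_mem h) fun j _ => by rw [Finset.sum_apply]

theorem map_aeval_int (σ : ℂ →+* ℂ) (x : ℂ) (g : ℤ[X]) : σ (aeval x g) = aeval (σ x) g :=
  (aeval_algHom_apply σ.toIntAlgHom x g).symm

theorem IE_isIntegral (hN : N ≠ 0) (hf : f ∈ IE N) {j : ℕ} (hj : N.Coprime j) :
    IsIntegral ℤ (f j) := by
  obtain ⟨g, hg⟩ := hf
  rw [hg j hj]
  exact IsIntegral.of_mem_of_fg _ ((isIntegral_of_pow_eq_one hN
    (zt_prim hN).pow_eq_one).pow j).fg_adjoin_singleton _ (aeval_mem_adjoin_singleton _ _)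

theorem IE_card_le (hN : N ≠ 0) (hf : f ∈ IE N) (h0 : ∀ j ∈ JJ N, f j ≠ 0) :
    ((JJ N).card : ℝ) ≤ ∑ j ∈ JJ N, ‖f j‖ := by
  classical
  refine (amgm _ _ (fun _ _ => norm_nonneg _) (one_le_prod_norm _ _
    (fun j hj => IE_isIntegral hN hf (mem_JJ.1 hj).2) h0 fun σ => ?_)).1
  obtain ⟨g, hg⟩ := hf
  obtain ⟨k, hk, h⟩ := exists_pow_of_ringHom σ.toRingHom hN
  have m : ∀ j ∈ JJ N, k * j % N ∈ JJ N := fun j hj => mem_JJ.2 ⟨Nat.mod_lt _ (Nat.pos_of_ne_zero hN),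
    ((ZMod.coprime_mod_iff_coprime _ _).2 (Nat.Coprime.mul_left hk (mem_JJ.1 hj).2.symm)).symm⟩
  have inj : Set.InjOn (fun j => k * j % N) (JJ N) := fun a ha b hb e =>
    Nat.ModEq.eq_of_lt_of_lt (Nat.ModEq.cancel_left_of_coprime hk.symm e) (mem_JJ.1 ha).1
      (mem_JJ.1 hb).1
  have im : (JJ N).image (fun j => k * j % N) = JJ N := Finset.eq_of_subset_of_card_le
    (Finset.image_subset_iff.2 m) (Finset.card_image_of_injOn inj).ge
  rw [map_prod]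
  conv_rhs => rw [← im, Finset.prod_image inj]
  refine Finset.prod_congr rfl fun j hj => ?_
  rw [hg j (mem_JJ.1 hj).2, hg _ (mem_JJ.1 (m j hj)).2, ← pow_eq_pow_mod _ (zt_prim hN).pow_eq_one,
    pow_mul, ← h _ (zt_prim hN).pow_eq_one, ← map_pow]
  exact map_aeval_int σ.toRingHom _ _

theorem IE_div {p k : ℕ} [hp : Fact p.Prime] (hf : f ∈ IE (p ^ k)) {n : ℕ} (hn : n ≠ 0)
    (hy : ∀ j, (p ^ k).Coprime j → n * y j = f j) (hi : IsIntegral ℤ (y 1)) : y ∈ IE (p ^ k) := by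
  have hN : p ^ k ≠ 0 := pow_ne_zero _ hp.out.ne_zero
  have : NeZero (p ^ k) := ⟨hN⟩
  have hζ := zt_prim hN
  have hζi := hζ.isIntegral (Nat.pos_of_ne_zero hN)
  have hn' : (n : ℂ) ≠ 0 := Nat.cast_ne_zero.2 hn
  obtain ⟨g, hg⟩ := hf
  have : IsCyclotomicExtension {p ^ k} ℚ ℚ⟮zt (p ^ k)⟯ := by
    change IsCyclotomicExtension {p ^ k} ℚ (ℚ⟮zt (p ^ k)⟯).toSubalgebra
    rw [IntermediateField.adjoin_simple_toSubalgebra_of_isAlgebraic
      (hζi.tower_top (A := ℚ)).isAlgebraic]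
    exact hζ.adjoin_isCyclotomicExtension ℚ
  have h1 : n * y 1 = aeval (zt (p ^ k)) g := by
    rw [hy 1 (Nat.coprime_one_right _), hg 1 (Nat.coprime_one_right _), pow_one]
  have v : ∀ g : ℤ[X], ((aeval (IntermediateField.AdjoinSimple.gen ℚ (zt (p ^ k))) g :
      ℚ⟮zt (p ^ k)⟯) : ℂ) = aeval (zt (p ^ k)) g := fun g =>
    (aeval_algHom_apply (algebraMap ℚ⟮zt (p ^ k)⟯ ℂ).toIntAlgHom _ g).symm
  have hm : y 1 ∈ ℚ⟮zt (p ^ k)⟯ := by
    rw [← eq_inv_mul_iff_mul_eq₀ hn', ← v] at h1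
    rw [h1]
    exact mul_mem (inv_mem (natCast_mem _ n)) (SetLike.coe_mem _)
  obtain ⟨⟨_, u, hu⟩, e⟩ : ∃ u : (aeval (R := ℤ) (IntermediateField.AdjoinSimple.gen ℚ
      (zt (p ^ k)))).range, u.1 = ⟨y 1, hm⟩ := by
    rw [← Algebra.adjoin_singleton_eq_range_aeval]
    exact (IsCyclotomicExtension.Rat.isIntegralClosure_adjoin_singleton_of_prime_pow
      (IsPrimitiveRoot.coe_submonoidClass_iff.mp hζ)).isIntegral_iff.1
      ((isIntegral_algHom_iff (algebraMap ℚ⟮zt (p ^ k)⟯ ℂ).toIntAlgHom Subtype.val_injective).1 hi)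
  have e1 : aeval (zt (p ^ k)) u = y 1 := by
    rw [← v]; exact congrArg Subtype.val (hu.trans e)
  obtain ⟨r, hr⟩ := minpoly.isIntegrallyClosed_dvd hζi (p := C (n : ℤ) * u - g)
    (by rw [map_sub, map_mul, e1, ← h1]; simp)
  refine ⟨u, fun j hj => mul_left_cancel₀ hn' ?_⟩
  have := congrArg (aeval (zt (p ^ k) ^ j)) hr
  rw [map_mul, hζ.minpoly_eq_pow_coprime hj.symm, minpoly.aeval, zero_mul, map_sub, map_mul,
    sub_eq_zero] at this
  rw [hy j hj, hg j hj, ← this]; simp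

theorem sum_JJ_two {k : ℕ} (h : x ^ 2 ^ (k + 1) = 1) :
    ∃ A : ℤ, ∑ j ∈ JJ (2 ^ (k + 1)), x ^ j = 2 ^ k * A := by
  classical
  have h' : (-x) ^ 2 ^ (k + 1) = 1 := by rw [Even.neg_pow (by simp [pow_succ]), h]
  have e : 2 * ∑ j ∈ JJ (2 ^ (k + 1)), x ^ j = ∑ j ∈ Finset.range (2 ^ (k + 1)), x ^ j -
      ∑ j ∈ Finset.range (2 ^ (k + 1)), (-x) ^ j := by
    rw [JJ, Finset.sum_filter, Finset.mul_sum, ← Finset.sum_sub_distrib]
    refine Finset.sum_congr rfl fun j _ => ?_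
    simp only [coprime_iff Nat.prime_two, ite_not]
    split_ifs with c
    · rw [Even.neg_pow (even_iff_two_dvd.2 c)]; ring
    · rw [Odd.neg_pow (Nat.not_even_iff_odd.1 (mt even_iff_two_dvd.1 c))]; ring
  rw [geom_root h, geom_root h'] at e
  refine ⟨(if x = 1 then 1 else 0) - if -x = 1 then 1 else 0, mul_left_cancel₀ two_ne_zero ?_⟩
  rw [e]; split_ifs <;> push_cast <;> ring

theorem IE_avg_two {k : ℕ} (hf : f ∈ IE (2 ^ (k + 1))) :
    ∃ A : ℤ, ∑ j ∈ JJ (2 ^ (k + 1)), f j = 2 ^ k * A := by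
  obtain ⟨g, hg⟩ := hf
  have hζ := (zt_prim (N := 2 ^ (k + 1)) (by positivity)).pow_eq_one
  choose A hA using fun i => sum_JJ_two (x := zt (2 ^ (k + 1)) ^ i) (k := k)
    (by rw [← pow_mul, mul_comm, pow_mul, hζ, one_pow])
  refine ⟨∑ i ∈ Finset.range (g.natDegree + 1), g.coeff i * A i, ?_⟩
  rw [Finset.sum_congr rfl fun j hj => (hg j (mem_JJ.1 hj).2).trans (aeval_eq_sum_range _),
    Finset.sum_comm]
  push_cast
  rw [Finset.mul_sum]
  refine Finset.sum_congr rfl fun i _ => ?_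
  rw [mul_left_comm, ← hA, Finset.mul_sum]
  exact Finset.sum_congr rfl fun j _ => by rw [← pow_mul, ← pow_mul, mul_comm i, zsmul_eq_mul]

theorem IE_real_two {M : Ideal AlgInt} [M.IsMaximal] [CharP (Res M) 2] {k : ℕ}
    (hf : f ∈ IE (2 ^ (k + 1))) (hr : ∀ j ∈ JJ (2 ^ (k + 1)), conj (f j) = f j) :
    ∃ A : ℤ, ∑ j ∈ JJ (2 ^ (k + 1)), f j = 2 ^ k * A ∧ red M (f 1) = A := by
  classical
  have hN : 2 ^ (k + 1) ≠ 0 := by positivity
  have hζ := zt_prim hN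
  set ζ := zt (2 ^ (k + 1))
  have h0 : ζ ≠ 0 := hζ.ne_zero hN
  have hn : ζ ^ 2 ^ k = -1 := (hζ.pow (by positivity) (by rw [pow_succ])).eq_neg_one_of_two_right
  have odd : ∀ j ∈ JJ (2 ^ (k + 1)), Odd j := fun j hj => Nat.not_even_iff_odd.1
    (mt even_iff_two_dvd.1 ((coprime_iff Nat.prime_two).1 (mem_JJ.1 hj).2))
  choose A hA using fun i => IE_avg_two (mul_mem hf (IE_pow (x := ζ⁻¹ ^ i) hN
    (by rw [← pow_mul, mul_comm, pow_mul, hζ.inv.pow_eq_one, one_pow])))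
  simp only [Pi.mul_apply] at hA
  have c2 : (2 : ℂ) ^ k ≠ 0 := pow_ne_zero _ two_ne_zero
  have e1 : f 1 = ∑ i ∈ Finset.range (2 ^ k), A i * ζ ^ i := by
    refine mul_left_cancel₀ c2 ?_
    rw [Finset.mul_sum]
    simp only [← mul_assoc, ← hA, Finset.sum_mul]
    rw [Finset.sum_comm, Finset.sum_eq_single_of_mem 1 (one_mem_JJ Nat.prime_two k)]
    · simp [h0]
    · intro j hj h1
      have : ∀ i, f j * (ζ⁻¹ ^ i) ^ j * ζ ^ i = f j * (ζ⁻¹ ^ j * ζ) ^ i := fun i => by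
        rw [mul_pow, ← pow_mul, ← pow_mul, mul_comm i, mul_assoc]
      simp only [this]
      rw [← Finset.mul_sum, geom_root, if_neg, mul_zero]
      · intro e
        rw [inv_pow, inv_mul_eq_one₀ (pow_ne_zero _ h0)] at e
        exact h1 (hζ.pow_inj (mem_JJ.1 hj).1 (mem_JJ.1 (one_mem_JJ Nat.prime_two k)).1
          (by rw [e, pow_one]))
      · rw [mul_pow, ← pow_mul, mul_comm j, pow_mul, inv_pow, hn, inv_neg, inv_one,
          (odd j hj).neg_one_pow]; simp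
  have e2 : ∀ i ≤ 2 ^ k, A (2 ^ k - i) = -A i := fun i hi => by
    refine Int.cast_injective (α := ℂ) (mul_left_cancel₀ c2 ?_)
    have := congrArg conj (hA i)
    rw [map_mul, map_intCast, map_pow, map_ofNat, map_sum] at this
    rw [← hA, Int.cast_neg, mul_neg, ← this, ← Finset.sum_neg_distrib]
    refine Finset.sum_congr rfl fun j hj => ?_
    rw [map_mul, hr j hj, map_pow, map_pow, map_inv₀, conj_root hN hζ.pow_eq_one, inv_inv,
      pow_sub₀ _ (inv_ne_zero h0) hi, inv_pow, hn, inv_pow, inv_inv, inv_neg, inv_one, mul_pow,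
      (odd j hj).neg_one_pow]; ring
  have e3 : ∑ i ∈ Finset.range (2 ^ k), A i = A 0 := by
    have := Finset.sum_range_reflect A (2 ^ k + 1)
    rw [Nat.add_sub_cancel, Finset.sum_congr rfl fun i hi => e2 i
      (Nat.le_of_lt_succ (Finset.mem_range.1 hi)), Finset.sum_neg_distrib,
      Finset.sum_range_succ] at this
    have := e2 0 (Nat.zero_le _)
    rw [Nat.sub_zero] at this
    omega
  have hi : ζ ∈ Loc M := mem_Loc_of_isIntegral M (hζ.isIntegral (Nat.pos_of_ne_zero hN))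
  refine ⟨A 0, by simpa using hA 0, ?_⟩
  rw [e1, red_sum _ _ fun i _ => mul_mem (intCast_mem _ _) (pow_mem hi _), ← e3, Int.cast_sum]
  refine Finset.sum_congr rfl fun i _ => ?_
  rw [red_mul (intCast_mem _ _) (pow_mem hi _), red_pow hi, red_intCast,
    red_eq_one_of_pow_eq_one (p := 2) hζ.pow_eq_one, one_pow, mul_one]

end IE

section avg
variable {V : Type*} [AddCommGroup V] [Module ℂ V] (B : V →ₗ[ℂ] V →ₗ[ℂ] ℂ) (Λ : AddSubgroup V)
  {c : ℝ} {ι : Type*} {N : ℕ}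

theorem two_mul_le_parseval (hc : 0 ≤ c) (hΛ : ∀ v ∈ Λ, v ≠ 0 → c ≤ (B v v).re) (hN : N ≠ 0)
    (s : Finset ι) (w : ι → ℂ) (hw : ∀ i ∈ s, w i ^ N = 1) (a : ι → V) (ha : ∀ i ∈ s, a i ∈ Λ)
    (h1 : ∑ i ∈ s, a i = 0) {j₀ : ℕ} (h0 : ∑ i ∈ s, w i ^ j₀ • a i ≠ 0) :
    2 * c * N ≤ ∑ j ∈ Finset.range N,
      (B (∑ i ∈ s, w i ^ j • a i) (∑ i ∈ s, (w i)⁻¹ ^ j • a i)).re := by
  classical
  set R := s.image w
  set A : ℂ → V := fun x => ∑ i ∈ s with w i = x, a i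
  have hR : ∀ x ∈ R, x ^ N = 1 := fun x hx => by
    obtain ⟨i, hi, rfl⟩ := Finset.mem_image.1 hx; exact hw i hi
  have e : ∀ F : ℂ → ℂ, ∑ i ∈ s, F (w i) • a i = ∑ x ∈ R, F x • A x := fun F => by
    rw [← Finset.sum_fiberwise_of_maps_to (g := w) (t := R) fun i hi => Finset.mem_image_of_mem _ hi]
    refine Finset.sum_congr rfl fun x _ => ?_
    rw [Finset.smul_sum]
    exact Finset.sum_congr rfl fun i hi => by rw [(Finset.mem_filter.1 hi).2]
  have P : ∑ j ∈ Finset.range N, B (∑ i ∈ s, w i ^ j • a i) (∑ i ∈ s, (w i)⁻¹ ^ j • a i) =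
      N * ∑ x ∈ R, B (A x) (A x) := by
    rw [Finset.sum_congr rfl fun j _ => congrArg₂ (B · ·) (e (· ^ j)) (e (·⁻¹ ^ j))]
    simp only [map_sum, map_smul, LinearMap.sum_apply, LinearMap.smul_apply,
      smul_eq_mul, Finset.mul_sum]
    rw [Finset.sum_comm]
    refine Finset.sum_congr rfl fun x hx => ?_
    have x0 : x ≠ 0 := fun h => by simpa [h, hN] using hR x hx
    rw [Finset.sum_comm, Finset.sum_eq_single_of_mem x hx]
    · simp [x0]
    · intro y hy hxy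
      simp only [← mul_assoc, ← mul_pow]
      rw [← Finset.sum_mul, geom_root (by rw [mul_pow, inv_pow, hR x hx, hR y hy]; simp), if_neg,
        zero_mul]
      rw [inv_mul_eq_one₀ x0]; exact hxy.symm
  have hA : ∀ x, A x ∈ Λ := fun x => sum_mem fun i hi => ha i (Finset.mem_filter.1 hi).1
  have nn : ∀ x, 0 ≤ (B (A x) (A x)).re := fun x => by
    by_cases h : A x = 0
    · simp [h]
    · exact hc.trans (hΛ _ (hA x) h)
  rw [e (· ^ j₀)] at h0
  obtain ⟨x, hx, x0⟩ := Finset.exists_ne_zero_of_sum_ne_zero h0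
  have x1 : A x ≠ 0 := fun h => x0 (by rw [h, smul_zero])
  have h2 := e fun _ => 1
  simp only [one_smul] at h2
  rw [h1, ← Finset.add_sum_erase _ _ hx] at h2
  obtain ⟨y, hy, y1⟩ := Finset.exists_ne_zero_of_sum_ne_zero
    (s := R.erase x) (f := A) fun h => x1 (by rw [h, add_zero] at h2; exact h2.symm)
  rw [← Complex.re_sum, P, ← Complex.ofReal_natCast, Complex.re_ofReal_mul, Complex.re_sum, ← Finset.add_sum_erase _ _ hx,
    mul_comm]
  refine mul_le_mul_of_nonneg_left ?_ (Nat.cast_nonneg _)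
  have := Finset.single_le_sum (f := fun x => (B (A x) (A x)).re) (fun x _ => nn x) hy
  linarith [hΛ _ (hA x) x1, hΛ _ (hA y) y1]

/-- Brauer's averaging argument. -/
theorem brauer_avg (hc : 0 ≤ c) (hΛ : ∀ v ∈ Λ, v ≠ 0 → c ≤ (B v v).re) {p k : ℕ} (hp : p.Prime)
    (s : Finset ι) (w : ι → ℂ) (hw : ∀ i ∈ s, w i ^ p ^ (k + 1) = 1) (a : ι → V)
    (ha : ∀ i ∈ s, a i ∈ Λ) {j₀ : ℕ} (hj : ¬ p ∣ j₀) (h0 : ∑ i ∈ s, w i ^ j₀ • a i ≠ 0) :
    c * (JJ (p ^ (k + 1))).card ≤ ∑ j ∈ JJ (p ^ (k + 1)),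
      (B (∑ i ∈ s, w i ^ j • a i) (∑ i ∈ s, (w i)⁻¹ ^ j • a i)).re := by
  classical
  have hε := zt_prim hp.ne_zero
  set ε := zt p
  set D : ℕ → V := fun j => ∑ i ∈ s, w i ^ j • a i
  set D' : ℕ → V := fun j => ∑ i ∈ s, (w i)⁻¹ ^ j • a i
  have key : ∀ t ∈ (Finset.range p).erase 0, 2 * c * (p ^ (k + 1) : ℕ) ≤
      ∑ j ∈ Finset.range (p ^ (k + 1)),
        ((1 - (ε ^ j) ^ t) * (1 - (ε⁻¹ ^ j) ^ t) * B (D j) (D' j)).re := fun t ht => by
    have e : ∀ (θ : ℂ) (u : ι → ℂ) j, ∑ i ∈ s.disjSum s, Sum.elim u (fun i => θ ^ t * u i) i ^ j •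
        Sum.elim a (-a) i = (1 - (θ ^ j) ^ t) • ∑ i ∈ s, u i ^ j • a i := fun θ u j => by
      rw [sub_smul, one_smul, sub_eq_add_neg]
      simp only [Finset.sum_disjSum, Sum.elim_inl, Sum.elim_inr,
        Finset.smul_sum, Pi.neg_apply, smul_neg, Finset.sum_neg_distrib, mul_pow, ← pow_mul,
        mul_comm t, mul_smul]
    have e' : ∀ i, (Sum.elim w (fun i => ε ^ t * w i) i)⁻¹ =
        Sum.elim (fun i => (w i)⁻¹) (fun i => ε⁻¹ ^ t * (w i)⁻¹) i := by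
      rintro (i | i) <;> simp [mul_comm]
    have := two_mul_le_parseval B Λ hc hΛ (pow_ne_zero (k + 1) hp.ne_zero) (s.disjSum s)
      (Sum.elim w fun i => ε ^ t * w i) ?_ (Sum.elim a (-a)) ?_ (by simp [Finset.sum_disjSum])
      (j₀ := j₀) ?_
    · simp only [e', e, map_smul, LinearMap.smul_apply, smul_eq_mul] at this
      convert this using 3; ring
    · rintro (i | i) hi
      · exact hw i (by simpa using hi)
      · rw [Sum.elim_inr, mul_pow, hw i (by simpa using hi), ← pow_mul, pow_succ', mul_left_comm,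
          pow_mul, hε.pow_eq_one, one_pow, one_mul]
    · rintro (i | i) hi
      · exact ha i (by simpa using hi)
      · exact neg_mem (ha i (by simpa using hi))
    · rw [e]
      refine smul_ne_zero (sub_ne_zero.2 fun h => ?_) h0
      rw [← pow_mul, eq_comm, hε.pow_eq_one_iff_dvd, hp.dvd_mul] at h
      have := Finset.mem_erase.1 ht
      exact h.elim hj fun h => this.1 (Nat.eq_zero_of_dvd_of_lt h (Finset.mem_range.1 this.2))
  have h1 := Finset.card_nsmul_le_sum _ _ _ key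
  rw [Finset.card_erase_of_mem (Finset.mem_range.2 hp.pos), Finset.card_range,
    Finset.sum_erase _ (by simp), Finset.sum_comm] at h1
  have h2 : ∀ j, ∑ t ∈ Finset.range p, ((1 - (ε ^ j) ^ t) * (1 - (ε⁻¹ ^ j) ^ t) *
      B (D j) (D' j)).re = 2 * p * if (p ^ (k + 1)).Coprime j then (B (D j) (D' j)).re else 0 := by
    intro j
    have ε0 : ε ≠ 0 := hε.ne_zero hp.ne_zero
    have : ∀ t, (1 - (ε ^ j) ^ t) * (1 - (ε⁻¹ ^ j) ^ t) = 2 - (ε ^ j) ^ t - (ε⁻¹ ^ j) ^ t := by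
      intro t
      have : (ε ^ j) ^ t * (ε⁻¹ ^ j) ^ t = 1 := by rw [← mul_pow, ← mul_pow]; simp [ε0]
      linear_combination this
    rw [← Complex.re_sum, ← Finset.sum_mul]
    simp only [this, Finset.sum_sub_distrib]
    rw [geom_root (by rw [← pow_mul, mul_comm, pow_mul, hε.pow_eq_one, one_pow]),
      geom_root (by rw [← pow_mul, mul_comm, pow_mul, hε.inv.pow_eq_one, one_pow])]
    simp only [hε.pow_eq_one_iff_dvd, hε.inv.pow_eq_one_iff_dvd, coprime_iff hp]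
    by_cases h : p ∣ j
    · simp [h]; left; ring
    · simp [h]; left; ring
  simp only [h2] at h1
  rw [← Finset.mul_sum, ← Finset.sum_filter] at h1
  rw [card_JJ hp]
  refine le_of_mul_le_mul_left (a := 2 * (p : ℝ)) (le_trans (le_of_eq ?_) h1)
    (by have := hp.pos; positivity)
  rw [nsmul_eq_mul]; push_cast; ring

end avg

end CfsgH4
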