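import Cfsg.Agent.H4.Contr

/-! Bounds for `k(B)` from contributions of a subsection. -/

set_option autoImplicit false

open MonoidAlgebra Subgroup CfsgH2 Function Cfsg CfsgH3
open scoped ComplexConjugate

namespace CfsgH4

theorem IE_lin {N : ℕ} (hN : N ≠ 0) {ι : Type*} (s : Finset ι) {w : ι → ℂ}
    (hw : ∀ i ∈ s, w i ^ N = 1) {c : ι → ℕ → ℂ} (hc : ∀ i ∈ s, c i ∈ IE N) :
    (fun j => ∑ i ∈ s, w i ^ j * c i j) ∈ IE N :=
  IE_sum s fun i hi => mul_mem (IE_pow hN (hw i hi)) (hc i hi)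

theorem sum_le_of_row {ι κ : Type*} (I : Finset ι) {S : Finset κ} (hS : S.Nonempty)
    (f : ι → κ → ℝ) (c : ι → ℝ) (g : κ → ℝ) {T : ℝ} (h1 : ∀ i ∈ I, c i * S.card ≤ ∑ w ∈ S, f i w)
    (h2 : ∀ w ∈ S, ∑ i ∈ I, f i w ≤ g w) (h3 : ∑ w ∈ S, g w ≤ T * S.card) : ∑ i ∈ I, c i ≤ T := by
  refine le_of_mul_le_mul_right ?_ (show (0 : ℝ) < S.card by exact_mod_cast hS.card_pos)
  rw [Finset.sum_mul]
  exact (Finset.sum_le_sum h1).trans (Finset.sum_comm.le.trans ((Finset.sum_le_sum h2).trans h3))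

theorem IE_card_le_sq {N : ℕ} {f : ℕ → ℂ} (hN : N ≠ 0) (hf : f ∈ IE N) (h0 : ∀ j ∈ JJ N, f j ≠ 0) :
    ((JJ N).card : ℝ) ≤ ∑ j ∈ JJ N, ‖f j‖ ^ 2 := by
  simpa [sq] using IE_card_le hN (mul_mem hf hf) fun j hj => mul_ne_zero (h0 j hj) (h0 j hj)

theorem IE_norm_two {M : Ideal AlgInt} [M.IsMaximal] [CharP (Res M) 2] {k : ℕ} {f : ℕ → ℂ}
    (hf : f ∈ IE (2 ^ (k + 1))) (hr : ∀ j ∈ JJ (2 ^ (k + 1)), f j = ‖f j‖) (h0 : f 1 ≠ 0) :
    ∃ A : ℕ, ∑ j ∈ JJ (2 ^ (k + 1)), ‖f j‖ = A * (JJ (2 ^ (k + 1))).card ∧ A ≠ 0 ∧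
      (red M (f 1) = 0 ↔ 2 ∣ A) := by
  obtain ⟨A, h1, h2⟩ := IE_real_two (M := M) hf fun j hj => by rw [hr j hj, Complex.conj_ofReal]
  have h3 : ∑ j ∈ JJ (2 ^ (k + 1)), ‖f j‖ = 2 ^ k * A := Complex.ofReal_injective (by
    push_cast; rw [← h1]; exact Finset.sum_congr rfl fun j hj => (hr j hj).symm)
  have h4 : 0 < ∑ j ∈ JJ (2 ^ (k + 1)), ‖f j‖ := Finset.sum_pos' (fun _ _ => norm_nonneg _)
    ⟨1, one_mem_JJ Nat.prime_two k, norm_pos_iff.2 h0⟩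
  rw [h3] at h4
  have h5 : 0 < A := by exact_mod_cast pos_of_mul_pos_right h4 (by positivity)
  lift A to ℕ using h5.le
  refine ⟨A, ?_, by omega, ?_⟩
  · rw [h3, card_JJ Nat.prime_two]; push_cast; ring
  · rw [h2, Int.cast_natCast, CharP.cast_eq_zero_iff (Res M) 2]

section lat
variable {C : Type*} [Group C] [Finite C] {p : ℕ} {b : Set (IrrCharacter C)} {u v θ : C → ℂ}

variable (p b) in
/-- The form `p ^ d ⟨θ, η⟩°`. -/
noncomputable def Bq : (C → ℂ) →ₗ[ℂ] (C → ℂ) →ₗ[ℂ] ℂ :=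
  LinearMap.mk₂ ℂ (fun θ η => (p : ℂ) ^ blockDefect p b * mR p θ η)
    (fun _ _ _ => by rw [mR_add_left, mul_add])
    (fun _ _ _ => by rw [mR_smul_left, smul_eq_mul, mul_left_comm])
    (fun _ _ _ => by rw [mR_add_right, mul_add])
    (fun _ _ _ => by rw [mR_smul_right, smul_eq_mul, mul_left_comm])

theorem Bq_apply (θ η : C → ℂ) : Bq p b θ η = (p : ℂ) ^ blockDefect p b * mR p θ η := rfl

theorem Bq_comm (θ η : C → ℂ) : Bq p b θ η = Bq p b η θ := by rw [Bq_apply, Bq_apply, mR_comm]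

theorem Bq_reg (θ η : C → ℂ) : Bq p b (regPart p θ) (regPart p η) = Bq p b θ η := by
  rw [Bq_apply, Bq_apply, mR_regPart, mR_comm, mR_regPart, mR_comm]

variable (p b) in
/-- The lattice spanned by the `p`-regular parts of the characters in `b`. -/
def Lat : AddSubgroup (C → ℂ) where
  carrier := {v | ∃ θ, IsGeneralizedCharacter C θ ∧ blockPart b θ = θ ∧ regPart p θ = v}
  add_mem' := by
    rintro _ _ ⟨θ, h1, h2, rfl⟩ ⟨η, h3, h4, rfl⟩
    exact ⟨θ + η, h1.add h3, ((bpL b).map_add θ η).trans (congrArg₂ _ h2 h4), regPart_add _ _⟩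
  zero_mem' := ⟨0, isGen_zero, bp_zero, (regL p).map_zero⟩
  neg_mem' := by
    rintro _ ⟨θ, h1, h2, rfl⟩
    exact ⟨-θ, h1.neg, ((bpL b).map_neg θ).trans (congrArg _ h2), (regL p).map_neg θ⟩

variable (p) in
/-- The component of `θ°` along `ξ°`. -/
noncomputable def aX [Fintype C] (θ : C → ℂ) (ξ : IrrCharacter C) : C → ℂ :=
  classInner θ ξ.1 • regPart p ξ.1

theorem aX_mem [Fintype C] (hθ : IsGeneralizedCharacter C θ) {ξ : IrrCharacter C}
    (hξ : ξ ∈ irrF b) : aX p θ ξ ∈ Lat p b := by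
  obtain ⟨n, hn⟩ := hθ.inner_int ξ.2.isGen
  rw [aX, hn, Int.cast_smul_eq_zsmul]
  exact zsmul_mem (show _ ∈ Lat p b from ⟨_, ξ.2.isGen, bp_irr_of_mem (mem_irrF.1 hξ), rfl⟩) n

variable [hp : Fact p.Prime]

theorem Lat_int (hu : u ∈ Lat p b) (hv : v ∈ Lat p b) : ∃ n : ℤ, Bq p b u v = n := by
  obtain ⟨θ, h1, -, rfl⟩ := hu
  obtain ⟨η, h3, h4, rfl⟩ := hv
  obtain ⟨n, hn⟩ := Subring.mem_bot.1 (pow_mul_mR_mem (p := p) (B := b) (LC.of_gen h1)
    (LC.of_gen h3))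
  exact ⟨n, by rw [Bq_reg, hn, h4, Bq_apply]⟩

theorem Lat_pos (hv : v ∈ Lat p b) (h0 : v ≠ 0) : ∃ n : ℕ, n ≠ 0 ∧ Bq p b v v = n := by
  have := Fintype.ofFinite C
  obtain ⟨n, hn⟩ := Lat_int hv hv
  obtain ⟨θ, h1, -, rfl⟩ := hv
  have e := hn
  rw [Bq_reg, Bq_apply, mR_self_re h1.apply_inv] at e
  have h2 : n ≠ 0 := fun h => h0 (CfsgH3.inner_self_eq_zero.1 (by
    simpa [h, hp.out.ne_zero] using e))
  have h3 : (0 : ℝ) ≤ n := by
    have := congrArg Complex.re e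
    rw [← Complex.ofReal_natCast, ← Complex.ofReal_pow, Complex.re_ofReal_mul,
      Complex.intCast_re] at this
    exact this ▸ mul_nonneg (by positivity) (CfsgH3.inner_self_re_nonneg _)
  lift n to ℕ using by exact_mod_cast h3
  exact ⟨n, by omega, hn⟩

variable {M : Ideal AlgInt} [hM : M.IsMaximal] [CharP (Res M) p]

theorem Lat_unit (hb : IsPBlock M b) (hu : u ∈ Lat p b) (hv : v ∈ Lat p b)
    (h1 : red M (Bq p b u u) ≠ 0) (h2 : red M (Bq p b v v) ≠ 0) : red M (Bq p b u v) ≠ 0 := by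
  obtain ⟨θ, a1, a2, rfl⟩ := hu
  obtain ⟨η, a3, a4, rfl⟩ := hv
  rw [Bq_reg, Bq_apply] at *
  nth_rw 2 [← a2] at h1
  nth_rw 2 [← a4] at h2
  rw [← a4]
  rw [red_pow_mul_mR_ne_zero_iff hb (.of_gen ‹_›) (.of_gen ‹_›)] at *
  exact ⟨h1.1, h2.1⟩

end lat

variable {G : Type*} [Group G] [Fintype G] {p : ℕ} [hp : Fact p.Prime] {H : Subgroup G} {z : H}
  {b : Set (IrrCharacter H)} {τ η : G → ℂ} {k j : ℕ}

omit [Fintype G] hp in
theorem SubEl.exists_pow (h : SubEl p H z) : ∃ k, z ^ p ^ (k + 1) = 1 := by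
  obtain ⟨k, hk⟩ := h.ord'
  exact ⟨k, by rw [pow_succ, pow_mul, ← hk, pow_orderOf_eq_one, one_pow]⟩

omit [Fintype G] in
theorem SubEl.pow_JJ [Finite G] (h : SubEl p H z) (hj : (p ^ (k + 1)).Coprime j) : SubEl p H (z ^ j) := by
  obtain ⟨l, hl⟩ := h.ord'
  refine h.of_zpowers (le_antisymm (zpowers_le.2 (npow_mem_zpowers z j))
    (zpowers_le.2 (mem_zpowers_pow_iff.2 ?_)))
  rw [hl]
  exact ((hp.out.coprime_iff_not_dvd.2 ((coprime_iff hp.out).1 hj)).symm.pow_right l)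

variable (p b z) in
/-- The contributions `p ^ n ⟨τ, η⟩^{(z ^ j, b)}`. -/
noncomputable def mJ (n : ℕ) (τ η : G → ℂ) (j : ℕ) : ℂ :=
  (p : ℂ) ^ n * classInner (cmp p H b (z ^ j) τ) η

omit hp in
theorem mJ_add (m n : ℕ) (τ η : G → ℂ) (j : ℕ) :
    mJ p z b (m + n) τ η j = (p : ℂ) ^ m * mJ p z b n τ η j := by rw [mJ, mJ, pow_add, mul_assoc]

omit hp in
theorem norm_mJ (n : ℕ) (τ η : G → ℂ) (j : ℕ) :
    ‖mJ p z b n τ η j‖ = (p : ℝ) ^ n * ‖classInner (cmp p H b (z ^ j) τ) η‖ := by simp [mJ]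

variable {M : Ideal AlgInt} [hM : M.IsMaximal] [CharP (Res M) p] {B : Set (IrrCharacter G)}
  {χ ψ : IrrCharacter G}

theorem SubEl.exists_expand [Fintype H] (h : SubEl p H z) (hb : eSet b ∈ SG M H)
    (hk : z ^ p ^ (k + 1) = 1) : ∃ w : IrrCharacter H → ℂ, (∀ ξ, w ξ ^ p ^ (k + 1) = 1) ∧
      ∀ j, (p ^ (k + 1)).Coprime j → ∀ τ η, IsGeneralizedCharacter G η →
        mJ p z b (blockDefect p b) τ η j =
          Bq p b (∑ ξ ∈ irrF b, w ξ ^ j • aX p (fun c : H => τ c) ξ)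
            (∑ ξ ∈ irrF b, (w ξ)⁻¹ ^ j • aX p (fun c : H => η c) ξ) := by
  choose w h1 h2 h3 using fun ξ : IrrCharacter H => exists_shf_irr ξ h.central
  have e : ∀ (z : H) (w : IrrCharacter H → ℂ), (∀ ξ, shf z ξ.1 = w ξ • ξ.1) → ∀ (j : ℕ) θ,
      regPart p (shf (z ^ j) (blockPart b θ)) = ∑ ξ ∈ irrF b, w ξ ^ j • aX p θ ξ := by
    intro z w h j θ
    have : ∀ ξ : IrrCharacter H, shf (z ^ j) ξ.1 = w ξ ^ j • ξ.1 := fun ξ => by
      induction j with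
      | zero => simp
      | succ j ih => rw [pow_succ, ← shf_shf, ih, map_smul, h, smul_smul, pow_succ]
    rw [blockPart_eq_sum, map_sum, regPart_sum]
    exact Finset.sum_congr rfl fun ξ _ => by
      rw [map_smul, this, smul_comm, regPart_smul, regPart_smul, aX]
  refine ⟨w, fun ξ => ?_, fun j hj τ η hη => ?_⟩
  · obtain ⟨l, hl⟩ := orderOf_dvd_of_pow_eq_one hk
    rw [hl, pow_mul, h1, one_pow]
  · rw [← e z w h2, ← e z⁻¹ _ h3, Bq_reg, Bq_apply, mJ, inner_cmp_eq_mR (h.pow_JJ hj) hb τ hη,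
      inv_pow]

theorem SubEl.mJ_IE (h : SubEl p H z) (hb : eSet b ∈ SG M H) (hk : z ^ p ^ (k + 1) = 1)
    (hτ : IsGeneralizedCharacter G τ) (hη : IsGeneralizedCharacter G η) :
    mJ p z b (blockDefect p b) τ η ∈ IE (p ^ (k + 1)) := by
  have := Fintype.ofFinite H
  have hN : p ^ (k + 1) ≠ 0 := pow_ne_zero _ hp.out.ne_zero
  obtain ⟨w, h1, h2⟩ := h.exists_expand hb hk
  refine IE_congr (IE_lin hN (irrF b) (w := fun ξ => (w ξ)⁻¹) (fun ξ _ => by simp [h1])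
    fun ξ hξ => IE_lin hN (irrF b) (fun ξ _ => h1 ξ) (c := fun ξ' _ => Bq p b
      (aX p (fun c : H => τ c) ξ') (aX p (fun c : H => η c) ξ)) fun ξ' hξ' => ?_) fun j hj => ?_
  · obtain ⟨n, hn⟩ := Lat_int (p := p) (aX_mem (hτ.restrict H) hξ') (aX_mem (hη.restrict H) hξ)
    exact IE_congr (IE_int n) fun _ _ => hn
  · simp only [h2 j hj τ η hη, map_sum, map_smul, LinearMap.sum_apply, LinearMap.smul_apply,
      smul_eq_mul]

theorem SubEl.mJ_IE' (h : SubEl p H z) (hb : eSet b ∈ SG M H) (hk : z ^ p ^ (k + 1) = 1)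
    (hτ : IsGeneralizedCharacter G τ) (ψ : IrrCharacter G) :
    mJ p z b ((Nat.card G).factorization p - nu p ψ.1) τ ψ.1 ∈ IE (p ^ (k + 1)) := by
  have h1 := h.mJ_IE hb hk hτ ψ.2.isGen
  rcases le_total (blockDefect p b) ((Nat.card G).factorization p - nu p ψ.1) with e | e
  · obtain ⟨m, hm⟩ := Nat.exists_eq_add_of_le' e
    exact IE_congr (mul_mem (IE_int (p ^ m)) h1) fun j _ => by rw [hm, mJ_add]; simp
  · obtain ⟨m, hm⟩ := Nat.exists_eq_add_of_le' e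
    exact IE_div h1 (pow_ne_zero m hp.out.ne_zero) (fun j _ => by rw [hm, mJ_add]; simp)
      (isIntegral_inner_cmp (h.pow_JJ (k := 0) (Nat.coprime_one_right _)) hb (.of_gen hτ) ψ)

theorem SubEl.mJ_self (h : SubEl p H z) (hb : eSet b ∈ SG M H) (hj : j ∈ JJ (p ^ (k + 1)))
    (n : ℕ) (hτ : IsClassFunction G τ) : mJ p z b n τ τ j = ‖mJ p z b n τ τ j‖ := by
  rw [norm_mJ, mJ, inner_cmp_self_eq_norm (h.pow_JJ (mem_JJ.1 hj).2) hb hτ]; simp

theorem SubEl.trace_mJ (h : SubEl p H z) (hind : IsInducedBlock M H b B)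
    (hj : j ∈ JJ (p ^ (k + 1))) (n : ℕ) :
    ∑ χ ∈ irrF B, ‖mJ p z b n χ.1 χ.1 j‖ = p ^ n * blockRank p b := by
  simp only [norm_mJ]
  rw [← Finset.mul_sum, sum_norm_inner_cmp_self (h.pow_JJ (mem_JJ.1 hj).2) hind]

theorem SubEl.row_mJ (h : SubEl p H z) (hind : IsInducedBlock M H b B)
    (hj : j ∈ JJ (p ^ (k + 1))) (n : ℕ) (hτ : IsClassFunction G τ) :
    ∑ ψ ∈ irrF B, ‖mJ p z b n τ ψ.1 j‖ ^ 2 = p ^ n * ‖mJ p z b n τ τ j‖ := by
  simp only [norm_mJ, mul_pow]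
  rw [← Finset.mul_sum, sum_normSq_inner_cmp (h.pow_JJ (mem_JJ.1 hj).2) hind hτ]; ring

theorem SubEl.mJ_ne_zero_major (h : SubEl p H z) (hind : IsInducedBlock M H b B)
    (hd : blockDefect p b = blockDefect p B) (hj : j ∈ JJ (p ^ (k + 1))) (n : ℕ) (hχ : χ ∈ B)
    (h0 : blockHeight p B χ = 0) (hψ : ψ ∈ B) : mJ p z b n χ.1 ψ.1 j ≠ 0 :=
  mul_ne_zero (p_pow_ne_zero _) (inner_cmp_ne_zero_major (h.pow_JJ (mem_JJ.1 hj).2) hind hd hχ h0 hψ)

theorem SubEl.mJ_self_ne_zero (h : SubEl p H z) (hind : IsInducedBlock M H b B)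
    (hd : blockDefect p b = blockDefect p B) (hj : j ∈ JJ (p ^ (k + 1))) (n : ℕ) (hχ : χ ∈ B) :
    mJ p z b n χ.1 χ.1 j ≠ 0 :=
  mul_ne_zero (p_pow_ne_zero _) fun e => cmp_ne_zero_major (h.pow_JJ (mem_JJ.1 hj).2) hind hd hχ
    ((inner_cmp_self_eq_zero (h.pow_JJ (mem_JJ.1 hj).2)
      (eSet_mem_SG (isInducedBlock_iff.1 hind).1) χ.2.classFun).1 e)

theorem SubEl.pow_height_le_row (h : SubEl p H z) (hind : IsInducedBlock M H b B)
    (hd : blockDefect p b = blockDefect p B) (hk : z ^ p ^ (k + 1) = 1) (hχ : χ ∈ B)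
    (h0 : blockHeight p B χ = 0) (hψ : ψ ∈ B) :
    ((p : ℝ) ^ blockHeight p B ψ) ^ 2 * (JJ (p ^ (k + 1))).card ≤
      ∑ j ∈ JJ (p ^ (k + 1)), ‖mJ p z b (blockDefect p B) χ.1 ψ.1 j‖ ^ 2 := by
  simp only [defect_eq_height_add hψ, mJ_add, norm_mul, norm_pow, Complex.norm_natCast, mul_pow]
  rw [← Finset.mul_sum]
  exact mul_le_mul_of_nonneg_left (IE_card_le_sq (pow_ne_zero _ hp.out.ne_zero) (h.mJ_IE'
    (eSet_mem_SG (isInducedBlock_iff.1 hind).1) hk χ.2.isGen ψ) fun j hj =>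
      h.mJ_ne_zero_major hind hd hj _ hχ h0 hψ) (by positivity)

/-- Olsson: a major subsection with `l(b) ≤ 2` gives `k(B) ≤ p ^ d`. -/
theorem card_le_of_rank_le_two (h : SubEl p H z) (hind : IsInducedBlock M H b B)
    (hd : blockDefect p b = blockDefect p B) (hl : blockRank p b ≤ 2) :
    Nat.card B ≤ p ^ blockDefect p B := by
  have := Fintype.ofFinite H
  have hb := (isInducedBlock_iff.1 hind).1
  have hs := eSet_mem_SG hb
  obtain ⟨k, hk⟩ := h.exists_pow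
  have hN : p ^ (k + 1) ≠ 0 := pow_ne_zero _ hp.out.ne_zero
  have hJ : (JJ (p ^ (k + 1))).Nonempty := ⟨1, one_mem_JJ hp.out k⟩
  have hp2 : (2 : ℝ) ≤ p := by exact_mod_cast hp.out.two_le
  by_cases c : ∀ χ ∈ irrF B, 2 * ((JJ (p ^ (k + 1))).card : ℝ) ≤
      ∑ j ∈ JJ (p ^ (k + 1)), ‖mJ p z b (blockDefect p b) χ.1 χ.1 j‖
  · have := card_le_of_avg _ hJ _ _ c fun j hj => (h.trace_mJ hind hj _).le
    rw [Finset.sum_const, card_irrF, nsmul_eq_mul, hd] at this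
    have h2 : Nat.card B * 2 ≤ p ^ blockDefect p B * blockRank p b := by exact_mod_cast this
    exact Nat.le_of_mul_le_mul_right (h2.trans (Nat.mul_le_mul_left _ hl)) two_pos
  push Not at c
  obtain ⟨χ, hχ, c⟩ := c
  rw [mem_irrF] at hχ
  have h0 : blockHeight p B χ = 0 := by
    by_contra h0
    refine c.not_ge ?_
    simp only [hd, defect_eq_height_add hχ, mJ_add, norm_mul, norm_pow, Complex.norm_natCast]
    rw [← Finset.mul_sum]
    exact mul_le_mul (hp2.trans (le_self_pow₀ (by linarith) h0)) (IE_card_le hN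
      (h.mJ_IE' hs hk χ.2.isGen χ) fun j hj => h.mJ_self_ne_zero hind hd hj _ hχ)
      (by positivity) (by positivity)
  obtain ⟨w, h1, h2⟩ := h.exists_expand hs hk
  have ha := fun (χ : IrrCharacter G) ξ (hξ : ξ ∈ irrF b) =>
    aX_mem (p := p) (χ.2.isGen.restrict H) hξ
  set a := fun χ : IrrCharacter G => aX p fun c : H => χ.1 c
  set D := fun j => ∑ ξ ∈ irrF b, w ξ ^ j • a χ ξ
  set D' := fun (ψ : IrrCharacter G) j => ∑ ξ ∈ irrF b, (w ξ)⁻¹ ^ j • a ψ ξ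
  have h3 : ∀ ψ : IrrCharacter G, ∀ j ∈ JJ (p ^ (k + 1)), mJ p z b (blockDefect p b) χ.1 ψ.1 j =
      Bq p b (D j) (D' ψ j) := fun ψ j hj => h2 j (mem_JJ.1 hj).2 _ _ ψ.2.isGen
  have h4 : ∀ j ∈ JJ (p ^ (k + 1)), ‖mJ p z b (blockDefect p b) χ.1 χ.1 j‖ =
      (Bq p b (D j) (D' χ j)).re := fun j hj => by
    rw [← h3 χ j hj, h.mJ_self hs hj _ χ.2.classFun]; simp
  rw [Finset.sum_congr rfl h4] at c
  obtain ⟨v, hv, h5⟩ : ∃ v ∈ Lat p b, Bq p b v v = 1 := by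
    by_contra! e
    refine c.not_ge (brauer_avg _ (Lat p b) zero_le_two (fun v hv v0 => ?_) hp.out _ w
      (fun ξ _ => h1 ξ) _ (ha χ) (j₀ := 1) hp.out.not_dvd_one fun e => ?_)
    · obtain ⟨n, n0, hn⟩ := Lat_pos hv v0
      have : n ≠ 1 := fun h => e v hv (by rw [hn, h, Nat.cast_one])
      rw [hn, Complex.natCast_re]; exact_mod_cast (by omega : 2 ≤ n)
    · exact h.mJ_self_ne_zero hind hd (one_mem_JJ hp.out k) _ hχ
        ((h3 χ 1 (one_mem_JJ hp.out k)).trans (by simp only [D, e, map_zero, LinearMap.zero_apply]))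
  have e : ∀ (u : IrrCharacter H → ℂ) (a : IrrCharacter H → H → ℂ), ∑ ξ ∈ irrF b,
      u ξ • (a ξ - Bq p b v (a ξ) • v) = ∑ ξ ∈ irrF b, u ξ • a ξ -
        Bq p b v (∑ ξ ∈ irrF b, u ξ • a ξ) • v := fun u a => by
    simp only [smul_sub, Finset.sum_sub_distrib, map_sum, map_smul, Finset.sum_smul, smul_assoc]
  have hc : ∀ j, Bq p b v (D' χ j) = conj (Bq p b v (D j)) := fun j => by
    simp only [D, D', map_sum, map_smul, smul_eq_mul, map_mul, map_pow, conj_root hN (h1 _)]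
    refine Finset.sum_congr rfl fun ξ hξ => ?_
    obtain ⟨n, hn⟩ := Lat_int hv (ha χ ξ hξ)
    rw [hn, map_intCast]
  have h6 : ∀ j ∈ JJ (p ^ (k + 1)), D j = Bq p b v (D j) • v := fun j hj => by
    by_contra e'
    refine c.not_ge ((brauer_avg (Bq p b) (Lat p b ⊓ (Bq p b v).ker.toAddSubgroup) zero_le_two
      (fun u hu u0 => ?_) hp.out (irrF b) w (fun ξ _ => h1 ξ)
      (fun ξ => a χ ξ - Bq p b v (a χ ξ) • v) (fun ξ hξ => ⟨?_, ?_⟩)
      ((coprime_iff hp.out).1 (mem_JJ.1 hj).2) (by rw [e, sub_ne_zero]; exact e')).trans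
      (Finset.sum_le_sum fun i _ => ?_))
    · obtain ⟨n, n0, hn⟩ := Lat_pos hu.1 u0
      have : p ∣ n := by
        by_contra e
        refine Lat_unit hb hv hu.1 (by rw [h5]; simp)
          (by rwa [hn, Ne, red_natCast_eq_zero_iff (p := p)]) ?_
        rw [show Bq p b v u = 0 from hu.2, red_zero]
      rw [hn, Complex.natCast_re]
      exact hp2.trans (by exact_mod_cast Nat.le_of_dvd (Nat.pos_of_ne_zero n0) this)
    · obtain ⟨n, hn⟩ := Lat_int hv (ha χ ξ hξ)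
      rw [hn, Int.cast_smul_eq_zsmul]
      exact (Lat p b).sub_mem (ha χ ξ hξ) (zsmul_mem hv n)
    · change Bq p b v _ = 0
      rw [map_sub, map_smul, h5, smul_eq_mul, mul_one, sub_self]
    · rw [e, e]
      change (Bq p b (D i - Bq p b v (D i) • v) (D' χ i - Bq p b v (D' χ i) • v)).re ≤ _
      simp only [map_sub, map_smul, LinearMap.sub_apply, LinearMap.smul_apply, h5, smul_eq_mul,
        mul_one, sub_self, mul_zero, sub_zero, Bq_comm (D i) v, hc, Complex.mul_conj,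
        Complex.sub_re, Complex.ofReal_re]
      exact sub_le_self _ (Complex.normSq_nonneg _)
  have h7 : ∀ ψ : IrrCharacter G, ∀ j ∈ JJ (p ^ (k + 1)), mJ p z b (blockDefect p b) χ.1 ψ.1 j =
      Bq p b v (D j) * Bq p b v (D' ψ j) := fun ψ j hj => by
    rw [h3 ψ j hj]
    nth_rw 1 [h6 j hj]
    rw [map_smul, LinearMap.smul_apply, smul_eq_mul]
  have := card_le_of_avg (irrF B) hJ (fun ψ j => ‖Bq p b v (D' ψ j)‖ ^ 2) (fun _ => 1)
    (T := p ^ blockDefect p b) (fun ψ hψ => ?_) fun j hj => ?_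
  · rw [Finset.sum_const, card_irrF, nsmul_eq_mul, mul_one, hd] at this
    exact_mod_cast this
  · rw [one_mul]
    refine IE_card_le_sq hN (IE_congr (IE_lin hN (irrF b) (w := fun ξ => (w ξ)⁻¹)
      (fun ξ _ => by simp [h1]) (c := fun ξ _ => Bq p b v (a ψ ξ)) fun ξ hξ => ?_) fun j _ => ?_)
      fun j hj => right_ne_zero_of_mul (h7 ψ j hj ▸
        h.mJ_ne_zero_major hind hd hj _ hχ h0 (mem_irrF.1 hψ))
    · obtain ⟨n, hn⟩ := Lat_int hv (ha ψ ξ hξ)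
      exact IE_congr (IE_int n) fun _ _ => hn
    · simp only [D', map_sum, map_smul, smul_eq_mul]
  · have e1 := h.row_mJ hind hj (blockDefect p b) χ.2.classFun
    have e2 : 0 < ‖Bq p b v (D j)‖ ^ 2 := pow_pos (norm_pos_iff.2 (left_ne_zero_of_mul
      (h7 χ j hj ▸ h.mJ_self_ne_zero hind hd hj _ hχ))) 2
    simp only [h7 _ j hj, norm_mul, mul_pow, hc, Complex.norm_conj, ← sq, ← Finset.mul_sum] at e1
    exact le_of_mul_le_mul_left (e1.trans (mul_comm _ _)).le e2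

section two
omit hp [CharP (Res M) p]
variable [CharP (Res M) 2]

theorem exists_odd_avg (h : SubEl 2 H z) (hind : IsInducedBlock M H b B)
    (hk : z ^ 2 ^ (k + 1) = 1) (hχ : χ ∈ B) (h0 : blockHeight 2 B χ = 0) :
    ∃ A : ℕ, ¬ 2 ∣ A ∧ ∑ j ∈ JJ (2 ^ (k + 1)), ‖mJ 2 z b (blockDefect 2 b) χ.1 χ.1 j‖ =
      A * (JJ (2 ^ (k + 1))).card := by
  have hs := eSet_mem_SG (isInducedBlock_iff.1 hind).1
  have h1 : red M (mJ 2 z b (blockDefect 2 b) χ.1 χ.1 1) ≠ 0 := (red_inner_cmp_irr_iff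
    (h.pow_JJ (k := 0) (Nat.coprime_one_right _)) hind hχ hχ).2 ⟨h0, h0⟩
  obtain ⟨A, a1, -, a2⟩ := IE_norm_two (M := M) (h.mJ_IE hs hk χ.2.isGen χ.2.isGen)
    (fun j hj => h.mJ_self hs hj _ χ.2.classFun) (ne_zero_of_red_ne_zero h1)
  exact ⟨A, mt a2.2 h1, a1⟩

theorem card_height_zero_two (h : SubEl 2 H z) (hind : IsInducedBlock M H b B) (t : ℕ) :
    Nat.card {χ // χ ∈ B ∧ blockHeight 2 B (χ : G → ℂ) = 0} + 2 ^ blockDefect 2 b ≤
        2 * t * 2 ^ blockDefect 2 b ∨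
      (2 * t + 1) * Nat.card {χ // χ ∈ B ∧ blockHeight 2 B (χ : G → ℂ) = 0} ≤
        blockRank 2 b * 2 ^ blockDefect 2 b := by
  have hs := eSet_mem_SG (isInducedBlock_iff.1 hind).1
  obtain ⟨k, hk⟩ := h.exists_pow
  have hJ : (JJ (2 ^ (k + 1))).Nonempty := ⟨1, one_mem_JJ Nat.prime_two k⟩
  obtain ⟨I, hc, hI⟩ : ∃ I : Finset (IrrCharacter G), I.card = Nat.card {χ // χ ∈ B ∧
      blockHeight 2 B (χ : G → ℂ) = 0} ∧ ∀ χ ∈ I, χ ∈ B ∧ blockHeight 2 B (χ : G → ℂ) = 0 :=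
    ⟨_, card_irrF {χ | χ ∈ B ∧ blockHeight 2 B (χ : G → ℂ) = 0}, fun χ hχ => mem_irrF.1 hχ⟩
  rw [← hc]
  have hsub : I ⊆ irrF B := fun χ hχ => mem_irrF.2 (hI χ hχ).1
  choose! A a1 a2 using fun χ (hχ : χ ∈ I) => exists_odd_avg h hind hk (hI χ hχ).1 (hI χ hχ).2
  by_cases c : ∀ χ ∈ I, 2 * t + 1 ≤ A χ
  · right
    have := card_le_of_avg I hJ (fun χ j => ‖mJ 2 z b (blockDefect 2 b) χ.1 χ.1 j‖)
      (fun _ => (2 * t + 1 : ℕ)) (fun χ hχ => (mul_le_mul_of_nonneg_right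
      (Nat.cast_le.2 (c χ hχ)) (Nat.cast_nonneg _)).trans (a2 χ hχ).ge) fun j hj =>
      (Finset.sum_le_sum_of_subset_of_nonneg hsub fun _ _ _ => norm_nonneg _).trans
        (h.trace_mJ hind hj _).le
    rw [Finset.sum_const, nsmul_eq_mul, mul_comm, mul_comm (_ ^ _ : ℝ)] at this
    exact_mod_cast this
  left
  push Not at c
  obtain ⟨χ, hχ, c⟩ := c
  have := sum_le_of_row I hJ (fun ψ j => ‖mJ 2 z b (blockDefect 2 b) χ.1 ψ.1 j‖ ^ 2) (fun _ => 1)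
    (fun j => (2 : ℕ) ^ blockDefect 2 b * ‖mJ 2 z b (blockDefect 2 b) χ.1 χ.1 j‖)
    (T := A χ * 2 ^ blockDefect 2 b) (fun ψ hψ => (one_mul _).trans_le (IE_card_le_sq
      (by positivity) (h.mJ_IE hs hk χ.2.isGen ψ.2.isGen) fun j hj => mul_ne_zero (p_pow_ne_zero _)
      (inner_cmp_ne_zero (h.pow_JJ (mem_JJ.1 hj).2) hind (hI χ hχ).1 (hI ψ hψ).1
        (hI χ hχ).2 (hI ψ hψ).2))) (fun j hj => (Finset.sum_le_sum_of_subset_of_nonneg
      hsub fun _ _ _ => sq_nonneg _).trans (h.row_mJ hind hj _ χ.2.classFun).le)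
      (by rw [← Finset.mul_sum, a2 χ hχ]; push_cast; exact le_of_eq (by ring))
  rw [Finset.sum_const, nsmul_eq_mul, mul_one] at this
  have h2 : I.card ≤ A χ * 2 ^ blockDefect 2 b := by exact_mod_cast this
  have h3 : A χ + 1 ≤ 2 * t := by have := a1 χ hχ; omega
  exact (Nat.add_le_add_right h2 _).trans ((Nat.succ_mul _ _).ge.trans (Nat.mul_le_mul_right _ h3))

theorem sum_le_of_rank_le_three (h : SubEl 2 H z) (hind : IsInducedBlock M H b B)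
    (hd : blockDefect 2 b = blockDefect 2 B) (hl : blockRank 2 b ≤ 3) :
    ∑ χ ∈ irrF B, (if blockHeight 2 B χ.1 = 0 then 3 else 2 * 2 ^ blockHeight 2 B χ.1) ≤
      3 * 2 ^ blockDefect 2 B := by
  have hs := eSet_mem_SG (isInducedBlock_iff.1 hind).1
  obtain ⟨k, hk⟩ := h.exists_pow
  have hJ : (JJ (2 ^ (k + 1))).Nonempty := ⟨1, one_mem_JJ Nat.prime_two k⟩
  by_cases c : ∃ χ ∈ B, blockHeight 2 B χ.1 = 0 ∧ ∑ j ∈ JJ (2 ^ (k + 1)),
      ‖mJ 2 z b (blockDefect 2 B) χ.1 χ.1 j‖ = (JJ (2 ^ (k + 1))).card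
  · obtain ⟨χ, hχ, h0, c⟩ := c
    have := sum_le_of_row _ hJ _ _ _ (T := 2 ^ blockDefect 2 B)
      (fun ψ hψ => h.pow_height_le_row hind hd hk hχ h0 (mem_irrF.1 hψ))
      (fun j hj => (h.row_mJ hind hj _ χ.2.classFun).le) (by rw [← Finset.mul_sum, c]; simp)
    have h2 : ∑ ψ ∈ irrF B, (2 ^ blockHeight 2 B ψ.1) ^ 2 ≤ 2 ^ blockDefect 2 B := by
      exact_mod_cast this
    refine le_trans ?_ (Nat.mul_le_mul_left 3 h2)
    rw [Finset.mul_sum]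
    refine Finset.sum_le_sum fun ψ _ => ?_
    have : 1 ≤ 2 ^ blockHeight 2 B ψ.1 := Nat.one_le_two_pow
    split_ifs <;> nlinarith
  have := card_le_of_avg (irrF B) hJ (fun χ j => ‖mJ 2 z b (blockDefect 2 B) χ.1 χ.1 j‖)
    (fun χ => ((if blockHeight 2 B χ.1 = 0 then 3 else 2 * 2 ^ blockHeight 2 B χ.1 : ℕ) : ℝ))
    (fun χ hχ => ?_) fun j hj => (h.trace_mJ hind hj _).le
  · have h2 : ∑ χ ∈ irrF B, (if blockHeight 2 B χ.1 = 0 then 3 else 2 * 2 ^ blockHeight 2 B χ.1) ≤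
      2 ^ blockDefect 2 B * blockRank 2 b := by exact_mod_cast this
    exact h2.trans (by rw [mul_comm]; exact Nat.mul_le_mul_right _ hl)
  rw [mem_irrF] at hχ
  split_ifs with h0
  · obtain ⟨A, a1, a2⟩ := exists_odd_avg h hind hk hχ h0
    rw [hd] at a2
    have : A ≠ 1 := fun e => c ⟨χ, hχ, h0, by rw [a2, e]; simp⟩
    rw [a2]
    exact mul_le_mul_of_nonneg_right (Nat.cast_le.2 (by omega)) (Nat.cast_nonneg _)
  · obtain ⟨A, a1, a2, a3⟩ := IE_norm_two (M := M) (h.mJ_IE' hs hk χ.2.isGen χ)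
      (fun j hj => h.mJ_self hs hj _ χ.2.classFun)
      (h.mJ_self_ne_zero hind hd (one_mem_JJ Nat.prime_two k) _ hχ)
    have := a3.1 (by_contra fun e => h0 (unitOn_irr (isInducedBlock_iff.1 hind).2.1 |>.1
      ((red_inner_cmp_major (h.pow_JJ (k := 0) (Nat.coprime_one_right _)) hind hd (.irr χ)
        hχ).1 e)).2)
    simp only [defect_eq_height_add hχ, mJ_add, norm_mul, norm_pow, Complex.norm_natCast]
    rw [← Finset.mul_sum, a1, ← mul_assoc, mul_comm 2]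
    exact mul_le_mul_of_nonneg_right (by exact_mod_cast Nat.mul_le_mul_left _ (by omega))
      (Nat.cast_nonneg _)

theorem card_le_of_corank_le_three (h : SubEl 2 H z) (hind : IsInducedBlock M H b B)
    (hd : blockDefect 2 b = blockDefect 2 B) (hl : Nat.card B ≤ blockRank 2 b + 3) :
    Nat.card B ≤ 2 ^ blockDefect 2 B := by
  classical
  have hs := eSet_mem_SG (isInducedBlock_iff.1 hind).1
  have hB := (isInducedBlock_iff.1 hind).2.1
  obtain ⟨χ₀, hχ₀, h₀⟩ := exists_height_zero (p := 2) (block_nonempty hB)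
  by_cases hd0 : blockDefect 2 B = 0
  · rw [hd0, eq_singleton_of_defect_zero hB hd0 hχ₀]; simp
  obtain ⟨k, hk⟩ := h.exists_pow
  have hJ : (JJ (2 ^ (k + 1))).Nonempty := ⟨1, one_mem_JJ Nat.prime_two k⟩
  set r := fun (χ : IrrCharacter G) j => ‖mJ 2 z b 0 χ.1 χ.1 j‖
  have r1 : ∀ χ ∈ irrF B, ∀ j ∈ JJ (2 ^ (k + 1)),
      ∑ ψ ∈ (irrF B).erase χ, ‖mJ 2 z b 0 χ.1 ψ.1 j‖ ^ 2 = r χ j * (1 - r χ j) := fun χ hχ j hj => by
    have := h.row_mJ hind hj 0 χ.2.classFun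
    rw [← Finset.add_sum_erase _ _ hχ] at this
    simp only [r]; linear_combination this
  have r2 : ∀ χ ∈ irrF B, ∀ j ∈ JJ (2 ^ (k + 1)), 0 < 1 - r χ j := fun χ hχ j hj => by
    obtain ⟨ψ, hψ, e, h0⟩ := exists_ne_height_zero hB hd0 χ
    refine pos_of_mul_pos_right (a := r χ j) ?_ (norm_nonneg _)
    rw [← r1 χ hχ j hj]
    refine Finset.sum_pos' (fun _ _ => sq_nonneg _) ⟨ψ, Finset.mem_erase.2 ⟨e, mem_irrF.2 hψ⟩,
      pow_pos (norm_pos_iff.2 (mul_ne_zero (p_pow_ne_zero _) fun e => ?_)) 2⟩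
    have := conj_inner_cmp (h.pow_JJ (mem_JJ.1 hj).2) hs χ.2.classFun ψ.2.classFun
    rw [e, map_zero] at this
    exact inner_cmp_ne_zero_major (h.pow_JJ (mem_JJ.1 hj).2) hind hd hψ h0 (mem_irrF.1 hχ) this.symm
  have r3 : ∀ χ ∈ irrF B, ∃ A : ℕ, ∑ j ∈ JJ (2 ^ (k + 1)), 2 ^ blockDefect 2 B * (1 - r χ j) =
      (2 ^ blockHeight 2 B χ.1 * A : ℕ) * (JJ (2 ^ (k + 1))).card ∧ A ≠ 0 ∧
      (2 ∣ A ↔ blockHeight 2 B χ.1 ≠ 0) := fun χ hχ => by
    have e := defect_eq_height_add (p := 2) (mem_irrF.1 hχ)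
    set n := (Nat.card G).factorization 2 - nu 2 χ.1 with hn
    have n0 : n ≠ 0 := fun n0 => by
      obtain ⟨ψ, hψ, e, h0⟩ := exists_ne_height_zero hB hd0 χ
      refine mR_ne_zero hB hψ h0 (mem_irrF.1 hχ) ?_
      rw [mR_comm, mR_of_vanish fun g hg => vanish_of_nu_eq
        (by have := nu_le (p := 2) χ.2; omega) hg, inner_irr, if_neg e.symm]
    have f1 : ∀ j ∈ JJ (2 ^ (k + 1)), (2 : ℂ) ^ n - mJ 2 z b n χ.1 χ.1 j =
        (2 ^ n * (1 - r χ j) : ℝ) := fun j hj => by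
      rw [← add_zero n, mJ_add, h.mJ_self hs hj 0 χ.2.classFun]; push_cast; ring
    have f2 : ∀ j ∈ JJ (2 ^ (k + 1)), ‖(2 : ℂ) ^ n - mJ 2 z b n χ.1 χ.1 j‖ =
        2 ^ n * (1 - r χ j) := fun j hj => by
      rw [f1 j hj, Complex.norm_of_nonneg (mul_pos (by positivity) (r2 χ hχ j hj)).le]
    have f3 := h.mJ_IE' hs hk χ.2.isGen χ
    obtain ⟨A, a1, a2, a3⟩ := IE_norm_two (M := M) (f := fun j => 2 ^ n - mJ 2 z b n χ.1 χ.1 j)
      (IE_congr (sub_mem (IE_int (2 ^ n)) f3) fun j _ => by simp [hn])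
      (fun j hj => by rw [f2 j hj, f1 j hj]) (norm_pos_iff.1 (by
        rw [f2 1 (one_mem_JJ Nat.prime_two k)]
        exact mul_pos (by positivity) (r2 χ hχ 1 (one_mem_JJ Nat.prime_two k))))
    refine ⟨A, ?_, a2, a3.symm.trans ?_⟩
    · rw [Finset.sum_congr rfl f2] at a1
      rw [e, pow_add (2 : ℝ)]
      simp only [mul_assoc, Nat.cast_mul, Nat.cast_pow, Nat.cast_ofNat]
      rw [← Finset.mul_sum, a1]
    · have two : (2 : ℂ) ∈ Loc M := ofNat_mem _ _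
      have : red M 2 = 0 := (red_natCast_eq_zero_iff (p := 2) (n := 2)).2 dvd_rfl
      rw [red_sub (pow_mem two _) (mem_Loc_of_isIntegral M (IE_isIntegral (by positivity) f3
        (Nat.coprime_one_right _))), red_pow two, this, zero_pow n0, zero_sub, neg_eq_zero,
        ← not_iff_not, not_not]
      exact ((red_inner_cmp_major (h.pow_JJ (k := 0) (Nat.coprime_one_right _)) hind hd (.irr χ)
        (mem_irrF.1 hχ)).trans (unitOn_irr hB)).trans (and_iff_right (mem_irrF.1 hχ))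
  choose! A a1 a2 a3 using r3
  by_cases c : ∀ χ ∈ irrF B, 3 ≤ 2 ^ blockHeight 2 B χ.1 * A χ
  · have := card_le_of_avg _ hJ _ (fun _ => (3 : ℕ)) (T := 2 ^ blockDefect 2 B * 3)
      (fun χ hχ => (mul_le_mul_of_nonneg_right (Nat.cast_le.2 (c χ hχ))
        (Nat.cast_nonneg _)).trans (a1 χ hχ).ge) fun j hj => by
      rw [← Finset.mul_sum, Finset.sum_sub_distrib, h.trace_mJ hind hj, Finset.sum_const, card_irrF]
      have : (Nat.card B : ℝ) ≤ blockRank 2 b + 3 := by exact_mod_cast hl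
      exact mul_le_mul_of_nonneg_left (by simp only [nsmul_one]; linarith) (by positivity)
    rw [Finset.sum_const, card_irrF, nsmul_eq_mul] at this
    exact Nat.le_of_mul_le_mul_right (by exact_mod_cast this) three_pos
  push Not at c
  obtain ⟨χ, hχ, c⟩ := c
  have h0 : blockHeight 2 B χ.1 = 0 := by
    by_contra h0
    have := Nat.le_of_dvd (Nat.pos_of_ne_zero (a2 χ hχ)) ((a3 χ hχ).2 h0)
    nlinarith [Nat.one_lt_two_pow h0]
  have h1 : A χ = 1 := by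
    have := mt (a3 χ hχ).1 (not_not.2 h0)
    rw [h0] at c; omega
  have h2 := a1 χ hχ
  rw [h0, h1] at h2
  have h3 : ((JJ (2 ^ (k + 1))).card : ℝ) ≤ ∑ j ∈ JJ (2 ^ (k + 1)),
      (2 ^ blockDefect 2 B * (1 - r χ j)) ^ 2 := by
    have := sq_sum_le_card_mul_sum_sq (s := JJ (2 ^ (k + 1)))
      (f := fun j => 2 ^ blockDefect 2 B * (1 - r χ j))
    rw [h2] at this
    exact le_of_mul_le_mul_left (by simpa [sq] using this) (Nat.cast_pos.2 hJ.card_pos)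
  have := sum_le_of_row (irrF B) hJ (fun ψ j => if ψ = χ then (2 ^ blockDefect 2 B * (1 - r χ j)) ^ 2
    else ‖mJ 2 z b (blockDefect 2 B) χ.1 ψ.1 j‖ ^ 2) (fun _ => 1)
    (fun j => 2 ^ blockDefect 2 B * (2 ^ blockDefect 2 B * (1 - r χ j))) (T := 2 ^ blockDefect 2 B)
    (fun ψ hψ => ?_) (fun j hj => ?_) (by rw [← Finset.mul_sum, h2]; simp)
  · rw [Finset.sum_const, card_irrF, nsmul_eq_mul, mul_one] at this
    exact_mod_cast this
  · split_ifs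
    · rwa [one_mul]
    · exact le_trans (mul_le_mul_of_nonneg_right (one_le_pow₀ (one_le_pow₀ (by norm_num)))
        (Nat.cast_nonneg _)) (h.pow_height_le_row hind hd hk (mem_irrF.1 hχ) h0 (mem_irrF.1 hψ))
  · rw [← Finset.add_sum_erase _ _ hχ, if_pos rfl, Finset.sum_congr rfl fun ψ hψ => by
      rw [if_neg (Finset.mem_erase.1 hψ).1, ← add_zero (blockDefect 2 B), mJ_add, norm_mul,
        mul_pow], ← Finset.mul_sum, r1 χ hχ j hj]
    rw [norm_pow, Complex.norm_natCast, Nat.cast_ofNat]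
    exact le_of_eq (by ring)

end two

end CfsgH4
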