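import Cfsg.Agent.H8.Def1b
import Cfsg.Agent.H4.Orbit

/-! Cyclic defect groups: the module-theoretic part. -/

set_option autoImplicit false
set_option linter.unusedSectionVars false

open MonoidAlgebra Subgroup CfsgH2 Function Polynomial Module

namespace CfsgH4

theorem sum_mem_of_orbits {k Γ Y V : Type*} [Field k] [Group Γ] [Fintype Γ] [MulAction Γ Y]
    [AddCommGroup V] [Module k V] (U : Submodule k V) (F : Y → V) (s : Finset Y)
    (hs : ∀ c : Γ, ∀ t ∈ s, c • t ∈ s)
    (h1 : ∀ t ∈ s, F t ≠ 0 → (Nat.card (MulAction.stabilizer Γ t) : k) ≠ 0)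
    (h2 : ∀ t ∈ s, ∑ c : Γ, F (c • t) ∈ U) : ∑ t ∈ s, F t ∈ U := by
  classical
  induction s using Finset.strongInduction with
  | H s ih =>
  by_cases h0 : ∀ t ∈ s, F t = 0
  · rw [Finset.sum_eq_zero h0]; exact U.zero_mem
  push Not at h0
  obtain ⟨t, ht, h0⟩ := h0
  set O := Finset.univ.image fun y : Γ => y • t
  have hO : O ⊆ s := fun d hd => by obtain ⟨y, -, rfl⟩ := Finset.mem_image.1 hd; exact hs y t ht
  rw [← Finset.sum_sdiff hO]
  refine U.add_mem (ih _ (Finset.sdiff_ssubset hO ⟨t, Finset.mem_image.2 ⟨1, Finset.mem_univ _,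
    one_smul _ _⟩⟩) (fun y d hd => ?_) (fun d hd => h1 d (Finset.mem_sdiff.1 hd).1)
    fun d hd => h2 d (Finset.mem_sdiff.1 hd).1) ?_
  · obtain ⟨b1, b2⟩ := Finset.mem_sdiff.1 hd
    refine Finset.mem_sdiff.2 ⟨hs y d b1, fun h => b2 ?_⟩
    obtain ⟨z, -, e⟩ := Finset.mem_image.1 h
    exact Finset.mem_image.2 ⟨y⁻¹ * z, Finset.mem_univ _, by rw [mul_smul, e, inv_smul_smul]⟩
  · have := h2 t ht
    rw [Finset.sum_comp F fun y : Γ => y • t, Finset.sum_congr rfl (g := fun d =>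
      (Nat.card (MulAction.stabilizer Γ t) : k) • F d) fun d hd => ?_, ← Finset.smul_sum] at this
    · exact (U.smul_mem_iff (h1 t ht h0)).1 this
    · obtain ⟨y, -, rfl⟩ := Finset.mem_image.1 hd
      rw [Nat.cast_smul_eq_nsmul, ← Fintype.card_subtype, ← Nat.card_eq_fintype_card]
      congr 1
      exact Nat.card_congr ((Equiv.mulLeft y⁻¹).subtypeEquiv fun c => by
        simp [mul_smul, inv_smul_eq_iff])

/-- `G` with the conjugation action. -/
def Cj (G : Type*) := G

instance {G : Type*} [Group G] : MulAction G (Cj G) := MulAction.compHom G (MulAut.conj (G := G))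

instance {G : Type*} [h : Fintype G] : Fintype (Cj G) := h

/-- The underlying group element. -/
def Cj.val {G : Type*} (t : Cj G) : G := t

theorem Cj.val_smul {G : Type*} [Group G] (g : G) (t : Cj G) : (g • t).val = g * t.val * g⁻¹ := rfl

theorem Cj.sum_val {G W : Type*} [Fintype G] [AddCommMonoid W] (F : G → W) :
    ∑ t : Cj G, F t.val = ∑ g, F g := rfl

variable {k : Type*} [Field k] {G : Type*} [Group G] {p : ℕ} {Z : Subgroup G} {f j x a y : k[G]}
  {n : ℕ} {g : G}

theorem supp_ind [Fintype G] {K : Subgroup G} {P : k[G] → Prop} (h0 : P 0)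
    (h1 : ∀ a b, P a → P b → P (a + b)) (h2 : ∀ (c : k), ∀ g ∈ K, P (c • single g 1))
    (ha : a ∈ Supp k K) : P a := by
  rw [eq_sum_single a]
  refine Finset.sum_induction _ P h1 h0 fun g _ => ?_
  by_cases hg : g ∈ K
  · exact h2 _ g hg
  · rw [ha g hg, zero_smul]; exact h0

theorem single_mul_eq (g : G) (a : k[G]) : single g 1 * a = cjA k g a * single g 1 := by
  rw [cjA_eq, mul_assoc, single_mul_single, inv_mul_cancel, mul_one, ← one_def, mul_one]

/-- Local data at a subgroup of order `p` of a cyclic defect group. -/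
structure CD (p : ℕ) (Z : Subgroup G) (f j x : k[G]) (n : ℕ) : Prop where
  prim : IsPrim (Zc k (centralizer (Z : Set G)) (centralizer (Z : Set G))) f
  jS : j ∈ Supp k (centralizer (Z : Set G))
  jj : j * j = j
  fj : f * j = j
  xZ : x ∈ Zc k (centralizer (Z : Set G)) (centralizer (Z : Set G))
  nil : x ^ (n + 1) * f = 0
  ne : x ^ n * j ≠ 0
  pos : n ≠ 0
  loc : ∀ a ∈ Supp k (centralizer (Z : Set G)), ∃ g : k[X], j * a * j = aeval x g * j
  gen : ∃ (ι : Type) (_ : Fintype ι) (a b : ι → k[G]), (∀ r, a r ∈ Supp k (centralizer (Z : Set G)) ∧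
    b r ∈ Supp k (centralizer (Z : Set G))) ∧ ∑ r, a r * j * b r = f
  eqv : ∀ g ∈ normalizer (Z : Set G) ⊓ stabA f, ∃ α ∈ Supp k (centralizer (Z : Set G)),
    ∃ β ∈ Supp k (centralizer (Z : Set G)), α * β = cjA k g j ∧ β * α = j
  psub : ∀ c ∈ centralizer (Z : Set G), orderOf c = p → ∀ y, f.coeff y ≠ 0 → c * y = y * c →
    zpowers c = Z

variable {V : Type*} [AddCommGroup V] [Module k V] [Module k[G] V] [IsScalarTower k k[G] V] {s v : V}

variable (V) in
/-- `a V` -/
noncomputable def Fil (a : k[G]) : Submodule k V := LinearMap.range (Algebra.lsmul k k V a)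

theorem mem_Fil : v ∈ Fil V a ↔ ∃ s : V, a • s = v := Iff.rfl

theorem aeval_smul_of_eq_zero (h : x • s = 0) (g : k[X]) : aeval x g • s = g.coeff 0 • s := by
  conv_lhs => rw [← divX_mul_X_add g, map_add, map_mul, aeval_X, add_smul, mul_smul, h, smul_zero,
    zero_add, aeval_C, algebraMap_smul]

namespace CD
variable (h : CD p Z f j x n)
include h

theorem ff : f * f = f := h.prim.idem

theorem fc (ha : a ∈ Supp k (centralizer (Z : Set G))) : f * a = a * f :=
  mul_comm_of_Fix_of_Supp h.prim.mem.2 ha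

theorem jf : j * f = j := by rw [← h.fc h.jS, h.fj]

theorem xc (ha : a ∈ Supp k (centralizer (Z : Set G))) (g : k[X]) : aeval x g * a = a * aeval x g :=
  mul_comm_of_Fix_of_Supp (Algebra.adjoin_le (Set.singleton_subset_iff.2 h.xZ.2)
    (aeval_mem_adjoin_singleton _ _)) ha

theorem xc' (ha : a ∈ Supp k (centralizer (Z : Set G))) (i : ℕ) : x ^ i * a = a * x ^ i := by
  simpa using h.xc ha (X ^ i)

theorem xc1 (ha : a ∈ Supp k (centralizer (Z : Set G))) : x * a = a * x := by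
  simpa using h.xc ha X

theorem f_smul (hs : j • s = s) : f • s = s := by rw [← hs, smul_smul, h.fj]

theorem loc_smul (ha : a ∈ Supp k (centralizer (Z : Set G))) (h1 : j • s = s) (h2 : x • s = 0) :
    ∃ μ : k, (j * a) • s = μ • s := by
  obtain ⟨g, hg⟩ := h.loc a ha
  exact ⟨_, by rw [← aeval_smul_of_eq_zero h2 g, ← h1, smul_smul, smul_smul, hg]⟩

theorem cent (hy : y ∈ Zc k (centralizer (Z : Set G)) (centralizer (Z : Set G))) :
    ∃ g : k[X], y * f = aeval x g * f := by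
  obtain ⟨g, hg⟩ := h.loc y hy.1
  obtain ⟨ι, _, a, b, h1, h2⟩ := h.gen
  rw [← mul_comm_of_Fix_of_Supp hy.2 h.jS, mul_assoc, h.jj] at hg
  refine ⟨g, ?_⟩
  rw [← h2, Finset.mul_sum, Finset.mul_sum]
  refine Finset.sum_congr rfl fun r _ => ?_
  rw [← mul_assoc, ← mul_assoc, mul_comm_of_Fix_of_Supp hy.2 (h1 r).1, mul_assoc (a r), hg,
    ← mul_assoc (a r), ← h.xc (h1 r).1]
  simp only [mul_assoc]

theorem conj_x (hg : g ∈ normalizer (Z : Set G) ⊓ stabA f) :
    ∃ w : k[X], cjA k g x * f = aeval x w * x * f := by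
  have hN := normalizer_le_normalizer_centralizer Z hg.1
  have hx : cjA k g x ∈ Zc k (centralizer (Z : Set G)) (centralizer (Z : Set G)) :=
    ⟨cjA_mem_Supp_of_normalizer h.xZ.1 hN, cjA_mem_Fix_of_normalizer h.xZ.2 hN⟩
  obtain ⟨w, hw⟩ := h.cent hx
  have e : w.coeff 0 • f = cjA k g x * f - aeval x w.divX * x * f := by
    rw [hw]
    nth_rw 2 [← divX_mul_X_add w]
    simp [add_mul, Algebra.smul_def]
  have pw : ∀ y ∈ Supp k (centralizer (Z : Set G)), (y * f) ^ (n + 1) = y ^ (n + 1) * f := fun y hy => by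
    rw [(show Commute y f from (h.fc hy).symm).mul_pow, IsIdempotentElem.pow_succ_eq n h.ff]
  have hw' : aeval x w.divX ∈ Zc k (centralizer (Z : Set G)) (centralizer (Z : Set G)) :=
    Algebra.adjoin_le (Set.singleton_subset_iff.2 h.xZ) (aeval_mem_adjoin_singleton _ _)
  have h1 : IsNilpotent (w.coeff 0 • f) := by
    rw [e]
    refine Commute.isNilpotent_sub (mul_comm_of_Fix_of_Supp (mul_mem hx h.prim.mem).2
      (mul_mem (mul_mem hw' h.xZ) h.prim.mem).1) ⟨n + 1, ?_⟩ ⟨n + 1, ?_⟩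
    · rw [pw _ hx.1, ← hg.2, ← map_pow, ← map_mul, h.nil, map_zero]
    · rw [pw _ (mul_mem hw' h.xZ).1, (show Commute _ x from h.xc h.xZ.1 _).mul_pow, mul_assoc,
        h.nil, mul_zero]
  obtain ⟨m, hm⟩ := h1
  have h2 : w.coeff 0 = 0 := by
    by_contra h0
    have := congrArg (· * f) hm
    simp only [_root_.smul_pow, smul_mul_assoc, zero_mul, smul_eq_zero, pow_eq_zero_iff', h0, false_and,
      false_or, ← pow_succ, IsIdempotentElem.pow_succ_eq m h.ff] at this
    exact h.prim.ne_zero this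
  exact ⟨_, sub_eq_zero.1 (by rw [← e, h2, zero_smul])⟩

theorem ker_smul (hg : g ∈ normalizer (Z : Set G) ⊓ stabA f) (h1 : f • s = s) (h2 : x • s = 0) :
    x • (single g (1 : k) : k[G]) • s = 0 := by
  obtain ⟨w, hw⟩ := h.conj_x (inv_mem hg)
  rw [smul_smul, ← cjA_cjA_inv g x, ← single_mul_eq, mul_smul, ← h1, smul_smul _ f, hw, mul_smul,
    h1, mul_smul, h2, smul_zero, smul_zero]

theorem fix_smul (hg : g ∈ normalizer (Z : Set G) ⊓ stabA f) (h1 : f • s = s) :
    f • (single g (1 : k) : k[G]) • s = (single g (1 : k) : k[G]) • s := by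
  conv_lhs => rw [smul_smul, ← hg.2, ← single_mul_eq, mul_smul, h1]

theorem smul_mem_Fil (ha : a ∈ Supp k (centralizer (Z : Set G))) {i : ℕ}
    (hv : v ∈ Fil V (x ^ i * f)) : a • v ∈ Fil V (x ^ i * f) := by
  obtain ⟨s, rfl⟩ := mem_Fil.1 hv
  exact ⟨a • s, by
    rw [Algebra.lsmul_apply, smul_smul, smul_smul, mul_assoc, h.fc ha, ← mul_assoc, h.xc' ha,
      mul_assoc]⟩

theorem single_smul_mem_Fil (hg : g ∈ normalizer (Z : Set G) ⊓ stabA f) {i : ℕ}
    (hv : v ∈ Fil V (x ^ i * f)) : (single g (1 : k) : k[G]) • v ∈ Fil V (x ^ i * f) := by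
  obtain ⟨s, rfl⟩ := mem_Fil.1 hv
  obtain ⟨w, hw⟩ := h.conj_x hg
  have e : ∀ i, cjA k g x ^ i * f = x ^ i * f * aeval x (w ^ i) := fun i => by
    induction i with
    | zero => simp
    | succ i ih =>
      rw [pow_succ, mul_assoc, hw, h.xc h.xZ.1, mul_assoc x, h.xc h.prim.mem.1, ← mul_assoc x,
        h.xc1 h.prim.mem.1, ← mul_assoc, ← mul_assoc, ih, mul_assoc _ _ x, h.xc h.xZ.1,
        pow_succ w, map_mul, pow_succ x, mul_assoc (x ^ i) x, h.xc1 h.prim.mem.1]
      simp only [mul_assoc]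
  exact ⟨aeval x (w ^ i) • (single g (1 : k) : k[G]) • s, by
    rw [Algebra.lsmul_apply, smul_smul, ← e, smul_smul, smul_smul, single_mul_eq, map_mul, map_pow,
      hg.2]⟩

theorem ann (hy : y ∈ Supp k (centralizer (Z : Set G))) (h2 : x * y = 0) :
    ∃ y', f * y = x ^ n * f * y' := by
  obtain ⟨ι, _, a, b, h3, h4⟩ := h.gen
  have key : ∀ r t, ∃ w, j * (b r * y * a t) * j = x ^ n * f * w := fun r t => by
    have hm := mul_mem (mul_mem (h3 r).2 hy) (h3 t).1
    obtain ⟨g, hg⟩ := h.loc _ hm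
    have h0 : x • (aeval x g * j) = 0 := by
      rw [smul_eq_mul, ← hg, ← mul_assoc, ← mul_assoc, h.xc1 h.jS, mul_assoc j, ← mul_assoc x,
        ← mul_assoc x, h.xc1 (h3 r).2, mul_assoc (b r), h2]; simp
    have : ∀ i ≤ n, X ^ i ∣ g := fun i hi => by
      induction i with
      | zero => simp
      | succ i ih =>
        obtain ⟨u, rfl⟩ := ih (by omega)
        rw [pow_succ]
        refine mul_dvd_mul_left _ (X_dvd_iff.2 ((smul_eq_zero.1 ?_).resolve_right h.ne))
        obtain ⟨m, rfl⟩ := Nat.exists_eq_add_of_le hi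
        rw [← aeval_smul_of_eq_zero (by rw [smul_eq_mul, ← mul_assoc, ← pow_succ', ← h.fj,
          ← mul_assoc, h.nil, zero_mul]), smul_eq_mul, ← mul_assoc, h.xc (pow_mem h.xZ.1 _),
          add_comm, pow_add, pow_succ', mul_assoc, mul_assoc, mul_assoc]
        rw [smul_eq_mul, map_mul, map_pow, aeval_X, mul_assoc] at h0
        rw [h0, mul_zero]
    obtain ⟨u, rfl⟩ := this n le_rfl
    refine ⟨aeval x u * j, ?_⟩
    rw [hg, map_mul, map_pow, aeval_X, mul_assoc, mul_assoc, ← mul_assoc f, ← h.xc h.prim.mem.1,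
      mul_assoc _ f, h.fj]
  choose w hw using key
  refine ⟨∑ r, ∑ t, a r * w r t * b t, ?_⟩
  conv_lhs => rw [← h.ff, mul_assoc, h.fc hy, ← mul_assoc, ← h4, Finset.sum_mul, Finset.sum_mul_sum]
  simp only [Finset.mul_sum]
  refine Finset.sum_congr rfl fun r _ => Finset.sum_congr rfl fun t _ => ?_
  rw [← mul_assoc (_ * f), ← mul_assoc (_ * f), mul_assoc _ f, h.fc (h3 r).1, ← mul_assoc (x ^ n),
    h.xc' (h3 r).1, mul_assoc (a r) _ f, mul_assoc (a r) _ (w r t), ← hw]
  simp only [mul_assoc]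

variable [Fintype G] {W : Type*} [AddCommGroup W] [Module k W] [Module k[G] W]
  [IsScalarTower k k[G] W] [FiniteDimensional k W]

theorem trace_mem [Fintype (centralizer (Z : Set G))] (ψ : V →ₗ[k] W) (hs : x • s = 0) :
    f • ∑ c : centralizer (Z : Set G), (single (c : G) (1 : k) : k[G]) •
      ψ ((single (c : G)⁻¹ (1 : k) : k[G]) • s) ∈ Fil W (x ^ n * f) := by
  let b := Module.finBasis k W
  let Y : Fin _ → V →ₗ[k] k[G] := fun i => ∑ c : centralizer (Z : Set G), (b.coord i ∘ₗ ψ ∘ₗ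
    Algebra.lsmul k k V (single (c : G)⁻¹ (1 : k) : k[G])).smulRight (single (c : G) 1)
  have Y1 : ∀ i s, Y i s = ∑ c : centralizer (Z : Set G), b.repr
    (ψ ((single (c : G)⁻¹ (1 : k) : k[G]) • s)) i • single (c : G) 1 := fun i s => by simp [Y]
  have Y2 : ∀ i, ∀ a ∈ Supp k (centralizer (Z : Set G)), a * Y i s = Y i (a • s) := fun i a ha => by
    refine supp_ind (P := fun a => a * Y i s = Y i (a • s)) (by simp)
      (fun a b ha hb => by rw [add_mul, add_smul, map_add, ha, hb]) (fun c g hg => ?_) ha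
    rw [smul_mul_assoc, smul_assoc, map_smul, Y1, Y1, Finset.mul_sum]
    conv_rhs => rw [← Equiv.sum_comp (Equiv.mulLeft (⟨g, hg⟩ : centralizer (Z : Set G)))]
    simp [smul_smul, single_mul_single]
  choose y hy using fun i => h.ann (y := Y i s) (by
    rw [Y1]; exact sum_mem fun c _ => Subalgebra.smul_mem _ (single_mem_Supp c.2 1) _)
    (by rw [Y2 i x h.xZ.1, hs, map_zero])
  refine ⟨∑ i, y i • b i, ?_⟩
  rw [Algebra.lsmul_apply, Finset.smul_sum]
  rw [Finset.sum_congr rfl fun i _ => by rw [smul_smul, ← hy, mul_smul], ← Finset.smul_sum]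
  congr 1
  simp only [Y1, Finset.sum_smul]
  rw [Finset.sum_comm]
  refine Finset.sum_congr rfl fun c _ => ?_
  conv_rhs => rw [← b.sum_repr (ψ _), Finset.smul_sum]
  exact Finset.sum_congr rfl fun i _ => by rw [smul_assoc, smul_comm]

theorem orbit_mem [hp : Fact p.Prime] [CharP k p] {X : Type*} [MulAction G X] (S : Finset X)
    (hS : ∀ c ∈ centralizer (Z : Set G), ∀ t ∈ S, c • t ∈ S) (ψ : X → V →ₗ[k] W)
    (h1 : ∀ c ∈ centralizer (Z : Set G), ∀ t s, ψ (c • t) s = (single c (1 : k) : k[G]) •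
      ψ t ((single c⁻¹ (1 : k) : k[G]) • s))
    (h2 : ∀ t ∈ S, ψ t ≠ 0 → ∀ c ∈ centralizer (Z : Set G), orderOf c = p → c • t = t →
      zpowers c ≠ Z)
    (hs : x • s = 0) : f • ∑ t ∈ S, ψ t s ∈ Fil W (x ^ n * f) := by
  classical
  have := sum_mem_of_orbits (Γ := centralizer (Z : Set G)) (Fil W (x ^ n * f))
    (fun t : Cj G × X => f.coeff t.1.val • f • (single t.1.val (1 : k) : k[G]) • ψ t.2 s)
    (Finset.univ ×ˢ S) (fun c t ht => Finset.mem_product.2 ⟨Finset.mem_univ _,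
      hS c c.2 _ (Finset.mem_product.1 ht).2⟩) (fun t ht h0 e => ?_) fun t _ => ?_
  · rw [Finset.sum_product] at this
    convert this using 1
    conv_lhs => rw [← h.ff, mul_smul]
    simp only [← Finset.smul_sum, smul_comm _ f]
    congr 1
    conv_lhs => rw [eq_sum_single f, Finset.sum_smul]
    exact Finset.sum_congr rfl fun y _ => smul_assoc _ _ _
  · obtain ⟨⟨c, hc⟩, ho⟩ := exists_prime_orderOf_dvd_card' p ((CharP.cast_eq_zero_iff k p _).1 e)
    rw [← orderOf_coe, ← orderOf_coe] at ho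
    exact h2 t.2 (Finset.mem_product.1 ht).2 (fun e => h0 (by simp [e])) c c.2 ho
      (congrArg Prod.snd hc) (h.psub c c.2 ho t.1.val
      (fun e => h0 (by simp [e])) (mul_inv_eq_iff_eq_mul.1 (congrArg (·.1.val) hc)))
  · have := (Fil W _).smul_mem (f.coeff t.1.val) (h.trace_mem (Algebra.lsmul k k W
      (single t.1.val (1 : k) : k[G]) ∘ₗ ψ t.2) hs)
    rw [Finset.smul_sum, Finset.smul_sum] at this
    convert this using 2 with c
    congr 1
    · exact mem_Fix.1 h.prim.mem.2 c c.2 _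
    · congr 1
      change (single ((c : G) * t.1.val * (c : G)⁻¹) (1 : k) : k[G]) • ψ ((c : G) • t.2) s = _
      rw [h1 c c.2]
      simp [smul_smul, single_mul_single]

theorem tate [hp : Fact p.Prime] [CharP k p] [IsAlgClosed k] [FiniteDimensional k V]
    [IsSimpleModule k[G] V]
    (he : ((centralizer (Z : Set G)).relIndex (normalizer (Z : Set G) ⊓ stabA f) : k) ≠ 0)
    (h1 : j • v = v) (h2 : x • v = 0)
    (hv : ∀ r ∈ Supp k (normalizer (Z : Set G) ⊓ stabA f), ∃ μ : k, (j * r) • v = μ • v)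
    (h3 : v ∉ Fil V (x ^ n * f)) (h4 : j • s = s) (h5 : x • s = 0) :
    ∃ μ : k, s - μ • v ∈ Fil V (x ^ n * f) := by
  classical
  set C := centralizer (Z : Set G)
  set T := normalizer (Z : Set G) ⊓ stabA f
  have hCT : C ≤ T := le_inf (centralizer_le_normalizer _) (le_stabA_iff.2 h.prim.mem.2)
  have hex : ∃ i, v ∉ Fil V (x ^ i * f) := ⟨n, h3⟩
  obtain ⟨m, hm⟩ : ∃ m, Nat.find hex = m + 1 := Nat.exists_eq_succ_of_ne_zero fun e =>
    (e ▸ Nat.find_spec hex) ⟨v, by simpa using h.f_smul h1⟩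
  obtain ⟨u0, hu0⟩ := mem_Fil.1 (not_not.1 (Nat.find_min hex (m := m) (by omega)))
  obtain ⟨φ, φ1, φ2⟩ := Submodule.exists_dual_map_eq_bot_of_notMem (hm ▸ Nat.find_spec hex)
    inferInstance
  obtain ⟨u, hu1, hu⟩ : ∃ u : V, j • u = u ∧ x ^ m • u = v := ⟨j • u0, by rw [smul_smul, h.jj], by
    rw [← h1, ← hu0, smul_smul, smul_smul, ← mul_assoc, ← h.xc' h.jS, mul_assoc, h.jf]⟩
  let φ0 := (φ v)⁻¹ • φ
  have f1 : φ0 v = 1 := by simp [φ0, φ1]
  have f3 : ∀ s : V, f • s = s → φ0 (x ^ (m + 1) • s) = 0 := fun s hs => by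
    have : φ (x ^ (m + 1) • s) = 0 := (Submodule.mem_bot k).1 (φ2 ▸ Submodule.mem_map_of_mem
      (mem_Fil.2 ⟨s, by rw [mul_smul, hs]⟩))
    simp [φ0, this]
  let π1 : V →ₗ[k] V := ∑ i ∈ Finset.range (m + 1),
    (φ0 ∘ₗ Algebra.lsmul k k V (x ^ (m - i))).smulRight (x ^ i • u)
  have p1 : ∀ s, π1 s = ∑ i ∈ Finset.range (m + 1), φ0 (x ^ (m - i) • s) • x ^ i • u := fun s => by
    simp only [π1, LinearMap.sum_apply, LinearMap.smulRight_apply, LinearMap.comp_apply,
      Algebra.lsmul_apply]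
  have p2 : ∀ s, f • s = s → π1 (x • s) = x • π1 s := fun s hs => by
    rw [p1, p1, Finset.smul_sum, Finset.sum_range_succ', Finset.sum_range_succ, hu,
      smul_comm x (φ0 _) v, h2, smul_zero, add_zero, Nat.sub_zero, smul_smul, ← pow_succ, f3 s hs,
      zero_smul, add_zero]
    refine Finset.sum_congr rfl fun i hi => ?_
    rw [smul_comm x, smul_smul x, ← pow_succ', smul_smul _ x, ← pow_succ]
    have := Finset.mem_range.1 hi
    congr 4; omega
  have p3 : ∀ s, f • s = s → ∀ g : k[X], π1 (aeval x g • s) = aeval x g • π1 s := fun s hs g => by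
    refine Polynomial.induction_on g (fun c => by
      rw [aeval_C, algebraMap_smul, algebraMap_smul, map_smul]) (fun a b ha hb => by
      simp only [map_add, add_smul, ha, hb]) fun i c ih => ?_
    rw [pow_succ', mul_left_comm, map_mul, aeval_X, mul_smul, mul_smul, p2, ih]
    rw [smul_smul, ← h.xc h.prim.mem.1, mul_smul, hs]
  have pj : ∀ s, j • π1 s = π1 s := fun s => by
    rw [p1, Finset.smul_sum]
    exact Finset.sum_congr rfl fun i _ => by
      rw [smul_comm j, smul_smul j, ← h.xc' h.jS, mul_smul, hu1]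
  have p4 : ∀ y ∈ Supp k C, ∀ s, π1 ((j * y * j) • s) = (j * y) • π1 (j • s) := fun y hy s => by
    obtain ⟨g, hg⟩ := h.loc y hy
    rw [← pj (j • s), smul_smul, hg, mul_smul, mul_smul, p3 _ (by rw [smul_smul, h.fj]), pj]
  have p5 : ∀ s, x • s = 0 → π1 s = φ0 s • v := fun s hs => by
    rw [p1, Finset.sum_range_succ, hu, Finset.sum_eq_zero fun i hi => ?_]
    · simp
    · rw [show m - i = m - i - 1 + 1 by have := Finset.mem_range.1 hi; omega, pow_succ, mul_smul, hs]
      simp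
  obtain ⟨ι, _, a, b, g1, g2⟩ := h.gen
  let π : V →ₗ[k] V := ∑ r, Algebra.lsmul k k V (a r) ∘ₗ π1 ∘ₗ Algebra.lsmul k k V (j * b r)
  have q0 : ∀ s, π s = ∑ r, a r • π1 ((j * b r) • s) := fun s => by simp [π, mul_smul]
  have q1 : ∀ s, f • π s = π s := fun s => by
    rw [q0, Finset.smul_sum]
    exact Finset.sum_congr rfl fun r _ => by
      rw [smul_smul, h.fc (g1 r).1, mul_smul, h.f_smul (pj _)]
  have q2 : ∀ c ∈ Supp k C, ∀ s, π (c • s) = c • π s := fun c hc s => by
    have e : ∀ r, (j * b r) • c • s = ∑ t, (j * (b r * c * a t) * j) • b t • s := fun r => by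
      simp only [smul_smul]
      rw [← Finset.sum_smul, ← h.jf, mul_assoc j f, mul_assoc j, mul_assoc f,
        h.fc (mul_mem (g1 r).2 hc), h.jf]
      conv_lhs => rw [← g2]
      simp only [Finset.mul_sum, mul_assoc]
    rw [q0, q0, Finset.smul_sum]
    simp only [e, map_sum, p4 _ (mul_mem (mul_mem (g1 _).2 hc) (g1 _).1), Finset.smul_sum]
    rw [Finset.sum_comm]
    refine Finset.sum_congr rfl fun t _ => ?_
    simp only [smul_smul]
    rw [← Finset.sum_smul, ← h.f_smul (pj _), smul_smul (c * a t), ← h.fc (mul_mem hc (g1 t).1),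
      h.f_smul (pj _)]
    conv_rhs => rw [← g2]
    simp only [Finset.sum_mul, mul_assoc]
  let Φ : G ⧸ C → V →ₗ[k] V := fun γ => π.conjugate γ.out⁻¹
  have Φ1 : ∀ γ s, Φ γ s = (single γ.out (1 : k) : k[G]) • π ((single γ.out⁻¹ (1 : k) : k[G]) • s) :=
    fun γ s => by simp [Φ, LinearMap.conjugate_apply]
  have out : ∀ (g : G) (γ : G ⧸ C), ∃ c ∈ C, (g • γ).out = g * γ.out * c := fun g γ => by
    obtain ⟨c, e⟩ := QuotientGroup.mk_out_eq_mul C (g * γ.out)
    exact ⟨c, c.2, by rw [← e, ← MulAction.Quotient.mk_smul_out]; rfl⟩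
  have Φ2 : ∀ (g : G) γ s, Φ (g • γ) s =
      (single g (1 : k) : k[G]) • Φ γ ((single g⁻¹ (1 : k) : k[G]) • s) := fun g γ s => by
    obtain ⟨c, hc, e⟩ := out g γ
    rw [Φ1, Φ1, e, mul_inv_rev, ← mul_one (1 : k), ← single_mul_single, ← single_mul_single c⁻¹,
      mul_smul, mul_smul, q2 _ (single_mem_Supp (inv_mem hc) _)]
    simp [smul_smul, single_mul_single]
  let Θ : V →ₗ[k[G]] V := equivariantOfLinearOfComm (∑ γ, Φ γ) fun g s => by
    simp only [LinearMap.sum_apply, Finset.smul_sum]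
    rw [← Equiv.sum_comp (MulAction.toPerm g)]
    refine Finset.sum_congr rfl fun γ _ => (Φ2 g γ _).trans ?_
    simp [smul_smul, single_mul_single, ← one_def]
  obtain ⟨c, hc⟩ := (IsSimpleModule.algebraMap_end_bijective_of_isAlgClosed k).2 Θ
  set R := Finset.univ.filter fun γ : G ⧸ C => γ.out ∈ T
  have Φ3 : ∀ γ s, cjA k γ.out f • Φ γ s = Φ γ s := fun γ s => by
    rw [Φ1, smul_smul, ← single_mul_eq, mul_smul, q1]
  have t1 : ∀ s, j • s = s → x • s = 0 → c • s - ∑ γ ∈ R, j • Φ γ s ∈ Fil V (x ^ n * f) := by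
    intro s s1 s2
    have b2 : c • s = ∑ γ, Φ γ s := by simpa [Θ] using DFunLike.congr_fun hc s
    have b3 := h.orbit_mem ((Finset.univ.filter fun γ : G ⧸ C => γ.out ∉ normalizer (Z : Set G)) ×ˢ
      (Finset.univ : Finset (Cj G))) (fun c hc t ht => ?_) (fun t => (cjA k t.1.out f).coeff t.2.val •
      Algebra.lsmul k k V (single t.2.val (1 : k) : k[G]) ∘ₗ Φ t.1) (fun c hc t s => ?_)
      (fun t ht t0 c hc ho e e' => ?_) s2
    · have b4 := h.smul_mem_Fil h.jS b3
      rw [smul_smul, h.jf, Finset.sum_product] at b4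
      convert b4 using 1
      rw [← s1, ← smul_comm, s1, b2, Finset.smul_sum, ← Finset.sum_filter_add_sum_filter_not _
        fun γ : G ⧸ C => γ.out ∈ T, add_sub_cancel_left, Finset.smul_sum, eq_comm]
      refine Finset.sum_subset_zero_on_sdiff (fun γ hγ => ?_) (fun γ hγ => ?_) fun γ _ => ?_
      · simp only [Finset.mem_filter, Finset.mem_univ, true_and] at hγ ⊢
        exact fun h => hγ h.1
      · simp only [Finset.mem_sdiff, Finset.mem_filter, Finset.mem_univ, true_and, not_not] at hγ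
        have hN := normalizer_le_normalizer_centralizer Z hγ.2
        rw [← Φ3, smul_smul, ← h.jf, mul_assoc, h.prim.mul_cjA_eq_zero le_rfl hN hN
          fun e => hγ.1 ⟨hγ.2, e⟩, mul_zero, zero_smul]
      · congr 1
        conv_rhs => rw [← Φ3, eq_sum_single (cjA k γ.out f), Finset.sum_smul, ← Cj.sum_val]
        exact Finset.sum_congr rfl fun y _ => (smul_assoc _ _ _).symm
    · obtain ⟨d, hd, e⟩ := out c t.1
      simp only [Finset.mem_product, Finset.mem_filter, Finset.mem_univ, true_and, and_true,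
        Prod.smul_fst, e] at ht ⊢
      rwa [mul_mem_cancel_right (centralizer_le_normalizer _ hd),
        mul_mem_cancel_left (centralizer_le_normalizer _ hc)]
    · obtain ⟨d, hd, e⟩ := out c t.1
      simp only [Prod.smul_fst, Prod.smul_snd, Cj.val_smul, e, ← cjA_cjA, h.prim.mem.2 d hd,
        LinearMap.smul_apply, LinearMap.comp_apply, Algebra.lsmul_apply, Φ2]
      rw [smul_comm (single c (1 : k) : k[G])]
      simp [smul_smul, single_mul_single, mul_assoc]
    · obtain ⟨d, hd, e1⟩ := out c t.1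
      rw [show c • t.1 = t.1 from congrArg Prod.fst e] at e1
      have e2 : c * t.2.val * c⁻¹ = t.2.val := congrArg (·.2.val) e
      have e3 : t.1.out⁻¹ * c * t.1.out = d⁻¹ := by
        rw [eq_inv_iff_mul_eq_one, mul_assoc, mul_assoc, ← mul_assoc c, ← e1, inv_mul_cancel]
      have e4 := h.psub d⁻¹ (inv_mem hd) (by rw [← e3, ← ho, ← inv_inv t.1.out, inv_inv t.1.out⁻¹,
        orderOf_conj']) (t.1.out⁻¹ * t.2.val * t.1.out) (fun e => t0 (by rw [coeff_cjA, e, zero_smul]))
        (by rw [← e3]; (conv_rhs => rw [← e2]); group)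
      refine (Finset.mem_filter.1 (Finset.mem_product.1 ht).1).2 (inv_mem_iff.1
        (cj_eq_iff_mem_normalizer.1 ?_))
      conv_lhs => rw [← e', cj_zpowers, inv_inv, e3, e4]
  have t2 : ∀ γ ∈ R, ∀ s, f • s = s → x • s = 0 → j • Φ γ s = ∑ r, φ0 ((j * (b r *
      single γ.out⁻¹ 1)) • s) • (j * (single γ.out 1 * a r)) • v := fun γ hγ s s1 s2 => by
    rw [Φ1, q0, Finset.smul_sum, Finset.smul_sum]
    refine Finset.sum_congr rfl fun r _ => ?_
    rw [p5 _ (by rw [smul_smul, h.xc1 (mul_mem h.jS (g1 r).2), mul_smul,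
      h.ker_smul (inv_mem (Finset.mem_filter.1 hγ).2) s1 s2, smul_zero])]
    simp only [mul_smul, smul_comm _ (φ0 _)]
  have t3 : ∑ γ ∈ R, j • Φ γ v = (C.relIndex T : k) • v := by
    rw [Finset.sum_congr rfl (g := fun _ => v) fun γ hγ => ?_, Finset.sum_const,
      Nat.cast_smul_eq_nsmul]
    · congr 1
      have : MulAction.stabilizer T ((1 : G) : G ⧸ C) = C.subgroupOf T := by
        ext t
        exact (QuotientGroup.eq (a := (t : G) * 1)).trans (by simp [mem_subgroupOf])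
      rw [relIndex, ← this, MulAction.index_stabilizer, ← Set.ncard_coe_finset]
      congr 1
      ext γ
      simp only [R, Finset.coe_filter, Finset.mem_univ, true_and, Set.mem_ofPred_eq]
      refine ⟨fun hγ => ⟨⟨_, hγ⟩, (congrArg QuotientGroup.mk (mul_one _)).trans γ.out_eq'⟩, ?_⟩
      rintro ⟨t, rfl⟩
      obtain ⟨c, e⟩ := QuotientGroup.mk_out_eq_mul C (t * 1 : G)
      exact (show _ = _ from e) ▸ mul_mem (mul_mem t.2 (one_mem _)) (hCT c.2)
    · have hg := (Finset.mem_filter.1 hγ).2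
      rw [t2 γ hγ v (h.f_smul h1) h2, Finset.sum_congr rfl (g := fun r => (j * single γ.out 1 *
        (a r * j * b r) * single γ.out⁻¹ 1) • v) fun r _ => ?_, ← Finset.sum_smul, ← Finset.sum_mul,
        ← Finset.mul_sum, g2, mul_assoc j, mul_assoc j, ← cjA_eq, hg.2, h.jf, h1]
      obtain ⟨μ, hμ⟩ := hv _ (mul_mem (Supp_mono hCT (g1 r).2) (single_mem_Supp (inv_mem hg) 1))
      rw [hμ, map_smul, f1, smul_eq_mul, mul_one, smul_comm, ← hμ, smul_smul]
      simp only [mul_assoc]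
  have c0 : c ≠ 0 := by
    rintro rfl
    have := t1 v h1 h2
    rw [t3, zero_smul, zero_sub, neg_mem_iff, Submodule.smul_mem_iff _ he] at this
    exact h3 this
  have t4 : ∑ γ ∈ R, j • Φ γ s ∈ k ∙ v := sum_mem fun γ hγ => by
    rw [t2 γ hγ s (h.f_smul h4) h5]
    refine sum_mem fun r _ => Submodule.smul_mem _ _ ?_
    obtain ⟨μ, hμ⟩ := hv _ (mul_mem (single_mem_Supp (Finset.mem_filter.1 hγ).2 1)
      (Supp_mono hCT (g1 r).1))
    exact Submodule.mem_span_singleton.2 ⟨μ, hμ.symm⟩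
  obtain ⟨μ, hμ⟩ := Submodule.mem_span_singleton.1 t4
  refine ⟨c⁻¹ * μ, (Submodule.smul_mem_iff _ c0).1 ?_⟩
  rw [smul_sub, smul_smul, mul_inv_cancel_left₀ c0, hμ]
  exact t1 s h4 h5

theorem block_smul [hp : Fact p.Prime] [CharP k p] [FiniteDimensional k V] {E : k[G]}
    (hE : E ∈ Fix k ⊤) (hf : f * Br Z E = f) (h1 : f • v = v) (h2 : x • v = 0) :
    f • E • v - v ∈ Fil V (x ^ n * f) := by
  classical
  have := h.orbit_mem (Finset.univ.filter fun t : Cj G => t.val ∉ centralizer (Z : Set G))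
    (fun c hc t ht => ?_) (fun t => E.coeff t.val • Algebra.lsmul k k V
      (single t.val (1 : k) : k[G])) (fun c hc t s => ?_) (fun t ht _ c hc _ e e' => ?_) h2
  · convert this using 1
    rw [show f • E • v - v = f • (E - Br Z E) • v by rw [sub_smul, smul_sub, smul_smul f (Br Z E),
      hf, h1], eq_sum_single (E - Br Z E), Finset.sum_smul, ← Cj.sum_val, Finset.sum_filter]
    refine congrArg _ (Finset.sum_congr rfl fun c _ => ?_)
    by_cases hc : c.val ∈ centralizer (Z : Set G) <;> simp [hc, coeff_tr, ← smul_assoc]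
  · simp only [Finset.mem_filter, Finset.mem_univ, true_and, Cj.val_smul] at ht ⊢
    rwa [mul_mem_cancel_right (inv_mem hc), mul_mem_cancel_left hc]
  · rw [Cj.val_smul, mem_Fix.1 hE c trivial, LinearMap.smul_apply, LinearMap.smul_apply,
      smul_comm (single c (1 : k) : k[G])]
    simp [smul_smul, single_mul_single, mul_assoc]
  · refine (Finset.mem_filter.1 ht).2 ?_
    rw [← e', centralizer_zpowers, mem_centralizer_singleton_iff]
    exact (mul_inv_eq_iff_eq_mul.1 (congrArg Cj.val e)).symm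

theorem exists_traces [hp : Fact p.Prime] [CharP k p] [IsAlgClosed k] {e : ℕ} (he : (e : k) ≠ 0)
    (h1 : (centralizer (Z : Set G)).relIndex (normalizer (Z : Set G) ⊓ stabA f) = e) {t : G}
    (ht : t ∈ normalizer (Z : Set G) ⊓ stabA f) (h2 : ∀ m, t ^ m ∈ centralizer (Z : Set G) ↔ e ∣ m)
    (h3 : ∀ g ∈ normalizer (Z : Set G) ⊓ stabA f, ∃ m : ℕ, g * (t ^ m)⁻¹ ∈ centralizer (Z : Set G))
    {E : k[G]} (hE : E ∈ Fix k ⊤) (hf : f * Br Z E = f) :
    ∃ τ : Fin e → k[G] →ₗ[k] k, (∀ i a b, τ i (a * b) = τ i (b * a)) ∧ (∀ i a, τ i (E * a) = τ i a) ∧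
      (∀ i (a b : k[G]), Commute a b → IsNilpotent a → τ i (a * b) = 0) ∧
      ∃ a : Fin e → k[G], ∀ i l, τ i (a l) = if i = l then 1 else 0 := by
  classical
  have := Fintype.ofFinite (centralizer (Z : Set G))
  set C := centralizer (Z : Set G)
  set T := normalizer (Z : Set G) ⊓ stabA f
  have hCT : C ≤ T := le_inf (centralizer_le_normalizer _) (le_stabA_iff.2 h.prim.mem.2)
  have hTN : ∀ g ∈ T, g ∈ normalizer (C : Set G) := fun g hg =>
    normalizer_le_normalizer_centralizer Z hg.1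
  have e0 : e ≠ 0 := fun e0 => he (by rw [e0, Nat.cast_zero])
  obtain ⟨α, hα, β, hβ, a1, a2⟩ := h.eqv t ht
  obtain ⟨ω, hω⟩ : ∃ ω, ω = j * β * single t 1 := ⟨_, rfl⟩
  obtain ⟨ω', hω'⟩ : ∃ ω', ω' = single t⁻¹ 1 * α * j := ⟨_, rfl⟩
  have tt : (single t⁻¹ 1 : k[G]) * single t 1 = 1 := by rw [single_mul_single, inv_mul_cancel,
    mul_one, one_def]
  have jω : j * ω = ω := by rw [hω, ← mul_assoc, ← mul_assoc, h.jj]
  have w1 : ω' * ω = j := by
    have : α * j * (j * β) = cjA k t j := by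
      rw [mul_assoc, ← mul_assoc j, h.jj, ← h.jj, map_mul, ← a1, h.jj, ← a2]; simp only [mul_assoc]
    rw [hω, hω', ← mul_assoc, mul_assoc _ α, mul_assoc _ (α * j), this, cjA_eq, ← mul_assoc,
      ← mul_assoc, tt, one_mul, mul_assoc, tt, mul_one]
  have w2 : ∀ m, ∃ d ∈ Supp k C, ω ^ m = d * single (t ^ m) 1 := fun m => by
    induction m with
    | zero => exact ⟨1, one_mem _, by simp [one_def]⟩
    | succ m ih =>
      obtain ⟨d, hd, e⟩ := ih
      exact ⟨j * β * cjA k t d, mul_mem (mul_mem h.jS hβ) (cjA_mem_Supp_of_normalizer hd (hTN t ht)),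
        by rw [pow_succ', e, hω, mul_assoc, ← mul_assoc (single t 1), single_mul_eq,
          mul_assoc _ (single t 1), single_mul_single, one_mul, ← pow_succ', ← mul_assoc]⟩
  have w3 : ∀ m, ∃ d ∈ Supp k C, ω' ^ m = single (t ^ m)⁻¹ 1 * d := fun m => by
    induction m with
    | zero => exact ⟨1, one_mem _, by simp [one_def]⟩
    | succ m ih =>
      obtain ⟨d, hd, e⟩ := ih
      refine ⟨cjA k t d * α * j, mul_mem (mul_mem (cjA_mem_Supp_of_normalizer hd (hTN t ht)) hα) h.jS,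
        ?_⟩
      rw [pow_succ, e, hω', cjA_eq, pow_succ', mul_inv_rev, ← mul_one (1 : k), ← single_mul_single]
      simp only [mul_assoc, mul_one]
      rw [← mul_assoc (single t⁻¹ 1) (single t 1), tt, one_mul]
  have w4 : ∀ (V : Type _) [AddCommGroup V] [Module k[G] V] [Module k V] [IsScalarTower k k[G] V]
      (s : V), j • s = s ∧ x • s = 0 → ∀ m, j • ω ^ m • s = ω ^ m • s ∧ x • ω ^ m • s = 0 ∧
      ω' ^ m • ω ^ m • s = s := fun V _ _ _ _ s hs m => by
    induction m with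
    | zero => simpa using hs
    | succ m ih =>
      rw [pow_succ', mul_smul, pow_succ, mul_smul, smul_smul ω', w1, ih.1]
      refine ⟨by rw [smul_smul, jω], ?_, ih.2.2⟩
      nth_rw 1 [hω]
      rw [mul_smul, smul_smul, h.xc1 (mul_mem h.jS hβ), mul_smul,
        h.ker_smul ht (h.f_smul ih.1) ih.2.1, smul_zero]
  obtain ⟨κ, hκ⟩ : ∃ κ : k, ω ^ e * (x ^ n * j) = κ • (x ^ n * j) ∧ κ ≠ 0 ∧
      j * (x ^ n * j) = x ^ n * j ∧ x * (x ^ n * j) = 0 := by
    have b1 : j • (x ^ n * j) = x ^ n * j ∧ x • (x ^ n * j) = 0 :=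
      ⟨by rw [smul_eq_mul, ← mul_assoc, ← h.xc' h.jS, mul_assoc, h.jj], by
        rw [smul_eq_mul, ← mul_assoc, ← pow_succ', ← h.fj, ← mul_assoc, h.nil, zero_mul]⟩
    obtain ⟨d, hd, e1⟩ := w2 e
    obtain ⟨κ, hκ⟩ := h.loc_smul (a := ω ^ e) (e1 ▸ mul_mem hd (single_mem_Supp ((h2 e).2 dvd_rfl) 1))
      b1.1 b1.2
    obtain ⟨b2, -, b3⟩ := w4 k[G] _ b1 e
    rw [mul_smul, b2] at hκ
    exact ⟨κ, hκ, fun e => h.ne (by rw [← b3, hκ, e, zero_smul, smul_zero]), b1⟩
  obtain ⟨k1, k2, k3, k4⟩ := hκ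
  have : NeZero (e : k) := ⟨he⟩
  have : NeZero e := ⟨e0⟩
  obtain ⟨ζ, hζ⟩ := HasEnoughRootsOfUnity.exists_primitiveRoot k e
  obtain ⟨κ0, hκ0⟩ := IsAlgClosed.exists_pow_nat_eq κ (Nat.pos_of_ne_zero e0)
  let c : Fin e → k := fun i => κ0 * ζ ^ (i : ℕ)
  have c1 : ∀ i, c i ^ e = κ := fun i => by
    rw [mul_pow, hκ0, ← pow_mul, mul_comm _ e, pow_mul, hζ.pow_eq_one, one_pow, mul_one]
  have c2 : ∀ i, c i ≠ 0 := fun i e => k2 (by rw [← c1 i, e, zero_pow e0])
  have c3 : Injective c := fun i l e => Fin.ext (hζ.pow_inj i.2 l.2 (mul_left_cancel₀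
    (left_ne_zero_of_mul (c2 i)) e))
  have key : ∀ i, ∃ I : Ideal k[G], I.IsMaximal ∧ ∃ s : k[G] ⧸ I, j • s = s ∧ x • s = 0 ∧
      ω • s = c i • s ∧ s ∉ Fil (k[G] ⧸ I) (x ^ n * f) := fun i => by
    obtain ⟨u, hu⟩ : ∃ u, u = ∑ m ∈ Finset.range e, (c i)⁻¹ ^ m • (ω ^ m * (x ^ n * j)) := ⟨_, rfl⟩
    have u1 : j * u = u ∧ x * u = 0 := by
      simp only [hu, Finset.mul_sum, mul_smul_comm]
      exact ⟨Finset.sum_congr rfl fun m _ => congrArg _ (w4 k[G] _ ⟨k3, k4⟩ m).1,
        Finset.sum_eq_zero fun m _ => by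
          rw [show x * (ω ^ m * (x ^ n * j)) = 0 from (w4 k[G] _ ⟨k3, k4⟩ m).2.1, smul_zero]⟩
    have u2 : ω * u = c i • u := by
      have := Finset.sum_range_succ' (fun m => (c i)⁻¹ ^ m • (ω ^ m * (x ^ n * j))) e
      rw [Finset.sum_range_succ, k1, smul_smul, ← c1 i, ← mul_pow, inv_mul_cancel₀ (c2 i), one_pow,
        pow_zero, pow_zero, one_mul, add_left_inj, ← hu] at this
      conv_rhs => rw [this, Finset.smul_sum]
      rw [hu, Finset.mul_sum]
      exact Finset.sum_congr rfl fun m _ => by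
        rw [smul_smul, pow_succ', mul_inv_cancel_left₀ (c2 i), mul_smul_comm, pow_succ', mul_assoc]
    have u3 : u ∈ Supp k T := hu ▸ sum_mem fun m _ => Subalgebra.smul_mem _ (mul_mem (pow_mem
      (hω ▸ mul_mem (Supp_mono hCT (mul_mem h.jS hβ)) (single_mem_Supp ht 1)) _)
      (Supp_mono hCT (mul_mem (pow_mem h.xZ.1 _) h.jS))) _
    have u4 : u ≠ 0 := fun e => h.ne (by
      have := congrArg (tr C) e
      rw [map_zero, hu, map_sum, Finset.sum_eq_single_of_mem 0
        (Finset.mem_range.2 (Nat.pos_of_ne_zero e0)) fun m hm m0 => ?_] at this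
      · rwa [pow_zero, pow_zero, one_smul, one_mul,
          tr_of_mem_Supp (mul_mem (pow_mem h.xZ.1 n) h.jS)] at this
      · obtain ⟨d, hd, e⟩ := w2 m
        rw [map_smul, e, mul_assoc, tr_mul_of_Supp_left hd,
          tr_mul_of_Supp_right _ (mul_mem (pow_mem h.xZ.1 n) h.jS), show tr C (single (t ^ m) (1 : k)) = 0
          from not_not.1 fun h0 => ?_]
        · simp
        · obtain ⟨y, hy, h0⟩ := tr_ne_zero_iff.1 h0
          obtain rfl : t ^ m = y := by_contra fun h => h0 (by simp [h])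
          exact m0 (Nat.eq_zero_of_dvd_of_lt ((h2 m).1 hy) (Finset.mem_range.1 hm)))
    let U : Submodule k[G] k[G] := Submodule.span k[G] {u}
    let u' : U := ⟨u, Submodule.mem_span_singleton_self u⟩
    have v1 : j • u' = u' := Subtype.ext u1.1
    have v2 : x • u' = 0 := Subtype.ext u1.2
    have v3 : ω • u' = c i • u' := Subtype.ext u2
    obtain ⟨I, hI, φ, hφ⟩ := CfsgH8.exists_nonproj (k := k) (G := G) (V := U) fun ψ hψ => by
      have b1 := h.orbit_mem (Finset.univ : Finset G) (fun _ _ _ _ => Finset.mem_univ _)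
        (fun g => ψ.conjugate g⁻¹) (fun c _ g s => by
          simp [LinearMap.conjugate_apply, smul_smul, single_mul_single]) (fun g _ _ c _ ho e _ =>
          hp.out.one_lt.ne' (by rw [← ho, mul_eq_right.1 e, orderOf_one])) v2
      have b2 := DFunLike.congr_fun hψ u'
      rw [LinearMap.id_apply, LinearMap.sumOfConjugatesEquivariant_apply,
        ← Equiv.sum_comp (Equiv.inv G)] at b2
      obtain ⟨⟨z, hz⟩, e⟩ := mem_Fil.1 b1
      obtain ⟨a, rfl⟩ := Submodule.mem_span_singleton.1 hz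
      have e1 : x ^ n * f * (a * u) = u := congrArg Subtype.val
        (e.trans ((congrArg (f • ·) b2.symm).trans (h.f_smul (V := U) v1)) : _ = u')
      have e2 := congrArg (tr T) e1
      rw [tr_mul_of_Supp_left (Supp_mono hCT (mul_mem (pow_mem h.xZ.1 n) h.prim.mem.1)),
        tr_mul_of_Supp_right _ u3, tr_of_mem_Supp u3, ← h.fc (pow_mem h.xZ.1 n), mul_assoc,
        ← Nat.sub_add_cancel (Nat.pos_of_ne_zero h.pos), pow_succ, mul_assoc] at e2
      refine u4 (e2.symm.trans ?_)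
      rw [supp_ind (P := fun a => x * (a * u) = 0) (by simp) (fun a b ha hb => by
        rw [add_mul, mul_add, ha, hb, add_zero]) (fun c g hg => by
        rw [smul_mul_assoc, mul_smul_comm, show x * (single g 1 * u) = 0 from
          h.ker_smul hg (h.f_smul u1.1) u1.2, smul_zero]) (tr_mem_Supp T a)]
      simp
    refine ⟨I, hI, φ u', by rw [← map_smul, v1], by rw [← map_smul, v2, map_zero], by
      rw [← map_smul, v3, LinearMap.map_smul_of_tower], fun hs => ?_⟩
    obtain ⟨s, hs'⟩ := mem_Fil.1 hs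
    let c' : U →ₗ[k] k := ⟨⟨fun v => v.1.coeff 1, fun a b => by simp⟩, fun a b => by simp⟩
    refine hφ (c'.smulRight ((e : k)⁻¹ • s)) (LinearMap.ext fun v => ?_)
    have e1 : (c'.smulRight ((e : k)⁻¹ • s)).sumOfConjugatesEquivariant G v = v.1 • (e : k)⁻¹ • s := by
      rw [LinearMap.sumOfConjugatesEquivariant_apply, ← Equiv.sum_comp (Equiv.inv G)]
      conv_rhs => rw [eq_sum_single v.1, Finset.sum_smul]
      refine Finset.sum_congr rfl fun g _ => ?_
      have : c' ((single g⁻¹ (1 : k) : k[G]) • v) = v.1.coeff g := by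
        change (single g⁻¹ (1 : k) * v.1).coeff 1 = _
        simp
      rw [smul_assoc, Equiv.inv_apply, LinearMap.conjugate_apply, inv_inv,
        LinearMap.smulRight_apply, this, smul_comm]
    obtain ⟨v, hv⟩ := v
    obtain ⟨a, rfl⟩ := Submodule.mem_span_singleton.1 hv
    rw [e1, show (⟨a • u, hv⟩ : U) = a • u' from rfl, map_smul]
    change _ = (a * u) • (e : k)⁻¹ • s
    have e2 : ∀ m, ω ^ m • φ u' = c i ^ m • φ u' := fun m => by
      induction m with
      | zero => simp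
      | succ m ih => rw [pow_succ', mul_smul, ih, smul_comm, ← map_smul, v3,
          LinearMap.map_smul_of_tower, smul_smul, pow_succ]
    rw [mul_smul, smul_comm u, hu, Finset.sum_smul, Finset.sum_congr rfl (g := fun _ => φ u')
      fun m _ => ?_, Finset.sum_const, Finset.card_range, ← Nat.cast_smul_eq_nsmul k, smul_smul,
      inv_mul_cancel₀ he, one_smul]
    rw [smul_assoc, mul_smul, ← h.jf, ← mul_assoc, h.xc' h.jS, mul_assoc, mul_smul, hs', ← map_smul,
      v1, e2, smul_smul, ← mul_pow, inv_mul_cancel₀ (c2 i), one_pow, one_smul]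
  choose I hI s s1 s2 s3 s4 using key
  have hS : ∀ i, IsSimpleModule k[G] (k[G] ⧸ I i) := fun i =>
    isSimpleModule_iff_quot_maximal.2 ⟨I i, hI i, ⟨LinearEquiv.refl _ _⟩⟩
  have hH : ∀ i l, i ≠ l → ∀ φ : (k[G] ⧸ I i) →ₗ[k[G]] k[G] ⧸ I l, φ = 0 := fun i l hil φ => by
    refine φ.bijective_or_eq_zero.resolve_left fun hφ => s4 i ?_
    have hv : ∀ r ∈ Supp k T, (j * r) • s l ∈ k ∙ s l := fun r hr => by
      refine supp_ind (P := fun r => (j * r) • s l ∈ k ∙ s l) (by simp) (fun a b ha hb => by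
        rw [mul_add, add_smul]; exact add_mem ha hb) (fun μ g hg => ?_) hr
      obtain ⟨m, hm⟩ := h3 g hg
      obtain ⟨d, hd, e⟩ := w3 m
      obtain ⟨ν, hν⟩ := h.loc_smul (mul_mem (single_mem_Supp hm 1) hd) (s1 l) (s2 l)
      have e2 : ∀ m, ω ^ m • s l = c l ^ m • s l := fun m => by
        induction m with
        | zero => simp
        | succ m ih => rw [pow_succ', mul_smul, ih, smul_comm, s3, smul_smul, pow_succ]
      rw [mul_smul_comm, smul_assoc]
      refine Submodule.smul_mem _ _ ?_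
      nth_rw 2 [← (w4 _ _ ⟨s1 l, s2 l⟩ m).2.2]
      rw [e2, smul_comm (ω' ^ m), smul_comm, smul_smul, e, mul_assoc, ← mul_assoc (single g 1),
        single_mul_single, one_mul, hν]
      exact Submodule.smul_mem _ _ (Submodule.smul_mem _ _ (Submodule.mem_span_singleton_self _))
    obtain ⟨μ, hμ⟩ := h.tate (V := k[G] ⧸ I l) (s := φ (s i)) (h1 ▸ he) (s1 l) (s2 l) 
      (fun r hr => (Submodule.mem_span_singleton.1 (hv r hr)).imp fun _ => Eq.symm)
      (s4 l) (by rw [← map_smul, s1]) (by rw [← map_smul, s2, map_zero])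
    · have b1 : ω • (φ (s i) - μ • s l) ∈ Fil _ (x ^ n * f) := by
        rw [hω, mul_smul]
        exact h.smul_mem_Fil (mul_mem h.jS hβ) (h.single_smul_mem_Fil ht hμ)
      have b2 := sub_mem b1 (Submodule.smul_mem _ (c l) hμ)
      rw [smul_sub, smul_sub, smul_comm ω μ, s3, smul_comm μ, sub_sub_sub_cancel_right, ← map_smul,
        s3, LinearMap.map_smul_of_tower, ← sub_smul,
        Submodule.smul_mem_iff _ (sub_ne_zero.2 (c3.ne hil))] at b2
      obtain ⟨z, hz⟩ := mem_Fil.1 b2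
      obtain ⟨z, rfl⟩ := hφ.2 z
      exact ⟨z, hφ.1 (by rw [← hz, ← map_smul]; rfl)⟩
  choose a ha using CfsgH8.exists_trace_sep (k := k) (A := k[G]) (fun i => k[G] ⧸ I i) hH
  refine ⟨fun i => LinearMap.trace k _ ∘ₗ (Algebra.lsmul k k (k[G] ⧸ I i)).toLinearMap,
    fun i a b => ?_, fun i b => ?_, fun i a b hc hn => ?_, a, fun i j => ha j i⟩
  · simp only [LinearMap.comp_apply, AlgHom.toLinearMap_apply, map_mul]
    exact LinearMap.trace_mul_comm _ _ _
  · obtain ⟨c, hc⟩ := (IsSimpleModule.algebraMap_end_bijective_of_isAlgClosed k).2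
      (⟨⟨fun s => E • s, smul_add E⟩, fun a s => by
        simp only [smul_smul, mul_comm_of_Fix_top hE, RingHom.id_apply]⟩ : End k[G] (k[G] ⧸ I i))
    have c1 : ∀ s : k[G] ⧸ I i, E • s = c • s := fun s => by simpa using (DFunLike.congr_fun hc s).symm
    have c2 := h.block_smul hE hf (h.f_smul (s1 i)) (s2 i)
    have c4 : c = 1 := by
      by_contra h'
      rw [c1, smul_comm, h.f_smul (s1 i), ← one_smul k (s i), smul_smul, ← sub_smul, mul_one] at c2
      exact s4 i ((Submodule.smul_mem_iff _ (sub_ne_zero.2 h')).1 c2)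
    simp only [LinearMap.comp_apply, AlgHom.toLinearMap_apply]
    congr 1
    ext s
    simp [c1, c4]
  · exact (LinearMap.isNilpotent_trace_of_isNilpotent ((hc.isNilpotent_mul_right hn).map
      (Algebra.lsmul k k (k[G] ⧸ I i)))).eq_zero

end CD

end CfsgH4
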