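import Cfsg.Agent.H4.Sub2

set_option autoImplicit false

open MonoidAlgebra Subgroup CfsgH2 Function Cfsg CfsgH3
open scoped ComplexConjugate

namespace CfsgH4

variable {G : Type*} [Group G] {D : Subgroup G} {p : ℕ}

theorem exists_mul_of_DC (hG : D ⊔ centralizer (D : Set G) = ⊤) (g : G) :
    ∃ y ∈ D, ∃ c ∈ centralizer (D : Set G), y * c = g :=
  (mem_sup_of_normalizer (centralizer_le_normalizer _)).1 (hG ▸ mem_top g)

theorem normal_of_DC (hG : D ⊔ centralizer (D : Set G) = ⊤) : D.Normal :=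
  normalizer_eq_top_iff.1 (top_le_iff.1 (hG ▸ sup_le le_normalizer (centralizer_le_normalizer _)))

theorem DC_of_central (h : D ≤ center G) : D ⊔ centralizer (D : Set G) = ⊤ :=
  top_le_iff.1 fun g _ => mem_sup_right fun _ hd => (mem_center_iff.1 (h hd) g).symm

theorem classFun_conj_DC (hG : D ⊔ centralizer (D : Set G) = ⊤) {ζ : D → ℂ}
    (hζ : IsClassFunction D ζ) (y : D) (n : G) (h : n * y * n⁻¹ ∈ D) : ζ ⟨_, h⟩ = ζ y := by
  obtain ⟨d, hd, c, hc, rfl⟩ := exists_mul_of_DC hG n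
  rw [← hζ y ⟨d, hd⟩]
  congr 1
  ext
  simp only [coe_mul, coe_inv, mul_assoc, mul_inv_rev]
  rw [← mul_assoc c, ← hc y y.2]; simp

variable [Finite G]

theorem exists_fac (hG : D ⊔ centralizer (D : Set G) = ⊤) (ψ : IrrCharacter G) :
    ∃ (ξ : IrrCharacter D) (φ : IrrCharacter (centralizer (D : Set G))),
      ∀ (y : D) (c : centralizer (D : Set G)), ψ.1 (y * c) = ξ.1 y * φ.1 c := by
  let π : D × centralizer (D : Set G) →* G :=
    D.subtype.noncommCoprod (centralizer (D : Set G)).subtype fun a b => b.2 a a.2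
  have hπ : Surjective π := fun g => by
    obtain ⟨y, hy, c, hc, rfl⟩ := exists_mul_of_DC hG g
    exact ⟨(⟨y, hy⟩, ⟨c, hc⟩), rfl⟩
  obtain ⟨ξ, φ, h1, h2, h⟩ := exists_irr_prod (ψ.2.comp_surjective π hπ)
  exact ⟨⟨ξ, h1⟩, ⟨φ, h2⟩, fun y c => congrFun h (y, c)⟩

/-- `ψ` restricts to a multiple of `ξ` on the central factor `D` -/
def Fac (D : Subgroup G) (ψ : G → ℂ) (ξ : D → ℂ) : Prop :=
  ∀ (y : D), ∀ c ∈ centralizer (D : Set G), ψ (y * c) = ξ y / ξ 1 * ψ c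

omit [Finite G] in
theorem fac_of_prod {ψ : G → ℂ} {ξ : IrrCharacter D} {φ : centralizer (D : Set G) → ℂ}
    (h : ∀ (y : D) (c : centralizer (D : Set G)), ψ (y * c) = ξ.1 y * φ c) : Fac D ψ ξ.1 := by
  intro y c hc
  have h1 := h 1 ⟨c, hc⟩
  rw [coe_one, one_mul] at h1
  rw [h y ⟨c, hc⟩, h1, ← mul_assoc, div_mul_cancel₀ _ ξ.2.one_ne_zero]

theorem exists_fac' (hG : D ⊔ centralizer (D : Set G) = ⊤) (ψ : IrrCharacter G) :
    ∃ ξ : IrrCharacter D, Fac D ψ.1 ξ.1 :=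
  let ⟨ξ, _, h⟩ := exists_fac hG ψ
  ⟨ξ, fac_of_prod h⟩

omit [Finite G] in
theorem Fac.apply {ψ : G → ℂ} {ξ : D → ℂ} (h : Fac D ψ ξ) (y : D) : ψ y = ξ y / ξ 1 * ψ 1 := by
  simpa using h y 1 (one_mem _)

variable [hp : Fact p.Prime]

theorem mem_cent_of_reg (hG : D ⊔ centralizer (D : Set G) = ⊤) (hD : IsPGroup p D) {x : G}
    (hx : ¬ p ∣ orderOf x) : x ∈ centralizer (D : Set G) := by
  have := normal_of_DC hG
  obtain ⟨k, hk⟩ := IsPGroup.iff_card.1 hD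
  obtain ⟨j, -, hj⟩ := (Nat.dvd_prime_pow hp.out).1
    (hk ▸ relIndex_dvd_card (centralizer (D : Set G)) D)
  refine mem_of_not_dvd_orderOf (k := j) ?_ hx
  rw [← hj, ← relIndex_sup_right, hG, relIndex_top_right]

omit [Finite G] in
theorem ord_of_mem (hD : IsPGroup p D) {y : G} (hy : y ∈ D) : ∃ k, orderOf y = p ^ k := by
  obtain ⟨k, hk⟩ := hD ⟨y, hy⟩
  obtain ⟨i, -, hi⟩ := (Nat.dvd_prime_pow hp.out).1
    (orderOf_dvd_of_pow_eq_one (x := y) (congrArg Subtype.val hk))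
  exact ⟨i, hi⟩

theorem isPPart_DC (hG : D ⊔ centralizer (D : Set G) = ⊤) (hD : IsPGroup p D) (y : D) {x : G} :
    IsPPart p (y * x) (y : G) ↔ ¬ p ∣ orderOf x :=
  ⟨fun ⟨_, h1, _, _, h2⟩ => mul_left_cancel h1 ▸ h2, fun h =>
    isPPart_mul (mem_cent_of_reg hG hD h y y.2) (ord_of_mem hD y.2) h⟩

omit hp [Finite G] in
variable (p D) in
/-- vanishing off the `p`-sections of elements of `D` -/
def VanD (θ : G → ℂ) : Prop := ∀ g x, IsPPart p g x → x ∉ D → θ g = 0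

theorem sum_secP_of_mem [Fintype D] (f : D → G → ℂ) {g : G} (y : D) (h : IsPPart p g (y : G)) :
    (∑ w : D, secP p (w : G) (f w)) g = f y g := by
  rw [Finset.sum_apply, Finset.sum_eq_single_of_mem y (Finset.mem_univ _), secP_of _ h]
  exact fun w _ hne => secP_of_not _ fun a => hne (Subtype.ext (isPPart_unique a h))

theorem vanD_sum_secP [Fintype D] (f : D → G → ℂ) : VanD D p (∑ w : D, secP p (w : G) (f w)) :=
  fun g x hx hxD => by
    rw [Finset.sum_apply]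
    exact Finset.sum_eq_zero fun w _ => secP_of_not _ fun a => hxD (isPPart_unique a hx ▸ w.2)

theorem VanD.eq_sum [Fintype D] {θ : G → ℂ} (h : VanD D p θ) : θ = ∑ w : D, secP p (w : G) θ := by
  funext g
  obtain ⟨x, hx⟩ := exists_isPPart p g
  by_cases e : x ∈ D
  · rw [sum_secP_of_mem (fun _ => θ) ⟨x, e⟩ hx]
  · rw [h g x hx e, vanD_sum_secP _ g x hx e]

theorem inner_of_fac [Fintype G] [Fintype D] (hG : D ⊔ centralizer (D : Set G) = ⊤)
    (hD : IsPGroup p D) {θ η θ' η' : G → ℂ} {α β : D → ℂ} (h0 : VanD D p θ)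
    (hθ : ∀ (y : D) x, ¬ p ∣ orderOf x → θ (y * x) = α y * θ' x)
    (hη : ∀ (y : D) x, ¬ p ∣ orderOf x → η (y * x) = β y * η' x) :
    classInner θ η = Nat.card D * classInner α β * classInner (regPart p θ') η' := by
  rw [h0.eq_sum, CfsgH3.inner_sum_left, classInner, mul_inv_cancel_left₀ (card_ne_zero_complex D),
    Finset.sum_mul]
  refine Finset.sum_congr rfl fun y _ => ?_
  rw [← inner_shf (y : G), classInner, classInner, mul_left_comm, Finset.mul_sum _ _ (_ * conj _)]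
  congr 1
  refine Finset.sum_congr rfl fun x _ => ?_
  by_cases e : p ∣ orderOf x
  · rw [regPart_of_dvd _ e, shf_apply, secP_of_not _ fun a => (isPPart_DC hG hD y).1 a e]; simp
  · rw [regPart_of_not_dvd _ e, shf_apply, shf_apply, secP_of _ ((isPPart_DC hG hD y).2 e),
      hθ y x e, hη y x e, map_mul]; ring

omit hp in
variable (p) in
/-- the function `g ↦ ζ (g_p) χ (g_p')`, zero if `g_p ∉ D` -/
noncomputable def twp (ζ : D → ℂ) (χ : G → ℂ) : G → ℂ :=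
  haveI := Fintype.ofFinite D
  ∑ y : D, secP p (y : G) (ζ y • shf (y : G)⁻¹ χ)

variable {ζ ζ' : D → ℂ} {χ : G → ℂ}

theorem twp_of_ppart {g : G} (y : D) (h : IsPPart p g (y : G)) :
    twp p ζ χ g = ζ y * χ ((y : G)⁻¹ * g) := by
  let := Fintype.ofFinite D
  exact sum_secP_of_mem (fun y : D => ζ y • shf (y : G)⁻¹ χ) y h

theorem vanD_twp : VanD D p (twp p ζ χ) := by
  let := Fintype.ofFinite D
  exact vanD_sum_secP _

theorem twp_apply (hG : D ⊔ centralizer (D : Set G) = ⊤) (hD : IsPGroup p D) (y : D) {x : G}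
    (hx : ¬ p ∣ orderOf x) : twp p ζ χ (y * x) = ζ y * χ x := by
  rw [twp_of_ppart y ((isPPart_DC hG hD y).2 hx), inv_mul_cancel_left]

theorem twp_reg {x : G} (hx : ¬ p ∣ orderOf x) : twp p ζ χ x = ζ 1 * χ x := by
  rw [twp_of_ppart 1 (isPPart_one_iff.2 hx)]; simp

theorem twp_one : twp p ζ χ 1 = ζ 1 * χ 1 := twp_reg (by simpa using hp.out.ne_one)

theorem twp_mem (hD : IsPGroup p D) (y : D) : twp p ζ χ y = ζ y * χ 1 := by
  rw [twp_of_ppart y (isPPart_self (ord_of_mem hD y.2)), inv_mul_cancel]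

theorem twp_classFun (hG : D ⊔ centralizer (D : Set G) = ⊤) (hζ : IsClassFunction D ζ)
    (hχ : IsClassFunction G χ) : IsClassFunction G (twp p ζ χ) := fun g n => by
  have := normal_of_DC hG
  obtain ⟨x, hx⟩ := exists_isPPart p g
  by_cases e : x ∈ D
  · rw [twp_of_ppart ⟨x, e⟩ hx, twp_of_ppart ⟨_, this.conj_mem x e n⟩ (isPPart_conj hx n),
      classFun_conj_DC hG hζ ⟨x, e⟩, ← hχ (_ * g) n]
    simp [mul_assoc]
  · rw [vanD_twp g x hx e, vanD_twp _ _ (isPPart_conj hx n) fun a => e ?_]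
    simpa [mul_assoc] using this.conj_mem _ a n⁻¹

theorem VanD.ext {θ η : G → ℂ} (h : VanD D p θ) (h' : VanD D p η)
    (e : ∀ (y : D) x, ¬ p ∣ orderOf x → Commute (y : G) x → θ (y * x) = η (y * x)) : θ = η := by
  funext g
  obtain ⟨x, hx⟩ := exists_isPPart p g
  by_cases a : x ∈ D
  · obtain ⟨s, rfl, hc, -, hs⟩ := hx
    exact e ⟨x, a⟩ s hs hc
  · rw [h g x hx a, h' g x hx a]

section
variable [Fintype G] [Fintype D] (hG : D ⊔ centralizer (D : Set G) = ⊤) (hD : IsPGroup p D)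
include hG hD

theorem inner_fac {θ θ' : G → ℂ} {α : D → ℂ} (h0 : VanD D p θ)
    (hθ : ∀ (y : D) x, ¬ p ∣ orderOf x → θ (y * x) = α y * θ' x) {ψ : IrrCharacter G}
    {ξ : IrrCharacter D} (h : Fac D ψ.1 ξ.1) :
    classInner θ ψ.1 = classInner α ξ.1 * (Nat.card D * mR p θ' ψ.1 / ξ.1 1) := by
  rw [inner_of_fac hG hD h0 hθ (β := (ξ.1 1)⁻¹ • ξ.1) (η' := ψ.1) fun y x hx => by
    rw [h y x (mem_cent_of_reg hG hD hx), div_eq_inv_mul]; rfl, CfsgH3.inner_smul_right,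
    map_inv₀, ξ.2.isChar.conj_one, mR_eq_inner_irr]
  ring

theorem inner_twp {ψ : IrrCharacter G} {ξ : IrrCharacter D} (h : Fac D ψ.1 ξ.1) :
    classInner (twp p ζ χ) ψ.1 = classInner ζ ξ.1 * (Nat.card D * mR p χ ψ.1 / ξ.1 1) :=
  inner_fac hG hD vanD_twp (fun y _ hx => twp_apply hG hD y hx) h

theorem inner_twp_twp {χ : IrrCharacter G} : classInner (twp p ζ χ.1) (twp p ζ' χ.1) =
    classInner ζ ζ' * (Nat.card D * mR p χ.1 χ.1) := by
  rw [inner_of_fac hG hD vanD_twp (fun y _ hx => twp_apply hG hD y hx)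
    (fun y _ hx => twp_apply hG hD y hx), mR_eq_inner_irr]
  ring

theorem isGen_twp (hζ : IsGeneralizedCharacter D ζ) (hχ : IsClassFunction G χ)
    (h : ∀ (ψ : IrrCharacter G) (ξ : IrrCharacter D), Fac D ψ.1 ξ.1 →
      ∃ n : ℤ, Nat.card D * mR p χ ψ.1 / ξ.1 1 = n) : IsGeneralizedCharacter G (twp p ζ χ) := by
  refine isGen_of_inner_int (twp_classFun hG hζ.classFun hχ) fun ψ hψ => ?_
  obtain ⟨ξ, hξ⟩ := exists_fac' hG ⟨ψ, hψ⟩
  obtain ⟨n, hn⟩ := h _ _ hξ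
  obtain ⟨m, hm⟩ := hζ.inner_int ξ.2.isGen
  exact ⟨m * n, by rw [inner_twp hG hD hξ, hn, hm, Int.cast_mul]⟩

theorem irr_twp {χ : IrrCharacter G} {ζ : IrrCharacter D}
    (h : IsGeneralizedCharacter G (twp p ζ.1 χ.1)) (h1 : Nat.card D * mR p χ.1 χ.1 = 1) :
    IsIrrCharacter G (twp p ζ.1 χ.1) := by
  refine h.irr_of_inner_eq_one (by rw [inner_twp_twp hG hD, h1, ζ.2.inner_self, one_mul]) ?_
  rw [twp_one, ← coe_charDegree ζ.2.isChar, ← coe_charDegree χ.2.isChar]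
  exact_mod_cast Nat.zero_le _

theorem mR_self_of_vanD {χ : IrrCharacter G} (h0 : VanD D p χ.1) {ξ : IrrCharacter D}
    (h : Fac D χ.1 ξ.1) : Nat.card D * mR p χ.1 χ.1 = ξ.1 1 ^ 2 := by
  have := inner_fac hG hD h0 (α := (ξ.1 1)⁻¹ • ξ.1) (θ' := χ.1) (fun y x hx => by
    rw [h y x (mem_cent_of_reg hG hD hx), div_eq_inv_mul]; rfl) h
  rw [χ.2.inner_self, CfsgH3.inner_smul_left, ξ.2.inner_self] at this
  have h1 := ξ.2.one_ne_zero
  field_simp at this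
  exact this.symm

end

omit [Finite G] in
theorem twp_injective [Finite G] (hD : IsPGroup p D) (h1 : χ 1 ≠ 0)
    (h : twp p ζ χ = twp p ζ' χ) : ζ = ζ' :=
  funext fun y => mul_right_cancel₀ h1 (by rw [← twp_mem hD, h, twp_mem hD])

theorem exists_deg_pow (hD : IsPGroup p D) (ξ : IrrCharacter D) :
    charDegree ξ.1 = p ^ nu p ξ.1 := by
  obtain ⟨k, hk⟩ := IsPGroup.iff_card.1 hD
  obtain ⟨j, -, hj⟩ := (Nat.dvd_prime_pow hp.out).1 (hk ▸ charDegree_dvd_card ξ.2)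
  rw [nu, hj, Nat.factorization_pow_self hp.out]

variable {M : Ideal AlgInt} [hM : M.IsMaximal] [CharP (Res M) p] {B : Set (IrrCharacter G)}

theorem vanD_of_normal [hN : D.Normal] (hB : IsPBlock M B) (hD : IsDef p ⊤ (bId M B) D)
    {χ : IrrCharacter G} (hχ : χ ∈ B) : VanD D p χ.1 := fun g x hx hxD => by
  by_contra e
  obtain ⟨n, hn⟩ := exists_conj_mem_of_apply_ne_zero hx hB hχ e ((isDefectGroup_iff hB).2 hD)
  exact hxD (by simpa [mul_assoc] using hN.conj_mem _ hn n⁻¹)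

theorem mem_of_mR_ne_zero' (hB : IsPBlock M B) {χ ψ : IrrCharacter G} (hχ : χ ∈ B) {c : ℂ}
    (hc : c ≠ 0) (h : ∀ g, ¬ p ∣ orderOf g → ψ.1 g = c * χ.1 g) : ψ ∈ B := by
  refine mem_of_mR_ne_zero (p := p) (eSet_mem_SG hB) hχ ?_
  rw [mR_comm, mR_congr (χ' := c • χ.1) h, mR_smul_left]
  refine mul_ne_zero hc fun e => (aI_self_pos (p := p) hχ).ne' ?_
  have := coe_aI (p := p) χ.2.isGen hχ
  rw [e, mul_zero] at this
  exact_mod_cast this

theorem UnitOn.exists_constituent [Fintype G] (hB : IsPBlock M B) {θ : G → ℂ} (hθ : LC (Loc M) θ)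
    (h : UnitOn p B M θ) :
    ∃ ξ ∈ B, blockHeight p B ξ.1 = 0 ∧ red M (classInner θ ξ.1) ≠ 0 := by
  rw [unitOn_iff_deg hB hθ, blockPart_apply, Finset.mul_sum, Finset.sum_div] at h
  have e : ∀ ξ : IrrCharacter G, (p : ℂ) ^ blockDefect p B * (classInner θ ξ.1 * ξ.1 1) /
    Nat.card G = classInner θ ξ.1 * ((p : ℂ) ^ blockDefect p B * ξ.1 1 / Nat.card G) :=
    fun ξ => by ring
  simp only [e] at h
  rw [red_sum _ _ fun ξ a => mul_mem (hθ.inner ξ) (pow_deg_div_mem (mem_irrF.1 a))] at h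
  obtain ⟨ξ, a, h⟩ := Finset.exists_ne_zero_of_sum_ne_zero h
  rw [mem_irrF] at a
  rw [red_mul (hθ.inner ξ) (pow_deg_div_mem a), mul_ne_zero_iff,
    red_pow_deg_div_ne_zero_iff a] at h
  exact ⟨ξ, a, h.2, h.1⟩

section DC
variable (hG : D ⊔ centralizer (D : Set G) = ⊤) (hB : IsPBlock M B) (hD : IsDef p ⊤ (bId M B) D)
  {χ ψ : IrrCharacter G}
include hG hB hD

theorem nu_le_height (hψ : ψ ∈ B) {ξ : IrrCharacter D} (h : Fac D ψ.1 ξ.1) :
    nu p ξ.1 ≤ blockHeight p B ψ.1 := by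
  obtain ⟨ξ', φ, h'⟩ := exists_fac hG ψ
  obtain rfl : ξ = ξ' := by
    have := Fintype.ofFinite D
    refine Subtype.ext (ξ.2.eq_of_inner_ne_zero ξ'.2 fun e => ?_)
    have h1 : (ξ.1 1)⁻¹ • ξ.1 = (ξ'.1 1)⁻¹ • ξ'.1 := funext fun y => mul_right_cancel₀
      ψ.2.one_ne_zero (by
        simpa [div_eq_inv_mul] using (h.apply y).symm.trans ((fac_of_prod h').apply y))
    have h2 := congrArg (classInner · ξ'.1) h1
    simp only [CfsgH3.inner_smul_left, e, ξ'.2.inner_self, mul_zero, mul_one] at h2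
    exact inv_ne_zero ξ'.2.one_ne_zero h2.symm
  obtain ⟨y, hy, -⟩ := exists_defectClass hB hD
  have hy' := mem_cent_of_reg hG hD.pgroup (not_dvd_of_defectClass (p := p) hB hy)
  have h1 := ((isDefectClass_iff hB).1 hy).2
  rw [lam_bId_cs hB hψ] at h1
  have h2 := h' 1 ⟨y, hy'⟩
  have h3 := h' 1 1
  simp only [coe_one, one_mul] at h2 h3
  have h4 : (centralizer {y}).index.factorization p ≤ nu p φ.1 := by
    rw [← natCast_div_mem_Loc_iff (M := M) (charDegree_pos φ.2).ne' index_ne_zero_of_finite,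
      coe_charDegree φ.2.isChar]
    have a1 := div_mem_Loc (irr_mem_Loc φ ⟨y, hy'⟩) h1
    have a2 := ne_zero_of_red_ne_zero h1
    have a3 : φ.1 ⟨y, hy'⟩ ≠ 0 := fun h0 => a2 (by rw [centralChar, h2, h0]; simp)
    have a4 := φ.2.one_ne_zero
    have a5 : ((centralizer {y}).index : ℂ) ≠ 0 := Nat.cast_ne_zero.2 index_ne_zero_of_finite
    have a6 := ξ.2.one_ne_zero
    convert a1 using 1
    rw [centralChar, h2, h3]; field_simp
  have h5 : charDegree ψ.1 = charDegree ξ.1 * charDegree φ.1 := charDegree_eq (by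
    rw [h3, Nat.cast_mul, coe_charDegree ξ.2.isChar, coe_charDegree φ.2.isChar])
  have h6 := nu_eq_add_height (p := p) hψ
  rw [nu, h5, Nat.factorization_mul (charDegree_pos ξ.2).ne' (charDegree_pos φ.2).ne'] at h6
  rw [index_eq_minNu_of_defectClass hB hy] at h4
  simp only [Finsupp.add_apply, nu] at h4 h6 ⊢
  omega

theorem aI_self_DC (hχ : χ ∈ B) {ξ : IrrCharacter D} (h : Fac D χ.1 ξ.1) :
    aI p B χ.1 χ.1 = p ^ (2 * nu p ξ.1) := by
  have := Fintype.ofFinite G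
  have := Fintype.ofFinite D
  have := normal_of_DC hG
  have h1 := mR_self_of_vanD hG hD.pgroup (vanD_of_normal hB hD hχ) h
  rw [card_isDef hB hD, Nat.cast_pow, ← coe_aI χ.2.isGen hχ, ← coe_charDegree ξ.2.isChar,
    exists_deg_pow hD.pgroup] at h1
  rw [mul_comm, pow_mul]
  exact_mod_cast h1

theorem height_eq_zero_iff_DC (hχ : χ ∈ B) {ξ : IrrCharacter D} (h : Fac D χ.1 ξ.1) :
    blockHeight p B χ.1 = 0 ↔ ξ.1 1 = 1 := by
  rw [← and_self_iff (a := _ = 0), ← not_dvd_aI_iff hB hχ hχ, aI_self_DC hG hB hD hχ h,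
    ← coe_charDegree ξ.2.isChar, exists_deg_pow hD.pgroup]
  rcases Nat.eq_zero_or_pos (nu p ξ.1) with e | e
  · simp only [e, mul_zero, pow_zero, Nat.cast_one, iff_true]
    exact_mod_cast fun a => hp.out.ne_one (Nat.dvd_one.1 a)
  · refine iff_of_false (not_not.2 (dvd_pow_self _ (by omega))) ?_
    exact_mod_cast (Nat.one_lt_pow e.ne' hp.out.one_lt).ne'

theorem card_mul_mR_self (hχ : χ ∈ B) (h0 : blockHeight p B χ.1 = 0) :
    Nat.card D * mR p χ.1 χ.1 = 1 := by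
  have := Fintype.ofFinite G
  have := Fintype.ofFinite D
  have := normal_of_DC hG
  obtain ⟨ξ, hξ⟩ := exists_fac' hG χ
  rw [mR_self_of_vanD hG hD.pgroup (vanD_of_normal hB hD hχ) hξ,
    (height_eq_zero_iff_DC hG hB hD hχ hξ).1 h0, one_pow]

theorem isGen_twp_DC (hχ : χ ∈ B) (hζ : IsGeneralizedCharacter D ζ) :
    IsGeneralizedCharacter G (twp p ζ χ.1) := by
  have := Fintype.ofFinite G
  have := Fintype.ofFinite D
  refine isGen_twp hG hD.pgroup hζ χ.2.classFun fun ψ ξ h => ?_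
  by_cases hψ : ψ ∈ B
  · obtain ⟨k, hk⟩ := Nat.exists_eq_add_of_le (nu_le_height hG hB hD hψ h)
    refine ⟨p ^ k * wI p χ.1 ψ.1, ?_⟩
    rw [card_isDef hB hD, Nat.cast_pow, ← coe_aI χ.2.isGen hψ, aI_eq χ.2.isGen hψ, hk,
      ← coe_charDegree ξ.2.isChar, exists_deg_pow hD.pgroup]
    have := p_pow_ne_zero (p := p) (nu p ξ.1)
    push_cast
    field_simp
    ring
  · exact ⟨0, by rw [mR_eq_zero (eSet_mem_SG hB) hχ hψ]; simp⟩

theorem exists_twp (hχ : χ ∈ B) (h0 : blockHeight p B χ.1 = 0) (ζ : IrrCharacter D) :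
    ∃ θ ∈ B, θ.1 = twp p ζ.1 χ.1 := by
  have := Fintype.ofFinite G
  have := Fintype.ofFinite D
  exact ⟨⟨_, irr_twp hG hD.pgroup (isGen_twp_DC hG hB hD hχ ζ.2.isGen)
    (card_mul_mR_self hG hB hD hχ h0)⟩, mem_of_mR_ne_zero' hB hχ ζ.2.one_ne_zero
    fun _ hg => twp_reg hg, rfl⟩

theorem eq_twp (hχ : χ ∈ B) (h0 : blockHeight p B χ.1 = 0) (hψ : ψ ∈ B) {ξ : IrrCharacter D}
    (h : Fac D ψ.1 ξ.1) : ψ.1 = twp p ξ.1 χ.1 := by
  have := Fintype.ofFinite G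
  have := Fintype.ofFinite D
  obtain ⟨θ, -, e⟩ := exists_twp hG hB hD hχ h0 ξ
  rw [← e]
  refine (θ.2.eq_of_inner_ne_zero ψ.2 ?_).symm
  rw [e, inner_twp hG hD.pgroup h, ξ.2.inner_self, one_mul]
  exact div_ne_zero (mul_ne_zero (card_ne_zero_complex D) (mR_ne_zero hB hχ h0 hψ))
    ξ.2.one_ne_zero

theorem mem_iff_twp (hχ : χ ∈ B) (h0 : blockHeight p B χ.1 = 0) :
    ψ ∈ B ↔ ∃ ζ : IrrCharacter D, ψ.1 = twp p ζ.1 χ.1 := by
  refine ⟨fun h => ?_, fun ⟨ζ, h⟩ => ?_⟩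
  · obtain ⟨ξ, hξ⟩ := exists_fac' hG ψ
    exact ⟨ξ, eq_twp hG hB hD hχ h0 h hξ⟩
  · obtain ⟨θ, hθ, e⟩ := exists_twp hG hB hD hχ h0 ζ
    rwa [Subtype.ext (h.trans e.symm)]

theorem blockRank_DC : blockRank p B = 1 := by
  obtain ⟨χ, hχ, h0⟩ := exists_height_zero (p := p) (block_nonempty hB)
  refine rank_one_of_prop ⟨χ, hχ⟩ (φ := χ.1) fun ψ hψ => ?_
  obtain ⟨ζ, h⟩ := (mem_iff_twp hG hB hD hχ h0).1 hψ
  exact ⟨ζ.1 1, fun g hg => by rw [h, twp_reg hg]⟩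

omit hG hB hD hM [CharP (Res M) p] in
theorem height_of_twp (hχ : χ ∈ B) (h0 : blockHeight p B χ.1 = 0) {ζ : IrrCharacter D}
    (h : ψ.1 = twp p ζ.1 χ.1) : blockHeight p B ψ.1 = nu p ζ.1 := by
  have h5 : charDegree ψ.1 = charDegree ζ.1 * charDegree χ.1 := charDegree_eq (by
    rw [h, twp_one, Nat.cast_mul, coe_charDegree ζ.2.isChar, coe_charDegree χ.2.isChar])
  have := (height_eq_zero_iff hχ).1 h0
  rw [blockHeight_eq, nu, h5, Nat.factorization_mul (charDegree_pos ζ.2).ne'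
    (charDegree_pos χ.2).ne']
  simp only [Finsupp.add_apply, nu] at this ⊢
  omega

theorem exists_equiv_DC : ∃ Φ : B ≃ IrrCharacter D, ∀ χ : B,
    blockHeight p B χ.1.1 = nu p (Φ χ).1 ∧ Fac D χ.1.1 (Φ χ).1 := by
  obtain ⟨χ, hχ, h0⟩ := exists_height_zero (p := p) (block_nonempty hB)
  choose f hf using fun ψ : B => exists_fac' hG ψ.1
  have h1 := fun ψ : B => eq_twp hG hB hD hχ h0 ψ.2 (hf ψ)
  refine ⟨Equiv.ofBijective f ⟨fun a b e => Subtype.ext (Subtype.ext ?_), fun ζ => ?_⟩,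
    fun ψ => ⟨height_of_twp hχ h0 (h1 ψ), hf ψ⟩⟩
  · rw [h1, h1, e]
  · obtain ⟨θ, hθ, e⟩ := exists_twp hG hB hD hχ h0 ζ
    exact ⟨⟨θ, hθ⟩, Subtype.ext (twp_injective hD.pgroup χ.2.one_ne_zero ((h1 _).symm.trans e))⟩

theorem card_DC : Nat.card B = Nat.card (ConjClasses D) := by
  obtain ⟨Φ, -⟩ := exists_equiv_DC hG hB hD
  rw [Nat.card_congr Φ, card_irr_eq_card_conjClasses]

omit hB hD hp hM [CharP (Res M) p] in
theorem fac_one_of_ker (h : ∀ y ∈ D, χ.1 y = χ.1 1) : Fac D χ.1 fun _ => 1 := by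
  obtain ⟨ξ, hξ⟩ := exists_fac' hG χ
  intro y c hc
  have := hξ.apply y
  rw [h y y.2] at this
  rw [hξ y c hc, ← mul_right_cancel₀ χ.2.one_ne_zero ((one_mul _).trans this), div_one]

theorem height_zero_of_ker (hχ : χ ∈ B) (h : ∀ y ∈ D, χ.1 y = χ.1 1) :
    blockHeight p B χ.1 = 0 :=
  (height_eq_zero_iff_DC hG hB hD hχ (ξ := ⟨_, isIrr_one⟩) (fac_one_of_ker hG h)).2 rfl

theorem existsUnique_ker : ∃! θ : IrrCharacter G, θ ∈ B ∧ ∀ y ∈ D, θ.1 y = θ.1 1 := by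
  obtain ⟨χ, hχ, h0⟩ := exists_height_zero (p := p) (block_nonempty hB)
  obtain ⟨θ, hθ, e⟩ := exists_twp hG hB hD hχ h0 ⟨_, isIrr_one⟩
  refine ⟨θ, ⟨hθ, fun y hy => ?_⟩, fun ψ ⟨h1, h2⟩ => Subtype.ext ?_⟩
  · rw [e, twp_one, twp_mem hD.pgroup ⟨y, hy⟩]
  · rw [e, eq_twp hG hB hD hχ h0 h1 (ξ := ⟨_, isIrr_one⟩) (fac_one_of_ker hG h2)]

omit hG in
theorem nu_of_height_zero (hχ : χ ∈ B) (h0 : blockHeight p B χ.1 = 0) :
    nu p χ.1 = D.index.factorization p := by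
  rw [(height_eq_zero_iff hχ).1 h0, index_defectGroup hB ((isDefectGroup_iff hB).2 hD)]

end DC

omit hM [CharP (Res M) p] hp [Finite G] in
theorem deg_one_of_central (hZ : D ≤ center G) (ξ : IrrCharacter D) : ξ.1 1 = 1 :=
  ξ.2.deg_one_of_comm fun a b => Subtype.ext (mem_center_iff.1 (hZ b.2) a)

theorem height_zero_of_central (hZ : D ≤ center G) (hB : IsPBlock M B)
    (hD : IsDef p ⊤ (bId M B) D) {χ : IrrCharacter G} (hχ : χ ∈ B) : blockHeight p B χ.1 = 0 := by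
  obtain ⟨ξ, hξ⟩ := exists_fac' (DC_of_central hZ) χ
  exact (height_eq_zero_iff_DC (DC_of_central hZ) hB hD hχ hξ).2 (deg_one_of_central hZ ξ)

theorem IsDef.le_of_normal_blk (hB : IsPBlock M B) {E : Subgroup G} (hE : IsDef p ⊤ (bId M B) E)
    [D.Normal] (hD : IsPGroup p D) : D ≤ E :=
  hE.le_of_normal le_top le_normalizer_top hD (bId_mem B) (bId_idem (eSet_mem_SG hB))

variable (M) in
theorem laradji (hD : IsPGroup p D) (hZ : D ≤ center G) {χ : IrrCharacter G}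
    (hdeg : nu p χ.1 = D.index.factorization p) :
    IsDef p ⊤ (bId M (blockOf M χ.1)) D ∧ VanD D p χ.1 := by
  have := Fintype.ofFinite G
  have := Fintype.ofFinite D
  have hG := DC_of_central hZ
  have hB := isPBlock_blockOf (M := M) χ
  have hχ := mem_blockOf_self (M := M) χ
  have hc : (Nat.card D : ℂ) = (p : ℂ) ^ ((Nat.card G).factorization p - nu p χ.1) := by
    obtain ⟨k, hk⟩ := IsPGroup.iff_card.1 hD
    rw [hdeg, ← factorization_card_add_index D, Nat.add_sub_cancel, hk,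
      Nat.factorization_pow_self hp.out, Nat.cast_pow]
  have h1 : ∀ ζ : IrrCharacter D, IsGeneralizedCharacter G (twp p ζ.1 χ.1) := fun ζ =>
    isGen_twp hG hD ζ.2.isGen χ.2.classFun fun ψ ξ _ => ⟨wI p ψ.1 χ.1, by
      rw [deg_one_of_central hZ, div_one, hc, mR_comm, coe_wI ψ.2.isGen χ.2]⟩
  obtain ⟨ξ, hξ⟩ := exists_fac' hG χ
  have h2 : Nat.card D * mR p χ.1 χ.1 = wI p χ.1 χ.1 := by rw [hc, coe_wI χ.2.isGen χ.2]
  have h3 := inner_twp (ζ := ξ.1) (χ := χ.1) hG hD hξ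
  have h4 := inner_twp_twp (ζ := ξ.1) (ζ' := ξ.1) (χ := χ) hG hD
  rw [ξ.2.inner_self, one_mul, h2] at h3 h4
  rw [deg_one_of_central hZ, div_one] at h3
  have h5 : classInner (twp p ξ.1 χ.1 - χ.1) (twp p ξ.1 χ.1 - χ.1) = (1 - wI p χ.1 χ.1 : ℤ) := by
    rw [CfsgH3.inner_sub_left, CfsgH3.inner_sub_right, CfsgH3.inner_sub_right, h4, h3,
      χ.2.isGen.inner_comm (h1 ξ), h3, χ.2.inner_self]
    push_cast; ring
  have h6 : wI p χ.1 χ.1 = 1 := by
    have a := CfsgH3.inner_self_re_nonneg (twp p ξ.1 χ.1 - χ.1)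
    rw [h5, Complex.intCast_re, Int.cast_nonneg_iff] at a
    have b := aI_self_pos (p := p) hχ
    rw [aI_eq χ.2.isGen hχ] at b
    have := (pos_iff_pos_of_mul_pos b).1 (pow_pos (by exact_mod_cast hp.out.pos) _)
    omega
  rw [h6, sub_self, Int.cast_zero, CfsgH3.inner_self_eq_zero, sub_eq_zero] at h5
  rw [h6, Int.cast_one] at h2
  refine ⟨?_, h5 ▸ vanD_twp⟩
  obtain ⟨ψ, hψ, h0⟩ := exists_height_zero (p := p) ⟨χ, hχ⟩
  obtain ⟨ζ, hζ⟩ := exists_fac' hG ψ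
  have h7 : twp p ζ.1 χ.1 = ψ.1 := (irr_twp hG hD (h1 ζ) h2).eq_of_inner_ne_zero ψ.2 (by
    rw [inner_twp hG hD hζ, ζ.2.inner_self, one_mul, mR_comm]
    exact div_ne_zero (mul_ne_zero (card_ne_zero_complex D) (mR_ne_zero hB hψ h0 hχ))
      ζ.2.one_ne_zero)
  have h8 : charDegree ψ.1 = charDegree χ.1 := charDegree_eq (by
    rw [← h7, twp_one, deg_one_of_central hZ, one_mul, coe_charDegree χ.2.isChar])
  obtain ⟨E, hE⟩ := exists_isDef_blk p hB
  have : D.Normal := normal_of_DC hG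
  have hDE := hE.le_of_normal_blk hB hD
  have h9 := nu_of_height_zero hB hE hψ h0
  rw [nu, h8, ← nu, hdeg] at h9
  obtain ⟨k, hk⟩ := IsPGroup.iff_card.1 hD
  obtain ⟨j, hj⟩ := IsPGroup.iff_card.1 hE.pgroup
  have a1 := factorization_card_add_index (p := p) D
  have a2 := factorization_card_add_index (p := p) E
  rw [hk, Nat.factorization_pow_self hp.out] at a1
  rw [hj, Nat.factorization_pow_self hp.out] at a2
  rwa [eq_of_le_of_card_ge hDE (by rw [hk, hj, show j = k by omega])]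

omit hp [CharP (Res M) p] in
theorem isDef_subgroupOf_iff {H : Subgroup G} {b : Set (IrrCharacter H)} (hD : D ≤ H) :
    IsDef p ⊤ (bId M b) (D.subgroupOf H) ↔ IsDef p H (bIdS M H b) D := by
  rw [← isDef_emb_subtype, subgroupOf_map_subtype, inf_of_le_left hD, bIdS]

omit hp hM [CharP (Res M) p] [Finite G] in
theorem DC_subgroupOf {H : Subgroup G} (hD : D ≤ H) (h : H ≤ D ⊔ centralizer (D : Set G)) :
    D.subgroupOf H ⊔ centralizer (D.subgroupOf H : Set H) = ⊤ := by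
  refine top_le_iff.1 fun g _ => ?_
  obtain ⟨y, hy, c, hc, e⟩ :=
    (mem_sup_of_normalizer (centralizer_le_normalizer _)).1 (h g.2)
  have hc' : c ∈ H := by
    have := mul_mem (inv_mem (hD hy)) g.2
    rwa [← e, inv_mul_cancel_left] at this
  rw [show g = ⟨y, hD hy⟩ * ⟨c, hc'⟩ from Subtype.ext e.symm]
  exact mul_mem (mem_sup_left hy) (mem_sup_right fun d hd => Subtype.ext (hc d hd))

omit hp hM [CharP (Res M) p] [Finite G] in
theorem center_subgroupOf (P : Subgroup G) :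
    (P ⊓ centralizer (P : Set G)).subgroupOf (centralizer (P : Set G)) ≤ center _ :=
  fun x hx => mem_center_iff.2 fun g => Subtype.ext (g.2 x hx.1).symm

theorem blockRank_of_isDef_S {H : Subgroup G} {b : Set (IrrCharacter H)} (hb : IsPBlock M b)
    (hD : IsDef p H (bIdS M H b) D) (h : H ≤ D ⊔ centralizer (D : Set G)) : blockRank p b = 1 :=
  blockRank_DC (DC_subgroupOf hD.le h) hb ((isDef_subgroupOf_iff hD.le).2 hD)

end CfsgH4
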