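import Cfsg.Agent.H4.Star2
import Cfsg.Agent.H4.DC

/-! Abelian defect groups via the `∗`-construction. -/

set_option autoImplicit false

open MonoidAlgebra Subgroup CfsgH2 Function Cfsg CfsgH3
open scoped ComplexConjugate

namespace CfsgH4

section grp
variable {G : Type*} [Group G] [Finite G] {p : ℕ}

theorem exists_linTriv_ne_one {K : Subgroup G} (h : commutator G ≤ K) {x : G} (hx : x ∉ K) :
    ∃ μ ∈ linTriv K, μ x ≠ 1 := by
  by_contra hn
  push Not at hn
  have h1 := relIndex_linTriv h (zpowers x)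
  rw [relIndex_eq_one.2 fun μ hμ => (show K ⊔ zpowers x ≤ μ.ker from
    sup_le hμ (zpowers_le.2 (hn μ hμ)))] at h1
  exact hx (relIndex_eq_one.1 h1.symm (mem_zpowers x))

theorem finite_linTriv (K : Subgroup G) : Finite (linTriv K) :=
  haveI : Finite (G →* ℂˣ) := Nat.finite_of_card_ne_zero (by
    rw [card_hom_units]; exact index_ne_zero_of_finite)
  inferInstance

open Classical in
theorem sum_linTriv {K : Subgroup G} (h : commutator G ≤ K) [Fintype (linTriv K)] (x : G) :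
    ∑ μ : linTriv K, (μ.1 x : ℂ) = if x ∈ K then (K.index : ℂ) else 0 := by
  split_ifs with hx
  · rw [Finset.sum_congr rfl fun μ _ => by rw [μ.2 x hx, Units.val_one], Finset.sum_const,
      Finset.card_univ, ← Nat.card_eq_fintype_card, card_linTriv h, nsmul_one]
  · obtain ⟨μ, h1, h2⟩ := exists_linTriv_ne_one h hx
    exact sum_hom_units_eq_zero (R := ℂ) (G := linTriv K)
      ⟨⟨fun μ => μ.1 x, by simp⟩, fun a b => by simp⟩ fun e =>
        h2 (Units.ext (DFunLike.congr_fun e ⟨μ, h1⟩))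

theorem exists_focal_compl [hp : Fact p.Prime] {P T : Subgroup G} (hP : IsPGroup p P)
    (hab : P ≤ centralizer (P : Set G)) (hT : T ≤ normalizer (P : Set G))
    (h : ¬ p ∣ (centralizer (P : Set G)).relIndex T) :
    ∃ K : Subgroup G, (∀ t ∈ T, ∀ x ∈ P, x⁻¹ * (t * x * t⁻¹) ∈ K) ∧
      ∀ x ∈ P, x ∈ K → x ∈ centralizer (T : Set G) → x = 1 := by
  let φ := P.normalizerMonoidHom.comp (inclusion hT)
  have hc : Nat.card φ.range = (centralizer (P : Set G)).relIndex T := by
    rw [← index_ker, ker_normalizerMonoidHom_comp]; rfl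
  have : Finite φ.range := Finite.of_surjective _ φ.rangeRestrict_surjective
  have := Fintype.ofFinite φ.range
  let _ : CommGroup P := { (inferInstance : Group P) with
    mul_comm := fun a b => Subtype.ext (hab b.2 a a.2) }
  let τ : P →* P := ∏ a : φ.range, a.1.toMonoidHom
  have hτ : ∀ x, τ x = ∏ a : φ.range, a.1 x := fun x => MonoidHom.finsetProd_apply _ _ _
  refine ⟨τ.ker.map P.subtype, fun t ht x hx => ⟨(⟨x, hx⟩ : P)⁻¹ * φ ⟨t, ht⟩ ⟨x, hx⟩, ?_, rfl⟩, ?_⟩
  · rw [SetLike.mem_coe, MonoidHom.mem_ker, map_mul, map_inv, inv_mul_eq_one, hτ, hτ]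
    exact (Fintype.prod_equiv (Equiv.mulRight (⟨φ ⟨t, ht⟩, _, rfl⟩ : φ.range)) _ _
      fun _ => rfl).symm
  · rintro _ - ⟨x, hx, rfl⟩ h1
    rw [SetLike.mem_coe, MonoidHom.mem_ker, hτ, Finset.prod_congr rfl (g := fun _ => x) ?_,
      Finset.prod_const, Finset.card_univ, ← Nat.card_eq_fintype_card, hc,
      ← orderOf_dvd_iff_pow_eq_one] at hx
    · obtain ⟨k, hk⟩ := IsPGroup.iff_orderOf.1 hP x
      rw [hk] at hx
      rcases k with _ | k
      · exact congrArg Subtype.val (orderOf_eq_one_iff.1 hk)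
      · exact absurd ((dvd_pow_self p k.succ_ne_zero).trans hx) h
    · rintro ⟨_, t, rfl⟩ -
      exact Subtype.ext (mul_inv_eq_iff_eq_mul.2 (h1 t t.2))

theorem mem_centralizer_of_klein {P T : Subgroup G} (hP : Nat.card P = 4)
    (h2 : ∀ x ∈ P, x * x = 1) (hT : T ≤ normalizer (P : Set G))
    (hCT : centralizer (P : Set G) ≤ T) (h : ¬ 2 ∣ (centralizer (P : Set G)).relIndex T) :
    ∀ u ∈ P, u ≠ 1 → ∀ t ∈ T, t ∈ centralizer {u} → t ∈ centralizer (P : Set G) := by
  intro u hu hu1 t ht htu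
  have h3 : centralizer (P : Set G) ≤ T ⊓ centralizer {u} :=
    le_inf hCT (centralizer_le (by simpa using hu))
  have hP' : IsPGroup 2 P := IsPGroup.of_card (n := 2) hP
  have h4 : ((zpowers u).subgroupOf P).index = 2 := by
    have := card_mul_relIndex (zpowers_le.2 hu)
    rw [hP, Nat.card_zpowers, orderOf_eq_prime (by rw [sq, h2 u hu]) hu1] at this
    change (zpowers u).relIndex P = 2
    omega
  rw [eq_of_pregular_le (p := 2) h3 (fun x hx hx2 => ?_) fun hd => h (hd.trans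
    ⟨_, (relIndex_mul_relIndex _ _ _ h3 inf_le_left).symm⟩)]
  · exact ⟨ht, htu⟩
  have h5 : x ∈ centralizer (zpowers u : Set G) := by rw [centralizer_zpowers]; exact hx.2
  refine mem_centralizer_of_stabilizes hP' (zpowers_le.2 hu) hx2 h5 fun v hv => ?_
  refine (mul_mem_iff_of_index_two h4 (a := (⟨v, hv⟩ : P)⁻¹)
    (b := ⟨_, conj_mem_of_mem_normalizer (hT hx.1) hv⟩)).2 ?_
  rw [inv_mem_iff]
  exact mem_normalizer_iff.1 (centralizer_le_normalizer _ h5) v

omit [Finite G] in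
theorem comm_of_sq {P : Subgroup G} (h2 : ∀ x ∈ P, x * x = 1) : P ≤ centralizer (P : Set G) :=
  fun x hx y hy => by
    rw [← inv_inj, mul_inv_rev, inv_eq_of_mul_eq_one_right (h2 x hx),
      inv_eq_of_mul_eq_one_right (h2 y hy), inv_eq_of_mul_eq_one_right (h2 _ (mul_mem hx hy))]

end grp

section field
variable {F : Type*} [Field F] {G : Type*} [Group G] {p : ℕ} {N P Q R : Subgroup G}
  {E e f g : F[G]}

section emb
variable {H : Type*} [Group H] {φ : H →* G} (hφ : Injective φ) {N Q P : Subgroup H} {E e f : F[H]}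
include hφ

theorem NS.emb (h : NS p N Q f P e) :
    NS p (N.map φ) (Q.map φ) (emb F φ f) (P.map φ) (emb F φ e) :=
  ⟨(bp_emb hφ).2 h.left, (bp_emb hφ).2 h.right, map_mono h.le,
    (map_mono h.norm).trans (le_normalizer_map φ), (emb_mem_Fix hφ).2 h.fix, by
      rw [Br_emb hφ, ← map_mul, h.mul]⟩

theorem SL.emb (h : SL p N Q f P e) :
    SL p (N.map φ) (Q.map φ) (emb F φ f) (P.map φ) (emb F φ e) := by
  induction h with
  | refl h => exact .refl ((bp_emb hφ).2 h)
  | head h _ ih => exact .head (h.emb hφ) ih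

theorem mp_emb : MP p (N.map φ) (emb F φ E) (P.map φ) (emb F φ e) ↔ MP p N E P e := by
  have : emb F φ e * Br (P.map φ) (emb F φ E) = emb F φ e ↔ e * Br P E = e := by
    rw [Br_emb hφ, ← map_mul, (emb_injective hφ).eq_iff]
  exact ⟨fun h => ⟨(isPrim_emb hφ).1 h.prim, (bp_emb hφ).1 h.bp, this.1 h.mul,
    (isDef_emb hφ).1 h.isDef⟩, fun h => ⟨(isPrim_emb hφ).2 h.prim, (bp_emb hφ).2 h.bp,
      this.2 h.mul, (isDef_emb hφ).2 h.isDef⟩⟩

theorem mem_stabA_emb {x : H} : φ x ∈ stabA (emb F φ e) ↔ x ∈ stabA e := by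
  rw [mem_stabA, mem_stabA, ← emb_cjA, (emb_injective hφ).eq_iff]

end emb

theorem NS.swap (h : NS p (Cn N Q) R g P e) (hQ : Q ≤ P) (hab : P ≤ centralizer (P : Set G)) :
    NS p (Cn N R) Q g P e := by
  have h1 : P ≤ Cn N R := le_inf (h.right.le.trans inf_le_left) (hab.trans (centralizer_anti h.le))
  exact ⟨⟨hQ.trans h1, h.right.pgroup.to_le hQ, by
      rw [Cn_Cn, sup_comm, ← Cn_Cn]; exact h.left.prim⟩,
    h.right.of_Cn_eq h1 (by rw [Cn_Cn, Cn_Cn, sup_eq_right.2 hQ, sup_eq_right.2 h.le]), hQ,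
    (hab.trans (centralizer_anti hQ)).trans (centralizer_le_normalizer _), h.fix, h.mul⟩

variable [Finite G] [hp : Fact p.Prime] [CharP F p]

theorem MP.eq_of_le_cent (hm : MP p N E P e) (hs : SL p N Q f P e)
    (h : N ≤ centralizer (Q : Set G)) : Cn N Q = N ∧ f = E := by
  have h1 : Cn N Q = N := inf_eq_left.2 h
  have h2 := hm.mul_of_sl hs
  rw [show Br Q E = E from tr_of_mem_Supp (Supp_mono h hm.prim.mem.1)] at h2
  have h3 : BP p N Q E := ⟨hs.left.le, hs.left.pgroup, h1.symm ▸ hm.prim⟩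
  exact ⟨h1, hs.left.eq_of_mul_ne_zero h3 (h2.symm ▸ hs.left.ne_zero)⟩

variable [IsAlgClosed F]

theorem MP.not_dvd_abelian (hm : MP p N E P e) (hab : P ≤ centralizer (P : Set G)) :
    ¬ p ∣ (centralizer (P : Set G)).relIndex (N ⊓ normalizer (P : Set G) ⊓ stabA e) := by
  have := hm.not_dvd
  rwa [sup_eq_left.2 (le_inf hm.bp.le hab), inf_comm N (centralizer _), ← inf_relIndex_right,
    inf_assoc (centralizer _), inf_eq_right.2 (inf_le_left.trans inf_le_left),
    inf_relIndex_right] at this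

theorem MP.nF_free (hm : MP p ⊤ E P e) (hab : P ≤ centralizer (P : Set G)) {u : P}
    (h : ∀ t ∈ normalizer (P : Set G) ⊓ stabA e, t ∈ centralizer {(u : G)} →
      t ∈ centralizer (P : Set G)) :
    nF p e u = (centralizer (P : Set G)).relIndex (normalizer (P : Set G) ⊓ stabA e) := by
  rw [hm.nF_abelian hab, ← inf_relIndex_right, ← inf_relIndex_right (centralizer (P : Set G))]
  congr 1
  exact le_antisymm (fun t ht => ⟨h t ht.2 ht.1, ht.2⟩)
    (inf_le_inf_right _ (centralizer_le (by simp)))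

open Classical in
theorem MP.card_fus_le (hm : MP p ⊤ E P e) [Fintype P] (v : P) :
    (Finset.univ.filter fun u : P => (u : G) ∈ centralizer (P : Set G) ∧ Fus p e u v).card ≤
      (P ⊔ centralizer (P : Set G)).relIndex (normalizer (P : Set G) ⊓ stabA e) := by
  rcases (Finset.univ.filter fun u : P => (u : G) ∈ centralizer (P : Set G) ∧
    Fus p e u v).eq_empty_or_nonempty with h | ⟨w, hw⟩
  · simp [h]
  obtain ⟨h1, h2⟩ := (Finset.mem_filter.1 hw).2
  refine le_trans ?_ (relIndex_le_of_le_left (K := centralizer {(w : G)}) (sup_le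
    (fun x hx => mem_centralizer_singleton_iff.2 (h1 x hx)) (centralizer_le (by simp)))
    (CfsgH2.relIndex_ne_zero _ _))
  rw [← card_conj_orbit, ← Fintype.card_subtype, ← Nat.card_eq_fintype_card]
  exact Nat.card_le_card_of_injective (fun u => ⟨u.1, (hm.fus_iff_central h1 u.2.1).1
    (h2.trans u.2.2.symm)⟩) fun a b h => Subtype.ext (Subtype.ext (congrArg (fun x => x.1) h :))

omit [CharP F p] [IsAlgClosed F] in
theorem bp_of_sup [CharP F p] (hP : IsPGroup p P)
    (he : IsPrim (Zc F (P ⊔ centralizer (P : Set G)) (P ⊔ centralizer (P : Set G))) e) :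
    BP p ⊤ P e := by
  have := (isPrim_iff_of_normal le_sup_left (sup_le le_normalizer (centralizer_le_normalizer _))
    hP le_sup_right inf_le_right).2 he
  refine ⟨le_top, hP, ?_⟩
  rw [Cn_top]
  exact this.of_le (fun a ha => ⟨ha.1, mem_Fix_sup (mem_Fix_of_Supp_centralizer ha.1) ha.2⟩)
    ⟨this.mem.1, Fix_anti le_sup_right this.mem.2⟩

end field

variable {M : Ideal AlgInt} [hM : M.IsMaximal] {G : Type*} [Group G] {p : ℕ}

section rel
variable [Finite G]

theorem blk_emb {H : Type*} [Group H] [Finite H] {N : Subgroup G} (ψ : H ≃* N)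
    {b : Set (IrrCharacter H)} (hb : IsPBlock M b) :
    blk M N (emb (Res M) (N.subtype.comp ψ.toMonoidHom) (bId M b)) = trSet ψ b := by
  rw [← emb_emb, ← bId_trSet ψ (eSet_mem_SG hb)]
  exact blk_bIdS (isPBlock_trSet ψ hb)

theorem blk_map {H : Type*} [Group H] [Finite H] {φ : H →* G} (hφ : Injective φ) {N : Subgroup H}
    {f : (Res M)[H]} (hf : IsPrim (Zc (Res M) N N) f) :
    blk M (N.map φ) (emb (Res M) φ f) = trSet (N.equivMapOfInjective φ hφ) (blk M N f) := by
  obtain ⟨h1, h2⟩ := blk_spec hf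
  rw [← blk_emb _ h1]
  conv_lhs => rw [← h2, bIdS, emb_emb]
  rfl

theorem blk_top {B : Set (IrrCharacter G)} (hB : IsPBlock M B) :
    blk M ⊤ (bId M B) = trSet topEquiv.symm B := by
  rw [← blk_emb _ hB]
  exact congrArg _ (emb_id _).symm

end rel

variable [Fintype G] [hp : Fact p.Prime] [CharP (Res M) p] {P : Subgroup G} {e : (Res M)[G]}
  {B : Set (IrrCharacter G)} {χ ψ : IrrCharacter G} {τ σ : G → ℂ}

theorem MP.exists_ne_zero_major (hm : MP p ⊤ (bId M B) P e) (hB : IsPBlock M B) {u : G} (huP : u ∈ P)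
    (hu : u ∈ centralizer (P : Set G)) (hχ : χ ∈ B) : ∃ c, IsPPart p c u ∧ χ.1 c ≠ 0 := by
  by_contra h
  push Not at h
  exact hm.piU_ne_zero_major hB (u := ⟨u, huP⟩) hu hχ (cmp_eq_zero_of_vanish
    (hm.bp.subEl ⟨u, huP⟩) (hm.bp.blk_SG _) fun c hc => h c (isPPart_coe.2 hc))

theorem exists_int_piU (he : BP p ⊤ P e) {u : P}
    (h : ∀ k, Nat.Coprime k (Nat.card G) → Fus p e u (u ^ k)) (hτ : IsGeneralizedCharacter G τ)
    (hσ : IsGeneralizedCharacter G σ) : ∃ n : ℤ, (p : ℂ) ^ blockDefect p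
      (blk M (centralizer {(u : G)}) (fb p P e u)) * classInner (piU p P e u τ) σ = n := by
  refine exists_int_of_fixed (pow_mul_inner_cmp_mem (S := ZI) (he.subEl u) (he.blk_SG u)
    (LC.of_gen hτ) hσ) fun s => ?_
  obtain ⟨k, hk, hs⟩ := exists_pow_of_ringHom s.toRingHom (Nat.card_pos (α := G)).ne'
  rw [map_mul, map_pow, map_natCast]
  congr 1
  exact (map_inner_piU he u hτ hσ hk hs).trans (by rw [(h k hk).piU_eq he hτ.classFun])

variable [Fintype P] {η : P → ℂ}

omit [CharP (Res M) p] in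
theorem star_apply_of {g : G} {u : P} (hg : IsPPart p g u)
    (h : ∀ v : P, IsConj (u : G) v → v = u) (η : P → ℂ) (τ : G → ℂ) :
    star p P e η τ g = η u * piU p P e u τ g := by
  have : nF p e u = 1 := Nat.card_eq_one_iff_exists.2
    ⟨⟨u, Fus.refl u⟩, fun v => Subtype.ext (h _ v.2.isConj)⟩
  rw [star_apply, Finset.sum_apply, Finset.sum_eq_single u, this]
  · simp
  · intro v _ hv
    rw [Pi.smul_apply, piU, cA_def, cmp_eq_zero_of_not_isConj (z := zc (v : G)) τ hg
      fun e => hv (h v e), smul_zero]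
  · simp

theorem MP.sum_norm_piU (hm : MP p ⊤ (bId M B) P e) (hB : IsPBlock M B) (hχ : χ ∈ B) :
    ∑ u : P, (nF p e u : ℝ)⁻¹ * ‖classInner (piU p P e u χ.1) χ.1‖ = 1 := by
  have := hm.sum_inner_piU hB hχ χ.1
  rw [χ.2.inner_self, Finset.sum_congr rfl fun u _ => by
    rw [inner_piU_self_eq_norm hm.bp u χ.2.classFun]] at this
  exact Complex.ofReal_injective (by push_cast; exact this)

open Classical in
theorem MP.card_center_le (hm : MP p ⊤ (bId M B) P e) (hB : IsPBlock M B) (hχ : χ ∈ B) :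
    Nat.card (center P) ≤ p ^ ((Nat.card G).factorization p - nu p χ.1) *
      (P ⊔ centralizer (P : Set G)).relIndex (normalizer (P : Set G) ⊓ stabA e) := by
  set n := (Nat.card G).factorization p - nu p χ.1
  let Z := Finset.univ.filter fun u : P => (u : G) ∈ centralizer (P : Set G)
  let a : P → ℝ := fun u => ‖classInner (piU p P e u χ.1) χ.1‖
  have h1 := (amgm _ _ (fun _ _ => norm_nonneg _) (one_le_prod_norm_of_pow (G := P)
    (Nat.card_pos (α := G)).ne' (card_subgroup_dvd_card P) Z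
    (fun g hg k _ => Finset.mem_filter.2 ⟨Finset.mem_univ _, pow_mem (Finset.mem_filter.1 hg).2 k⟩)
    (fun u => (p : ℂ) ^ n * classInner (piU p P e u χ.1) χ.1)
    (fun g _ => isIntegral_inner_cmp (hm.bp.subEl g) (hm.bp.blk_SG g) (LC.irr χ) χ)
    (fun g hg => mul_ne_zero (p_pow_ne_zero _) fun h => hm.piU_ne_zero_major hB
      (Finset.mem_filter.1 hg).2 hχ ((inner_piU_self_eq_zero hm.bp g χ.2.classFun).1 h))
    fun s k hk hs g _ => by
      rw [map_mul, map_pow, map_natCast, map_inner_piU hm.bp g χ.2.isGen χ.2.isGen hk hs])).1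
  have h2 : ∀ u, a u = ∑ v, if Fus p e u v then (nF p e v : ℝ)⁻¹ * a v else 0 := fun u => by
    have := sum_fus (p := p) (e := e) u (a u : ℂ)
    rw [← Finset.sum_filter, Finset.sum_congr rfl (g := fun v => (nF p e v : ℝ)⁻¹ * a u)
      fun v hv => by simp only [a, (Finset.mem_filter.1 hv).2.piU_eq hm.bp χ.2.classFun]]
    exact Complex.ofReal_injective (by push_cast; exact this.symm)
  have h3 : ∑ u ∈ Z, a u ≤
      (P ⊔ centralizer (P : Set G)).relIndex (normalizer (P : Set G) ⊓ stabA e) := by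
    rw [Finset.sum_congr rfl fun u _ => h2 u, Finset.sum_comm, ← mul_one ((_ : ℕ) : ℝ),
      ← hm.sum_norm_piU hB hχ, Finset.mul_sum]
    refine Finset.sum_le_sum fun v _ => ?_
    rw [← Finset.sum_filter, Finset.sum_const, Finset.filter_filter, nsmul_eq_mul]
    exact mul_le_mul_of_nonneg_right (Nat.cast_le.2 (hm.card_fus_le v)) (by positivity)
  have h4 : Nat.card (center P) = Z.card := by
    rw [← Fintype.card_subtype, ← Nat.card_eq_fintype_card]
    exact Nat.card_congr (Equiv.subtypeEquivRight fun u => mem_center_iff.trans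
      ⟨fun h x hx => congrArg Subtype.val (h ⟨x, hx⟩), fun h x => Subtype.ext (h x x.2)⟩)
  simp only [norm_mul, norm_pow, Complex.norm_natCast, ← Finset.mul_sum] at h1
  rw [h4]
  exact_mod_cast h1.trans (mul_le_mul_of_nonneg_left h3 (by positivity))

theorem MP.card_free (hm : MP p ⊤ (bId M B) P e) (hB : IsPBlock M B)
    (hab : P ≤ centralizer (P : Set G)) (h : ∀ u ∈ P, u ≠ 1 → ∀ t ∈ normalizer (P : Set G) ⊓ stabA e,
      t ∈ centralizer {u} → t ∈ centralizer (P : Set G)) {n : ℕ}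
    (hn : (centralizer (P : Set G)).relIndex (normalizer (P : Set G) ⊓ stabA e) = n) :
    n * Nat.card B + 1 = n * blockRank p B + Nat.card P := by
  classical
  have h1 := hm.card_eq_sum hB
  rw [← Finset.add_sum_erase _ _ (Finset.mem_univ 1), nF_one, OneMemClass.coe_one, hm.lU_one hB,
    Finset.sum_congr rfl (g := fun _ => (n : ℂ)⁻¹) fun u hu => by
      have := h u u.2 fun e => (Finset.mem_erase.1 hu).1 (Subtype.ext e)
      rw [hm.nF_free hab this, hm.lU_eq_one hab u.2 this, hn]; simp,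
    Finset.sum_const, Finset.card_erase_of_mem (Finset.mem_univ _), Finset.card_univ,
    ← Nat.card_eq_fintype_card, nsmul_eq_mul, Nat.cast_sub Nat.card_pos] at h1
  have h2 : (n : ℂ) ≠ 0 := Nat.cast_ne_zero.2 (hn ▸ CfsgH2.relIndex_ne_zero _ _)
  have : (n * Nat.card B + 1 : ℂ) = n * blockRank p B + Nat.card P := by
    rw [h1]; field_simp; push_cast; ring
  exact_mod_cast this

open Classical in
theorem MP.sum_coset (hm : MP p ⊤ (bId M B) P e) (hB : IsPBlock M B)
    (hab : P ≤ centralizer (P : Set G)) {K : Subgroup P}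
    (hK : ∀ u v, Fus p e u v → u⁻¹ * v ∈ K) (z : P) :
    K.index * ∑ v, (if z⁻¹ * v ∈ K then (nF p e v : ℂ)⁻¹ * lU p P e v else 0) = Nat.card B := by
  have := finite_linTriv K
  have := Fintype.ofFinite (linTriv K)
  have h1 : ∀ μ : linTriv K, μ ≠ 1 →
      ∑ v : P, (nF p e v : ℂ)⁻¹ * (μ.1 v * lU p P e v) = 0 := fun μ hμ => by
    rw [← hm.trace_star hB]
    refine Finset.sum_eq_zero fun χ hχ => (hm.isIrr_star_lin hB (stab_of_linTriv hK μ.2)
      (mem_irrF.1 hχ)).inner_of_ne χ.2 fun h => hμ (Subtype.ext (MonoidHom.ext fun u => Units.ext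
        (eq_one_of_star_eq hm.bp (stab_of_linTriv hK μ.2) χ.2.classFun h
          (hm.piU_ne_zero_major hB (hab u.2) (mem_irrF.1 hχ)))))
  have h2 : ∑ μ : linTriv K, (μ.1 z⁻¹ : ℂ) * ∑ v : P, (nF p e v : ℂ)⁻¹ * (μ.1 v * lU p P e v) =
      Nat.card B := by
    rw [Finset.sum_eq_single 1 (fun μ _ hμ => by rw [h1 μ hμ, mul_zero]) (by simp),
      hm.card_eq_sum hB]
    simp
  simp only [Finset.mul_sum] at h2 ⊢
  rw [← h2, Finset.sum_comm]
  refine Finset.sum_congr rfl fun v _ => ?_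
  have := sum_linTriv (commutator_le_of_fus hm.bp hK) (z⁻¹ * v)
  simp only [map_mul, Units.val_mul] at this
  rw [Finset.sum_congr rfl (g := fun μ : linTriv K => (μ.1 z⁻¹ * μ.1 v : ℂ) *
    ((nF p e v : ℂ)⁻¹ * lU p P e v)) fun μ _ => by ring, ← Finset.sum_mul, this]
  split_ifs <;> simp

omit [Fintype G] in
open Classical in
theorem MP.sum_coset_rel [Finite G] {N K : Subgroup G} {E : (Res M)[G]} (hm : MP p N E P e)
    (hab : P ≤ centralizer (P : Set G))
    (hK : ∀ t ∈ N ⊓ normalizer (P : Set G) ⊓ stabA e, ∀ x ∈ P, x⁻¹ * (t * x * t⁻¹) ∈ K)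
    (f : P → (Res M)[G]) (hf : ∀ v : P, SL p N (zpowers (v : G)) (f v) P e) (z : P) :
    K.relIndex P * ∑ v : P, (if (z : G)⁻¹ * v ∈ K then
      ((centralizer {(v : G)}).relIndex (N ⊓ normalizer (P : Set G) ⊓ stabA e) : ℂ)⁻¹ *
        blockRank p (blk M (Cn N (zpowers (v : G))) (f v)) else 0) = Nat.card (blk M N E) := by
  obtain ⟨B, hB, rfl⟩ := exists_block_of_isPrim_S hm.prim
  obtain ⟨e, rfl⟩ := exists_emb_eq N.subtype_injective (b := e)
    (by rw [range_subtype]; exact hm.bp.suppN)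
  have hPN := hm.bp.le
  have hP : (P.subgroupOf N).map N.subtype = P := map_subgroupOf_eq_of_le hPN
  have hm' : MP p ⊤ (bId M B) (P.subgroupOf N) e := (mp_emb N.subtype_injective).1 (by
    rw [map_top_subtype, hP]; exact hm)
  have hab' : P.subgroupOf N ≤ centralizer (P.subgroupOf N : Set N) :=
    fun x hx y hy => Subtype.ext (hab hx y hy)
  have hT : normalizer (P.subgroupOf N : Set N) ⊓ stabA e =
      (N ⊓ normalizer (P : Set G) ⊓ stabA (emb (Res M) N.subtype e)).subgroupOf N := by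
    ext t
    rw [← subgroupOf_normalizer_eq hPN, mem_inf, ← mem_stabA_emb N.subtype_injective]
    simp [mem_subgroupOf]
  have := Fintype.ofFinite N
  have := Fintype.ofFinite (P.subgroupOf N)
  have h := hm'.sum_coset hB hab' (K := (K.subgroupOf N).subgroupOf _) (fun u v h => by
    obtain ⟨t, ht, h⟩ := (hm'.fus_iff_central (hab' u.2) (hab' v.2)).1 h
    rw [hT] at ht
    have := hK t ht u.1 u.2
    rw [show (t : G) * u.1 * (t : G)⁻¹ = v.1 from congrArg Subtype.val h] at this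
    exact this) ((subgroupOfEquivOfLe hPN).symm z)
  rw [blk_bIdS hB, ← h, ← relIndex, relIndex_subgroupOf hPN]
  congr 1
  refine (Fintype.sum_equiv (subgroupOfEquivOfLe hPN).toEquiv _ _ fun v => ?_).symm
  refine if_congr Iff.rfl ?_ rfl
  have h1 := (fb_sl hm'.bp v.2).emb N.subtype_injective
  rw [map_top_subtype, hP, MonoidHom.map_zpowers] at h1
  have h2 : Cn N (zpowers ((v : N) : G)) = (centralizer {(v : N)}).map N.subtype := by
    rw [← centralizer_zpowers, ← Cn_top, map_Cn N.subtype_injective, map_top_subtype,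
      MonoidHom.map_zpowers]; rfl
  rw [hm'.nF_abelian hab', hT, lU, ← blockRank_trSet (equivMapOfInjective _ _ N.subtype_injective),
    ← blk_map N.subtype_injective (mem_bps.1 (fb_mem hm'.bp v.2)),
    h1.unique (hf ((subgroupOfEquivOfLe hPN) v)), ← h2,
    show centralizer {(v : N)} = (centralizer {((v : N) : G)}).subgroupOf N from ?_,
    relIndex_subgroupOf (inf_le_left.trans inf_le_left)]
  · rfl
  · ext t
    simp only [mem_subgroupOf, mem_centralizer_singleton_iff, Subtype.ext_iff, coe_mul]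

omit [Fintype G] [Fintype P] in
/-- Watanabe's theorem. -/
theorem MP.watanabe [Finite G] (hab : P ≤ centralizer (P : Set G)) {u : G} (hu : u ∈ P)
    {N : Subgroup G} {E f : (Res M)[G]} (hm : MP p N E P e)
    (hT : N ⊓ normalizer (P : Set G) ⊓ stabA e ≤ centralizer {u})
    (hf : SL p N (zpowers u) f P e) :
    blockRank p (blk M N E) = blockRank p (blk M (Cn N (zpowers u)) f) ∧
      Nat.card (blk M N E) = Nat.card (blk M (Cn N (zpowers u)) f) := by
  classical
  induction h : Nat.card N using Nat.strong_induction_on generalizing N E f with | _ n ih => ?_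
  by_cases hN : N ≤ centralizer {u}
  · obtain ⟨h1, h2⟩ := hm.eq_of_le_cent hf (by rwa [centralizer_zpowers])
    rw [h1, h2]; exact ⟨rfl, rfl⟩
  have := Fintype.ofFinite P
  have hm' := hm.in_Cn hf (le_cent_zpowers (hab hu))
  have hT' : Cn N (zpowers u) ⊓ normalizer (P : Set G) ⊓ stabA e =
      N ⊓ normalizer (P : Set G) ⊓ stabA e := le_antisymm
    (inf_le_inf_right _ (inf_le_inf_right _ inf_le_left)) fun t ht =>
      ⟨⟨⟨ht.1.1, by rw [centralizer_zpowers]; exact hT ht⟩, ht.1.2⟩, ht.2⟩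
  obtain ⟨K, hK, hK'⟩ := exists_focal_compl hm.bp.pgroup hab (inf_le_left.trans inf_le_right)
    (hm.not_dvd_abelian hab)
  choose a ha using fun v : P => hm.bp.exists_sl (zpowers_le.2 v.2)
  choose b hb using fun v : P => hm'.bp.exists_sl (zpowers_le.2 v.2)
  have h1 := hm.sum_coset_rel hab hK a ha
  have h2 := hm'.sum_coset_rel hab (hT' ▸ hK) b hb
  rw [hT'] at h2
  have hC : ∀ v : G, N ≤ centralizer {v} → v ∈ centralizer
      (N ⊓ normalizer (P : Set G) ⊓ stabA e : Subgroup G) := fun v h t ht =>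
    mem_centralizer_singleton_iff.1 (h ht.1.1)
  have key : ∀ v : P, ¬ N ≤ centralizer {(v : G)} →
      blockRank p (blk M (Cn N (zpowers (v : G))) (a v)) =
        blockRank p (blk M (Cn (Cn N (zpowers u)) (zpowers (v : G))) (b v)) := fun v hv => by
    have h3 := le_cent_zpowers (hab v.2)
    rw [Cn_Cn, sup_comm, ← Cn_Cn]
    refine (ih _ (h ▸ card_lt_of_lt (lt_of_le_of_ne inf_le_left fun e => hv ?_)) (hm.in_Cn (ha v) h3)
      (le_trans (inf_le_inf_right _ (inf_le_inf_right _ inf_le_left)) hT)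
      (((hb v).ns (h3.trans (centralizer_le_normalizer _))).swap (zpowers_le.2 hu) hab).sl rfl).1
    rw [← centralizer_zpowers]; exact inf_eq_left.1 e
  have h3 : Nat.card (blk M N E) = Nat.card (blk M (Cn N (zpowers u)) f) := by
    have := (h1 ⟨u, hu⟩).symm.trans (Eq.trans (congrArg _ (Finset.sum_congr rfl fun v _ =>
      if_ctx_congr Iff.rfl (fun hv => ?_) fun _ => rfl)) (h2 ⟨u, hu⟩))
    · exact_mod_cast this
    rw [key v fun h => hN ?_]
    have := hK' _ (mul_mem (inv_mem hu) v.2) hv (mul_mem (inv_mem fun t ht =>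
      mem_centralizer_singleton_iff.1 (hT ht)) (hC v h))
    rwa [inv_mul_eq_one.1 this]
  refine ⟨?_, h3⟩
  have h4 := (h1 1).trans ((congrArg Nat.cast h3).trans (h2 1).symm)
  rw [mul_right_inj' (Nat.cast_ne_zero.2 (CfsgH2.relIndex_ne_zero _ _)),
    ← Finset.add_sum_erase _ _ (Finset.mem_univ 1), ← Finset.add_sum_erase _ _ (Finset.mem_univ 1),
    Finset.sum_congr rfl fun v hv => if_ctx_congr Iff.rfl (fun h => by
      rw [key v fun h' => (Finset.mem_erase.1 hv).1 (Subtype.ext (hK' _ v.2 (by simpa using h)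
        (hC v h')))]) fun _ => rfl, add_left_inj, if_pos (by simp), if_pos (by simp),
    mul_right_inj' (inv_ne_zero (Nat.cast_ne_zero.2 (CfsgH2.relIndex_ne_zero _ _)))] at h4
  obtain ⟨h5, h6⟩ := hm.eq_of_le_cent (ha 1) (by simp [SetLike.le_def, mem_centralizer_iff])
  obtain ⟨h7, h8⟩ := hm'.eq_of_le_cent (hb 1) (by simp [SetLike.le_def, mem_centralizer_iff])
  rw [h5, h6, h7, h8] at h4
  exact_mod_cast h4

omit [Fintype P] [CharP (Res M) p] hp in
theorem MP.card_klein [CharP (Res M) 2] (hm : MP 2 ⊤ (bId M B) P e) (hB : IsPBlock M B)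
    (hP : Nat.card P = 4) (h2 : ∀ x ∈ P, x * x = 1) {u : P}
    (hl : lU 2 P e u = 1) (hu : u ≠ 1) : Nat.card B = 4 ∧ ∀ χ ∈ B,
      4 * classInner (piU 2 P e u χ.1) χ.1 = 1 := by
  classical
  have hab := comm_of_sq h2
  have hd : blockDefect 2 B = 2 := Nat.pow_right_injective le_rfl
    ((card_isDef hB hm.isDef).symm.trans hP)
  have h0 : ∀ χ ∈ B, blockHeight 2 B χ.1 = 0 := fun χ hχ => by
    by_contra h
    have := height_add_two_le hB hχ h
    omega
  have h3 : ∀ χ ψ : IrrCharacter G, ∃ n : ℤ, 4 * classInner (piU 2 P e u χ.1) ψ.1 = n :=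
    fun χ ψ => by
      have := exists_int_piU hm.bp (u := u) (fun k hk => ?_) χ.2.isGen ψ.2.isGen
      · rw [hm.defect_fb hB (hab u.2), hd] at this
        norm_num at this; exact this
      obtain ⟨j, rfl⟩ := (Nat.Coprime.coprime_dvd_right (Dvd.dvd.trans (by rw [hP]; decide)
        (card_subgroup_dvd_card P)) hk).odd_of_right
      rw [pow_succ, pow_mul, sq, show u * u = 1 from Subtype.ext (h2 u u.2), one_pow, one_mul]
      exact Fus.refl u
  choose a ha using h3
  have h4 : ∀ χ ∈ B, Odd (a χ χ) ∧ 0 ≤ a χ χ := fun χ hχ => by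
    have := (red_inner_cmp_irr_iff (hm.bp.subEl u) (hm.induced_fb hB u) hχ hχ).2 ⟨h0 χ hχ, h0 χ hχ⟩
    rw [hm.defect_fb hB (hab u.2), hd] at this
    refine ⟨Int.not_even_iff_odd.1 fun h => this ?_, ?_⟩
    · rw [← (red_intCast_eq_zero_iff (M := M) (p := 2)).2 (even_iff_two_dvd.1 h), ← ha]
      norm_num; rfl
    · have := ha χ χ
      rw [inner_piU_self_eq_norm hm.bp u χ.2.classFun] at this
      have : (a χ χ : ℝ) = 4 * ‖classInner (piU 2 P e u χ.1) χ.1‖ := by exact_mod_cast this.symm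
      exact_mod_cast (show (0 : ℝ) ≤ a χ χ by rw [this]; positivity)
  have h5 : ∑ χ ∈ irrF B, a χ χ = 4 := by
    have : ∑ χ ∈ irrF B, (a χ χ : ℂ) = 4 := by
      simp only [← ha, ← Finset.mul_sum, hm.trace_piU hB, hl]; simp
    exact_mod_cast this
  have h6 : ∀ χ ψ, a χ χ * a ψ ψ = a χ ψ * a χ ψ := fun χ ψ => by
    have h7 := inner_cmp_rank_one (hm.bp.subEl u) hl
      (block_nonempty (isPBlock_blk (fb_mem hm.bp u.2))) χ.2.classFun ψ.2.classFun χ.1 ψ.1
    have h8 : (a ψ χ : ℂ) = a χ ψ := by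
      rw [← ha, ← map_intCast (starRingEnd ℂ), ← ha, map_mul, piU, cA_def,
        conj_inner_cmp (hm.bp.subEl u) (hm.bp.blk_SG u) χ.2.classFun ψ.2.classFun]
      simp [map_ofNat]
    have : (a χ χ * a ψ ψ : ℂ) = a χ ψ * a ψ χ := by
      simp only [← ha, piU, cA_def]; linear_combination 16 * h7
    rw [h8] at this
    exact_mod_cast this
  have h7 : ∀ χ ∈ irrF B, a χ χ = 1 := fun χ hχ => by
    by_contra h
    have h8 : ∀ ψ ∈ (irrF B).erase χ, 1 ≤ a ψ ψ := fun ψ hψ => by
      obtain ⟨⟨k, hk⟩, h9⟩ := h4 ψ (mem_irrF.1 (Finset.mem_of_mem_erase hψ)); omega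
    rw [← Finset.add_sum_erase _ _ hχ] at h5
    obtain ⟨⟨k, hk⟩, h9⟩ := h4 χ (mem_irrF.1 hχ)
    have h10 := Finset.sum_nonneg fun ψ hψ => zero_le_one.trans (h8 ψ hψ)
    obtain ⟨ψ, hψ, -⟩ := Finset.exists_ne_zero_of_sum_ne_zero
      (show ∑ ψ ∈ (irrF B).erase χ, a ψ ψ ≠ 0 by omega)
    have h11 := Finset.single_le_sum (fun ψ hψ => zero_le_one.trans (h8 ψ hψ)) hψ
    have h12 := h8 ψ hψ
    have h13 := h6 χ ψ
    rw [show a χ χ = 3 by omega, show a ψ ψ = 1 by omega] at h13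
    rcases le_or_gt 2 |a χ ψ| with h | h <;> nlinarith [abs_mul_abs_self (a χ ψ), abs_nonneg (a χ ψ)]
  rw [Finset.sum_congr rfl h7, Finset.sum_const, card_irrF] at h5
  rw [nsmul_one] at h5
  exact ⟨by exact_mod_cast h5, fun χ hχ => by rw [ha, h7 χ (mem_irrF.2 hχ), Int.cast_one]⟩

omit [Fintype P] [CharP (Res M) p] hp [Fintype G] in
theorem MP.klein [Finite G] [CharP (Res M) 2] (hm : MP 2 ⊤ (bId M B) P e) (hB : IsPBlock M B)
    (hP : Nat.card P = 4) (h2 : ∀ x ∈ P, x * x = 1) {n : ℕ}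
    (hn : (centralizer (P : Set G)).relIndex (normalizer (P : Set G) ⊓ stabA e) = n) :
    (n = 1 ∨ n = 3) ∧ Nat.card B = 4 ∧ blockRank 2 B = n ∧ ∀ u : P, u ≠ 1 → nF 2 e u = n := by
  have := Fintype.ofFinite G
  have := Fintype.ofFinite P
  have hab := comm_of_sq h2
  have h1 := hm.not_dvd_abelian hab
  rw [stab_top] at h1
  have h3 := mem_centralizer_of_klein hP h2 inf_le_left
    (by simpa only [Cn_top, stab_top] using hm.bp.Cn_le_stab) h1
  have : Nontrivial P := Finite.one_lt_card_iff_nontrivial.1 (by omega)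
  obtain ⟨u, hu⟩ := exists_ne (1 : P)
  have h4 := (hm.card_klein hB hP h2
    (hm.lU_eq_one hab u.2 (h3 u u.2 fun h => hu (Subtype.ext h))) hu).1
  have h5 := hm.card_free hB hab h3 hn
  rw [h4, hP] at h5
  rw [hn] at h1
  have h6 : n ∣ 3 := (Nat.dvd_add_right (dvd_mul_right n (blockRank 2 B))).1
    ⟨4, by omega⟩
  have h7 := (Nat.dvd_prime Nat.prime_three).1 h6
  refine ⟨h7, h4, by rcases h7 with rfl | rfl <;> omega, fun u hu => ?_⟩
  rw [hm.nF_free hab (h3 u u.2 fun h => hu (Subtype.ext h)), hn]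

omit [Fintype P] [Fintype G] hp hM [CharP (Res M) p] in
theorem blockRank_eq_of_res {N : Subgroup G} {b : Set (IrrCharacter N)}
    (h : ∀ x, ¬ p ∣ orderOf x → x ∈ N) (h1 : ∀ χ ∈ B, ∃ θ ∈ b, ∀ n : N, χ.1 n = θ.1 n)
    (h2 : ∀ θ ∈ b, ∃ χ ∈ B, ∀ n : N, χ.1 n = θ.1 n) : blockRank p B = blockRank p b := by
  let ι := ExtendByZero.linearMap ℂ (Subtype.val : N → G)
  have hι : ∀ (f : N → ℂ) (n : N), ι f n = f n := fun f n => Subtype.val_injective.extend_apply _ _ _
  have key : ∀ (χ : G → ℂ) (θ : N → ℂ), (∀ n : N, χ n = θ n) → ι (regPart p θ) = regPart p χ :=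
    fun χ θ e => funext fun g => by
      by_cases hg : g ∈ N
      · rw [hι _ ⟨g, hg⟩, regPart, regPart, ← e, ← orderOf_coe]
      · rw [regPart_of_dvd _ (not_imp_comm.1 (h g) hg)]
        exact extend_apply' _ _ _ fun ⟨a, ha⟩ => hg (ha ▸ a.2)
  rw [blockRank_eq, blockRank_eq, (Submodule.equivMapOfInjective ι (fun a b e => funext fun n => by
    rw [← hι a, e, hι]) _).finrank_eq, Submodule.map_span, Set.image_image]
  refine congrArg (fun s => Module.finrank ℂ (Submodule.span ℂ s)) (Set.ext fun f => ⟨?_, ?_⟩)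
  · rintro ⟨χ, hχ, rfl⟩
    obtain ⟨θ, h3, h4⟩ := h1 χ hχ
    exact ⟨θ, h3, key _ _ h4⟩
  · rintro ⟨θ, hθ, rfl⟩
    obtain ⟨χ, h3, h4⟩ := h2 θ hθ
    exact ⟨χ, h3, (key _ _ h4).symm⟩

end CfsgH4
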