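import Cfsg.Agent.H4.Cyc1
import Cfsg.Agent.H4.Star3
import Cfsg.Agent.H8.Def1d

/-! Cyclic defect groups: the block of the centralizer of the subgroup of order `p`. -/

set_option autoImplicit false
set_option linter.unusedSectionVars false

open MonoidAlgebra Subgroup CfsgH2 Function Cfsg CfsgH3 Polynomial
open scoped ComplexConjugate

namespace CfsgH4

theorem isNilpotent_swap {B : Type*} [Ring B] {a b : B} (h : IsNilpotent (a * b)) :
    IsNilpotent (b * a) := by
  obtain ⟨n, hn⟩ := h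
  refine ⟨n + 1, ?_⟩
  have : ∀ n : ℕ, (b * a) ^ (n + 1) = b * (a * b) ^ n * a := fun n => by
    induction n with
    | zero => simp
    | succ n ih => rw [pow_succ, ih, pow_succ]; simp only [mul_assoc]
  rw [this, hn, mul_zero, zero_mul]

theorem NPrim.map_equiv {B C : Type*} [Ring B] [Ring C] {e : B} (he : NPrim e) (φ : B ≃+* C) :
    NPrim (φ e) := by
  refine ⟨by rw [← map_mul, he.idem], by simpa using he.ne_zero, fun f h1 h2 h3 => ?_⟩
  obtain ⟨f, rfl⟩ := φ.surjective f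
  simp only [← map_mul, EmbeddingLike.apply_eq_iff_eq, EmbeddingLike.map_eq_zero_iff] at *
  exact he.prim f h1 h2 h3

section uni
variable {k B : Type*} [Field k] [IsAlgClosed k] [Ring B] [Algebra k B] [FiniteDimensional k B]
  {f x : B} {n : ℕ}

/-- a block which is a matrix algebra over `k[x] / x ^ (n + 1)` -/
theorem exists_uniserial (hf : f * f = f) (hf0 : f ≠ 0) (fc : ∀ a, f * a = a * f)
    (xc : ∀ a, x * a = a * x)
    (hprim : ∀ g, (∀ a, g * a = a * g) → g * g = g → f * g = 0 ∨ f * g = f)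
    (hnil : x ^ (n + 1) * f = 0) (hK : ∀ a, x ^ n * f * a = 0 → ∃ b, f * a = x * b)
    (hT : ∀ a, (∀ b, IsNilpotent (a * b)) → x ^ n * f * a = 0) :
    ∃ j, NPrim j ∧ f * j = j ∧ x ^ n * j ≠ 0 ∧ (∀ a, ∃ g : k[X], j * a * j = aeval x g * j) ∧
      (∃ (ι : Type) (_ : Fintype ι) (a b : ι → B), ∑ r, a r * j * b r = f) ∧
      ∀ i, NPrim i → f * i = i → Eqv i j := by
  have xc' : ∀ (m : ℕ) a, x ^ m * a = a * x ^ m := fun m a => (Commute.pow_left (xc a) m).eq
  have hR : ∀ a, f * a = a → (∀ b, IsNilpotent (a * b)) → ∃ b, a = x * b := fun a h1 h2 => by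
    obtain ⟨b, hb⟩ := hK a (hT a h2)
    exact ⟨b, h1.symm.trans hb⟩
  have h0 : ∀ a, f * a = a → x ^ (n + 1) * a = 0 := fun a h => by
    rw [← h, ← mul_assoc, hnil, zero_mul]
  have hne : ∀ i j, NPrim i → NPrim j → f * i = i → ¬ Eqv i j → ∀ a, i * a * j = 0 := by
    intro i j hi hj h1 h2
    have key : ∀ m : ℕ, ∀ a, ∃ b, i * a * j = x ^ m * (i * b * j) := fun m => by
      induction m with
      | zero => exact fun a => ⟨a, by simp⟩
      | succ m ih =>
        intro a
        obtain ⟨b, hb⟩ := ih a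
        have e1 : i * (i * b * j) = i * b * j := by simp only [← mul_assoc, hi.idem]
        have e2 : i * b * j * j = i * b * j := by rw [mul_assoc, hj.idem]
        obtain ⟨c, hc⟩ := hR (i * b * j) (by simp only [← mul_assoc, h1]) fun c => by
          rcases hi.nilp_or_unit k (a := i * b * j * c * i) (by simp only [← mul_assoc, hi.idem])
            (by rw [mul_assoc, hi.idem]) with h | ⟨w, h, -⟩
          · have := isNilpotent_swap h
            rwa [← mul_assoc, e1] at this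
          · refine absurd (hj.eqv (a := i * b * j) (b := j * (c * i * w)) hi.idem hi.ne_zero ?_ e1 e2
              (by rw [← mul_assoc, hj.idem])) h2
            rw [← mul_assoc, e2]; simpa only [mul_assoc] using h
        refine ⟨c, ?_⟩
        rw [hb, ← e1, ← e2, hc, pow_succ, ← mul_assoc i, ← mul_assoc i, ← xc i]
        simp only [mul_assoc]
    intro a
    obtain ⟨b, hb⟩ := key (n + 1) a
    rw [hb, h0 _ (by simp only [← mul_assoc, h1])]
  have hfi : ∀ i, NPrim i → f * i = 0 ∨ f * i = i := fun i hi =>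
    hi.prim _ (by rw [mul_assoc, ← mul_assoc i, ← fc, mul_assoc, hi.idem, ← mul_assoc, hf])
      (by rw [← mul_assoc, ← fc, mul_assoc, hi.idem]) (by rw [mul_assoc, hi.idem])
  obtain ⟨j, hj, hfj⟩ : ∃ j, NPrim j ∧ f * j = j := by
    have := idem_induction k (P := fun i => f * i = 0 ∨ ∃ j, NPrim j ∧ f * j = j) (by simp)
      (fun i hi => (hfi i hi).imp_right fun h => ⟨i, hi, h⟩)
      (fun a b _ _ _ _ h1 h2 => by
        rcases h1 with h1 | h1
        · rcases h2 with h2 | h2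
          · left; rw [mul_add, h1, h2, add_zero]
          · exact Or.inr h2
        · exact Or.inr h1) (mul_one 1)
    exact this.resolve_left (by simpa using hf0)
  have hgen : ∃ (ι : Type) (_ : Fintype ι) (a b : ι → B), ∑ r, a r * j * b r = f := by
    obtain ⟨ι, _, a, b, i2, h1, h2, h3⟩ := idem_induction k (P := fun i => ∃ (ι : Type)
      (_ : Fintype ι) (a b : ι → B) (i2 : B), ∑ r, a r * j * b r + i2 = f * i ∧
        (∀ c, i2 * c * j = 0) ∧ ∀ c, j * c * i2 = 0)
      ⟨Empty, inferInstance, 0, 0, 0, by simp, by simp, by simp⟩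
      (fun i hi => by
        rcases hfi i hi with h | h
        · exact ⟨Empty, inferInstance, 0, 0, 0, by simp [h], by simp, by simp⟩
        by_cases he : Eqv i j
        · obtain ⟨a, b, h1, h2⟩ := he
          refine ⟨Unit, inferInstance, fun _ => a, fun _ => b, 0, ?_, by simp, by simp⟩
          rw [h, ← hi.idem, ← h1, ← h2]; simp [mul_assoc]
        · exact ⟨Empty, inferInstance, 0, 0, i, by simp [h], hne i j hi hj h he,
            hne j i hj hi hfj fun e => he e.symm⟩)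
      (fun u v _ _ _ _ ⟨ι, _, a, b, i2, h1, h2, h3⟩ ⟨ι', _, a', b', i2', h1', h2', h3'⟩ =>
        ⟨ι ⊕ ι', inferInstance, Sum.elim a a', Sum.elim b b', i2 + i2', by
          rw [Fintype.sum_sum_type, mul_add, ← h1, ← h1']; simp only [Sum.elim_inl, Sum.elim_inr]
          abel, fun c => by rw [add_mul, add_mul, h2, h2', add_zero],
          fun c => by rw [mul_add, h3, h3', add_zero]⟩) (mul_one 1)
    obtain ⟨i1, hi1⟩ : ∃ i1, i1 = ∑ r, a r * j * b r := ⟨_, rfl⟩
    rw [← hi1, mul_one] at h1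
    have e1 : ∀ c, i2 * c * i1 = 0 := fun c => by
      rw [hi1, Finset.mul_sum]
      refine Finset.sum_eq_zero fun r _ => ?_
      rw [← zero_mul (b r), ← h2 (c * a r)]; simp only [mul_assoc]
    have e2 : ∀ c, i1 * c * i2 = 0 := fun c => by
      rw [hi1, Finset.sum_mul, Finset.sum_mul]
      refine Finset.sum_eq_zero fun r _ => ?_
      rw [← mul_zero (a r), ← h3 (b r * c)]; simp only [mul_assoc]
    have e3 : f * i1 = i1 := by
      rw [hi1, Finset.mul_sum]
      refine Finset.sum_congr rfl fun r _ => ?_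
      rw [← mul_assoc, ← mul_assoc, fc, mul_assoc (a r), hfj]
    have e4 : ∀ c, i1 * c = i1 * c * i1 := fun c => by
      conv_lhs => rw [← e3, mul_assoc, fc, ← h1, mul_add, e2, add_zero]
    have e5 : ∀ c, c * i1 = i1 * c * i1 := fun c => by
      conv_lhs => rw [← e3, ← mul_assoc, ← fc, ← h1, add_mul, add_mul, e1, add_zero]
    refine ⟨ι, inferInstance, a, b, hi1 ▸ ?_⟩
    rcases hprim i1 (fun c => by rw [e4, ← e5]) (by simpa using (e4 1).symm) with h | h
    · rw [e3] at h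
      rw [h, zero_add] at h1
      exact absurd (by simpa [h1, hfj] using h2 1) hj.ne_zero
    · rw [← e3, h]
  refine ⟨j, hj, hfj, fun h => hj.ne_zero ?_, fun a => ?_, hgen, fun i hi h => ?_⟩
  · obtain ⟨b, hb⟩ := hK j (by rw [mul_assoc, hfj, h])
    rw [hfj] at hb
    have : j ^ (n + 1) = j := IsIdempotentElem.pow_succ_eq n hj.idem
    rw [← hfj, ← this, hb, (Commute.mul_pow (xc b)), ← mul_assoc, fc, hnil, zero_mul]
  · have key : ∀ m : ℕ, ∃ (g : k[X]) (b : B), j * a * j = aeval x g * j + x ^ m * (j * b * j) :=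
      fun m => by
      induction m with
      | zero => exact ⟨0, a, by simp⟩
      | succ m ih =>
        obtain ⟨g, b, hb⟩ := ih
        obtain ⟨c, hc⟩ := hj.exists_scalar k (a := j * b * j) (by simp only [← mul_assoc, hj.idem])
          (by rw [mul_assoc, hj.idem])
        obtain ⟨v, hv⟩ : ∃ v, v = j * b * j - c • j := ⟨_, rfl⟩
        rw [← hv] at hc
        have e1 : j * v = v := by
          rw [hv, mul_sub, mul_smul_comm, hj.idem]; simp only [← mul_assoc, hj.idem]
        have e2 : v * j = v := by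
          rw [hv, sub_mul, smul_mul_assoc, hj.idem, mul_assoc, hj.idem]
        obtain ⟨w, hw⟩ := hR v (by rw [← e1, ← mul_assoc, hfj]) fun w => by
          have := isNilpotent_swap (hj.nilp_mul k e1 e2 hc w)
          rwa [← mul_assoc, e2] at this
        refine ⟨g + C c * X ^ m, w, ?_⟩
        have e3 : j * b * j = c • j + x * (j * w * j) := by
          rw [← mul_assoc x, ← mul_assoc x, xc j, mul_assoc j x, ← hw, e1, e2, hv]; abel
        rw [hb, e3, map_add, map_mul, aeval_C, map_pow, aeval_X, add_mul, mul_add, pow_succ,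
          ← Algebra.smul_def, smul_mul_assoc, mul_smul_comm]
        simp only [mul_assoc, add_assoc]
    obtain ⟨g, b, hb⟩ := key (n + 1)
    exact ⟨g, by rw [hb, h0 _ (by simp only [← mul_assoc, hfj]), add_zero]⟩
  · by_contra he
    obtain ⟨ι, _, a, b, hab⟩ := hgen
    refine hi.ne_zero ?_
    rw [← h, fc, ← hab, Finset.mul_sum]
    refine Finset.sum_eq_zero fun r _ => ?_
    rw [← mul_assoc, ← mul_assoc, hne i j hi hj h he, zero_mul]

end uni

section free
variable {k G : Type*} [Field k] [Group G] [Finite G] {z : G} {a : k[G]}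

theorem exists_hat_mul (h : (single z 1 - 1) * a = 0) :
    ∃ b, a = hat k (zpowers z : Set G) * b := by
  classical
  have := Fintype.ofFinite (zpowers z)
  have h1 : single z 1 * a = a := by rwa [sub_mul, one_mul, sub_eq_zero] at h
  have h2 : ∀ y ∈ zpowers z, single y 1 * a = a := fun y hy => by
    obtain ⟨m, rfl⟩ := (mem_powers_iff_mem_zpowers (x := z)).2 hy
    induction m with
    | zero => simp [← one_def]
    | succ m ih =>
      change single (z ^ (m + 1)) 1 * a = a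
      rw [pow_succ, ← mul_one (1 : k), ← single_mul_single, mul_assoc, h1]
      exact ih (pow_mem (mem_zpowers z) m)
  obtain ⟨T, hT, -⟩ := (zpowers z).exists_isComplement_right 1
  refine ⟨tr T a, ga_ext fun g => ?_⟩
  obtain ⟨⟨y, t⟩, hyt, hu⟩ := hT.existsUnique g
  rw [hat_eq_sum, Finset.sum_mul, coeff_sum_apply]
  refine ((Finset.sum_eq_single y (fun y' _ hy => ?_) (by simp)).trans ?_).symm
  swap
  · rw [coeff_single_mul_apply, one_mul, coeff_tr_of_mem _ (by rw [← hyt]; simp)]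
    conv_rhs => rw [← h2 y y.2, coeff_single_mul_apply, one_mul]
  · rw [coeff_single_mul_apply, one_mul]
    exact coeff_tr_of_notMem _ fun h => hy (congrArg Prod.fst (hu (y', ⟨_, h⟩) (by simp)))

theorem ker_le_range_of {V : Type*} [AddCommGroup V] [Module k V] [FiniteDimensional k V]
    {A B : V →ₗ[k] V} (h1 : LinearMap.range A ≤ LinearMap.ker B)
    (h2 : LinearMap.ker A ≤ LinearMap.range B) : LinearMap.ker B ≤ LinearMap.range A := by
  have e1 := A.finrank_range_add_finrank_ker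
  have e2 := B.finrank_range_add_finrank_ker
  have e3 := Submodule.finrank_mono h2
  exact (Submodule.eq_of_le_of_finrank_le h1 (by omega)).ge

theorem exists_aug_mul (h : hat k (zpowers z : Set G) * a = 0) :
    ∃ b, a = (single z 1 - 1) * b := by
  have : FiniteDimensional k k[G] := Module.Finite.of_basis (MonoidAlgebra.basis G k)
  obtain ⟨b, hb⟩ := ker_le_range_of (A := LinearMap.mulLeft k (single z 1 - 1 : k[G]))
    (B := LinearMap.mulLeft k (hat k (zpowers z : Set G))) (by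
      rintro _ ⟨b, rfl⟩
      simp [← mul_assoc, mul_sub, hat_mul_single (mem_zpowers z)])
    (fun a ha => (exists_hat_mul ha).imp fun _ h => h.symm) (x := a) h
  exact ⟨b, hb.symm⟩

theorem exists_x_mul {p : ℕ} [hp : Fact p.Prime] [CharP k p] (hz : orderOf z = p) {f x : k[G]}
    (hf : f * f = f) (fc : ∀ a, f * a = a * f) {r : ℕ} (hr : r ≠ 0)
    (hx : x ^ r * f = (single z 1 - 1) * f) (xz : x * single z 1 = single z 1 * x)
    (h : x ^ (r * p - 1) * f * a = 0) : ∃ b, f * a = x * b := by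
  have := Fintype.ofFinite G
  obtain ⟨w, hw⟩ : ∃ w : k[G], w = single z 1 - 1 := ⟨_, rfl⟩
  have hc : Commute x w := hw ▸ Commute.sub_right xz (Commute.one_right _)
  rw [← hw] at hx
  have h1 : ∀ m, w ^ m * f = (x ^ r) ^ m * f := fun m => by
    induction m with
    | zero => rfl
    | succ m ih => rw [pow_succ, mul_assoc, ← hx, ← mul_assoc, ← ((hc.pow_pow r m)).eq, mul_assoc,
        ih, ← mul_assoc, ← pow_succ']
  obtain ⟨r, rfl⟩ := Nat.exists_eq_succ_of_ne_zero hr
  obtain ⟨s, hs⟩ : ∃ s, p = s + 2 := ⟨p - 2, by have := hp.out.two_le; omega⟩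
  have e1 : hat k (zpowers z : Set G) = w ^ (s + 1) := by
    rw [CfsgH8.hat_eq_pow hz, hw, hs]; rfl
  obtain ⟨b, hb⟩ := exists_aug_mul (z := z) (a := x ^ r * f * a) (by
    rw [e1, ← fc, mul_assoc f, ← mul_assoc, h1, ← mul_assoc, mul_assoc _ f, fc, ← mul_assoc,
      ← pow_mul, ← pow_add, ← h, hs]
    congr 3)
  rw [← hw] at hb
  have e2 : x ^ r * (f * a - x * f * b) = 0 := by
    rw [mul_sub, ← mul_assoc, ← mul_assoc, ← mul_assoc, ← pow_succ, hx, ← fc w, mul_assoc f, ← hb,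
      ← mul_assoc, ← mul_assoc, fc (x ^ r), mul_assoc _ f f, hf, sub_self]
  have e3 : f * (f * a - x * f * b) = f * a - x * f * b := by
    rw [mul_sub, ← mul_assoc, hf, ← mul_assoc, ← mul_assoc, fc x, mul_assoc _ f f, hf]
  obtain ⟨c, hc'⟩ := exists_hat_mul (z := z) (a := f * a - x * f * b) (by
    rw [← hw, ← e3, ← mul_assoc, ← hx, mul_assoc, e3, pow_succ', mul_assoc, e2, mul_zero])
  refine ⟨f * b + x ^ (r + (r + 1) * s) * f * c, ?_⟩
  rw [hc', e1, ← mul_assoc, fc, h1, ← pow_mul, ← e1, ← hc', eq_sub_iff_add_eq'] at e3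
  rw [← e3, mul_add x, ← mul_assoc, ← mul_assoc, ← mul_assoc, ← pow_succ']
  congr 4; simp only [Nat.succ_eq_add_one]; ring

end free

section grp
variable {G : Type*} [Group G] [Finite G] {p : ℕ} [hp : Fact p.Prime]

theorem exists_gen_of_prime {Z T : Subgroup G} (hZ : Nat.card Z = p)
    (hT : T ≤ normalizer (Z : Set G)) :
    (centralizer (Z : Set G)).relIndex T ∣ p - 1 ∧ ∃ t ∈ T,
      (∀ m, t ^ m ∈ centralizer (Z : Set G) ↔ (centralizer (Z : Set G)).relIndex T ∣ m) ∧
      ∀ g ∈ T, ∃ m : ℕ, g * (t ^ m)⁻¹ ∈ centralizer (Z : Set G) := by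
  have hc : IsCyclic Z := isCyclic_of_prime_card hZ
  have h1 : IsCyclic (MulAut Z) := by
    rw [(IsCyclic.mulAutMulEquiv Z).isCyclic, hZ]; exact ZMod.isCyclic_units_prime hp.out
  obtain ⟨φ, hφ⟩ : ∃ φ, φ = Z.normalizerMonoidHom.comp (inclusion hT) := ⟨_, rfl⟩
  have h2 : φ.ker = (centralizer (Z : Set G)).subgroupOf T := hφ ▸ ker_normalizerMonoidHom_comp hT
  have h3 : (centralizer (Z : Set G)).relIndex T = Nat.card φ.range := by
    rw [relIndex, ← h2, index_ker]
  obtain ⟨⟨_, t, rfl⟩, ht⟩ := IsCyclic.exists_generator (α := φ.range)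
  refine ⟨?_, t, t.2, fun m => ?_, fun g hg => ?_⟩
  · rw [h3, ← Nat.totient_prime hp.out, ← hZ, ← IsCyclic.card_mulAut]
    exact card_subgroup_dvd_card _
  · rw [h3, ← orderOf_eq_card_of_forall_mem_zpowers ht, orderOf_dvd_iff_pow_eq_one,
      Subtype.ext_iff, ← Subgroup.coe_pow, ← mem_subgroupOf, ← h2, MonoidHom.mem_ker, map_pow]
    rfl
  · obtain ⟨m, hm⟩ := (mem_powers_iff_mem_zpowers).2 (ht ⟨_, ⟨g, hg⟩, rfl⟩)
    refine ⟨m, ?_⟩
    have : (⟨g, hg⟩ * (t ^ m)⁻¹ : T) ∈ φ.ker := by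
      rw [MonoidHom.mem_ker, map_mul, map_inv, map_pow, mul_inv_eq_one]
      exact (congrArg Subtype.val hm).symm
    rwa [h2] at this

end grp

section cycf
variable {F : Type*} [Field F] {G : Type*} [Group G] [Finite G] {p : ℕ} [hp : Fact p.Prime]
  [CharP F p] [IsAlgClosed F] {N P Z : Subgroup G} {E e f : F[G]}

theorem MP.free_of_cyc (hm : MP p N E P e) (hc : IsCyclic P) {u : G} (hu : u ∈ P) (h1 : u ≠ 1)
    {t : G} (ht : t ∈ N ⊓ normalizer (P : Set G) ⊓ stabA e) (h : t ∈ centralizer {u}) :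
    t ∈ centralizer (P : Set G) := by
  have hn : N ⊓ normalizer (P : Set G) ⊓ stabA e ≤ normalizer (P : Set G) :=
    inf_le_left.trans inf_le_right
  have h2 := hm.not_dvd_abelian (le_centralizer_of_cyclic hc)
  rw [← relIndex_sup_of_normalizer (hn.trans (normalizer_le_normalizer_centralizer P))] at h2
  refine mem_centralizer_of_cyc hc hm.bp.pgroup (sup_le (centralizer_le_normalizer _) hn) le_sup_left h2
    (mem_sup_right ht) hu h1 ?_
  rw [mem_centralizer_singleton_iff.1 h, mul_inv_cancel_right]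

theorem MP.free_of_cyc' (hm : MP p ⊤ E P e) (hc : IsCyclic P) : ∀ u ∈ P, u ≠ 1 →
    ∀ t ∈ normalizer (P : Set G) ⊓ stabA e, t ∈ centralizer {u} → t ∈ centralizer (P : Set G) :=
  fun _ hu h1 _ ht h => hm.free_of_cyc hc hu h1 (by rwa [stab_top]) h

theorem MP.stab_eq_sup (hm : MP p ⊤ E P e) (hc : IsCyclic P) (hs : SL p ⊤ Z f P e) :
    normalizer (Z : Set G) ⊓ stabA f =
      centralizer (Z : Set G) ⊔ normalizer (P : Set G) ⊓ stabA e := by
  refine le_antisymm (fun g hg => ?_) (sup_le (fun g hg => ?_) fun g hg => ?_)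
  · obtain ⟨c, hc', h⟩ := hm.abelian_fusion (le_centralizer_of_cyclic hc) hs (mem_top g) (by
      rw [cj_eq_iff_mem_normalizer.2 hg.1, mem_stabA.1 hg.2]; exact hs)
    rw [stab_top] at h
    exact (mul_mem_cancel_right (mem_sup_left hc'.2)).1 (mem_sup_right h)
  · have := hs.left.Cn_le_stab ⟨mem_top _, hg⟩
    exact ⟨this.1.2, this.2⟩
  · have := normalizer_le_of_cyc hc hs.le hg.1
    exact ⟨this, hs.mem_stab (mem_top _) this hg.1 hg.2⟩

theorem MP.relIndex_cyc (hm : MP p ⊤ E P e) (hc : IsCyclic P) (hs : SL p ⊤ Z f P e) (hZ : Z ≠ ⊥) :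
    (centralizer (Z : Set G)).relIndex (normalizer (Z : Set G) ⊓ stabA f) =
      (centralizer (P : Set G)).relIndex (normalizer (P : Set G) ⊓ stabA e) := by
  rw [hm.stab_eq_sup hc hs, relIndex_sup_of_normalizer ((inf_le_left.trans
    (normalizer_le_of_cyc hc hs.le)).trans (normalizer_le_normalizer_centralizer Z)),
    ← inf_relIndex_right, ← inf_relIndex_right (centralizer (P : Set G))]
  congr 1
  obtain ⟨⟨u, hu⟩, h1⟩ := ne_bot_iff_exists_ne_one.1 hZ
  exact le_antisymm (fun t ht => ⟨hm.free_of_cyc' hc u (hs.le hu) (by simpa using h1) t ht.2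
    (mem_centralizer_singleton_iff.2 (ht.1 u hu).symm), ht.2⟩)
    (inf_le_inf_right _ (centralizer_anti hs.le))

end cycf

variable {M : Ideal AlgInt} [hM : M.IsMaximal] {G : Type*} [Group G] {p : ℕ}

theorem red_ev_of_nilpotent [Finite G] {χ : G → ℂ} (hχ : IsCharacter G χ) {a : ℂ[G]}
    (ha : a ∈ SG M G) (hn : IsNilpotent (redA M a)) : red M (ev χ a) = 0 := by
  obtain ⟨n, ρ, rfl⟩ := hχ
  rw [ev_character, Module.End.trace_eq_sum_roots_charpoly_of_splits (IsAlgClosed.splits _)]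
  have key : ∀ μ ∈ (ρ.asAlgebraHom a).charpoly.roots, μ ∈ Loc M ∧ red M μ = 0 := fun μ hμ => by
    have h1 := AlgHom.spectrum_apply_subset _ _
      ((Module.End.mem_spectrum_iff_isRoot_charpoly _ μ).2 (isRoot_of_mem_roots hμ))
    have h2 : μ ∈ Loc M := by
      obtain ⟨q, hq, hq0⟩ := isIntegral_Loc_of_mem_SG ha
      refine mem_Loc_of_isIntegral_Loc ⟨q, hq, ?_⟩
      have := spectrum.subset_polynomial_aeval a (q.map (algebraMap (Loc M) ℂ)) ⟨μ, h1, rfl⟩
      rw [aeval_map_algebraMap, aeval_def, hq0, spectrum.zero_eq, Set.mem_singleton_iff] at this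
      rwa [← eval_map]
    refine ⟨h2, by_contra fun h => h1 (isUnit_of_redA (M := M)
      (sub_mem (algebraMap_mem_SG h2) ha) ?_)⟩
    rw [redA_sub (algebraMap_mem_SG h2) ha, redA_algebraMap, sub_eq_add_neg]
    exact hn.neg.isUnit_add_left_of_commute ((Ne.isUnit h).map _) (Algebra.commutes _ _).symm
  generalize (ρ.asAlgebraHom a).charpoly.roots = s at key
  suffices s.sum ∈ Loc M ∧ red M s.sum = 0 from this.2
  induction s using Multiset.induction_on with
  | empty => simp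
  | cons a s ih =>
    have h1 := key a (by simp)
    have h2 := ih fun μ hμ => key μ (by simp [hμ])
    rw [Multiset.sum_cons, red_add h1.1 h2.1, h1.2, h2.2, add_zero]
    exact ⟨add_mem h1.1 h2.1, rfl⟩

/-- a nilpotent block with abelian defect group, and a character of height zero -/
structure AN [Finite G] (p : ℕ) (B : Set (IrrCharacter G)) (P : Subgroup G) (e : (Res M)[G])
    (χ : IrrCharacter G) : Prop where
  blk : IsPBlock M B
  mp : MP p ⊤ (bId M B) P e
  fus : ∀ u v : P, Fus p e u v → u = v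
  mem : χ ∈ B
  ht : blockHeight p B χ = 0

variable [Fintype G] [hp : Fact p.Prime] [CharP (Res M) p] {P : Subgroup G} {e : (Res M)[G]}
  {B : Set (IrrCharacter G)} {χ ψ : IrrCharacter G}

namespace AN
variable (h : AN p B P e χ)
include h

theorem fus' (u v : P) (e : Fus p e u v) : IsConj u v := h.fus u v e ▸ IsConj.refl _

theorem stab {W : Type*} (η : P → W) : Stab p e η := fun u v e => h.fus u v e ▸ rfl

theorem nF_eq (u : P) : nF p e u = 1 :=
  Nat.card_eq_one_iff_exists.2 ⟨⟨u, Fus.refl u⟩, fun v => Subtype.ext (h.fus _ _ v.2).symm⟩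

theorem comm : IsMulCommutative P :=
  ⟨⟨fun a b => mul_inv_eq_iff_eq_mul.1 (h.fus _ _ (fus_conj h.mp.bp b a)).symm⟩⟩

variable [Fintype P]

theorem star_eq (η : P → ℂ) (τ : G → ℂ) : star p P e η τ = ∑ u, η u • piU p P e u τ := by
  simp [star_apply, h.nF_eq]

theorem inner_self (u : P) : classInner (piU p P e u χ.1) χ.1 = (Nat.card P : ℂ)⁻¹ := by
  have := h.mp.xS_eq_one h.blk h.fus' h.mem h.ht u
  rw [xS, h.nF_eq, Nat.cast_one, inv_one, one_mul] at this
  exact eq_inv_of_mul_eq_one_right this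

theorem exists_hom (hψ : ψ ∈ B) : ∃ μ : P →* ℂˣ, ψ.1 = star p P e (fun u => μ u) χ.1 := by
  obtain ⟨Ψ, hΨ⟩ := h.mp.exists_equiv h.blk h.fus' h.mem h.ht
  obtain ⟨μ, hμ⟩ := Ψ.surjective ⟨ψ, hψ⟩
  have := h.comm
  obtain ⟨l, hl⟩ := μ.2.isChar.exists_hom_of_deg_one (μ.2.deg_one_of_comm mul_comm')
  exact ⟨l, by rw [← hl, ← hΨ, hμ]⟩

theorem inner_star (u : P) (η : P → ℂ) :
    classInner (piU p P e u χ.1) (star p P e η χ.1) = conj (η u) * (Nat.card P : ℂ)⁻¹ := by
  rw [inner_piU_comm h.mp.bp u χ.2.classFun (star_classFun _ _), piU_star h.mp.bp (h.stab _) u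
    χ.2.classFun, CfsgH3.inner_smul_right, ← inner_piU_comm h.mp.bp u χ.2.classFun χ.2.classFun,
    h.inner_self]

omit h in
variable (p P e χ) in
/-- the image of `w ∈ P` in the centre of the block algebra -/
noncomputable def YY (w : P) : ℂ[G] :=
  (Nat.card P * χ.1 1 / Nat.card G : ℂ) • tAll (piU p P e w⁻¹ χ.1)

omit [Fintype P] in
theorem c_mem : (Nat.card P * χ.1 1 / Nat.card G : ℂ) ∈ Loc M := by
  rw [card_isDef h.blk h.mp.isDef, Nat.cast_pow]; exact pow_deg_div_mem h.mem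

omit [Fintype P] in
theorem YY_SG (w : P) : YY p P e χ w ∈ SG M G :=
  smul_mem_SG h.c_mem (tAll_mem_SG (cmp_apply_mem (h.mp.bp.subEl _) (LC.irr χ)))

omit [Fintype P] h in
theorem YY_Fix (w : P) : YY p P e χ w ∈ Fix ℂ (⊤ : Subgroup G) :=
  Subalgebra.smul_mem _ (tAll_mem_Fix (cA_classFun _)) _

omit [Fintype P] h in
theorem om_YY' (w : P) (ψ : IrrCharacter G) : om ψ.1 (YY p P e χ w) =
    Nat.card P * χ.1 1 / ψ.1 1 * classInner (piU p P e w⁻¹ χ.1) ψ.1 := by
  rw [YY, map_smul, inner_eq_om_tAll, smul_eq_mul]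
  have := ψ.2.one_ne_zero
  have := card_ne_zero_complex G
  field_simp

theorem om_YY (w : P) {μ : P →* ℂˣ} (hψ : ψ.1 = star p P e (fun u => μ u) χ.1) :
    om ψ.1 (YY p P e χ w) = μ w := by
  rw [om_YY', hψ, h.inner_star, h.mp.star_deg h.blk _ h.mem, conj_lin]
  have := χ.2.one_ne_zero
  have := card_ne_zero_complex P
  simp; field_simp

omit [Fintype P] in
theorem om_YY_of_notMem (w : P) (hψ : ψ ∉ B) : om ψ.1 (YY p P e χ w) = 0 := by
  rw [om_YY', ← h.mp.bp_piU h.blk _ χ.2.classFun, inner_bp_comm, bp_irr_of_notMem hψ]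
  simp [classInner]

theorem YY_mul (u v : P) : YY p P e χ (u * v) = YY p P e χ u * YY p P e χ v := by
  refine central_ext (YY_Fix _) (mul_mem (YY_Fix _) (YY_Fix _)) fun ψ => ?_
  rw [om_mul ψ.2 (YY_Fix _)]
  by_cases hψ : ψ ∈ B
  · obtain ⟨μ, hμ⟩ := h.exists_hom hψ
    simp [h.om_YY _ hμ]
  · simp [h.om_YY_of_notMem _ hψ]

theorem YY_one : YY p P e χ 1 = eSet B := by
  refine central_ext (YY_Fix _) (eSet_mem_Fix _) fun ψ => ?_
  by_cases hψ : ψ ∈ B
  · obtain ⟨μ, hμ⟩ := h.exists_hom hψ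
    simp [h.om_YY _ hμ, om_eSet_of_mem hψ]
  · rw [h.om_YY_of_notMem _ hψ, om_eSet_of_notMem hψ]

theorem YY_central {z : P} (hz : (z : G) ∈ center G) :
    om χ.1 (single (z : G) 1) • YY p P e χ z = single (z : G) 1 * eSet B := by
  have h1 : (single (z : G) 1 : ℂ[G]) ∈ Fix ℂ ⊤ := mem_Fix'.2 fun n _ => by
    rw [cjA_single, mem_center_iff.1 hz, mul_inv_cancel_right]
  refine central_ext (Subalgebra.smul_mem _ (YY_Fix _) _) (mul_mem h1 (eSet_mem_Fix _)) fun ψ => ?_
  rw [om_mul ψ.2 h1, map_smul, smul_eq_mul]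
  by_cases hψ : ψ ∈ B
  · obtain ⟨μ, hμ⟩ := h.exists_hom hψ
    have h2 : ∀ v : P, IsConj (z : G) v → v = z := fun v hv => Subtype.ext (by
      obtain ⟨c, hc⟩ := isConj_iff.1 hv
      rw [← hc, mem_center_iff.1 hz, mul_inv_cancel_right])
    have h3 := star_apply_of (e := e) (isPPart_self (h.mp.bp.ord z)) h2 1 χ.1
    rw [h.mp.star_one_irr h.blk h.mem] at h3
    rw [h.om_YY _ hμ, om_eSet_of_mem hψ, om_apply, om_apply, hμ, h.mp.star_deg h.blk _ h.mem,
      ev_single, ev_single, star_apply_of (isPPart_self (h.mp.bp.ord z)) h2, h3]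
    simp; ring
  · simp [h.om_YY_of_notMem _ hψ, om_eSet_of_notMem hψ]

theorem sum_YY : ∑ w, YY p P e χ w = (Nat.card P * χ.1 1 / Nat.card G : ℂ) • tAll χ.1 := by
  have := h.mp.star_one_irr h.blk h.mem
  rw [h.star_eq] at this
  simp only [YY, ← Finset.smul_sum]
  congr 1
  refine ga_ext fun g => ?_
  rw [coeff_sum_apply, coeff_tAll]
  conv_rhs => rw [← this, Finset.sum_apply]
  exact Fintype.sum_equiv (Equiv.inv P) _ _ fun w => by simp

theorem exists_x (hc : IsCyclic P) {z : P} (hz : (z : G) ∈ center G) (ho : orderOf (z : G) = p) :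
    ∃ x ∈ Fix (Res M) (⊤ : Subgroup G), ∃ r ≠ 0, x ^ (r * p) * bId M B = 0 ∧
      x ^ r * bId M B = (single (z : G) 1 - 1) * bId M B ∧
      ∀ a, (∀ b, IsNilpotent (a * b)) → x ^ (r * p - 1) * bId M B * a = 0 := by
  classical
  have : CharP (Res M)[G] p :=
    charP_of_injective_algebraMap (algebraMap (Res M) (Res M)[G]).injective p
  obtain ⟨d, hd⟩ := h.mp.bp.pgroup.exists_card_eq
  have hoz : orderOf z = p := by rw [← ho, Subgroup.orderOf_coe]
  obtain ⟨d, rfl⟩ : ∃ d', d = d' + 1 := Nat.exists_eq_succ_of_ne_zero (by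
    rintro rfl
    have := hoz ▸ hd ▸ orderOf_dvd_natCard z
    simp [hp.out.ne_one] at this)
  obtain ⟨u, hu, hz'⟩ : ∃ u : P, orderOf u = p ^ (d + 1) ∧ u ^ p ^ d = z := by
    obtain ⟨u, hu⟩ := isCyclic_iff_exists_orderOf_eq_natCard.1 hc
    rw [hd] at hu
    have h1 : orderOf (u ^ p ^ d) = p := by
      rw [orderOf_pow_of_dvd (pow_ne_zero _ hp.out.ne_zero) (hu ▸ pow_dvd_pow _ d.le_succ), hu,
        pow_succ, Nat.mul_div_cancel_left _ (pow_pos hp.out.pos _)]
    have h2 : zpowers (u ^ p ^ d) = zpowers z := eq_of_card_eq_cyc (P := ⊤) inferInstance le_top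
      le_top (by rw [Nat.card_zpowers, Nat.card_zpowers, h1, hoz])
    obtain ⟨m, hm⟩ := (mem_powers_iff_mem_zpowers).2 (h2 ▸ mem_zpowers z)
    change (u ^ p ^ d) ^ m = z at hm
    have h3 : Nat.Coprime p m := (Nat.Prime.coprime_iff_not_dvd hp.out).2 fun h3 => by
      rw [← h1, orderOf_dvd_iff_pow_eq_one, hm] at h3
      exact hp.out.ne_one (by rw [← hoz, h3, orderOf_one])
    exact ⟨u ^ m, by rw [(hu ▸ h3.pow_left _ : Nat.Coprime (orderOf u) m).orderOf_pow, hu],
      by rw [← hm, ← pow_mul, ← pow_mul, mul_comm]⟩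
  obtain ⟨y, hy⟩ : ∃ y : P → (Res M)[G], ∀ w, y w = redA M (YY p P e χ w) := ⟨_, fun _ => rfl⟩
  have y1 : y 1 = bId M B := by rw [hy, h.YY_one]; rfl
  have y2 : ∀ v w, y (v * w) = y v * y w := fun v w => by
    rw [hy, hy, hy, h.YY_mul, redA_mul (h.YY_SG _) (h.YY_SG _)]
  have y3 : ∀ m : ℕ, y u ^ m * bId M B = y (u ^ m) := fun m => by
    induction m with
    | zero => simp [y1]
    | succ m ih => rw [pow_succ', mul_assoc, ih, ← y2, pow_succ']
  have y4 : ∀ m : ℕ, (y u - 1) ^ p ^ m * bId M B = y (u ^ p ^ m) - bId M B := fun m => by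
    rw [sub_pow_char_pow_of_commute _ _ (Commute.one_right _), one_pow, sub_mul, y3, one_mul]
  have y5 : y z = single (z : G) 1 * bId M B := by
    have h1 : (single (z : G) 1 : ℂ[G]) ∈ Fix ℂ ⊤ := mem_Fix'.2 fun n _ => by
      rw [cjA_single, mem_center_iff.1 hz, mul_inv_cancel_right]
    have h2 : om χ.1 (single (z : G) 1) ^ p ^ 1 = 1 := by
      rw [← om_pow χ.2 h1, single_pow, pow_one, ← ho, pow_orderOf_eq_one, one_pow, ← one_def,
        om_one χ.2]
    have := congrArg (redA M) (h.YY_central hz)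
    rwa [redA_smul (mem_Loc_of_pow_eq_one (pow_ne_zero _ hp.out.ne_zero) h2) (h.YY_SG _),
      red_eq_one_of_pow_eq_one h2, one_smul, ← hy,
      redA_mul (single_mem_SG _ (one_mem _)) (eSet_mem_SG h.blk), redA_single, red_one] at this
  have y6 : (y u - 1) ^ (p ^ (d + 1) - 1) * bId M B = ∑ w, y w := by
    have h1 : ((X : (Res M)[X]) - 1) ^ (p ^ (d + 1) - 1) =
        ∑ i ∈ Finset.range (p ^ (d + 1)), X ^ i := by
      refine mul_left_cancel₀ (X_sub_C_ne_zero (1 : Res M)) ?_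
      rw [C_1, mul_geom_sum, ← pow_succ', Nat.sub_add_cancel (Nat.one_le_pow _ _ hp.out.pos),
        sub_pow_char_pow, one_pow]
    have h2 := congrArg (aeval (y u)) h1
    simp only [map_pow, map_sub, aeval_X, map_one, map_sum] at h2
    rw [h2, Finset.sum_mul, Finset.sum_range, ← hu]
    simp only [y3]
    refine Fintype.sum_bijective (fun i : Fin (orderOf u) => u ^ (i : ℕ))
      ((Nat.bijective_iff_injective_and_card _).2 ⟨fun i j e => Fin.ext
        (pow_injOn_Iio_orderOf i.2 j.2 e), by simp [hu, ← hd]⟩) _ _ fun _ => rfl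
  refine ⟨y u - 1, sub_mem (hy u ▸ redA_mem_Fix (YY_Fix _)) (one_mem _), p ^ d,
    pow_ne_zero _ hp.out.ne_zero, ?_, ?_, fun a ha => ga_ext fun g => ?_⟩
  · rw [← pow_succ, y4, ← hu, pow_orderOf_eq_one, y1, sub_self]
  · rw [y4, hz', y5, sub_mul, one_mul]
  · have h1 : tAll χ.1 ∈ SG M G := tAll_mem_SG (irr_mem_Loc χ)
    have h2 : liftA M a * single g⁻¹ 1 ∈ SG M G :=
      mul_mem (liftA_mem_SG a) (single_mem_SG _ (one_mem _))
    have h3 := red_ev_of_nilpotent χ.2.isChar h2 (by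
      rw [redA_mul (liftA_mem_SG a) (single_mem_SG _ (one_mem _)), redA_liftA]; exact ha _)
    rw [← pow_succ, y6, Finset.sum_congr rfl fun w _ => hy w,
      ← redA_sum _ _ fun w _ => h.YY_SG w, h.sum_YY, redA_smul h.c_mem h1, smul_mul_assoc,
      mul_comm_of_Fix_top (redA_mem_Fix (tAll_mem_Fix χ.2.classFun)), ← redA_liftA (M := M) a,
      ← redA_mul (liftA_mem_SG a) h1, MonoidAlgebra.coeff_smul, Finsupp.smul_apply, coeff_redA, coeff_mul_left]
    rw [ev_apply, ← Equiv.sum_comp (Equiv.mulRight g⁻¹)] at h3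
    simp only [Equiv.coe_mulRight, coeff_mul_single_apply, inv_inv, inv_mul_cancel_right,
      mul_one] at h3
    simp only [coeff_tAll, mul_inv_rev, inv_inv, ← χ.2.classFun.mul_comm _ g⁻¹, h3]
    simp

end AN

omit [Fintype G] in
theorem exists_AN [Finite G] (hm : MP p ⊤ (bId M B) P e) (hB : IsPBlock M B)
    (hab : P ≤ centralizer (P : Set G)) (hn : Nil p ⊤ (bId M B)) : ∃ χ, AN p B P e χ := by
  obtain ⟨χ, h1, h2⟩ := exists_height_zero (p := p) (block_nonempty hB)
  refine ⟨χ, hB, hm, fun u v h => ?_, h1, h2⟩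
  obtain ⟨c, rfl⟩ := isConj_iff.1 (hn.isConj_of_fus hm u v h)
  exact Subtype.ext (by simp [← hab c.2 u u.2])

omit [Fintype G] in
theorem MP.exists_rel [Finite G] {N : Subgroup G} {E : (Res M)[G]} (hm : MP p N E P e) :
    ∃ (b : Set (IrrCharacter N)) (e' : (Res M)[N]), IsPBlock M b ∧ bIdS M N b = E ∧
      emb (Res M) N.subtype e' = e ∧ MP p ⊤ (bId M b) (P.subgroupOf N) e' := by
  obtain ⟨b, hb, rfl⟩ := exists_block_of_isPrim_S hm.prim
  obtain ⟨e, rfl⟩ := exists_emb_eq N.subtype_injective (b := e)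
    (by rw [range_subtype]; exact hm.bp.suppN)
  exact ⟨b, e, hb, rfl, rfl, (mp_emb N.subtype_injective).1 (by
    rw [map_top_subtype, map_subgroupOf_eq_of_le hm.bp.le]; exact hm)⟩

omit [Fintype G] in
theorem MP.exists_AN_cent [Finite G] {E f : (Res M)[G]} (hm : MP p ⊤ E P e) (hc : IsCyclic P)
    {Z : Subgroup G} (hs : SL p ⊤ Z f P e) (hZ : Z ≠ ⊥) :
    ∃ (b : Set (IrrCharacter (centralizer (Z : Set G)))) (e' : (Res M)[centralizer (Z : Set G)])
      (θ : IrrCharacter _), bIdS M _ b = f ∧ emb (Res M) (centralizer (Z : Set G)).subtype e' = e ∧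
        AN p b (P.subgroupOf _) e' θ := by
  have hab := le_centralizer_of_cyclic hc
  have h1 := hm.in_Cn hs (hab.trans (centralizer_anti hs.le))
  rw [Cn_top] at h1
  obtain ⟨⟨u, hu⟩, h2⟩ := ne_bot_iff_exists_ne_one.1 hZ
  have h3 : Nil p _ f := (h1.nil_iff_abelian hab).2 fun t ht => hm.free_of_cyc' hc u (hs.le hu)
    (by simpa using h2) t ⟨ht.1.2, ht.2⟩ (mem_centralizer_singleton_iff.2 (ht.1.1 u hu).symm)
  obtain ⟨b, e', hb, rfl, rfl, hm'⟩ := h1.exists_rel
  obtain ⟨θ, hθ⟩ := exists_AN hm' hb (fun x hx y hy => Subtype.ext (hab hx y hy))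
    ((isNilpotentBlock_iff hb).1 ((isNilpotentBlock_iff_S hb).2 h3))
  exact ⟨b, e', θ, rfl, rfl, hθ⟩

theorem MP.exists_CD {E f : (Res M)[G]} (hm : MP p ⊤ E P e) (hc : IsCyclic P)
    {Z : Subgroup G} (hs : SL p ⊤ Z f P e) (hZ : Nat.card Z = p) : ∃ j x n, CD p Z f j x n := by
  have hZ1 : Z ≠ ⊥ := by rintro rfl; exact hp.out.ne_one (by simpa using hZ.symm)
  have hab := le_centralizer_of_cyclic hc
  have hPC := hab.trans (centralizer_anti hs.le)
  obtain ⟨b, e', θ, rfl, rfl, h⟩ := hm.exists_AN_cent hc hs hZ1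
  obtain ⟨z, hz, ho⟩ := exists_orderOf_eq_prime (P := Z) (p := p) (by rw [hZ])
  have hdef := hm.abelian_isDef hs hPC
  rw [Cn_top] at hdef
  have hpsub : ∀ c ∈ centralizer (Z : Set G), orderOf c = p → ∀ y,
      (bIdS M (centralizer (Z : Set G)) b).coeff y ≠ 0 → c * y = y * c → zpowers c = Z := by
    intro c hcC hco y hy hcy
    obtain ⟨n, hn, h1⟩ := hdef.max (zpowers c) (zpowers_le.2 hcC)
      (isPGroup_zpowers_of_orderOf (hco.trans (pow_one p).symm))
      (tr_ne_zero_iff.2 ⟨y, by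
        rw [centralizer_zpowers]; exact mem_centralizer_singleton_iff.2 hcy.symm, hy⟩)
    have h2 := eq_of_card_eq_cyc hc h1 hs.le (by rw [card_cj, Nat.card_zpowers, hco, hZ])
    rw [← cj_eq_iff_mem_normalizer.2 (centralizer_le_normalizer _ hn)] at h2
    exact (cj_inj n).1 h2
  have hprim := hs.left.prim
  rw [Cn_top] at hprim
  have hzC : ∀ c : centralizer (Z : Set G), z * c = c * z := fun c => c.2 z hz
  have hN : normalizer (Z : Set G) ≤ normalizer (centralizer (Z : Set G) : Set G) :=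
    normalizer_le_normalizer_centralizer Z
  have := Fintype.ofFinite (centralizer (Z : Set G))
  have := Fintype.ofFinite (P.subgroupOf (centralizer (Z : Set G)))
  have hinj := (centralizer (Z : Set G)).subtype_injective
  obtain ⟨x, hx, r, hr, h1, h2, h3⟩ := h.exists_x
    ((subgroupOfEquivOfLe hPC).isCyclic.2 hc) (z := ⟨⟨z, hPC (hs.le hz)⟩, hs.le hz⟩)
    (mem_center_iff.2 fun c => Subtype.ext (hzC c).symm) ((Subgroup.orderOf_coe _).symm.trans ho)
  have : FiniteDimensional (Res M) (Res M)[centralizer (Z : Set G)] :=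
    Module.Finite.of_basis (MonoidAlgebra.basis _ _)
  have hf := isPrim_bId h.blk
  have fc := mul_comm_of_Fix_top hf.mem.2
  have hrp : r * p - 1 + 1 = r * p := Nat.sub_add_cancel (Nat.mul_pos hr.bot_lt hp.out.pos)
  obtain ⟨j, hj, hfj, h4, h5, ⟨ι, _, a, b', h6⟩, h7⟩ := exists_uniserial (k := Res M)
    (n := r * p - 1) hf.idem hf.ne_zero fc (mul_comm_of_Fix_top hx)
    (fun g hg => hf.prim g (mem_Zc_top.2 (mem_Fix_iff_comm.2 fun n _ => (hg _).symm)))
    (by rw [hrp, h1]) (fun a => exists_x_mul ((Subgroup.orderOf_coe _).symm.trans ho) hf.idem fc hr h2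
      (mul_comm_of_Fix_top hx _)) h3
  obtain ⟨φ, hφ⟩ : ∃ φ, φ = emb (Res M) (centralizer (Z : Set G)).subtype := ⟨_, rfl⟩
  have hS : ∀ a, φ a ∈ Supp (Res M) (centralizer (Z : Set G)) := fun a => by
    have := emb_mem_Supp_range (φ := (centralizer (Z : Set G)).subtype) a
    rwa [range_subtype, ← hφ] at this
  have hS' : ∀ a ∈ Supp (Res M) (centralizer (Z : Set G)), ∃ a', φ a' = a := fun a ha =>
    hφ ▸ exists_emb_eq hinj (by rwa [range_subtype])
  have hi : Injective φ := hφ ▸ emb_injective hinj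
  have hb : bIdS M _ b = φ (bId M b) := hφ ▸ rfl
  refine ⟨φ j, φ x, r * p - 1, hprim, hS j, by rw [← map_mul, hj.idem],
    by rw [hb, ← map_mul, hfj], hφ ▸ (emb_subtype_mem_Z _).2 (mem_Zc_top.2 hx),
    by rw [hb, ← map_pow, ← map_mul, hrp, h1, map_zero],
    by rw [← map_pow, ← map_mul]; exact (map_ne_zero_iff _ hi).2 h4, ?_, fun a ha => ?_,
    ⟨ι, inferInstance, fun r => φ (a r), fun r => φ (b' r), fun r => ⟨hS _, hS _⟩, by
      rw [hb, ← h6, map_sum]; simp⟩, fun g hg => ?_, hpsub⟩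
  · have := hp.out.two_le
    have : 1 * 2 ≤ r * p := Nat.mul_le_mul hr.bot_lt this
    omega
  · obtain ⟨a, rfl⟩ := hS' a ha
    obtain ⟨g, hg⟩ := h5 a
    exact ⟨g, by rw [← map_mul, ← map_mul, hg, map_mul, aeval_algHom_apply]⟩
  · have key : ∀ g ∈ normalizer (Z : Set G), ∀ a, ∃ a', φ a' = cjA _ g (φ a) := fun g hg a =>
      hS' _ (by
        have := cjA_mem_Supp (hS a) g
        rwa [cj_eq_iff_mem_normalizer.2 (hN hg)] at this)
    obtain ⟨i, hi'⟩ := key g hg.1 j
    have hgi : cjA _ g⁻¹ (φ i) = φ j := by rw [hi', cjA_inv_cjA]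
    obtain ⟨α, β, h8, h9⟩ := h7 i ⟨hi (by rw [map_mul, hi', ← map_mul, ← map_mul, hj.idem]),
      fun h0 => hj.ne_zero (hi (by rw [← hgi, h0]; simp)), fun w w1 w2 w3 => by
        obtain ⟨w', hw'⟩ := key g⁻¹ (inv_mem hg.1) w
        have := hj.prim w' (hi (by rw [map_mul, hw', ← map_mul, ← map_mul, w1]))
          (hi (by rw [map_mul, hw', ← hgi, ← map_mul, ← map_mul, w2]))
          (hi (by rw [map_mul, hw', ← hgi, ← map_mul, ← map_mul, w3]))
        refine this.imp (fun h0 => ?_) fun h0 => hi ((cjA _ g⁻¹).injective ?_)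
        · rw [h0, map_zero, eq_comm, EmbeddingLike.map_eq_zero_iff] at hw'
          exact (map_eq_zero_iff _ hi).1 hw'
        · rw [← hw', h0, hgi]⟩
      (hi (by rw [map_mul, hi', ← hb, ← mem_stabA.1 hg.2, ← map_mul, hb, ← map_mul, hfj]))
    exact ⟨φ α, hS _, φ β, hS _, by rw [← map_mul, h8, hi'], by rw [← map_mul, h9]⟩

theorem MP.le_rank_cyc (hm : MP p ⊤ (bId M B) P e) (hB : IsPBlock M B) (hc : IsCyclic P)
    (h1 : P ≠ ⊥) : (centralizer (P : Set G)).relIndex (normalizer (P : Set G) ⊓ stabA e) ≤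
      blockRank p B ∧ (centralizer (P : Set G)).relIndex (normalizer (P : Set G) ⊓ stabA e) ∣
        p - 1 := by
  obtain ⟨z, hz, ho⟩ := exists_orderOf_eq_prime (dvd_card_of_ne_bot hm.bp.pgroup h1)
  have hZ : Nat.card (zpowers z) = p := by rw [Nat.card_zpowers, ho]
  have hs := fb_sl hm.bp hz
  obtain ⟨j, x, n, h⟩ := hm.exists_CD hc hs hZ
  rw [← hm.relIndex_cyc hc hs (by
    rw [Ne, zpowers_eq_bot, ← orderOf_eq_one_iff, ho]; exact hp.out.ne_one)]
  obtain ⟨h2, t, ht, h3, h4⟩ := exists_gen_of_prime hZ (inf_le_left (b := stabA (fb p P e z)))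
  refine ⟨?_, h2⟩
  obtain ⟨τ, a1, a2, a3, a, a4⟩ := h.exists_traces (fun h0 => by
    have := Nat.le_of_dvd (Nat.sub_pos_of_lt hp.out.one_lt)
      (((CharP.cast_eq_zero_iff _ p _).1 h0).trans h2)
    have := hp.out.pos
    omega) rfl ht h3 h4 (bId_mem B).2 (hm.mul_of_sl hs)
  simpa using CfsgH8.card_le_blockRank (eSet_mem_SG hB) τ a1 a2 a3 a a4

end CfsgH4
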