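import Cfsg.Agent.H4.Cyc2

/-! Cyclic defect groups: the canonical family of class functions on the `p`-sections. -/

set_option autoImplicit false
set_option linter.unusedSectionVars false

open MonoidAlgebra Subgroup CfsgH2 Function Cfsg CfsgH3
open scoped ComplexConjugate

namespace CfsgH4

theorem bp_trSet {H H' : Type*} [Group H] [Group H'] [Finite H] [Finite H'] (φ : H ≃* H')
    (b : Set (IrrCharacter H)) (τ : H' → ℂ) (x : H) :
    blockPart (trSet φ b) τ (φ x) = blockPart b (fun y => τ (φ y)) x := by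
  have := Fintype.ofFinite H
  have := Fintype.ofFinite H'
  rw [blockPart_apply, blockPart_apply, sum_trSet]
  refine Finset.sum_congr rfl fun ξ _ => ?_
  rw [← inner_comp_equiv φ.toEquiv]
  simp [irrEquiv_apply]

variable {M : Ideal AlgInt} [hM : M.IsMaximal] {G : Type*} [Group G] {p : ℕ} [Fintype G]
  [hp : Fact p.Prime]

theorem cmp_cj_gen {H H' : Subgroup G} {z : H} {z' : H'} (h : SubEl p H z) (h' : SubEl p H' z')
    {b : Set (IrrCharacter H)} {g : G} (hz : g * z * g⁻¹ = z') {τ τ' : G → ℂ}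
    (hτ : ∀ c ∈ H, τ' (g * c * g⁻¹) = τ c) :
    cmp p H' (cjSet g H H' b) z' τ' = cmp p H b z τ := by
  refine h.ext (cmp_classFun _) (cmp_classFun _) (fun a x hx e => ?_) fun c hc => ?_
  · rw [cmp_eq_zero_of_not_isConj _ hx e, cmp_eq_zero_of_not_isConj _ hx fun e' =>
      e (e'.trans (isConj_iff.2 ⟨g, hz⟩).symm)]
  · have h1 := isPPart_conj (isPPart_coe.2 hc) g
    have h2 := h.cj_eq h' hz
    rw [hz, ← cjIso_apply h2, isPPart_coe] at h1
    rw [← cmp_classFun (H := H') τ' c g, ← cjIso_apply h2, cmp_apply h' _ h1, cmp_apply h _ hc,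
      cjSet_eq_trSet h2, bp_trSet]
    exact congrArg (blockPart b · c) (funext fun y => hτ y y.2)

variable [CharP (Res M) p]

section int

theorem pow_bp_div_mem {b : Set (IrrCharacter G)} {θ : G → ℂ} (hθ : LC (Loc M) θ) (g : G) :
    (p : ℂ) ^ blockDefect p b * blockPart b θ g / Nat.card (centralizer ({g} : Set G)) ∈ Loc M := by
  rw [blockPart_apply, Finset.mul_sum, Finset.sum_div]
  refine Subring.sum_mem _ fun ξ hξ => ?_
  have h1 := mul_mem (hθ.inner ξ) (mul_mem (pow_deg_div_mem (M := M) (p := p) (mem_irrF.1 hξ))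
    (centralChar_mem_Loc ξ.2 g))
  convert h1 using 1
  rw [centralChar, ← card_mul_index (centralizer ({g} : Set G))]
  have := ξ.2.one_ne_zero
  have := card_ne_zero_complex (centralizer ({g} : Set G))
  have : ((centralizer ({g} : Set G)).index : ℂ) ≠ 0 := Nat.cast_ne_zero.2 index_ne_zero_of_finite
  push_cast; field_simp

theorem cmp_int {H : Subgroup G} {z : H} (h : SubEl p H z) (b : Set (IrrCharacter H)) {τ : G → ℂ}
    (hτ : LC (Loc M) fun c : H => τ c) (g : G) : cmp p H b z τ g ∈ Loc M ∧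
      (p : ℂ) ^ blockDefect p b * cmp p H b z τ g / Nat.card (centralizer ({g} : Set G)) ∈ Loc M := by
  obtain ⟨x, hx⟩ := exists_isPPart (p := p) g
  by_cases hc : IsConj x (z : G)
  · obtain ⟨n, c, h1, h2⟩ := h.exists_conj hx hc
    have := Fintype.ofFinite H
    have h3 : centralizer ({(c : G)} : Set G) ≤ H := fun y hy => by
      rw [← h.cent, mem_centralizer_singleton_iff] 
      exact ppart_conj_of_pow (isPPart_coe.2 h2) (isPPart_coe.2 h2) (n := 1)
        (by simpa using hp.out.ne_one) (by simpa using (mem_centralizer_singleton_iff.1 hy).symm) |>.symm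
    have h4 : Nat.card (centralizer ({g} : Set G)) = Nat.card (centralizer ({c} : Set H)) := by
      rw [← card_cj n, cj_centralizer_singleton, h1,
        ← Nat.card_congr (subgroupOfEquivOfLe h3).toEquiv]
      congr 3
      ext t
      simp only [mem_subgroupOf, mem_centralizer_singleton_iff, Subtype.ext_iff, coe_mul]
    rw [← cmp_classFun τ g n, h1, cmp_apply h _ h2, h4]
    exact ⟨(hτ.blockPart b).apply_mem c, pow_bp_div_mem hτ c⟩
  · rw [cmp_eq_zero_of_not_isConj _ hx hc]; simp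

theorem div_card_mem_of_vanish {θ : G → ℂ} (hθ : LC (Loc M) θ) (h : ∀ g, p ∣ orderOf g → θ g = 0)
    (x : G) : θ x / Nat.card (centralizer ({x} : Set G)) ∈ Loc M := by
  by_cases hx : p ∣ orderOf x
  · simp [h x hx]
  obtain ⟨S⟩ : Nonempty (Sylow p (centralizer ({x} : Set G))) := inferInstance
  have := Fintype.ofFinite S.1
  have hc : ∀ s : S.1, Commute x (s.1 : G) := fun s => (mem_centralizer_singleton_iff.1 s.1.2).symm
  have h1 := (hθ.shift ((centralizer {x}).subtype.comp S.1.subtype) hc).inner ⟨_, isIrr_one⟩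
  rw [inner_one_right, Finset.sum_eq_single 1 (fun s _ hs => h _ (by_contra fun e => hs ?_))
    (by simp)] at h1
  · have h2 := mul_mem h1 (inv_natCast_mem_Loc (M := M) S.not_dvd_index)
    convert h2 using 1
    rw [← card_mul_index S.1]
    simp; ring
  · obtain ⟨k, hk⟩ := IsPGroup.iff_orderOf.1 S.2 s
    exact Subtype.ext (Subtype.ext (eq_one_of_mul_reg (hc s).symm
      ⟨k, by rw [Subgroup.orderOf_coe, Subgroup.orderOf_coe, hk]⟩ hx (by rwa [(hc s).symm.eq])))

end int

variable {P : Subgroup G} {e : (Res M)[G]} {B : Set (IrrCharacter G)} {χ ψ : IrrCharacter G}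

omit [Fintype G] in
theorem fb_cj [Finite G] (he : BP p ⊤ P e) {t u : G}
    (ht : t ∈ normalizer (P : Set G) ⊓ stabA e) (hu : u ∈ P) :
    cjA _ t (fb p P e u) = fb p P e (t * u * t⁻¹) := by
  have := (fb_sl he hu).cj_of_stab (mem_top t) ht.1 ht.2
  rw [cj_zpowers] at this
  exact this.eq_fb

theorem piU_cj (he : BP p ⊤ P e) {t : G} (ht : t ∈ normalizer (P : Set G) ⊓ stabA e) {u v : P}
    (h : t * u * t⁻¹ = v) {τ τ' : G → ℂ}
    (hτ : ∀ c ∈ centralizer {(u : G)}, τ' (t * c * t⁻¹) = τ c) :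
    piU p P e v τ' = piU p P e u τ := by
  rw [piU, piU, cA_def, cA_def, ← cmp_cj_gen (he.subEl u) (he.subEl v) h hτ,
    (cjSet_eq_iff ((he.subEl u).cj_eq (he.subEl v) h) (isPBlock_blk (fb_mem he u.2))
      (isPBlock_blk (fb_mem he v.2))).2]
  rw [bIdS_blk (fb_mem he u.2), bIdS_blk (fb_mem he v.2), fb_cj he ht u.2, h]

section rel
variable {H : Subgroup G} [Fintype H] {e' : (Res M)[H]} (hPH : P ≤ H)
  (he : BP p ⊤ (P.subgroupOf H) e') {u : P} {u' : P.subgroupOf H} (hu : ((u' : H) : G) = u)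
  (hC : centralizer {(u : G)} ≤ H)
include hPH he hu hC

theorem fb_emb : emb _ H.subtype (fb p (P.subgroupOf H) e' u') =
    fb p P (emb _ H.subtype e') u := by
  have h1 := (fb_sl he u'.2).emb H.subtype_injective
  rw [map_top_subtype, map_subgroupOf_eq_of_le hPH, MonoidHom.map_zpowers, coe_subtype, hu] at h1
  exact (h1.ambient (N := ⊤) (Q := zpowers (u : G))
    (by rwa [Cn_top, centralizer_zpowers]) le_top le_rfl).eq_fb

theorem rel_piU {θ : H → ℂ} {τ : G → ℂ} (hτ : ∀ c : H, τ c = θ c) :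
    indFun H (piU p _ e' u' θ) = piU p P (emb _ H.subtype e') u τ ∧
    ∀ c : H, IsPPart p c u' → piU p P (emb _ H.subtype e') u τ c = piU p _ e' u' θ c := by
  have h1 : centralizer {(u : G)} = (centralizer {(u' : H)}).map H.subtype := by
    ext t
    simp only [mem_map, mem_centralizer_singleton_iff, coe_subtype]
    exact ⟨fun h => ⟨⟨t, hC (mem_centralizer_singleton_iff.2 h)⟩, Subtype.ext (by simpa [hu]), rfl⟩,
      fun ⟨y, h, e⟩ => by rw [← e, ← hu]; exact congrArg Subtype.val h⟩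
  have h2 : SubEl p ((centralizer {(u' : H)}).map H.subtype) ⟨u, h1 ▸ mem_centralizer_self _⟩ :=
    ⟨h1, by rw [← hu]; simpa using he.ord u'⟩
  have h3 := h2.cA_eq (M := M) (fb p P (emb _ H.subtype e') u)
  rw [← fb_emb hPH he hu hC, blk_map H.subtype_injective (mem_bps.1 (fb_mem he u'.2)),
    fb_emb hPH he hu hC] at h3
  have h4 : ∀ x : centralizer {(u' : H)}, IsPPart p (equivMapOfInjective _ _ H.subtype_injective x)
      ⟨u, h1 ▸ mem_centralizer_self _⟩ ↔ IsPPart p x (zc (u' : H)) := fun x => by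
    rw [← isPPart_coe, ← isPPart_coe (c := x), ← isPPart_coe (c := (x : H))]
    simp [hu]
  have h5 : ∀ b (x : centralizer {(u' : H)}), blockPart (trSet
      (equivMapOfInjective _ _ H.subtype_injective) b) (fun c => τ c)
      (equivMapOfInjective _ _ H.subtype_injective x) = blockPart b (fun c => θ c) x :=
    fun b x => by rw [bp_trSet]; exact congrArg (blockPart b · x) (funext fun y => hτ _)
  refine ⟨?_, fun c hc => ?_⟩
  · rw [piU, piU, h3, cA_def, cmp_eq, cmp_eq]
    refine indFun_indFun_map _ _ _ _ fun x => ?_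
    change secP _ _ _ (equivMapOfInjective _ _ H.subtype_injective x) = _
    by_cases hx : IsPPart p x (zc (u' : H))
    · rw [secP_of _ hx, secP_of _ ((h4 x).2 hx), h5]
    · rw [secP_of_not _ hx, secP_of_not _ (mt (h4 x).1 hx)]
  · have hc' := (he.subEl u').mem hc
    have h6 : IsPPart p (⟨c, hc'⟩ : centralizer {(u' : H)}) (zc (u' : H)) := isPPart_coe.1 hc
    rw [piU, piU, h3, cA_def]
    exact ((cmp_apply h2 τ ((h4 _).2 h6)).trans (h5 _ _)).trans (cmp_apply (he.subEl u') θ h6).symm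

end rel

/-- a family of class functions spanning the components on the nontrivial subsections -/
structure WF (p : ℕ) (P : Subgroup G) [Fintype P] (e : (Res M)[G]) (W : P → G → ℂ) : Prop where
  one : W 1 = 0
  self : ∀ u, piU p P e u (W u) = W u
  norm : ∀ u ≠ 1, classInner (W u) (W u) = (Nat.card P : ℂ)⁻¹
  gen : ∀ η, IsGeneralizedCharacter P η → η 1 = 0 → IsGeneralizedCharacter G (∑ u, η u • W u)
  int : ∀ u g, W u g ∈ Loc M ∧
    Nat.card P * W u g / Nat.card (centralizer ({g} : Set G)) ∈ Loc M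

variable [Fintype P]

theorem WF.twist {W : P → G → ℂ} (h : WF p P e W) (ν : P →* ℂˣ) :
    WF p P e fun u => (ν u : ℂ) • W u := by
  have h1 : ∀ u, (ν u : ℂ) ∈ Loc M := fun u => char_mem_Loc (isIrr_unitsHom ν).isChar u
  refine ⟨by simp [h.one], fun u => by rw [map_smul, h.self], fun u hu => ?_, fun η hη h0 => ?_,
    fun u g => ⟨mul_mem (h1 u) (h.int u g).1, ?_⟩⟩
  · rw [CfsgH3.inner_smul_left, CfsgH3.inner_smul_right, h.norm u hu, conj_lin]; simp
  · simpa [smul_smul] using h.gen _ (hη.mul (isIrr_unitsHom ν).isGen) (by simp [h0])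
  · convert mul_mem (h1 u) (h.int u g).2 using 1
    simp; ring

theorem MP.exists_WF0 (hm : MP p ⊤ (bId M B) P e) (hB : IsPBlock M B) (hc : IsCyclic P)
    (h1 : P ≠ ⊥) : ∃ W, WF p P e W ∧ ∀ t ∈ normalizer (P : Set G) ⊓ stabA e, ∃ μ : P →* ℂˣ,
      ∀ u v : P, t * u * t⁻¹ = v → W u = (μ v : ℂ) • W v := by
  classical
  obtain ⟨z, hz, ho⟩ := exists_orderOf_eq_prime (dvd_card_of_ne_bot hm.bp.pgroup h1)
  have hZ : Nat.card (zpowers z) = p := by rw [Nat.card_zpowers, ho]
  have hs := fb_sl hm.bp hz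
  have hPC := (le_centralizer_of_cyclic hc).trans (centralizer_anti hs.le)
  have hst := (hm.stab_eq_sup hc hs).ge
  obtain ⟨b, e', θ, hb, rfl, h⟩ := hm.exists_AN_cent hc hs (by
    rw [Ne, zpowers_eq_bot, ← orderOf_eq_one_iff, ho]; exact hp.out.ne_one)
  rw [← hb] at hst
  have hC : ∀ u : P, u ≠ 1 → centralizer {(u : G)} ≤ centralizer (zpowers z : Set G) :=
    fun u hu => centralizer_zpowers (u : G) ▸ centralizer_anti (le_of_cyc_pgroup hc hm.bp.pgroup
      hs.le hZ (zpowers_le.2 u.2) (by simpa using hu))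
  have hN := normalizer_le_normalizer_centralizer (zpowers z)
  clear hb hs
  generalize centralizer (zpowers z : Set G) = C at *
  have := Fintype.ofFinite C
  have := Fintype.ofFinite (P.subgroupOf C)
  obtain ⟨ι, hι⟩ : ∃ ι : P ≃* P.subgroupOf C, ∀ u, ((ι u : C) : G) = u :=
    ⟨(subgroupOfEquivOfLe hPC).symm, fun _ => rfl⟩
  have hcard : Nat.card (P.subgroupOf C) = Nat.card P := (Nat.card_congr ι.toEquiv).symm
  have rel := fun (u : P) (hu : u ≠ 1) (θ : C → ℂ) =>
    rel_piU hPC h.mp.bp (hι u) (hC u hu) (ext0_coe C θ)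
  refine ⟨fun u => if u = 1 then 0 else piU p P (emb _ C.subtype e') u (extendByZero C θ.1),
    ⟨if_pos rfl, fun u => ?_, fun u hu => ?_, fun η hη h0 => ?_, fun u g => ?_⟩, fun t ht => ?_⟩
  · split_ifs
    · exact map_zero _
    · exact piU_piU hm.bp _ _
  · rw [if_neg hu]
    nth_rw 1 [← (rel u hu _).1]
    rw [inner_indFun_left _ _ (cA_classFun _), inner_piU_comm h.mp.bp _ θ.2.classFun
      (classFun_res (cA_classFun _) _), piU, cA_def,
      cmp_congr (h.mp.bp.subEl _) (h.mp.bp.blk_SG _) fun c hc => (rel u hu _).2 c (isPPart_coe.2 hc),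
      ← cA_def, piU_piU h.mp.bp, ← inner_piU_comm h.mp.bp _ θ.2.classFun θ.2.classFun,
      h.inner_self, hcard]
  · have h2 := (h.mp.star_isGen (hη.comp ι.symm.toMonoidHom) (h.stab _) θ.2.isGen).ind
    rw [h.star_eq, indFun_sum, ← Equiv.sum_comp ι.toEquiv] at h2
    convert h2 using 2 with u
    split_ifs with hu
    · simp [hu, h0, indFun_zero]
    · rw [indFun_smul, ← (rel u hu _).1]; simp
  · split_ifs with hu
    · simp
    · rw [card_isDef hB hm.isDef, ← hm.defect_fb hB (le_centralizer_of_cyclic hc u.2), Nat.cast_pow]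
      refine cmp_int (hm.bp.subEl u) _ ?_ g
      convert (LC.irr (S := Loc M) θ).comp (inclusion (hC u hu)) using 2 with c
      exact ext0_of_mem _ _ _
  · have ht' := hst (mem_sup_right ht)
    have h2 := cj_eq_iff_mem_normalizer.2 (hN ht'.1)
    obtain ⟨θ', h3, h4⟩ := (cjA_eq_iff_forall_exists h2 h.blk h.blk).1 ht'.2 θ h.mem
    obtain ⟨μ, hμ⟩ := h.exists_hom h3
    refine ⟨μ.comp ι.toMonoidHom, fun u v huv => ?_⟩
    have h5 : v = 1 ↔ u = 1 := by
      rw [← OneMemClass.coe_eq_one, ← huv, conj_eq_one_iff, OneMemClass.coe_eq_one]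
    by_cases hu : u = 1
    · simp [hu, h5.2 hu]
    have hv := mt h5.1 hu
    simp only [if_neg hu, if_neg hv]
    rw [← piU_cj hm.bp ht huv (τ' := extendByZero C θ'.1) fun c hc => ?_, ← (rel v hv _).1,
      ← (rel v hv _).1, hμ, piU_star h.mp.bp (h.stab _) _ θ.2.classFun, indFun_smul]
    · rfl
    · have h6 := hC u hu hc
      have h7 := (mem_normalizer_iff.1 (hN ht'.1) c).1 h6
      rw [ext0_of_mem _ _ h6, ext0_of_mem _ _ h7]
      exact h4 _ _ rfl

theorem MP.exists_WF (hm : MP p ⊤ (bId M B) P e) (hB : IsPBlock M B) (hc : IsCyclic P)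
    (h1 : P ≠ ⊥) : ∃ W, WF p P e W ∧ ∀ t ∈ normalizer (P : Set G) ⊓ stabA e,
      ∀ u v : P, t * u * t⁻¹ = v → W u = W v := by
  obtain ⟨W, hW, h2⟩ := hm.exists_WF0 hB hc h1
  obtain ⟨z, hz, ho⟩ := exists_orderOf_eq_prime (dvd_card_of_ne_bot hm.bp.pgroup h1)
  have hz1 : z ≠ 1 := by rw [Ne, ← orderOf_eq_one_iff, ho]; exact hp.out.ne_one
  obtain ⟨-, t, ht, -, h3⟩ := exists_gen_of_prime (T := normalizer (P : Set G) ⊓ stabA e)
    (show Nat.card (zpowers z) = p by rw [Nat.card_zpowers, ho])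
    (inf_le_left.trans (normalizer_le_of_cyc hc (zpowers_le.2 hz)))
  suffices ∃ W, WF p P e W ∧ ∀ u v : P, t * u * t⁻¹ = v → W u = W v by
    obtain ⟨W, hW, h4⟩ := this
    refine ⟨W, hW, fun g hg u v huv => ?_⟩
    obtain ⟨m, hm'⟩ := h3 g hg
    rw [centralizer_zpowers] at hm'
    have h5 := hm.free_of_cyc' hc z hz hz1 _ (mul_mem hg (inv_mem (pow_mem ht m))) hm'
    have h6 : t ^ m * u * (t ^ m)⁻¹ = v := by
      have := h5 _ ((mem_normalizer_iff.1 (pow_mem ht.1 m) u).1 u.2)
      rw [← huv, eq_mul_inv_of_mul_eq this]; group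
    clear hm' h5 huv
    induction m generalizing v with
    | zero => rw [show u = v from Subtype.ext (by simpa using h6)]
    | succ m ih =>
      rw [ih ⟨_, (mem_normalizer_iff.1 (pow_mem ht.1 m) u).1 u.2⟩ rfl]
      exact h4 _ _ (by rw [← h6, pow_succ']; group)
  by_cases h4 : t ∈ centralizer (P : Set G)
  · exact ⟨W, hW, fun u v huv => by
      rw [show u = v from Subtype.ext (by rw [← huv, ← h4 u u.2, mul_inv_cancel_right])]⟩
  obtain ⟨μ, hμ⟩ := h2 t ht
  have := hc.isMulCommutative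
  obtain ⟨σ, hσ⟩ : ∃ σ : MulAut P, ∀ u, (σ u : G) = t * u * t⁻¹ :=
    ⟨P.normalizerMonoidHom ⟨t, ht.1⟩, fun _ => rfl⟩
  let ψ : P →* P := MonoidHom.mk' (fun u => σ u * u⁻¹) fun a b => by
    rw [map_mul, mul_inv_rev, mul_assoc, mul_assoc, mul_comm' b⁻¹, ← mul_assoc (σ b),
      mul_comm' (σ b) a⁻¹, mul_assoc]
  have h5 : Injective ψ := (injective_iff_map_eq_one _).2 fun u hu => by_contra fun h => h4
    (hm.free_of_cyc' hc u u.2 (by simpa using h) t ht (mem_centralizer_singleton_iff.2 (by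
      rw [← mul_inv_eq_iff_eq_mul, ← hσ, mul_inv_eq_one.1 hu])))
  let ψ' := MulEquiv.ofBijective ψ (Finite.injective_iff_bijective.1 h5)
  refine ⟨_, hW.twist (μ.comp (σ.toMonoidHom.comp ψ'.symm.toMonoidHom)), fun u v huv => ?_⟩
  obtain rfl : v = σ u := Subtype.ext (by rw [hσ, huv])
  have h6 : σ u = ψ' u * u := by simp [ψ', ψ]
  simp only [hμ u _ huv, smul_smul]
  congr 1
  conv_rhs => rw [h6, map_mul]
  simp [mul_comm]

end CfsgH4
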