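import Cfsg.Agent.H4.Cyc3
import Cfsg.Agent.H8.Def1f

/-! Cyclic defect groups: the ordinary characters; a criterion for perfect isometries. -/

set_option autoImplicit false
set_option linter.unusedSectionVars false

open MonoidAlgebra Subgroup CfsgH2 Function Cfsg CfsgH3 CfsgH8
open scoped ComplexConjugate

namespace CfsgH4

section grp
variable {A : Type*} [Group A]

theorem exists_K {G : Type*} [Group G] {P T : Subgroup G} (hT : T ≤ normalizer (P : Set G))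
    (φ : A ≃* P) : ∃ K : Subgroup (MulAut A),
      Nat.card K = (centralizer (P : Set G)).relIndex T ∧
      (∀ σ ∈ K, ∃ t ∈ T, ∀ a, (φ (σ a) : G) = t * φ a * t⁻¹) ∧
      ∀ t ∈ T, ∃ σ ∈ K, ∀ a, (φ (σ a) : G) = t * φ a * t⁻¹ := by
  let ψ : T →* MulAut A :=
    (MulAut.congr φ.symm).toMonoidHom.comp (P.normalizerMonoidHom.comp (inclusion hT))
  have h : ∀ t a, (φ (ψ t a) : G) = t * φ a * (t : G)⁻¹ := fun t a => by
    simp [ψ, MulAut.congr]
  refine ⟨ψ.range, ?_, ?_, fun t ht => ⟨_, ⟨⟨t, ht⟩, rfl⟩, h _⟩⟩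
  · rw [← index_ker, relIndex, ← ker_normalizerMonoidHom_comp hT,
      MonoidHom.ker_comp_of_injective _ _ (MulAut.congr φ.symm).injective]
  · rintro _ ⟨t, rfl⟩
    exact ⟨t, t.2, h t⟩

theorem K_unique [Finite A] {p : ℕ} [hp : Fact p.Prime] (hc : IsCyclic A) (hA : IsPGroup p A)
    {K K' : Subgroup (MulAut A)} (h1 : ¬ p ∣ Nat.card K) (h2 : Nat.card K = Nat.card K') :
    K = K' := by
  obtain ⟨n, hn⟩ := hA.exists_card_eq
  by_cases h : p = 2
  · subst h
    have key : ∀ K : Subgroup (MulAut A), ¬ 2 ∣ Nat.card K → K = ⊥ := fun K hK => by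
      have h3 := card_subgroup_dvd_card K
      rw [IsCyclic.card_mulAut, hn] at h3
      have h4 : Nat.totient (2 ^ n) ∣ 2 ^ n := by
        cases n with
        | zero => simp
        | succ n => rw [Nat.totient_prime_pow_succ Nat.prime_two]; simp [pow_dvd_pow]
      exact eq_bot_of_card_eq K (Nat.Coprime.eq_one_of_dvd
        ((Nat.prime_two.coprime_iff_not_dvd.2 hK).symm.pow_right n) (h3.trans h4))
    rw [key K h1, key K' (h2 ▸ h1)]
  · have : IsCyclic (MulAut A) := by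
      rw [(IsCyclic.mulAutMulEquiv A).isCyclic, hn]
      exact ZMod.isCyclic_units_of_prime_pow p hp.out h n
    exact eq_of_card_eq_cyc (P := ⊤) inferInstance le_top le_top h2

variable (K : Subgroup (MulAut A))

/-- the orbits of `K` on the nontrivial linear characters -/
def orbS : Setoid {l : A →* ℂˣ // l ≠ 1} where
  r l m := ∃ σ ∈ K, ∀ u, m.1 u = l.1 (σ u)
  iseqv := ⟨fun _ => ⟨1, one_mem _, fun _ => rfl⟩,
    fun ⟨σ, h, e⟩ => ⟨σ⁻¹, inv_mem h, fun u => by simp [e]⟩,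
    fun ⟨σ, h, e⟩ ⟨τ, h', e'⟩ => ⟨σ * τ, mul_mem h h', fun u => by simp [e, e']⟩⟩

/-- the set of orbits -/
abbrev OrbK := Quotient (orbS K)

noncomputable instance [Finite A] : Fintype (OrbK K) := Fintype.ofFinite _
noncomputable instance : DecidableEq (OrbK K) := Classical.decEq _
noncomputable instance instFintypeK [Finite A] : Fintype K := Fintype.ofFinite _

/-- the orbit sum -/
noncomputable def etaK [Finite A] (l : A →* ℂˣ) (u : A) : ℂ := ∑ σ : K, (l (σ.1 u) : ℂ)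

variable {K} [Fintype A] [IsMulCommutative A]
  (hK : ∀ σ ∈ K, ∀ u ≠ 1, σ u = u → σ = 1)

omit [IsMulCommutative A] in
theorem conj_etaK (l : A →* ℂˣ) (u : A) : conj (etaK K l u⁻¹) = etaK K l u := by
  simp [etaK, conj_lin]

include hK

theorem free_hom {l : A →* ℂˣ} (hl : l ≠ 1) {σ τ : K} (h : ∀ u, l (σ.1 u) = l (τ.1 u)) :
    σ = τ := by
  by_contra hne
  obtain ⟨s, hs⟩ : ∃ s : K, s = σ * τ⁻¹ := ⟨_, rfl⟩
  let ψ : A →* A := MonoidHom.mk' (fun u => s.1 u * u⁻¹) fun a b => by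
    rw [map_mul, mul_inv_rev, mul_assoc, mul_assoc, mul_comm' b⁻¹, ← mul_assoc (s.1 b),
      mul_comm' (s.1 b) a⁻¹, mul_assoc]
  have h5 : Injective ψ := (injective_iff_map_eq_one _).2 fun u hu => by_contra fun h1 =>
    hne (mul_inv_eq_one.1 (hs ▸ Subtype.ext (hK _ s.2 u h1 (mul_inv_eq_one.1 hu))))
  refine hl (MonoidHom.ext fun u => ?_)
  obtain ⟨v, rfl⟩ := Finite.injective_iff_surjective.1 h5 u
  simp [ψ, hs, h]

omit [IsMulCommutative A] in
theorem free_inj {u : A} (hu : u ≠ 1) : Injective fun σ : K => σ.1 u := fun σ τ h => by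
  have := hK _ (mul_mem (inv_mem τ.2) σ.2) u hu (by simp [show σ.1 u = τ.1 u from h])
  exact Subtype.ext (inv_mul_eq_one.1 this).symm

open Classical in
theorem sum_orb (o : OrbK K) (F : (A →* ℂˣ) → ℂ) :
    ∑ l : {l : A →* ℂˣ // l ≠ 1}, (if Quotient.mk _ l = o then F l.1 else 0) =
      ∑ σ : K, F (o.out.1.comp σ.1.toMonoidHom) := by
  rw [← Finset.sum_filter]
  symm
  refine Finset.sum_bij (fun σ _ => ⟨o.out.1.comp σ.1.toMonoidHom, fun h => o.out.2
    (MonoidHom.ext fun u => by simpa using DFunLike.congr_fun h (σ.1⁻¹ u))⟩) (fun σ _ => ?_)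
    (fun σ _ τ _ h => free_hom hK o.out.2 fun u => DFunLike.congr_fun (congrArg Subtype.val h) u)
    (fun l hl => ?_) fun _ _ => rfl
  · simp only [Finset.mem_filter, Finset.mem_univ, true_and]
    exact (Quotient.sound (s := orbS K) (by exact ⟨σ, σ.2, fun _ => rfl⟩)).symm.trans o.out_eq
  · obtain ⟨σ, h, e⟩ := Quotient.exact (o.out_eq.trans (Finset.mem_filter.1 hl).2.symm)
    exact ⟨⟨σ, h⟩, Finset.mem_univ _, Subtype.ext (MonoidHom.ext fun u => (e u).symm)⟩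

end grp

variable {M : Ideal AlgInt} [hM : M.IsMaximal] {G : Type*} [Group G] {p : ℕ} [Fintype G]
  [hp : Fact p.Prime] [CharP (Res M) p] {B : Set (IrrCharacter G)} {χ : IrrCharacter G}

section perfect

variable (p M B) in
/-- generalized decomposition data -/
structure GD {U : Type*} [Fintype U] (w q : ℂ) (Φ : U → G → ℂ) (s : U → U)
    (d : IrrCharacter G → U → ℂ) : Prop where
  sing : ∀ χ ∈ B, ∀ g, p ∣ orderOf g → χ.1 g = w * ∑ u, d χ u * Φ u g
  dual : ∀ u g, ∑ χ ∈ irrF B, d χ u * χ.1 g = q * Φ (s u) g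
  reg : ∀ u g, ¬ p ∣ orderOf g → Φ u g = 0
  int : ∀ u g, Φ u g ∈ Loc M ∧ q * Φ u g / Nat.card (centralizer ({g} : Set G)) ∈ Loc M

theorem perfect_aux {H : Type*} [Group H] [Fintype H] {ι U : Type*} [Fintype U] (S : Finset ι)
    (a : ι → IrrCharacter G) (b : ι → IrrCharacter H) (ε : ι → ℤ) {w q : ℂ} (hw : w ∈ Loc M)
    {Φ : U → G → ℂ} {Ψ : U → H → ℂ} {s : U → U}
    (h1 : ∀ x y, p ∣ orderOf y →
      ∑ i ∈ S, ε i * (a i).1 x * (b i).1 y = w * ∑ u, Ψ u y * (q * Φ (s u) x))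
    (h2 : ∀ x y, p ∣ orderOf x → ¬ p ∣ orderOf y → ∑ i ∈ S, ε i * (a i).1 x * (b i).1 y = 0)
    (h3 : ∀ u g, q * Φ u g / Nat.card (centralizer ({g} : Set G)) ∈ Loc M)
    (h4 : ∀ u g, Ψ u g ∈ Loc M) (x : G) (y : H) :
    (∑ i ∈ S, ε i * (a i).1 x * (b i).1 y) / Nat.card (centralizer ({x} : Set G)) ∈ Loc M := by
  by_cases hy : p ∣ orderOf y
  · rw [h1 x y hy, mul_div_assoc, Finset.sum_div]
    exact mul_mem hw (Subring.sum_mem _ fun u _ => by
      rw [mul_div_assoc]; exact mul_mem (h4 _ _) (h3 _ _))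
  · have e : ∀ x, (∑ i ∈ S, (ε i * (b i).1 y) • (a i).1) x =
        ∑ i ∈ S, ε i * (a i).1 x * (b i).1 y := fun x => by
      rw [Finset.sum_apply]
      exact Finset.sum_congr rfl fun i _ => by simp; ring
    rw [← e]
    exact div_card_mem_of_vanish (LC.sum _ fun i _ => (LC.irr _).smul
      (mul_mem (intCast_mem _ _) (irr_mem_Loc _ _))) (fun g hg => by rw [e, h2 g y hg hy]) x

theorem perfect_of_GD {H : Type*} [Group H] [Fintype H] {c : Set (IrrCharacter H)} {U : Type*}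
    [Fintype U] {w q : ℂ} (hw : w ∈ Loc M) {Φ : U → G → ℂ} {Ψ : U → H → ℂ} {s : U → U}
    {d : IrrCharacter G → U → ℂ} {d' : IrrCharacter H → U → ℂ} (hG : GD M p B w q Φ s d)
    (hH : GD M p c w q Ψ s d') {I : IrrCharacter H → IrrCharacter G} {ε : IrrCharacter H → ℤ}
    (hI : Set.BijOn I c B) (hε : ∀ η ∈ c, ε η = 1 ∨ ε η = -1)
    (hd : ∀ η ∈ c, ∀ u, d (I η) u = ε η * d' η u) : IsPerfectIsometry p M c B I ε := by
  have h1 : ∀ x y, p ∣ orderOf y → ∑ η ∈ irrF c, ε η * (I η).1 x * η.1 y =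
      w * ∑ u, Ψ u y * (q * Φ (s u) x) := fun x y hy => by
    simp only [← hG.dual, Finset.mul_sum]
    rw [Finset.sum_comm, ← Finset.sum_nbij (s := irrF c) I (fun η hη => mem_irrF.2 (hI.mapsTo (mem_irrF.1 hη)))
      (by simpa [irrF] using hI.injOn) (by simpa [irrF] using hI.surjOn) fun _ _ => rfl]
    refine Finset.sum_congr rfl fun η hη => ?_
    rw [hH.sing η (mem_irrF.1 hη) y hy, Finset.mul_sum, Finset.mul_sum]
    exact Finset.sum_congr rfl fun u _ => by rw [hd η (mem_irrF.1 hη)]; ring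
  have h2 : ∀ y x, p ∣ orderOf x → ∑ η ∈ irrF c, ε η * η.1 y * (I η).1 x =
      w * ∑ u, Φ u x * (q * Ψ (s u) y) := fun y x hx => by
    simp only [← hH.dual, Finset.mul_sum]
    rw [Finset.sum_comm]
    refine Finset.sum_congr rfl fun η hη => ?_
    rw [hG.sing _ (hI.mapsTo (mem_irrF.1 hη)) x hx, Finset.mul_sum, Finset.mul_sum]
    refine Finset.sum_congr rfl fun u _ => ?_
    rw [hd η (mem_irrF.1 hη)]
    rcases hε η (mem_irrF.1 hη) with h | h <;> rw [h] <;> push_cast <;> ring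
  have h3 : ∀ x y, ∑ η ∈ irrF c, ε η * (I η).1 x * η.1 y =
      ∑ η ∈ irrF c, ε η * η.1 y * (I η).1 x :=
    fun x y => Finset.sum_congr rfl fun _ _ => mul_right_comm _ _ _
  have h4 : ∀ x y, p ∣ orderOf x → ¬ p ∣ orderOf y → ∑ η ∈ irrF c, ε η * (I η).1 x * η.1 y = 0 :=
    fun x y hx hy => by simp [h3, h2 y x hx, hH.reg _ y hy]
  have h5 : ∀ y x, p ∣ orderOf y → ¬ p ∣ orderOf x → ∑ η ∈ irrF c, ε η * η.1 y * (I η).1 x = 0 :=
    fun y x hy hx => by simp [← h3, h1 x y hy, hG.reg _ x hx]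
  refine ⟨hI, hε, fun x y => ?_⟩
  rw [signedBijectionKernel, finsum_mem_irr]
  refine ⟨perfect_aux _ I id ε hw h1 h4 (fun u g => (hG.int u g).2) (fun u g => (hH.int u g).1) x y,
    h3 x y ▸ perfect_aux _ id I ε hw h2 h5 (fun u g => (hH.int u g).2)
      (fun u g => (hG.int u g).1) y x, ?_⟩
  by_cases hx : p ∣ orderOf x <;> by_cases hy : p ∣ orderOf y
  · exact Or.inl (iff_of_false (not_not.2 hx) (not_not.2 hy))
  · exact Or.inr (h4 x y hx hy)
  · exact Or.inr ((h3 x y).trans (h5 y x hy hx))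
  · exact Or.inl (iff_of_true hx hy)

end perfect

variable {A : Type*} [Group A] [Fintype A]

variable (p M B) in
/-- the abstract data of a block with abelian defect group `A` and Frobenius inertial action `K` -/
structure Fam (K : Subgroup (MulAut A)) (Φ : A → G → ℂ) : Prop where
  blk : IsPBlock M B
  pg : IsPGroup p A
  ndvd : ¬ p ∣ Nat.card K
  free : ∀ σ ∈ K, ∀ u ≠ 1, σ u = u → σ = 1
  one : Φ 1 = 0
  cls : ∀ u, IsClassFunction G (Φ u)
  inv : ∀ σ ∈ K, ∀ u, Φ (σ u) = Φ u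
  norm : ∀ u ≠ 1, classInner (Φ u) (Φ u) = (Nat.card A : ℂ)⁻¹
  orth : ∀ u v, (∀ σ ∈ K, σ u ≠ v) → classInner (Φ u) (Φ v) = 0
  gen : ∀ η, IsGeneralizedCharacter A η → η 1 = 0 → IsGeneralizedCharacter G (∑ u, η u • Φ u)
  inB : ∀ u χ, χ ∉ B → classInner (Φ u) χ.1 = 0
  reg : ∀ u g, ¬ p ∣ orderOf g → Φ u g = 0
  sing : ∀ χ ∈ B, ∀ g, p ∣ orderOf g →
    χ.1 g = (Nat.card K : ℂ)⁻¹ * ∑ u, Nat.card A * classInner χ.1 (Φ u) * Φ u g
  nz : ∀ χ ∈ B, ∀ u ≠ 1, classInner χ.1 (Φ u) ≠ 0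
  ht : ∀ χ ∈ B, ∀ u ≠ 1, red M (Nat.card A * classInner χ.1 (Φ u) *
    conj (Nat.card A * classInner χ.1 (Φ u))) ≠ 0 → blockHeight p B χ = 0
  int : ∀ u g, Φ u g ∈ Loc M ∧
    Nat.card A * Φ u g / Nat.card (centralizer ({g} : Set G)) ∈ Loc M
  card : Nat.card K * Nat.card B + 1 = Nat.card K * blockRank p B + Nat.card A

section mk
variable {P : Subgroup G} [Fintype P] {e : (Res M)[G]} {W : P → G → ℂ}

theorem WF.cls (h : WF p P e W) (u : P) : IsClassFunction G (W u) :=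
  h.self u ▸ cA_classFun _

theorem WF.proj (h : WF p P e W) (he : BP p ⊤ P e) {u : P} (hu : u ≠ 1) (hl : lU p P e u = 1)
    {τ : G → ℂ} (hτ : IsClassFunction G τ) :
    piU p P e u τ = (Nat.card P * classInner τ (W u)) • W u := by
  obtain ⟨ξ, hξ⟩ := block_nonempty (isPBlock_blk (fb_mem he u.2))
  have h1 := cmp_of_rank_one (he.subEl u) hl hξ hτ
  have h2 := cmp_of_rank_one (he.subEl u) hl hξ (h.cls u)
  rw [← cA_def] at h1 h2
  have h3 := h.norm u hu
  have h4 := inner_piU_comm he u hτ (h.cls u)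
  rw [h.self] at h2 h4
  obtain ⟨V, c, c', h1, h2⟩ : ∃ (V : G → ℂ) (c c' : ℂ), piU p P e u τ = c • V ∧ W u = c' • V :=
    ⟨_, _, _, h1, h2⟩
  have hq := card_ne_zero_complex P
  have h5 : c' ≠ 0 := by
    rintro rfl
    rw [h2, zero_smul] at h3
    exact inv_ne_zero hq (by simpa [classInner] using h3.symm)
  have h6 : piU p P e u τ = (c / c') • W u := by
    rw [h1, h2, smul_smul, div_mul_cancel₀ _ h5]
  rw [← h4, h6, CfsgH3.inner_smul_left, h3]
  congr 1; field_simp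

theorem MP.fam (hm : MP p ⊤ (bId M B) P e) (hB : IsPBlock M B) (hab : P ≤ centralizer (P : Set G))
    (hf : ∀ u ∈ P, u ≠ 1 → ∀ t ∈ normalizer (P : Set G) ⊓ stabA e, t ∈ centralizer {u} →
      t ∈ centralizer (P : Set G)) (hW : WF p P e W)
    (hi : ∀ t ∈ normalizer (P : Set G) ⊓ stabA e, ∀ u v : P, t * u * t⁻¹ = v → W u = W v)
    (φ : A ≃* P) : ∃ K : Subgroup (MulAut A), Nat.card K =
      (centralizer (P : Set G)).relIndex (normalizer (P : Set G) ⊓ stabA e) ∧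
        Fam M p B K fun u => W (φ u) := by
  classical
  obtain ⟨K, h1, h2, h3⟩ := exists_K (inf_le_left (b := stabA e)) φ
  have hq : Nat.card A = Nat.card P := Nat.card_congr φ.toEquiv
  have hf' : ∀ u : P, u ≠ 1 → _ := fun u hu => hf u u.2 (by simpa using hu)
  have hφ : ∀ u ≠ 1, φ u ≠ 1 := fun u hu => by simpa using hu
  refine ⟨K, h1, hB, hm.bp.pgroup.of_equiv φ.symm, ?_, fun σ hσ u hu h => ?_, by simp [hW.one],
    fun u => hW.cls _, fun σ hσ u => ?_, fun u hu => hq ▸ hW.norm _ (hφ u hu), fun u v h => ?_,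
    fun η hη h0 => ?_, fun u χ hχ => ?_, fun u g hg => ?_, fun χ hχ g hg => ?_,
    fun χ hχ u hu h => ?_, fun χ hχ u hu h => ?_, fun u g => hq ▸ hW.int _ g, ?_⟩
  · rw [h1, ← stab_top]; exact hm.not_dvd_abelian hab
  · obtain ⟨t, ht, e⟩ := h2 σ hσ
    have := hf' _ (hφ u hu) t ht (mem_centralizer_singleton_iff.2 (by
      rw [← mul_inv_eq_iff_eq_mul, ← e, h]))
    ext a
    exact φ.injective (Subtype.ext (by rw [e, ← this _ (φ a).2]; simp))
  · obtain ⟨t, ht, e⟩ := h2 σ hσ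
    exact (hi t ht _ _ (e u).symm).symm
  · rw [← hW.self, inner_piU_comm hm.bp _ (hW.cls _) (hW.cls _), ← hW.self (φ v),
      piU_piU_of_not hm.bp (fun hF => ?_) (hW.cls _)]
    · simp [classInner]
    · obtain ⟨t, ht, e⟩ := (hm.fus_iff_central (hab (φ u).2) (hab (φ v).2)).1 hF
      obtain ⟨σ, hσ, e'⟩ := h3 t ht
      exact h σ hσ (φ.injective (Subtype.ext ((e' u).trans e)))
  · have := hW.gen _ (hη.comp φ.symm.toMonoidHom) (by simpa using h0)
    rw [← Equiv.sum_comp φ.toEquiv] at this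
    simpa using this
  · rw [← hW.self, ← hm.bp_piU hB _ (hW.cls _), inner_bp_comm, bp_irr_of_notMem hχ]
    simp [classInner]
  · by_cases hu : u = 1
    · simp [hu, hW.one]
    rw [← hW.self, piU, cA_def]
    exact cmp_eq_zero_of_not_isConj _ (isPPart_one_iff.2 hg) fun h =>
      hφ u hu (Subtype.ext (isConj_one_right.1 h))
  · conv_lhs => rw [← hm.star_one_irr hB hχ, star_apply, Finset.sum_apply,
      ← Equiv.sum_comp φ.toEquiv]
    rw [Finset.mul_sum]
    refine Finset.sum_congr rfl fun u _ => ?_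
    by_cases hu : u = 1
    · simp [hu, hW.one, hm.piU_one hB χ.2.classFun, regPart_of_dvd _ hg]
    · have := hφ u hu
      rw [h1, hq]
      simp [hm.nF_free hab (hf' _ this), hW.proj hm.bp this
        (hm.lU_eq_one hab (φ u).2 (hf' _ this)) χ.2.classFun, mul_assoc]
  · refine hm.piU_ne_zero_major hB (hab (φ u).2) hχ ?_
    rw [hW.proj hm.bp (hφ u hu) (hm.lU_eq_one hab (φ u).2 (hf' _ (hφ u hu))) χ.2.classFun, h]
    simp
  · refine ((red_inner_cmp_irr_iff (hm.bp.subEl (φ u)) (hm.induced_fb hB _) hχ hχ).1 ?_).1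
    rw [hm.defect_fb hB (hab (φ u).2), ← Nat.cast_pow, ← card_isDef hB hm.isDef, ← cA_def, ← piU,
      hW.proj hm.bp (hφ u hu) (hm.lU_eq_one hab (φ u).2 (hf' _ (hφ u hu))) χ.2.classFun,
      CfsgH3.inner_smul_left, ← CfsgH3.inner_conj_symm χ.1]
    rw [hq] at h
    convert h using 2
    simp; ring
  · rw [h1, hq]; exact hm.card_free hB hab hf rfl

theorem MP.fam_cyc (hm : MP p ⊤ (bId M B) P e) (hB : IsPBlock M B) (hc : IsCyclic P) (h1 : P ≠ ⊥)
    (φ : A ≃* P) : ∃ (K : Subgroup (MulAut A)) (Φ : A → G → ℂ), Nat.card K =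
      (centralizer (P : Set G)).relIndex (normalizer (P : Set G) ⊓ stabA e) ∧ Fam M p B K Φ ∧
      Nat.card K ≤ blockRank p B ∧ Nat.card K ∣ p - 1 := by
  obtain ⟨W, hW, hi⟩ := hm.exists_WF hB hc h1
  obtain ⟨K, h2, h3⟩ := hm.fam hB (le_centralizer_of_cyclic hc) (hm.free_of_cyc' hc) hW hi φ
  exact ⟨K, _, h2, h3, h2 ▸ hm.le_rank_cyc hB hc h1⟩

end mk

/-- the virtual characters vanishing on `p`-regular elements -/
noncomputable def alF (Φ : A → G → ℂ) (l : A →* ℂˣ) : G → ℂ := ∑ u, (1 - (l u : ℂ)) • Φ u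

namespace Fam
variable {K : Subgroup (MulAut A)} {Φ : A → G → ℂ} (h : Fam M p B K Φ)
include h

theorem alF_congr {l m : A →* ℂˣ} {σ : MulAut A} (hσ : σ ∈ K) (e : ∀ u, m u = l (σ u)) :
    alF Φ m = alF Φ l :=
  Fintype.sum_equiv σ.toEquiv _ _ fun u => by simp [e, h.inv σ hσ]

theorem alF_gen (l : A →* ℂˣ) : IsGeneralizedCharacter G (alF Φ l) :=
  h.gen _ (isIrr_one.isGen.sub (isIrr_unitsHom l).isGen) (by simp)

theorem sum_ip {u : A} (hu : u ≠ 1) (F : A → ℂ) : ∑ v, F v * classInner (Φ u) (Φ v) =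
    (Nat.card A : ℂ)⁻¹ * ∑ σ : K, F (σ.1 u) := by
  classical
  rw [Finset.mul_sum]
  refine (Finset.sum_of_injOn (fun σ : K => σ.1 u) (free_inj h.free hu).injOn (by simp)
    (fun v _ hv => ?_) fun σ _ => ?_).symm
  · rw [h.orth u v fun σ hσ e => hv ⟨⟨σ, hσ⟩, by simp, e⟩, mul_zero]
  · rw [h.inv _ σ.2, h.norm u hu, mul_comm]

theorem ip_alF (τ : G → ℂ) (l : A →* ℂˣ) : classInner τ (alF Φ l) =
    classInner (fun u => Nat.card A * classInner τ (Φ u)) fun u => 1 - (l u : ℂ) := by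
  rw [alF, CfsgH3.inner_sum_right, classInner.eq_1 (fun u => _), Finset.mul_sum]
  refine Finset.sum_congr rfl fun u _ => ?_
  have := card_ne_zero_complex A
  rw [CfsgH3.inner_smul_right]; field_simp

variable [IsMulCommutative A]

theorem gram (i j : OrbK K) : classInner (alF Φ i.out.1) (alF Φ j.out.1) =
    Nat.card K + if i = j then 1 else 0 := by
  classical
  have h1 : classInner (alF Φ i.out.1) (alF Φ j.out.1) = ∑ σ : K,
      classInner (fun u => 1 - (i.out.1 u : ℂ))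
        fun u => 1 - ((j.out.1.comp σ.1.toMonoidHom) u : ℂ) := by
    rw [alF, CfsgH3.inner_sum_left]
    simp only [classInner.eq_1 (fun u : A => _), ← Finset.mul_sum]
    rw [Finset.sum_comm, Finset.mul_sum]
    refine Finset.sum_congr rfl fun u _ => ?_
    by_cases hu : u = 1
    · simp [hu, classInner]
    rw [CfsgH3.inner_smul_left, alF, CfsgH3.inner_sum_right]
    simp only [CfsgH3.inner_smul_right]
    rw [h.sum_ip hu fun v => conj (1 - (j.out.1 v : ℂ)), ← Finset.mul_sum, mul_left_comm]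
    rfl
  have h2 := sum_orb h.free j fun l => if i.out.1 = l then 1 else 0
  rw [h1, Finset.sum_congr rfl fun σ _ => ip_one_sub_hom i.out.2 fun e => j.out.2
    (MonoidHom.ext fun u => by simpa using DFunLike.congr_fun e (σ.1⁻¹ u)),
    Finset.sum_add_distrib, ← h2, Finset.sum_eq_single i.out (fun l _ hl => by
      simp [show ¬ i.out.1 = l.1 from fun e => hl (Subtype.ext e.symm)]) (by simp)]
  simp

theorem d_eq (τ : G → ℂ) {y : A} (hy : y ≠ 1) : Nat.card A * classInner τ (Φ y) =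
    -∑ l : {l : A →* ℂˣ // l ≠ 1},
      classInner τ (alF Φ (Quotient.mk (orbS K) l).out.1) * l.1 y := by
  classical
  rw [apply_eq_sum_hom (fun u => Nat.card A * classInner τ (Φ u)) hy,
    Fintype.sum_eq_add_sum_subtype_ne _ 1]
  have : ∀ l : {l : A →* ℂˣ // l ≠ 1}, alF Φ (Quotient.mk (orbS K) l).out.1 = alF Φ l.1 := fun l => by
    obtain ⟨σ, hσ, e⟩ := Quotient.exact (Quotient.mk (orbS K) l).out_eq
    exact (h.alF_congr hσ e).symm
  simp only [this, h.ip_alF]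
  simp [classInner]

theorem exc [Nontrivial A] : Exc p B (fun o : OrbK K => alF Φ o.out.1) (Nat.card K) where
  gen _ := h.alF_gen _
  inB _ χ hχ := by
    rw [alF, CfsgH3.inner_sum_left]
    exact Finset.sum_eq_zero fun u _ => by rw [CfsgH3.inner_smul_left, h.inB u χ hχ, mul_zero]
  reg _ g hg := by simp [alF, h.reg _ g hg]
  ip := h.gram
  nz χ hχ := by
    by_contra hc
    push Not at hc
    obtain ⟨y, hy⟩ := exists_ne (1 : A)
    refine mul_ne_zero (card_ne_zero_complex A) (h.nz χ hχ y hy) ?_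
    rw [h.d_eq _ hy, Finset.sum_eq_zero fun l _ => ?_, neg_zero]
    rw [← CfsgH3.inner_conj_symm, hc]; simp

end Fam

/-- the characters of a block with cyclic defect group -/
structure CyS (B : Set (IrrCharacter G)) (K : Subgroup (MulAut A)) (Φ : A → G → ℂ)
    (X : Finset (IrrCharacter G)) (ζ : OrbK K → IrrCharacter G) (a : IrrCharacter G → ℤ) (δ : ℤ) :
    Prop extends ExcS B (fun o : OrbK K => alF Φ o.out.1) X ζ a 0 δ where
  card : X.card = Nat.card K
  signX : ∀ χ ∈ X, a χ = 1 ∨ a χ = -1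

namespace Fam
variable {K : Subgroup (MulAut A)} {Φ : A → G → ℂ} (h : Fam M p B K Φ) [IsMulCommutative A]
include h

theorem exists_S [Nontrivial A] (hr : Nat.card K ≤ blockRank p B) :
    ∃ X ζ a δ, CyS B K Φ X ζ a δ := by
  have : Nontrivial (A →* ℂˣ) := by
    rw [← Fintype.one_lt_card_iff_nontrivial, card_hom_comm]; exact Finite.one_lt_card
  obtain ⟨l, hl⟩ := exists_ne (1 : A →* ℂˣ)
  have : Nonempty (OrbK K) := ⟨Quotient.mk _ ⟨l, hl⟩⟩
  obtain ⟨χ, hχ⟩ := block_nonempty h.blk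
  obtain ⟨X, ζ, a, δ, h1, h2, h3, -⟩ := h.exc.exists_D hr Nat.card_pos hχ
  exact ⟨X, ζ, a, δ, h1, h2, h3⟩

variable {X : Finset (IrrCharacter G)} {ζ : OrbK K → IrrCharacter G} {a : IrrCharacter G → ℤ}
  {δ : ℤ} (S : CyS B K Φ X ζ a δ)
include S

theorem dX (hχ : χ ∈ X) {y : A} (hy : y ≠ 1) : Nat.card A * classInner χ.1 (Φ y) = a χ := by
  classical
  have h2 := sum_hom_apply hy
  rw [Fintype.sum_eq_add_sum_subtype_ne _ 1] at h2
  rw [h.d_eq _ hy, Finset.sum_congr rfl fun l _ => by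
    rw [← CfsgH3.inner_conj_symm, (S.ipX χ hχ).2, map_intCast], ← Finset.mul_sum,
    eq_neg_of_add_eq_zero_right h2]
  simp

theorem dY (o : OrbK K) {y : A} (hy : y ≠ 1) :
    Nat.card A * classInner (ζ o).1 (Φ y) = δ * etaK K o.out.1 y := by
  classical
  have : _ = etaK K o.out.1 y := sum_orb h.free o fun l => (l y : ℂ)
  rw [h.d_eq _ hy, ← this, Finset.mul_sum,
    ← Finset.sum_neg_distrib]
  refine Finset.sum_congr rfl fun l _ => ?_
  rw [← CfsgH3.inner_conj_symm, S.ipY]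
  split_ifs <;> simp

theorem conj_d (hχ : χ ∈ B) (y : A) : conj (Nat.card A * classInner χ.1 (Φ y⁻¹)) =
    Nat.card A * classInner χ.1 (Φ y) := by
  by_cases hy : y = 1
  · simp [hy, h.one, classInner]
  rcases (S.mem χ).1 hχ with h1 | ⟨o, rfl⟩
  · rw [h.dX S h1 hy, h.dX S h1 (inv_ne_one.2 hy), map_intCast]
  · rw [h.dY S o hy, h.dY S o (inv_ne_one.2 hy), map_mul, map_intCast, conj_etaK]

theorem gd : GD M p B (Nat.card K : ℂ)⁻¹ (Nat.card A) Φ (·⁻¹)
    fun χ u => Nat.card A * classInner χ.1 (Φ u) := by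
  refine ⟨h.sing, fun u g => ?_, h.reg, h.int⟩
  rw [(h.cls _).apply_eq_sum, Finset.mul_sum]
  refine (Finset.sum_congr rfl fun χ hχ => ?_).trans (Finset.sum_subset (Finset.subset_univ _)
    fun χ _ hχ => by rw [h.inB _ χ (by simpa using hχ)]; simp)
  rw [← h.conj_d S (mem_irrF.1 hχ), map_mul, CfsgH3.inner_conj_symm, map_natCast, mul_assoc]

theorem rank_eq [Nontrivial A] (hr : Nat.card K ≤ blockRank p B) : blockRank p B = Nat.card K :=
  le_antisymm (S.card ▸ h.exc.rank_le S.toExcS (by rcases S.sign with e | e <;> simp [e])) hr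

theorem height_zero [Nontrivial A] (hχ : χ ∈ B) : blockHeight p B χ = 0 := by
  obtain ⟨y, hy⟩ := exists_ne (1 : A)
  refine h.ht χ hχ y hy ?_
  rw [← inv_inv y, h.conj_d S hχ, inv_inv]
  have key : ∀ y ≠ 1, red M (Nat.card A * classInner χ.1 (Φ y)) ≠ 0 := fun y hy => by
    rcases (S.mem χ).1 hχ with h1 | ⟨o, rfl⟩
    · rw [h.dX S h1 hy]; rcases S.signX χ h1 with e | e <;> simp [e, red_neg (one_mem _)]
    · obtain ⟨n, hn⟩ := h.pg.exists_card_eq
      have h1 : ∀ u, (o.out.1 u : ℂ) ∈ Loc M := char_mem_Loc (isIrr_unitsHom _).isChar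
      rw [h.dY S o hy, etaK, red_mul (intCast_mem _ _) (Subring.sum_mem _ fun _ _ => h1 _),
        red_sum _ _ fun _ _ => h1 _, Finset.sum_congr rfl fun σ _ => red_eq_one_of_pow_eq_one
          (p := p) (k := n) (by rw [← Units.val_pow_eq_pow_val, ← map_pow, ← hn, pow_card_eq_one']; simp)]
      have := mt (CharP.cast_eq_zero_iff (Res M) p _).1 h.ndvd
      rcases S.sign with e | e <;> simpa [e, red_neg (one_mem _)] using this
  rw [red_mul (mem_Loc_of_red_ne_zero (key y hy)) (mem_Loc_of_red_ne_zero (key _ (inv_ne_one.2 hy)))]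
  exact mul_ne_zero (key y hy) (key _ (inv_ne_one.2 hy))

theorem cong {ψ : IrrCharacter G} (hχ : χ ∈ X) (hψ : ψ ∈ X) :
    a χ * charDegree χ.1 ≡ a ψ * charDegree ψ.1 [ZMOD p ^ (Nat.card G).factorization p] := by
  have key : ∀ χ ∈ X, ∀ g, p ∣ orderOf g → a χ * χ.1 g = (Nat.card K : ℂ)⁻¹ * ∑ u, Φ u g :=
    fun χ hχ g hg => by
      rw [h.sing χ ((S.mem χ).2 (Or.inl hχ)) g hg, mul_left_comm, Finset.mul_sum]
      congr 1
      refine Finset.sum_congr rfl fun u _ => ?_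
      by_cases hu : u = 1
      · simp [hu, h.one]
      rw [h.dX S hχ hu]
      rcases S.signX χ hχ with e | e <;> simp [e]
  obtain ⟨k, hk⟩ := exists_deg_of_vanish (p := p) ((ψ.2.isGen.zsmul (a ψ)).sub
    (χ.2.isGen.zsmul (a χ))) fun g hg => by simp [key χ hχ g hg, key ψ hψ g hg]
  refine Int.modEq_iff_dvd.2 ⟨k, ?_⟩
  rw [Pi.sub_apply, Pi.smul_apply, Pi.smul_apply, zsmul_eq_mul, zsmul_eq_mul,
    ← coe_charDegree χ.2.isChar,
    ← coe_charDegree ψ.2.isChar] at hk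
  exact_mod_cast hk

theorem rel_one [Nontrivial A] (o : OrbK K) :
    δ * charDegree (ζ o).1 = ∑ χ ∈ X, a χ * charDegree χ.1 := by
  have := h.exc.rel S.toExcS o (g := 1) (by simpa using hp.out.ne_one)
  rw [← coe_charDegree (ζ o).2.isChar, Finset.sum_congr rfl fun χ _ => by
    rw [← coe_charDegree χ.2.isChar]] at this
  simp only [Int.cast_zero, mul_zero, zero_sub, neg_mul, neg_add_eq_zero] at this
  exact_mod_cast this

theorem isometry {H : Type*} [Group H] [Fintype H] {c : Set (IrrCharacter H)} {Ψ : A → H → ℂ}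
    (h' : Fam M p c K Ψ) {X' : Finset (IrrCharacter H)} {ζ' : OrbK K → IrrCharacter H}
    {a' : IrrCharacter H → ℤ} {δ' : ℤ} (S' : CyS c K Ψ X' ζ' a' δ') :
    ∃ I ε, IsPerfectIsometry p M c B I ε ∧ (∀ o, ε (ζ' o) = δ * δ') ∧
      ∀ η ∈ X', ∃ χ ∈ X, ε η = a χ * a' η := by
  classical
  let β : X' ≃ X := Finset.equivOfCardEq (S'.card.trans S.card.symm)
  let I : IrrCharacter H → IrrCharacter G := fun η =>
    if e : η ∈ X' then β ⟨η, e⟩ else extend ζ' ζ (fun _ => ⟨_, isIrr_one⟩) η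
  let ε : IrrCharacter H → ℤ := fun η => if η ∈ X' then a (I η) * a' η else δ * δ'
  have I1 : ∀ η : X', I η = β η := fun η => dif_pos η.2
  have I2 : ∀ o, I (ζ' o) = ζ o := fun o => (dif_neg (S'.disj o)).trans (S'.inj.extend_apply _ _ _)
  have e1 : ∀ η : X', ε η = a (β η) * a' η := fun η => by rw [← I1]; exact if_pos η.2
  have e2 : ∀ o, ε (ζ' o) = δ * δ' := fun o => if_neg (S'.disj o)
  have cs : ∀ η ∈ c, (∃ x : X', x = η) ∨ ∃ o, ζ' o = η := fun η hη =>
    ((S'.mem η).1 hη).imp_left fun e => ⟨⟨η, e⟩, rfl⟩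
  refine ⟨I, ε, perfect_of_GD (inv_natCast_mem_Loc h.ndvd) (h.gd S) (h'.gd S')
    ⟨fun η hη => ?_, fun η hη η' hη' e => ?_, fun χ hχ => ?_⟩ (fun η hη => ?_) fun η hη u => ?_,
    e2, fun η hη => ⟨_, (β ⟨η, hη⟩).2, e1 ⟨η, hη⟩⟩⟩
  · rcases cs η hη with ⟨x, rfl⟩ | ⟨o, rfl⟩
    · exact (S.mem _).2 (Or.inl (I1 x ▸ (β x).2))
    · exact (S.mem _).2 (Or.inr ⟨o, (I2 o).symm⟩)
  · rcases cs η hη with ⟨x, rfl⟩ | ⟨o, rfl⟩ <;> rcases cs η' hη' with ⟨x', rfl⟩ | ⟨o', rfl⟩ <;>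
      simp only [I1, I2] at e
    · rw [β.injective (Subtype.ext e)]
    · exact absurd (e ▸ (β x).2) (S.disj o')
    · exact absurd (e ▸ (β x').2) (S.disj o)
    · rw [S.inj e]
  · rcases (S.mem χ).1 hχ with e | ⟨o, rfl⟩
    · exact ⟨β.symm ⟨χ, e⟩, (S'.mem _).2 (Or.inl (Subtype.prop _)), by simp [I1]⟩
    · exact ⟨ζ' o, (S'.mem _).2 (Or.inr ⟨o, rfl⟩), I2 o⟩
  · rcases cs η hη with ⟨x, rfl⟩ | ⟨o, rfl⟩
    · rcases S.signX _ (β x).2 with e | e <;> rcases S'.signX _ x.2 with e' | e' <;> simp [e1, e, e']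
    · rcases S.sign with e | e <;> rcases S'.sign with e' | e' <;> simp [e2, e, e']
  · by_cases hu : u = 1
    · simp [hu, h.one, h'.one, classInner]
    rcases cs η hη with ⟨x, rfl⟩ | ⟨o, rfl⟩
    · rw [I1, e1, h.dX S (β x).2 hu, h'.dX S' x.2 hu]
      rcases S'.signX _ x.2 with e' | e' <;> simp [e']
    · rw [I2, e2, h.dY S o hu, h'.dY S' o hu]
      rcases S'.sign with e' | e' <;> simp [e']

end Fam

theorem MP.rank_cyc {P : Subgroup G} {e : (Res M)[G]} (hm : MP p ⊤ (bId M B) P e)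
    (hB : IsPBlock M B) (hc : IsCyclic P) (h1 : P ≠ ⊥) : blockRank p B =
      (centralizer (P : Set G)).relIndex (normalizer (P : Set G) ⊓ stabA e) := by
  have := Fintype.ofFinite P
  have := hc.isMulCommutative
  have := (nontrivial_iff_ne_bot P).2 h1
  obtain ⟨K, Φ, h2, h, h3, -⟩ := hm.fam_cyc hB hc h1 (MulEquiv.refl _)
  obtain ⟨X, ζ, a, δ, S⟩ := h.exists_S h3
  rw [h.rank_eq S h3, h2]

theorem MP.height_cyc {P : Subgroup G} {e : (Res M)[G]} (hm : MP p ⊤ (bId M B) P e)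
    (hB : IsPBlock M B) (hc : IsCyclic P) (hχ : χ ∈ B) : blockHeight p B χ = 0 := by
  by_cases h1 : P = ⊥
  · exact Nat.eq_zero_of_le_zero
      ((blockDefect_eq_zero_iff hB hm.isDef).2 h1 ▸ height_le_defect hχ)
  have := Fintype.ofFinite P
  have := hc.isMulCommutative
  have := (nontrivial_iff_ne_bot P).2 h1
  obtain ⟨K, Φ, h2, h, h3, -⟩ := hm.fam_cyc hB hc h1 (MulEquiv.refl _)
  obtain ⟨X, ζ, a, δ, S⟩ := h.exists_S h3
  exact h.height_zero S hχ

end CfsgH4
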