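import Cfsg.Agent.H4.Cyc4

/-! Cyclic defect groups: comparison with local subgroups. -/

set_option autoImplicit false
set_option linter.unusedSectionVars false

open MonoidAlgebra Subgroup CfsgH2 Function Cfsg CfsgH3 CfsgH8
open scoped ComplexConjugate

namespace CfsgH4

section field
variable {F : Type*} [Field F] {G : Type*} [Group G] [Finite G] {p : ℕ} [hp : Fact p.Prime]
  [CharP F p] [IsAlgClosed F] {H P Q : Subgroup G} {E c e : F[G]}

theorem MP.of_ind (hm : MP p H c P e) (h : Ind H ⊤ c E) (hE : IsPrim (Zc F ⊤ ⊤) E) (hQ : Q ≤ P)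
    (hC : centralizer (Q : Set G) ≤ H) (hH : H ≤ normalizer (Q : Set G)) (hD : IsDef p ⊤ E P) :
    MP p ⊤ E P e := by
  have hQp := hm.bp.pgroup.to_le hQ
  have h1 := (ind_iff_mul_Br hQp (hQ.trans hm.bp.le) (inf_le_right.trans hC) le_top hH hm.prim
    hE).1 h
  refine ⟨hE, hm.bp.of_Cn_eq le_top ?_, ?_, hD⟩
  · rw [Cn_top, Cn, inf_eq_right.2 ((centralizer_anti hQ).trans hC)]
  · rw [← Br_Br_of_le hQ, ← hm.mul, mul_assoc, ← Br_mul hm.bp.pgroup (Fix_anti hm.bp.le hm.prim.mem.2)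
      (Br_mem_Fix (Fix_anti le_top hE.mem.2) (hm.bp.le.trans hH)), h1]

omit [Finite G] hp [CharP F p] [IsAlgClosed F] in
theorem relIndex_rel (hPH : P ≤ H) (e : F[H])
    (h : normalizer (P : Set G) ⊓ stabA (emb F H.subtype e) ≤ H) :
    (centralizer (P.subgroupOf H : Set H)).relIndex
      (normalizer (P.subgroupOf H : Set H) ⊓ stabA e) = (centralizer (P : Set G)).relIndex
        (normalizer (P : Set G) ⊓ stabA (emb F H.subtype e)) := by
  rw [← relIndex_subgroupOf h]
  congr 1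
  · ext t
    exact ⟨fun h y hy => congrArg Subtype.val (h ⟨y, hPH hy⟩ hy), fun h y hy => Subtype.ext (h y hy)⟩
  · ext t
    rw [← subgroupOf_normalizer_eq hPH, mem_inf, ← mem_stabA_emb H.subtype_injective]
    simp [mem_subgroupOf]

end field

variable {M : Ideal AlgInt} [hM : M.IsMaximal] {G : Type*} [Group G] {p : ℕ} [Finite G]
  [hp : Fact p.Prime] [CharP (Res M) p] {B : Set (IrrCharacter G)} {χ : IrrCharacter G}
  {H P Q : Subgroup G}

theorem exists_mp_pair (hB : IsPBlock M B) (hP : IsDefectGroup p M B P)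
    {c : Set (IrrCharacter H)} (hcD : IsDefectGroup p M c (P.subgroupOf H))
    (hc : IsInducedBlock M H c B) (hPH : P ≤ H) (hQ : Q ≤ P)
    (hC : centralizer (Q : Set G) ≤ H) (hH : H ≤ normalizer (Q : Set G)) :
    ∃ e : (Res M)[H], MP p ⊤ (bId M c) (P.subgroupOf H) e ∧
      MP p ⊤ (bId M B) P (emb _ H.subtype e) := by
  have hc' := (isInducedBlock_iff.1 hc).1
  obtain ⟨e, hm⟩ := ((isDefectGroup_iff hc').1 hcD).exists_mp (isPrim_bId hc')
  have h1 := (mp_emb H.subtype_injective).2 hm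
  rw [map_top_subtype, map_subgroupOf_eq_of_le hPH] at h1
  exact ⟨e, hm, h1.of_ind (ind_of_isInducedBlock hc) (isPrim_bId hB) hQ hC hH
    ((isDefectGroup_iff hB).1 hP)⟩

/-- two blocks with isomorphic cyclic defect groups and equal inertial indices -/
theorem exists_cyc_pair {L : Type*} [Group L] [Fintype G] [Fintype L] {c : Set (IrrCharacter L)}
    {P' : Subgroup L} {e : (Res M)[G]} {e' : (Res M)[L]} [Fintype P] (hm : MP p ⊤ (bId M B) P e)
    (hB : IsPBlock M B) (hm' : MP p ⊤ (bId M c) P' e') (hc : IsPBlock M c) (h1 : IsCyclic P)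
    (h2 : P ≠ ⊥) (φ : P ≃* P')
    (h3 : (centralizer (P' : Set L)).relIndex (normalizer (P' : Set L) ⊓ stabA e') =
      (centralizer (P : Set G)).relIndex (normalizer (P : Set G) ⊓ stabA e)) :
    ∃ (K : Subgroup (MulAut P)) (Φ : P → G → ℂ) (Ψ : P → L → ℂ), Nat.card K =
      (centralizer (P : Set G)).relIndex (normalizer (P : Set G) ⊓ stabA e) ∧
      Fam M p B K Φ ∧ Fam M p c K Ψ ∧ (∃ X ζ a δ, CyS B K Φ X ζ a δ) ∧
      ∃ X ζ a δ, CyS c K Ψ X ζ a δ := by
  have := Fintype.ofFinite P'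
  have := h1.isMulCommutative
  have := (nontrivial_iff_ne_bot P).2 h2
  obtain ⟨K, Φ, a1, a2, a3, -⟩ := hm.fam_cyc hB h1 h2 (MulEquiv.refl _)
  obtain ⟨K', Ψ, b1, b2, b3, -⟩ := hm'.fam_cyc hc (φ.isCyclic.1 h1)
    ((nontrivial_iff_ne_bot P').1 φ.injective.nontrivial) φ
  obtain rfl := K_unique h1 a2.pg a2.ndvd (a1.trans (h3.symm.trans b1.symm))
  exact ⟨K, Φ, Ψ, a1, a2, b2, a2.exists_S a3, b2.exists_S b3⟩

theorem principal_eq_univ [Q.Normal] (hQ : IsPGroup p Q) (hC : centralizer (Q : Set G) ≤ Q) :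
    principalBlock M G = Set.univ := by
  have h : ∀ x ∈ centralizer (Q : Set G), ¬ p ∣ orderOf x → x = 1 := fun x hx h =>
    eq_one_of_mem_pgroup_of_coprime hQ (hC hx) ((hp.out.coprime_iff_not_dvd).2 h).symm
  refine Set.eq_univ_of_forall fun χ => ?_
  rw [← bId_injective (isPBlock_blockOf χ) isPBlock_principal ((block_unique_of_constrained hQ h
    (isPBlock_blockOf (M := M) χ)).trans (block_unique_of_constrained hQ h isPBlock_principal).symm)]
  exact mem_blockOf_self χ

omit hM [CharP (Res M) p] in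
theorem normal_of_index_lt (hQ : IsPGroup p Q) (h : Q.index < p) : Q.Normal := by
  have h1 : ¬ p ∣ Q.index := fun e => (Nat.le_of_dvd (Nat.pos_of_ne_zero index_ne_zero_of_finite) e).not_gt h
  have h2 := (hQ.toSylow h1).card_dvd_index
  have h3 := card_sylow_modEq_one p G
  have h4 : Nat.card (Sylow p G) = 1 := by
    have := (Nat.le_of_dvd (Nat.pos_of_ne_zero index_ne_zero_of_finite) h2).trans_lt h
    rwa [Nat.ModEq, Nat.mod_eq_of_lt this, Nat.mod_eq_of_lt hp.out.one_lt] at h3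
  have := (Nat.card_eq_one_iff_unique.1 h4).1
  exact (hQ.toSylow h1).normal_of_subsingleton

omit [Finite G] in
theorem commutator_le_centralizer_of_cyc [Q.Normal] (h : IsCyclic Q) :
    commutator G ≤ centralizer (Q : Set G) := by
  let _ := (IsCyclic.mulAutMulEquiv Q).toMonoidHom.commGroupOfInjective
    (IsCyclic.mulAutMulEquiv Q).injective
  intro x hx y hy
  have := congrArg Subtype.val (DFunLike.congr_fun
    (Abelianization.commutator_subset_ker (MulAut.conjNormal (H := Q)) hx) ⟨y, hy⟩)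
  exact (mul_inv_eq_iff_eq_mul.1 this).symm

end CfsgH4
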