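import Cfsg.Agent.H4.DC

set_option autoImplicit false

open MonoidAlgebra Subgroup CfsgH2 Function Cfsg CfsgH3
open scoped ComplexConjugate

namespace CfsgH4

variable {G : Type*} [Group G] [Finite G] {p : ℕ} [hp : Fact p.Prime]

omit hp [Finite G] in
theorem charDegree_ne_zero' {χ : G → ℂ} (hχ : IsIrrCharacter G χ) : charDegree χ ≠ 0 := by
  intro h
  have := coe_charDegree hχ.isChar
  rw [h, Nat.cast_zero] at this
  exact hχ.one_ne_zero this.symm

omit hp [Finite G] in
theorem nu_of_deg_mul {H : Type*} [Group H] {χ : G → ℂ} (hχ : IsIrrCharacter G χ)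
    {θ : H → ℂ} (hθ : IsIrrCharacter H θ) {e : ℕ} (h : χ 1 = e * θ 1) :
    nu p χ = e.factorization p + nu p θ := by
  have h1 : charDegree χ = e * charDegree θ :=
    charDegree_eq (by rw [h, Nat.cast_mul, coe_charDegree hθ.isChar])
  have h2 := charDegree_ne_zero' hχ
  rw [h1] at h2
  rw [nu, h1, Nat.factorization_mul (left_ne_zero_of_mul h2) (right_ne_zero_of_mul h2)]; rfl

omit hp in
theorem exists_defzero_constituent {L : Type*} [Group L] [Fintype L] (f : L →* G) [f.range.Normal]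
    {χ : G → ℂ} (hχ : IsIrrCharacter G χ) (h : nu p χ = (Nat.card G).factorization p) :
    ∃ θ : IrrCharacter L, classInner (fun l => χ (f l)) θ.1 ≠ 0 ∧ (∀ l ∈ f.ker, θ.1 l = θ.1 1) ∧
      nu p θ.1 = f.ker.index.factorization p := by
  have := Fintype.ofFinite f.range
  have := Fintype.ofFinite G
  obtain ⟨θ, hθ, hc⟩ := hχ.exists_res_constituent f.range
  obtain ⟨e, he, hd⟩ := exists_deg_mul hθ hχ hc
  refine ⟨⟨_, hθ.comp_surjective f.rangeRestrict f.rangeRestrict_surjective⟩, ?_, fun l hl => ?_, ?_⟩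
  · rw [← inner_comp_surjective f.rangeRestrict f.rangeRestrict_surjective] at hc
    exact hc
  · change θ _ = θ _
    rw [map_one, show f.rangeRestrict l = 1 from Subtype.ext hl]
  · have h1 : nu p (fun l => θ (f.rangeRestrict l)) = nu p θ := by
      unfold nu charDegree; simp only [map_one]
    have h2 := nu_of_deg_mul (p := p) hχ hθ he
    have h3 := nu_le (p := p) hθ
    have h4 := factorization_card_add_index (p := p) f.range
    have h5 : e.factorization p ≤ f.range.index.factorization p :=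
      (Nat.factorization_le_iff_dvd (ne_zero_of_dvd_ne_zero index_ne_zero_of_finite hd)
        index_ne_zero_of_finite).2 hd p
    change nu p (fun l => θ (f.rangeRestrict l)) = _
    rw [index_ker, h1]
    omega

omit hp in
/-- constituents inherit the central character -/
theorem shf_of_constituent [Fintype G] {θ : G → ℂ} {z : G} (hz : z ∈ center G) {ω : ℂ}
    (h : shf z θ = ω • θ) {ξ : IrrCharacter G} (hc : classInner θ ξ.1 ≠ 0) :
    shf z ξ.1 = ω • ξ.1 := by
  obtain ⟨ω', h1, h2, -⟩ := exists_shf_irr ξ hz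
  have h3 := inner_shf z θ ξ.1
  rw [h, h2, CfsgH3.inner_smul_left, CfsgH3.inner_smul_right, ← mul_assoc] at h3
  have h4 : ω * conj ω' = 1 := mul_right_cancel₀ hc (by rw [h3, one_mul])
  have h5 : ω' * conj ω' = 1 := by
    rw [Complex.mul_conj, Complex.normSq_eq_norm_sq,
      norm_eq_one_of_pow_eq_one' (orderOf_pos z).ne' h1]; simp
  rw [h2, mul_right_cancel₀ (right_ne_zero_of_mul (h5 ▸ one_ne_zero)) (h5.trans h4.symm)]

omit hp in
theorem shf_irr_of_apply {χ : IrrCharacter G} {z : G} (hz : z ∈ center G) {ω : ℂ}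
    (h : χ.1 z = χ.1 1 * ω) : shf z χ.1 = ω • χ.1 := by
  obtain ⟨ω', -, h2, -⟩ := exists_shf_irr χ hz
  have := congrFun h2 1
  rw [shf_apply, mul_one, h, Pi.smul_apply, smul_eq_mul, mul_comm] at this
  rw [h2, mul_right_cancel₀ χ.2.one_ne_zero this]

variable {M : Ideal AlgInt} [hM : M.IsMaximal] [CharP (Res M) p] {B : Set (IrrCharacter G)}
  {P Q : Subgroup G}

theorem exists_DC_block (hB : IsPBlock M B) {e : (Res M)[G]} (h : MP p ⊤ (bId M B) P e) :
    ∃ b : Set (IrrCharacter (P ⊔ centralizer (P : Set G) : Subgroup G)), bIdS M _ b = e ∧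
      IsInducedBlock M _ b B ∧ IsDef p (P ⊔ centralizer (P : Set G)) e P := by
  have hC : Cn ⊤ P ≤ P ⊔ centralizer (P : Set G) := (Cn_top P).le.trans le_sup_right
  have hL : P ⊔ centralizer (P : Set G) ≤ ⊤ ⊓ normalizer (P : Set G) ⊓ stabA e :=
    sup_le h.bp.le_stab ((Cn_top P).ge.trans h.bp.Cn_le_stab)
  have h1 := h.bp.isPrim_loc le_sup_left hC hL
  obtain ⟨b, hb, rfl⟩ := exists_block_of_isPrim_S h1
  exact ⟨b, rfl, (isInducedBlock_iff' hb hB).2 ((ind_iff_mul_Br h.bp.pgroup le_sup_left hC le_top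
    (hL.trans (inf_le_left.trans inf_le_right)) h1 h.prim).2 h.mul),
    h.isDef_stab le_sup_left hC hL⟩

/-- for a normal `p`-subgroup `P`, a block covering the root is the induced block -/
theorem eq_of_cover_root [P.Normal] {E E' e : (Res M)[G]} (h : MP p ⊤ E P e)
    (hE' : IsPrim (Zc (Res M) ⊤ ⊤) E') (h0 : E' * e ≠ 0) : E' = E := by
  have h1 : Br P E' = E' :=
    Br_eq_self_of_idem le_top le_normalizer_top h.bp.pgroup hE'.mem hE'.idem
  refine h.bp.block_unique hE' h.prim ?_ h.mul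
  refine (h.bp.mul_Br_or hE'.mem.1 (Fix_anti le_top hE'.mem.2) (Fix_anti le_top hE'.mem.2)
    hE'.idem).resolve_left ?_
  rwa [h1, ← (mul_comm_of_Fix_top hE'.mem.2 e)]

end CfsgH4
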