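import Cfsg.Agent.H4.PSol
import Cfsg.Agent.H4.Glaub4
import Cfsg.Agent.H4.Ord4
import Cfsg.Agent.H1.Frob

/-! Character degrees: restriction lemmas and Broline–Garrison. -/

set_option autoImplicit false
set_option linter.unusedSectionVars false

open Subgroup Function Cfsg CfsgH3 CfsgH2
open scoped ComplexConjugate commutatorElement

namespace CfsgH4

universe u v
variable {G : Type u} [Group G] [Finite G] {χ : G → ℂ}

theorem irr_res_of_sup (hχ : IsIrrCharacter G χ) {K H : Subgroup G} [K.Normal]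
    (hK : ∀ k ∈ K, χ k = χ 1) (h : K ⊔ H = ⊤) : IsIrrCharacter H fun x : H => χ x := by
  obtain ⟨β, hβ, e⟩ := hχ.exists_quotient K hK
  have := hβ.comp_surjective ((QuotientGroup.mk' K).comp H.subtype) fun q => by
    obtain ⟨g, rfl⟩ := QuotientGroup.mk_surjective q
    obtain ⟨k, hk, y, hy, rfl⟩ := mem_sup_of_normal_left.1 (h.ge (mem_top g))
    refine ⟨⟨y, hy⟩, ?_⟩
    change ((y : G) : G ⧸ K) = ((k * y : G) : G ⧸ K)
    rw [QuotientGroup.mk_mul, (QuotientGroup.eq_one_iff k).2 hk, one_mul]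
  convert this using 2 with x
  exact (e x).symm

theorem card_irr_of_comm (h : ∀ a b : G, a * b = b * a) : Nat.card (IrrCharacter G) = Nat.card G := by
  rw [← sum_charDegree_sq (G := G), Finset.sum_congr rfl fun (χ : IrrCharacter G) _ => by
    rw [charDegree_eq (n := 1) (by rw [χ.2.deg_one_of_comm h, Nat.cast_one])]]
  simp

theorem exists_inv_irr_ne_one {p : ℕ} [hp : Fact p.Prime] {N Q : Subgroup G} [N.Normal]
    (hd : p ∣ Nat.card (IrrCharacter N)) (hQ : IsPGroup p Q) :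
    ∃ θ : N → ℂ, IsIrrCharacter N θ ∧ θ ≠ (fun _ => 1) ∧ Q ≤ inertia θ := by
  let := irrAct N
  obtain ⟨b, hb, hne⟩ := hQ.exists_fixed_point_of_prime_dvd_card_of_fixed_point (IrrCharacter N) hd
    (a := ⟨fun _ => 1, isIrr_one⟩) fun g => Subtype.ext (cj_const (g : G)⁻¹ 1)
  exact ⟨b.1, b.2, fun e => hne (Subtype.ext e.symm), fun g hg => mem_inertia.2 (by
    have := congrArg Subtype.val (hb ⟨g⁻¹, inv_mem hg⟩)
    change CfsgH3.cj g⁻¹⁻¹ b.1 = b.1 at this
    rwa [inv_inv] at this)⟩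

theorem not_ker_of_over {N : Subgroup G} [Fintype N] {θ : N → ℂ} (hθ : IsIrrCharacter N θ)
    (h1 : θ ≠ fun _ => 1) (h : classInner (fun n : N => χ n) θ ≠ 0) : ¬ ∀ n ∈ N, χ n = χ 1 := fun k => by
  have : (fun n : N => χ n) = χ 1 • fun _ => (1 : ℂ) := funext fun n => by simp [k n n.2]
  rw [this, CfsgH3.inner_smul_left, isIrr_one.inner_of_ne hθ h1.symm, mul_zero] at h
  exact h rfl

/-- an invariant linear character of `p`-power order under a character of `p'`-degree extends -/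
theorem lin_ext_of_not_dvd {p k : ℕ} (hp : p.Prime) {N : Subgroup G} [N.Normal] [Fintype N]
    {θ : N → ℂ} (hθ : IsIrrCharacter N θ) (h1 : θ 1 = 1) (hk : ∀ n : N, n ^ p ^ k = 1)
    (hinv : ∀ g : G, CfsgH3.cj g θ = θ) (hχ : IsIrrCharacter G χ)
    (hc : classInner (fun n : N => χ n) θ ≠ 0) (hd : ¬ p ∣ charDegree χ) :
    ∃ μ : G →* ℂˣ, ∀ n : N, (μ n : ℂ) = θ n := by
  obtain ⟨lam, rfl⟩ := hθ.isChar.exists_hom_of_deg_one h1
  obtain ⟨δ, hδ⟩ := exists_detHom hχ.isChar
  obtain ⟨e, -, -, he⟩ := clifford_invariant' hχ hθ hinv hc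
  have h2 : charDegree χ = e := charDegree_eq (by simpa using he 1)
  obtain ⟨c, -, hc⟩ := Nat.exists_mul_mod_eq_one_of_coprime
    ((Nat.Coprime.pow_right (k + 1) ((Nat.Prime.coprime_iff_not_dvd hp).2 (h2 ▸ hd)).symm))
    (Nat.one_lt_pow (Nat.succ_ne_zero k) hp.one_lt)
  refine ⟨δ ^ c, fun n => ?_⟩
  have h3 : (δ n : ℂ) = lam n ^ e := by
    rw [← congrFun hδ n, detChar_res hχ.isChar (η := (e : ℂ) • fun n => (lam n : ℂ)) he, detChar_nsmul hθ.isChar, detChar_lin]
  have h4 : (lam n : ℂ) ^ p ^ (k + 1) = 1 := by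
    rw [← Units.val_pow_eq_pow_val, ← map_pow, pow_succ, pow_mul, hk, one_pow, map_one, Units.val_one]
  rw [MonoidHom.pow_apply, Units.val_pow_eq_pow_val, h3, ← pow_mul,
    ← Nat.div_add_mod (e * c) (p ^ (k + 1)), hc, pow_succ, pow_mul, h4, one_pow, one_mul]

theorem mem_of_ind_one [Fintype G] {H : Subgroup G} {x : G}
    (h : indFun H (fun _ => 1) x = indFun H (fun _ => 1) 1) : x ∈ H := by
  rw [indFun_one_apply_eq_card, indFun_one, mul_one, Nat.cast_inj, index_eq_card] at h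
  have h1 : MulAction.fixedBy (G ⧸ H) x = Set.univ :=
    Set.eq_of_subset_of_ncard_le (Set.subset_univ _) (by rw [Set.ncard_univ, ← h]; rfl)
  have h2 : x • ((1 : G) : G ⧸ H) = (1 : G) := h1.ge (Set.mem_univ _)
  have h3 := QuotientGroup.eq.1 h2.symm
  simpa using h3

/-- the core of the Broline–Garrison argument -/
theorem bg_core (hχ : IsIrrCharacter G χ) {H : Subgroup G} (hH : IsCoatom H)
    (hs : hχ.isChar.ker ⊔ H = ⊤) (hno : ∀ ψ, (hψ : IsIrrCharacter G ψ) →
      hψ.isChar.ker < hχ.isChar.ker → charDegree ψ ≤ charDegree χ) :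
    ∃ C : Subgroup G, C.Normal ∧ C ≤ H ∧ ∀ x ∈ H, x ∉ C → χ x = 0 := by
  have := Fintype.ofFinite G
  have := Fintype.ofFinite H
  have hθ := irr_res_of_sup hχ (fun k hk => hk) hs
  have key : ∀ ψ : IrrCharacter G, classInner (indFun H fun x : H => χ x) ψ.1 ≠ 0 →
      ∀ x : H, ψ.1 x = χ x := fun ψ h => by
    rw [inner_indFun_left _ _ ψ.2.classFun, Ne, CfsgH3.inner_eq_zero_symm] at h
    refine congrFun ?_
    by_cases hL : ψ.2.isChar.ker ≤ H
    · have h1 : ψ.2.isChar.ker ≤ hχ.isChar.ker := fun x hx =>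
        (ψ.2.isChar.restrict H).ker_of_constituent hθ h (g := ⟨x, hL hx⟩) hx
      have h2 := hno ψ.1 ψ.2 (lt_of_le_of_ne h1 fun e => hH.1 (by rw [← hs, ← e, sup_eq_right.2 hL]))
      have h3 := (ψ.2.isChar.restrict H).deg_le_of_constituent hθ h (coe_charDegree ψ.2.isChar).symm
        (coe_charDegree hχ.isChar).symm
      refine (ψ.2.isChar.restrict H).eq_of_constituent_of_deg_eq hθ h ?_
      change ψ.1 1 = χ 1
      rw [← coe_charDegree ψ.2.isChar, ← coe_charDegree hχ.isChar, le_antisymm h2 h3]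
    · exact (irr_res_of_sup ψ.2 (fun k hk => hk) (hH.2 _ (right_lt_sup.2 hL))).eq_of_inner_ne_zero hθ h
  have h1 : ∀ x : H, indFun H (fun x : H => χ x) x =
      (∑ ψ : IrrCharacter G, classInner (indFun H fun x : H => χ x) ψ.1) * χ x := fun x => by
    rw [(indFun_classFun _ _).apply_eq_sum, Finset.sum_mul]
    refine Finset.sum_congr rfl fun ψ _ => ?_
    by_cases h : classInner (indFun H fun x : H => χ x) ψ.1 = 0
    · rw [h, zero_mul, zero_mul]
    · rw [key ψ h]
  generalize (∑ ψ : IrrCharacter G, classInner (indFun H fun x : H => χ x) ψ.1) = c at h1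
  simp only [indFun_res H hχ.classFun, Pi.mul_apply] at h1
  have h2 := mul_right_cancel₀ hχ.one_ne_zero (h1 1)
  refine ⟨(isChar_one.ind (H := H)).ker, inferInstance, fun x hx => mem_of_ind_one hx,
    fun x hx h => by_contra fun h0 => h ?_⟩
  exact (mul_right_cancel₀ h0 (h1 ⟨x, hx⟩)).trans h2.symm

theorem top_le_of_frattini {p : ℕ} [Fact p.Prime] {R S X : Subgroup G} [R.Normal] (hS : IsSylowIn p S R)
    (h1 : R ≤ X) (h2 : normalizer (S : Set G) ≤ X) : X = ⊤ := eq_top_iff.2 fun g _ => by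
  obtain ⟨n, hn, h⟩ := hS.frattini (g := g) (by rw [normalizer_eq_top]; trivial)
  simpa using mul_mem (inv_mem (h1 hn)) (h2 h)

theorem broline_garrison (hχ : IsIrrCharacter G χ) (h : ¬ hχ.isChar.ker ≤ fittingSubgroup G ∨
    (hχ.isChar.ker = fittingSubgroup G ∧ Group.IsSolvable (G ⧸ hχ.isChar.ker) ∧ hχ.isChar.ker ≠ ⊤)) :
    ∃ ψ, ∃ hψ : IsIrrCharacter G ψ, hψ.isChar.ker < hχ.isChar.ker ∧ charDegree χ < charDegree ψ := by
  by_contra hno
  push Not at hno
  set K := hχ.isChar.ker with hK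
  have h0 : ∀ x ∈ K, χ x ≠ 0 := fun x hx => by rw [hχ.isChar.mem_ker.1 hx]; exact hχ.one_ne_zero
  rcases h with h | ⟨hF, hs, ht⟩
  · obtain ⟨p, hp, P, hP⟩ : ∃ (p : ℕ) (_ : Fact p.Prime) (P : Sylow p K),
        ¬ (P : Subgroup K).map K.subtype ≤ fittingSubgroup G := by
      by_contra k
      push Not at k
      exact h (CfsgH1.le_of_forall_sylow_le fun p hp _ => ⟨default, k p hp _⟩)
    have hS := IsSylowIn.of_sylow_map P
    generalize (P : Subgroup K).map K.subtype = S at hP hS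
    obtain ⟨H, hH, hle⟩ := (eq_top_or_exists_le_coatom (normalizer (S : Set G))).resolve_left fun e =>
      hP (have := normalizer_eq_top_iff.1 e
        (CfsgH1.le_pCore hS.pgroup).trans (CfsgH1.pCore_le_fitting p))
    obtain ⟨C, hC, h1, h2⟩ := bg_core hχ hH (top_le_of_frattini hS le_sup_left (hle.trans le_sup_right)) hno
    exact hH.1 (top_le_of_frattini (R := C ⊓ K) (hS.mono (fun x hx => ⟨by_contra fun k =>
      h0 x (hS.le hx) (h2 x (hle (le_normalizer hx)) k), hS.le hx⟩) inf_le_right) (inf_le_left.trans h1) hle)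
  · have : Nontrivial (G ⧸ K) := QuotientGroup.nontrivial_iff.2 ht
    obtain ⟨M', p, hp, hn, hM1, -, hMp, -, hmin⟩ := CfsgH1.exists_minNormal_of_isSolvable (G := G ⧸ K)
    have : Fact p.Prime := ⟨hp⟩
    set M := M'.comap (QuotientGroup.mk' K) with hM
    have hKM : K ≤ M := QuotientGroup.le_comap_mk' K M'
    have hMK : ¬ M ≤ K := fun e => hM1 (eq_bot_iff.2 fun q hq => by
      obtain ⟨g, rfl⟩ := QuotientGroup.mk_surjective q
      exact (QuotientGroup.eq_one_iff g).2 (e hq))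
    obtain ⟨S, hS⟩ := IsSylowIn.exists_sylowIn p M
    have hSK : S ⊔ K = M := by
      obtain ⟨k, hk⟩ := IsPGroup.iff_card.1 hMp
      refine hS.sup_eq_of_pow hKM (k := k) (Nat.eq_of_mul_eq_mul_left (Nat.card_pos (α := K)) ?_)
      rw [card_mul_relIndex hKM, hM, card_comap_mk', hk]
    obtain ⟨H, hH, hle⟩ := (eq_top_or_exists_le_coatom (normalizer (S : Set G))).resolve_left fun e =>
      hMK (have := normalizer_eq_top_iff.1 e
        hSK.ge.trans (sup_le (((CfsgH1.le_pCore hS.pgroup).trans (CfsgH1.pCore_le_fitting p)).trans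
          hF.ge) le_rfl))
    have hSH : S ≤ H := le_normalizer.trans hle
    obtain ⟨C, hC, h1, h2⟩ := bg_core hχ hH (top_le_of_frattini hS
      (hSK.ge.trans (sup_le (hSH.trans le_sup_right) le_sup_left)) (hle.trans le_sup_right)) hno
    rcases hmin ((C ⊓ M).map (QuotientGroup.mk' K)) (Normal.map inferInstance _
      (QuotientGroup.mk'_surjective K)) (map_le_iff_le_comap.2 inf_le_right) with e | e
    · have := Fintype.ofFinite M
      refine hMK (ker_of_ip_res_one hχ ?_)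
      rw [inner_one_right]
      refine mul_ne_zero (inv_ne_zero (card_ne_zero_complex _)) (sum_ne_zero_of_re (fun x => ?_) 1 ?_)
      · obtain ⟨s, hs, k, hk, e1⟩ := mem_sup_of_normal_right.1 (hSK.ge x.2)
        rw [← e1, hχ.isChar.mul_ker hk]
        by_cases h3 : s ∈ C
        · have : s ∈ K := (QuotientGroup.eq_one_iff s).1 (mem_bot.1 (e.le ⟨s, ⟨h3, hS.le hs⟩, rfl⟩))
          rw [hχ.isChar.mem_ker.1 this, ← coe_charDegree hχ.isChar]
          exact Nat.cast_nonneg _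
        · rw [h2 s (hSH hs) h3]; rfl
      · rw [coe_one, ← coe_charDegree hχ.isChar]
        exact Nat.cast_pos.2 (charDegree_pos hχ)
    · refine hH.1 (top_le_of_frattini (R := C ⊓ M) (hS.mono (fun x hx => ⟨?_, hS.le hx⟩) inf_le_right)
        (inf_le_left.trans h1) hle)
      obtain ⟨y, hy, e1⟩ := e.ge (hS.le hx)
      have h3 : y⁻¹ * x ∈ K := QuotientGroup.eq.1 e1
      have h4 : y⁻¹ * x ∈ C := by_contra fun k =>
        h0 _ h3 (h2 _ (mul_mem (inv_mem (h1 hy.1)) (hSH hx)) k)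
      simpa using mul_mem hy.1 h4

end CfsgH4
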