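import Cfsg.Agent.H4.Deg2

/-! Groups with two or three character degrees. -/

set_option autoImplicit false
set_option linter.unusedSectionVars false

open Subgroup Function Cfsg CfsgH3 CfsgH2
open scoped ComplexConjugate commutatorElement

namespace CfsgH4

universe u v
variable {G : Type u} [Group G] [Finite G] {χ : G → ℂ}

theorem card_lt_of_not_dvd {p : ℕ} {R : Subgroup G} (hR : ¬ p ∣ Nat.card R) (h : p ∣ Nat.card G) :
    Nat.card R < Nat.card G := (card_le_card_group R).lt_of_ne fun e => hR (e ▸ h)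

theorem solv_of_index_pow {p k : ℕ} (hp : p.Prime) {R : Subgroup G} [R.Normal] (hk : R.index = p ^ k)
    (h : Group.IsSolvable R) : Group.IsSolvable G := by
  have := Fact.mk hp
  have := (IsPGroup.of_card (G := G ⧸ R) hk).isNilpotent
  exact CfsgH1.isSolvable_of_normal_of_quotient R h inferInstance

theorem exists_nonlin' (h : commutator G ≠ ⊥) : ∃ χ, IsIrrCharacter G χ ∧ charDegree χ ≠ 1 := by
  obtain ⟨χ, hχ, h⟩ := exists_nonlin h
  exact ⟨χ, hχ, (charDegree_eq_one_iff hχ.isChar).not.2 h⟩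

theorem commutator_quot_ne_bot {K : Subgroup G} [K.Normal] (h : ¬ commutator G ≤ K) :
    commutator (G ⧸ K) ≠ ⊥ := by
  rwa [commutator_quot, Ne, Subgroup.map_eq_bot_iff, QuotientGroup.ker_mk']

theorem normal_of_commutator_le' {H : Subgroup G} (h : commutator G ≤ H) : H.Normal :=
  ⟨fun x hx g => by simpa using mul_mem (h (conj_mul_inv_mem g x)) hx⟩

theorem solv_of_two (n : ℕ) : ∀ (G : Type u) [Group G] [Finite G] (m : ℕ), Nat.card G ≤ n →
    (∀ χ, IsIrrCharacter G χ → charDegree χ = 1 ∨ charDegree χ = m) → Group.IsSolvable G := by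
  induction n with
  | zero => intro G _ _ _ h; exact absurd Nat.card_pos (not_lt.2 h)
  | succ n ih =>
  intro G _ _ m hn h
  by_cases h1 : ∀ χ, IsIrrCharacter G χ → charDegree χ = 1
  · exact Group.isSolvable_of_comm (comm_of_deg h1)
  push Not at h1
  obtain ⟨χ, hχ, h1⟩ := h1
  obtain rfl := (h χ hχ).resolve_left h1
  have hp := Nat.minFac_prime h1
  obtain ⟨R, hn', hR, k, hk⟩ := npc_of_dvd hp fun ψ hψ => (h ψ hψ).imp_right fun e => by
    rw [e]; exact Nat.minFac_dvd _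
  refine solv_of_index_pow hp hk (ih R (ordCompl[(charDegree χ).minFac] (charDegree χ)) (Nat.le_of_lt_succ
    ((card_lt_of_not_dvd hR ((Nat.minFac_dvd _).trans (charDegree_dvd_card hχ))).trans_le hn)) fun θ hθ => ?_)
  obtain ⟨ψ, hψ, e⟩ := deg_compl hp hR hk hθ
  exact (h ψ hψ).imp (fun k => by rw [e, k]; simp) fun k => by rw [e, k]

theorem two_cases {m : ℕ} (h : ∀ χ, IsIrrCharacter G χ → charDegree χ = 1 ∨ charDegree χ = m)
    {K : Subgroup G} [K.Normal] (hK : MinNA (G ⧸ K)) :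
    (∃ p e, p.Prime ∧ m = p ^ (e + 1) ∧ IsPGroup p (G ⧸ K) ∧ Nat.card (commutator (G ⧸ K)) = p ∧
      commutator (G ⧸ K) ≤ center _) ∨ ∃ A : Subgroup G, A.Normal ∧ (∀ a ∈ A, ∀ b ∈ A, a * b = b * a) ∧
      A.index = m ∧ commutator G ≤ A := by
  have := solv_of_two _ G m le_rfl h
  refine (cases_of_minNA hK inferInstance).imp ?_ ?_
  · rintro ⟨p, hp, h1, h2⟩
    obtain ⟨β, hβ, h3⟩ := exists_nonlin' hK.1
    obtain ⟨e, he⟩ := charDegree_pgroup hp h1 hβ
    cases e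
    exacts [absurd he h3, ⟨p, _, hp, ((h _ hβ.inflate).resolve_left h3).symm.trans he, h1, h2⟩]
  · rintro ⟨N, hN, q, F⟩
    obtain ⟨χ, hχ, e⟩ := F.mem
    obtain rfl : N.index = m := (e ▸ h χ hχ).resolve_left F.ne_one
    refine ⟨N, hN, comm_of_deg' fun θ hθ => ?_, rfl, F.comm_le⟩
    by_cases hq : q ∣ charDegree θ
    · obtain ⟨ψ, e, hψ, h1, -⟩ := exists_over' hθ
      have := hq.mul_left e
      rcases h ψ hψ with k | k <;> rw [← h1, k] at this
      exacts [absurd this F.prime.not_dvd_one, absurd this F.not_dvd]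
    · obtain ⟨ψ, hψ, h1⟩ := F.ind θ hθ hq
      rcases h ψ hψ with k | k <;> rw [k] at h1
      exacts [Nat.eq_one_of_mul_eq_one_left h1.symm,
        (Nat.mul_eq_left index_ne_zero_of_finite).1 h1.symm]

theorem npc_comm {p e : ℕ} (hp : p.Prime)
    (h : ∀ χ, IsIrrCharacter G χ → charDegree χ = 1 ∨ charDegree χ = p ^ (e + 1)) :
    ∃ R : Subgroup G, R.Normal ∧ ¬ p ∣ Nat.card R ∧ (∀ a ∈ R, ∀ b ∈ R, a * b = b * a) ∧ ∃ k, R.index = p ^ k := by
  obtain ⟨R, hn, hR, k, hk⟩ := npc_of_dvd hp fun ψ hψ => (h ψ hψ).imp_right fun e => by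
    rw [e]; exact dvd_pow_self p (Nat.succ_ne_zero _)
  refine ⟨R, hn, hR, comm_of_deg' fun θ hθ => ?_, k, hk⟩
  obtain ⟨ψ, hψ, e⟩ := deg_compl hp hR hk hθ
  rcases h ψ hψ with k | k <;> rw [e, k]
  exacts [by simp, Nat.ordCompl_self_pow hp]

theorem ncard_pair_le' (a b : ℕ) : ({a, b} : Set ℕ).ncard ≤ 2 :=
  (Set.ncard_insert_le _ _).trans (by simp)

theorem two_comm {m : ℕ} (h : ∀ χ, IsIrrCharacter G χ → charDegree χ = 1 ∨ charDegree χ = m) :
    derivedSeries G 2 = ⊥ := by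
  by_cases h0 : commutator G ≤ ⊥
  · exact eq_bot_iff.2 ((derivedSeries_antitone G one_le_two).trans h0)
  obtain ⟨K, _, -, hK⟩ := exists_minNA h0
  rcases two_cases h hK with ⟨p, e, hp, rfl, -⟩ | ⟨A, -, h1, -, h2⟩
  · obtain ⟨R, _, -, h1, k, hk⟩ := npc_comm hp h
    refine taketa_p hp h1 hk ((Set.ncard_le_ncard (t := {1, p ^ (e + 1)}) ?_).trans (ncard_pair_le' _ _))
    rintro _ ⟨χ, rfl⟩
    exact h _ χ.2
  · exact eq_bot_iff.2 (commutator_le.2 fun a ha b hb =>
      commutatorElement_eq_one_iff_mul_comm.2 (h1 a (h2 ha) b (h2 hb)))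

theorem two_comm_sub {D : Subgroup G} (h : ∀ θ φ, IsIrrCharacter D θ → IsIrrCharacter D φ →
    charDegree θ ≠ 1 → charDegree φ ≠ 1 → charDegree θ = charDegree φ) : ⁅⁅D, D⁆, ⁅D, D⁆⁆ = ⊥ := by
  have : derivedSeries D 2 = ⊥ := by
    by_cases h1 : ∃ φ, IsIrrCharacter D φ ∧ charDegree φ ≠ 1
    · obtain ⟨φ, hφ, h1⟩ := h1
      exact two_comm fun θ hθ => or_iff_not_imp_left.2 fun k => h θ φ hθ hφ k h1
    · exact two_comm (m := 1) fun θ hθ => Or.inl (by_contra fun k => h1 ⟨θ, hθ, k⟩)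
  rw [← map_subtype_commutator D, ← Subgroup.map_commutator]
  exact (congrArg (map D.subtype) this).trans (Subgroup.map_bot _)

theorem three_of_le {D : Subgroup G} (hD : commutator G ≤ D) (h : ⁅⁅D, D⁆, ⁅D, D⁆⁆ = ⊥) : derivedSeries G 3 = ⊥ :=
  eq_bot_iff.2 ((commutator_mono (commutator_mono hD hD) (commutator_mono hD hD)).trans h.le)

theorem exists_deg_of_hall {N : Subgroup G} [N.Normal] {θ : N → ℂ} (hθ : IsIrrCharacter N θ)
    (hc : N.index.Coprime (Nat.card N)) {β : inertia θ ⧸ N.subgroupOf (inertia θ) → ℂ} (hβ : IsIrrCharacter _ β) :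
    ∃ χ, IsIrrCharacter G χ ∧ charDegree χ = (inertia θ).index * (charDegree β * charDegree θ) := by
  have hT := le_inertia hθ.classFun
  have := Fintype.ofFinite G
  have := Fintype.ofFinite N
  have := Fintype.ofFinite (inertia θ)
  have := Fintype.ofFinite (N.subgroupOf (inertia θ))
  obtain ⟨η, ⟨hη, he, -⟩, -⟩ := ext_of_hall (hθ.toSubOf hT) (fun t => by rw [cj_toSubOf, mem_inertia.1 t.2]) (by
    rw [Nat.card_congr (subgroupOfEquivOfLe hT).toEquiv]
    exact hc.coprime_dvd_left (relIndex_dvd_index_of_normal _ _))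
  have h1 := (gallagher hη.isChar (by rw [funext he]; exact hθ.toSubOf hT)).1 ⟨β, hβ⟩
  refine ⟨_, (clifford_corr_irr hθ rfl hT h1 ?_).1, ?_⟩
  · have : (fun n : N.subgroupOf (inertia θ) => ((fun g : inertia θ => β g) * η) n) =
        β 1 • toSubOf _ θ := funext fun n => by
      simp only [Pi.mul_apply, Pi.smul_apply, smul_eq_mul, he, (QuotientGroup.eq_one_iff _).2 n.2]
    rw [← ip_res_toSubOf hT, this, CfsgH3.inner_smul_left, (hθ.toSubOf hT).inner_self, mul_one]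
    exact hβ.one_ne_zero
  · rw [charDegree_ind h1.isChar, charDegree_mul hβ.inflate.isChar hη.isChar,
      charDegree_eq (χ := η) ((he 1).trans (coe_charDegree hθ.isChar).symm)]
    rfl

theorem exists_comm_ge {X : Set G} (h : ∀ a ∈ X, ∀ b ∈ X, a * b = b * a) : ∃ B : Subgroup G, X ⊆ B ∧
    center G ≤ B ∧ ∀ a ∈ B, ∀ b ∈ B, a * b = b * a :=
  ⟨centralizer (centralizer X : Set G), fun x hx _ hy => (hy x hx).symm, center_le_centralizer _,
    fun _ ha b hb => (ha b fun x hx => hb x fun y hy => h y hy x hx).symm⟩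

theorem le_of_pgroup_quot {p : ℕ} (hp : p.Prime) {K R : Subgroup G} [K.Normal] (h : IsPGroup p (G ⧸ K))
    (hR : ¬ p ∣ Nat.card R) : R ≤ K := fun r hr => by
  obtain ⟨k, hk⟩ := h r
  rw [← QuotientGroup.eq_one_iff, ← orderOf_eq_one_iff]
  exact Nat.eq_one_of_dvd_coprimes (((Nat.Prime.coprime_iff_not_dvd hp).2 hR).pow_left k)
    (orderOf_dvd_of_pow_eq_one hk) ((orderOf_map_dvd (QuotientGroup.mk' K) r).trans (R.orderOf_dvd_natCard hr))

theorem commutator_le_cent {p e k : ℕ} (hp : p.Prime)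
    (h : ∀ χ, IsIrrCharacter G χ → charDegree χ = 1 ∨ charDegree χ = p ^ (e + 1)) {R : Subgroup G} [hn : R.Normal]
    (hR : ¬ p ∣ Nat.card R) (hab : ∀ a ∈ R, ∀ b ∈ R, a * b = b * a) (hk : R.index = p ^ k) :
    commutator G ≤ centralizer (R : Set G) := by
  by_contra hno
  have := Fact.mk hp
  have hRC : R ≤ centralizer (R : Set G) := fun a ha b hb => hab b hb a ha
  set C := centralizer (R : Set G)
  obtain ⟨j, -, hj⟩ := (Nat.dvd_prime_pow hp).1 (hk ▸ index_dvd_of_le hRC)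
  obtain ⟨β, hβ, h1⟩ := exists_nonlin' (commutator_quot_ne_bot hno)
  have : Nontrivial (G ⧸ C) := QuotientGroup.nontrivial_iff.2 fun e => hno (e ▸ le_top)
  obtain ⟨⟨z, hz⟩, hz1⟩ := @exists_ne _ (IsPGroup.of_card (G := G ⧸ C) hj).center_nontrivial 1
  obtain ⟨z, rfl⟩ := QuotientGroup.mk_surjective z
  obtain ⟨θ, hθ, h2⟩ : ∃ θ : R → ℂ, IsIrrCharacter R θ ∧ z ∉ inertia θ := by
    by_contra k
    push Not at k
    refine hz1 (Subtype.ext ((QuotientGroup.eq_one_iff z).2 fun r hr => ?_))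
    obtain ⟨c, hc⟩ := isConj_iff.1 (isConj_of_forall_irr fun θ hθ => mem_inertia'.1 (k θ hθ) ⟨r, hr⟩)
    have h3 := congrArg Subtype.val hc
    simp only [coe_mul, coe_inv] at h3
    rw [hab _ c.2 _ (hn.conj_mem r hr z), mul_inv_cancel_right] at h3
    exact (mul_inv_eq_iff_eq_mul.1 h3).symm
  have hc : R.index.Coprime (Nat.card R) := hk ▸ ((Nat.Prime.coprime_iff_not_dvd hp).2 hR).pow_left k
  have h3 : charDegree θ = 1 := (charDegree_eq_one_iff hθ.isChar).2
    (hθ.deg_one_of_comm fun a b => Subtype.ext (hab _ a.2 _ b.2))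
  have h4 : ∀ γ : inertia θ ⧸ R.subgroupOf (inertia θ) → ℂ, IsIrrCharacter _ γ →
      (inertia θ).index * charDegree γ = p ^ (e + 1) := fun γ hγ => by
    obtain ⟨ψ, hψ, e⟩ := exists_deg_of_hall hθ hc hγ
    rw [h3, mul_one] at e
    exact (e ▸ h ψ hψ).resolve_left fun k => h2 (index_eq_one.1 (Nat.eq_one_of_mul_eq_one_right k) ▸ mem_top z)
  have h5 := h4 _ isIrr_one
  rw [charDegree_one, mul_one] at h5
  have h6 := comm_of_deg fun γ hγ => (Nat.mul_eq_left index_ne_zero_of_finite).1 ((h4 γ hγ).trans h5.symm)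
  obtain ⟨B, h7, h8, h9⟩ := exists_comm_ge (X := (((inertia θ).map (QuotientGroup.mk' C) : Subgroup _) : Set (G ⧸ C))) (by
    rintro _ ⟨a, ha, rfl⟩ _ ⟨b, hb, rfl⟩
    have := h6 (⟨a, ha⟩ : inertia θ) (⟨b, hb⟩ : inertia θ)
    rw [← QuotientGroup.mk_mul, ← QuotientGroup.mk_mul, QuotientGroup.eq] at this
    exact QuotientGroup.eq.2 (hRC this))
  have := index_strictAnti (lt_of_le_of_ne (map_le_iff_le_comap.1 h7) fun e => h2 (e.ge (h8 hz)))
  rw [index_comap_of_surjective _ (QuotientGroup.mk'_surjective C), h5, ← (h _ hβ.inflate).resolve_left h1] at this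
  exact absurd (deg_le_index_of_comm hβ h9) (not_le.2 this)

theorem two_deg {m : ℕ} (h : ∀ χ, IsIrrCharacter G χ → charDegree χ = 1 ∨ charDegree χ = m)
    (h0 : ¬ commutator G ≤ ⊥) : (∃ A : Subgroup G, A.Normal ∧ (∀ a ∈ A, ∀ b ∈ A, a * b = b * a) ∧ A.index = m) ∨
    ∃ p e : ℕ, p.Prime ∧ m = p ^ e ∧ ∃ P A : Subgroup G, P.Normal ∧ A.Normal ∧ IsPGroup p P ∧
      A ≤ center G ∧ P ⊓ A = ⊥ ∧ P ⊔ A = ⊤ := by
  obtain ⟨K, _, -, hK⟩ := exists_minNA h0
  rcases two_cases h hK with ⟨p, e, hp, rfl, -⟩ | ⟨A, h1, h2, h3, -⟩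
  swap
  · exact Or.inl ⟨A, h1, h2, h3⟩
  have := Fact.mk hp
  obtain ⟨R, hn, hR, hab, k, hk⟩ := npc_comm hp h
  have key : ∀ C : Subgroup G, C.Normal → R ≤ C → C ≤ centralizer (R : Set G) →
      ∃ S : Subgroup G, S.Normal ∧ IsPGroup p S ∧ S ⊓ R = ⊥ ∧ S ⊔ R = C := fun C _ h1 h2 => by
    obtain ⟨S, hS⟩ := IsSylowIn.exists_sylowIn p C
    obtain ⟨j, -, hj⟩ := (Nat.dvd_prime_pow hp).1 (hk ▸ relIndex_dvd_index_of_normal R C)
    obtain ⟨i, hi⟩ := IsPGroup.iff_card.1 hS.pgroup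
    have h3 := hS.sup_eq_of_pow h1 hj
    exact ⟨S, normalizer_eq_top_iff.1 (top_le_of_frattini hS (h3.ge.trans (sup_le le_normalizer
      ((le_centralizer_iff.1 (hS.le.trans h2)).trans (centralizer_le_normalizer _)))) le_rfl), hS.pgroup,
      (disjoint_of_coprime_natCard (hi ▸ ((Nat.Prime.coprime_iff_not_dvd hp).2 hR).pow_left i)).eq_bot, h3⟩
  by_cases hz : R ≤ center G
  · obtain ⟨S, h1, h2, h3, h4⟩ := key ⊤ inferInstance le_top fun g _ r hr => (mem_center_iff.1 (hz hr) g).symm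
    exact Or.inr ⟨p, _, hp, rfl, S, R, h1, hn, h2, hz, h3, h4⟩
  obtain ⟨S, h1, h2, h3, h4⟩ := key (centralizer (R : Set G)) inferInstance (fun a ha b hb => hab b hb a ha) le_rfl
  obtain ⟨L, _, h5, hL⟩ := exists_minNA (K₀ := S) fun k => hz fun r hr => mem_center_iff.2 fun g =>
    mul_inv_eq_iff_eq_mul.1 (mul_inv_eq_one.1 (mem_bot.1 (h3.le
      ⟨k (conj_mul_inv_mem g r), R.mul_mem (hn.conj_mem r hr g) (R.inv_mem hr)⟩)))
  rcases two_cases h hL with ⟨q, e', hq, h6, h7, -⟩ | ⟨A, h1, h2, h3, -⟩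
  swap
  · exact Or.inl ⟨A, h1, h2, h3⟩
  obtain rfl : p = q := (Nat.prime_dvd_prime_iff_eq hp hq).1
    (hp.dvd_of_dvd_pow (h6 ▸ dvd_pow_self p (Nat.succ_ne_zero _)))
  refine absurd ?_ hL.1
  rw [commutator_quot, Subgroup.map_eq_bot_iff, QuotientGroup.ker_mk']
  exact (commutator_le_cent hp h hR hab hk).trans (h4.ge.trans (sup_le h5 (le_of_pgroup_quot hp h7 hR)))

theorem two_deg_le [Fintype G] {φ : G → ℂ} (hφ : IsCharacter G φ) {u v : ℕ} (huv : u.Coprime v) (hne : u ≠ v)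
    (hd : u ∣ charDegree φ) (h : ∀ η, IsIrrCharacter G η → classInner φ η ≠ 0 → charDegree η = u ∨ charDegree η = v)
    {η₀ : G → ℂ} (h0 : IsIrrCharacter G η₀) (hv : charDegree η₀ = v) (hc : classInner φ η₀ ≠ 0) :
    ∃ α, u * v + u * α ≤ charDegree φ ∧
      ∀ η, IsIrrCharacter G η → classInner φ η ≠ 0 → charDegree η = u → 0 < α := by
  classical
  obtain ⟨a, ha, e⟩ := exists_mult hφ
  have hp : ∀ η : IrrCharacter G, classInner φ η.1 ≠ 0 → 0 < a η := fun η h =>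
    Nat.pos_of_ne_zero fun k => h (by rw [ha, k, Nat.cast_zero])
  have h1 : charDegree φ = u * ∑ η with charDegree η.1 = u, a η + v * ∑ η with ¬ charDegree η.1 = u, a η := by
    rw [e, ← Finset.sum_filter_add_sum_filter_not _ fun η : IrrCharacter G => charDegree η.1 = u,
      Finset.mul_sum, Finset.mul_sum]
    congr 1 <;> refine Finset.sum_congr rfl fun η hη => ?_
    · rw [(Finset.mem_filter.1 hη).2, mul_comm]
    · rcases (a η).eq_zero_or_pos with k | k
      · simp [k]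
      · rw [(h _ η.2 (by rw [ha]; exact Nat.cast_ne_zero.2 k.ne')).resolve_left (Finset.mem_filter.1 hη).2, mul_comm]
  refine ⟨∑ η with charDegree η.1 = u, a η, ?_, fun η hη h1 h2 => (hp ⟨η, hη⟩ h1).trans_le
    (Finset.single_le_sum (fun _ _ => Nat.zero_le _) (by simpa using h2))⟩
  have h2 := Nat.le_of_dvd ((hp ⟨η₀, h0⟩ hc).trans_le (Finset.single_le_sum (f := a) (fun _ _ => Nat.zero_le _)
    (by simpa [hv] using hne.symm))) (huv.dvd_of_dvd_mul_left ((Nat.dvd_add_right (dvd_mul_right _ _)).1 (h1 ▸ hd)))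
  rw [h1, add_comm, mul_comm u v]
  gcongr

theorem no_coprime (H : MinNA G) {m n : ℕ} (h1 : 1 < m) (hmn : m < n) (hc : m.Coprime n)
    (h : ∀ χ, IsIrrCharacter G χ → charDegree χ = 1 ∨ charDegree χ = m ∨ charDegree χ = n)
    {χ₀ ψ₀ : G → ℂ} (hχ₀ : IsIrrCharacter G χ₀) (d₀ : charDegree χ₀ = m) (hψ₀ : IsIrrCharacter G ψ₀)
    (e₀ : charDegree ψ₀ = n) : False := by
  classical
  have := Fintype.ofFinite G
  have dc : ∀ χ, IsIrrCharacter G χ → charDegree (fun g => conj (χ g)) = charDegree χ := fun χ hχ =>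
    charDegree_eq (hχ.isChar.conj_one.trans (coe_charDegree hχ.isChar).symm)
  have key : ∀ χ ξ ψ, IsIrrCharacter G χ → IsIrrCharacter G ξ → IsIrrCharacter G ψ → charDegree χ = m →
      charDegree ξ ≠ n → charDegree ψ = n → classInner (ξ * χ) ψ = 0 := by
    intro χ ξ ψ hχ hξ hψ dχ dξ dψ
    have k1 : ∀ ξ, IsIrrCharacter G ξ → charDegree ξ = 1 → classInner (ξ * χ) ψ = 0 := fun ξ hξ d => by
      obtain ⟨lam, rfl⟩ := hξ.isChar.exists_hom_of_deg_one ((charDegree_eq_one_iff hξ.isChar).1 d)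
      rw [mul_comm]
      refine (hχ.mul_linear lam).inner_of_ne hψ fun e => hmn.ne ?_
      rw [← dχ, ← dψ, ← e]; simp [charDegree]
    refine (h ξ hξ).elim (k1 ξ hξ) fun d => by_contra fun hne => ?_
    replace d := d.resolve_right dξ
    have k2 : ∀ η, IsIrrCharacter G η → charDegree η = m → classInner (η * χ) ψ ≠ 0 →
        ∀ x ∈ commutator G, η x = conj (χ x) := fun η hη d hne x hx => by
      obtain ⟨l, hl, h2, h3⟩ : ∃ l, IsIrrCharacter G l ∧ classInner (η * χ) l ≠ 0 ∧ charDegree l = 1 := by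
        by_contra k
        push Not at k
        have hd := charDegree_mul hη.isChar hχ.isChar
        obtain ⟨α, h2, -⟩ := two_deg_le (hη.isChar.mul hχ.isChar) hc hmn.ne ⟨_, by rw [hd, d]⟩
          (fun l hl h2 => (h l hl).resolve_left (k l hl h2)) hψ dψ hne
        rw [hd, d, dχ] at h2
        nlinarith
      obtain ⟨lam, rfl⟩ := hl.isChar.exists_hom_of_deg_one ((charDegree_eq_one_iff hl.isChar).1 h3)
      rw [inner_mul_left] at h2
      rw [congrFun (hη.eq_of_inner_ne_zero (hχ.conj_char.mul_linear lam) h2) x, lin_commutator lam hx, Units.val_one, mul_one]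
    have hφ : IsCharacter G fun g => conj (χ g) * ψ g := hχ.isChar.conj_char.mul hψ.isChar
    have hd : charDegree (fun g => conj (χ g) * ψ g) = n * m :=
      (charDegree_mul hχ.isChar.conj_char hψ.isChar).trans (by rw [dc χ hχ, dχ, dψ, mul_comm])
    have adj : ∀ η, classInner (fun g => conj (χ g) * ψ g) η ≠ 0 ↔ classInner (η * χ) ψ ≠ 0 := fun η => by
      rw [inner_mul_left, Ne, CfsgH3.inner_eq_zero_symm]
    have k3 : ∀ η, IsIrrCharacter G η → classInner (fun g => conj (χ g) * ψ g) η ≠ 0 →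
        charDegree η = n ∨ charDegree η = m := fun η hη h2 =>
      ((h η hη).resolve_left fun d => (adj η).1 h2 (k1 η hη d)).symm
    obtain ⟨α, h2, h3⟩ := two_deg_le hφ hc.symm hmn.ne' ⟨_, hd⟩ k3 hξ d ((adj ξ).2 hne)
    have k4 : ∀ x ∈ commutator G, conj (χ x) * ψ x = (∑ η : IrrCharacter G,
        classInner (fun g => conj (χ g) * ψ g) η.1) * conj (χ x) := fun x hx => by
      rw [Finset.sum_mul]
      refine (hφ.classFun.apply_eq_sum x).trans (Finset.sum_congr rfl fun η _ => ?_)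
      by_cases h4 : classInner (fun g => conj (χ g) * ψ g) η.1 = 0
      · rw [h4, zero_mul, zero_mul]
      · rw [k2 _ η.2 ((k3 _ η.2 h4).resolve_left fun d => ?_) ((adj _).1 h4) x hx]
        have := h3 _ η.2 h4 d
        rw [hd] at h2
        nlinarith
    generalize (∑ η : IrrCharacter G, classInner (fun g => conj (χ g) * ψ g) η.1) = c at k4
    have k5 : ∀ x ∈ commutator G, x ≠ 1 → χ x = 0 := fun x hx h2 => by_contra fun k =>
      h2 (H.faithful hψ (by omega) ((mul_left_cancel₀ ((map_ne_zero _).2 k) ((k4 x hx).trans (mul_comm _ _))).trans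
        (mul_left_cancel₀ ((map_ne_zero _).2 hχ.one_ne_zero) ((k4 1 (one_mem _)).trans (mul_comm _ _))).symm))
    obtain ⟨x, hx, hx1⟩ := (bot_or_exists_ne_one _).resolve_left H.1
    have := Fintype.ofFinite (commutator G)
    refine hx1 (H.faithful hχ (by omega) (ker_of_ip_res_one hχ ?_ x hx))
    rw [inner_one_right, Finset.sum_eq_single 1 (fun y _ h2 => k5 _ y.2 fun e => h2 (Subtype.ext e)) (by simp)]
    exact mul_ne_zero (inv_ne_zero (card_ne_zero_complex _)) hχ.one_ne_zero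
  have cf : ∀ S : Finset (IrrCharacter G), IsClassFunction G (∑ ξ ∈ S, ξ.1 1 • ξ.1) := fun S =>
    isClassFunction_sum _ fun ξ _ => isClassFunction_smul _ ξ.2.classFun
  have ip : ∀ (S : Finset (IrrCharacter G)) η, (∀ ξ ∈ S, classInner (ξ.1 * χ₀) η = 0 ∧ classInner ξ.1 η = 0) →
      classInner ((∑ ξ ∈ S, ξ.1 1 • ξ.1) * χ₀ - χ₀ 1 • ∑ ξ ∈ S, ξ.1 1 • ξ.1) η = 0 := fun S η h => by
    rw [CfsgH3.inner_sub_left, CfsgH3.inner_smul_left, Finset.sum_mul, inner_sum_left, inner_sum_left,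
      Finset.sum_eq_zero fun ξ hξ => by rw [smul_mul_assoc, CfsgH3.inner_smul_left, (h ξ hξ).1, mul_zero],
      Finset.sum_eq_zero fun ξ hξ => by rw [CfsgH3.inner_smul_left, (h ξ hξ).2, mul_zero]]
    simp
  set ρ := ∑ ξ : IrrCharacter G with charDegree ξ.1 = n, ξ.1 1 • ξ.1 with hρ
  have h2 : ρ * χ₀ - χ₀ 1 • ρ = 0 := (isClassFunction_sub (isClassFunction_mul (cf _) hχ₀.classFun)
    (isClassFunction_smul _ (cf _))).eq_zero_of_inner fun η hη => by
      by_cases d : charDegree η = n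
      · have h3 : ∀ x, ρ x + (∑ ξ : IrrCharacter G with ¬ charDegree ξ.1 = n, ξ.1 1 • ξ.1) x =
            if x = 1 then (Nat.card G : ℂ) else 0 := fun x => by
          rw [← Pi.add_apply, hρ, Finset.sum_filter_add_sum_filter_not, Finset.sum_apply, ← sum_irr_deg_mul']
          rfl
        have h4 := ip (Finset.univ.filter fun ξ => ¬ charDegree ξ.1 = n) η fun ξ hξ =>
          ⟨key _ _ _ hχ₀ ξ.2 hη d₀ (Finset.mem_filter.1 hξ).2 d,
            ξ.2.inner_of_ne hη fun e => (Finset.mem_filter.1 hξ).2 (e ▸ d)⟩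
        generalize (∑ ξ : IrrCharacter G with ¬ charDegree ξ.1 = n, ξ.1 1 • ξ.1) = τ at h3 h4
        have : ρ * χ₀ - χ₀ 1 • ρ = -(τ * χ₀ - χ₀ 1 • τ) := funext fun x => by
          have := h3 x
          simp only [Pi.sub_apply, Pi.mul_apply, Pi.smul_apply, Pi.neg_apply, smul_eq_mul]
          split_ifs at this with k
          · rw [k]; ring
          · linear_combination (χ₀ x - χ₀ 1) * this
        rw [this, CfsgH3.inner_neg_left, h4, neg_zero]
      · refine ip _ η fun ξ hξ => ⟨?_, ξ.2.inner_of_ne hη fun e => d (e ▸ (Finset.mem_filter.1 hξ).2)⟩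
        rw [inner_mul_left, CfsgH3.inner_eq_zero_symm, ← key _ _ _ hχ₀.conj_char hη ξ.2 ((dc _ hχ₀).trans d₀) d
          (Finset.mem_filter.1 hξ).2, mul_comm]
        rfl
  have h3 : classInner ρ (fun _ => 1) = 0 := by
    rw [hρ, inner_sum_left]
    refine Finset.sum_eq_zero fun ξ hξ => ?_
    rw [CfsgH3.inner_smul_left, ξ.2.inner_of_ne isIrr_one fun e => ?_, mul_zero]
    have := (Finset.mem_filter.1 hξ).2
    rw [e, charDegree_one] at this
    omega
  rw [inner_one_right, Finset.sum_eq_single 1 (fun x _ hx => ?_) (by simp), hρ, Finset.sum_apply,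
    Finset.sum_congr rfl (g := fun _ => ((n * n : ℕ) : ℂ)) fun ξ hξ => ?_] at h3
  · have : 0 < (Finset.univ.filter fun ξ : IrrCharacter G => charDegree ξ.1 = n).card :=
      Finset.card_pos.2 ⟨⟨ψ₀, hψ₀⟩, by simpa using e₀⟩
    have h4 := card_ne_zero_complex G
    simp [this.ne', show n ≠ 0 by omega] at h3
  · rw [Pi.smul_apply, ← coe_charDegree ξ.2.isChar, (Finset.mem_filter.1 hξ).2, smul_eq_mul, Nat.cast_mul]
  · by_contra k
    exact hx (H.faithful hχ₀ (by omega) (mul_left_cancel₀ k ((sub_eq_zero.1 (congrFun h2 x)).trans (mul_comm _ _))))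

theorem MinNA.common_prime (H : MinNA G) {a b : ℕ}
    (h : ∀ χ, IsIrrCharacter G χ → charDegree χ = 1 ∨ charDegree χ = a ∨ charDegree χ = b) :
    ∃ p, p.Prime ∧ p ∣ Nat.card G ∧ ∀ χ, IsIrrCharacter G χ → charDegree χ = 1 ∨ p ∣ charDegree χ := by
  obtain ⟨χ, hχ, h1⟩ := exists_nonlin' H.1
  by_cases h2 : ∀ ψ, IsIrrCharacter G ψ → charDegree ψ = 1 ∨ charDegree ψ = charDegree χ
  · exact ⟨_, Nat.minFac_prime h1, (Nat.minFac_dvd _).trans (charDegree_dvd_card hχ),
      fun ψ hψ => (h2 ψ hψ).imp_right fun e => by rw [e]; exact Nat.minFac_dvd _⟩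
  push Not at h2
  obtain ⟨ψ, hψ, h2, h3⟩ := h2
  have h4 : ∀ η, IsIrrCharacter G η → charDegree η = 1 ∨ charDegree η = charDegree χ ∨
      charDegree η = charDegree ψ := fun η hη => by
    have := h η hη; have := h χ hχ; have := h ψ hψ; omega
  have := charDegree_pos hχ
  have := charDegree_pos hψ
  by_cases hc : (charDegree χ).Coprime (charDegree ψ)
  · rcases lt_or_gt_of_ne h3 with k | k
    · exact (no_coprime H (by omega) k hc.symm (fun η hη => by have := h4 η hη; omega) hψ rfl hχ rfl).elim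
    · exact (no_coprime H (by omega) k hc h4 hχ rfl hψ rfl).elim
  obtain ⟨p, hp, h5, h6⟩ := Nat.Prime.not_coprime_iff_dvd.1 hc
  exact ⟨p, hp, h5.trans (charDegree_dvd_card hχ), fun η hη => (h4 η hη).imp_right fun k =>
    k.elim (fun e => e ▸ h5) fun e => e ▸ h6⟩

theorem three_p {a b q k : ℕ} (hq : q.Prime)
    (h : ∀ χ, IsIrrCharacter G χ → charDegree χ = 1 ∨ charDegree χ = a ∨ charDegree χ = b)
    {K : Subgroup G} [K.Normal] (hk : K.index = q ^ k) (hK : commutator (G ⧸ K) ≠ ⊥) : derivedSeries G 3 = ⊥ := by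
  obtain ⟨β, hβ, h1⟩ := exists_nonlin' hK
  obtain ⟨j, hj⟩ := charDegree_pgroup hq (IsPGroup.of_card (G := G ⧸ K) hk) hβ
  obtain ⟨g, hg⟩ : ∃ g, ∀ χ, IsIrrCharacter G χ → charDegree χ = 1 ∨ charDegree χ = q ^ j ∨ charDegree χ = g := by
    rcases (h _ hβ.inflate).resolve_left h1 with e | e
    exacts [⟨b, by rwa [← hj, show charDegree β = a from e]⟩,
      ⟨a, fun χ hχ => by rw [← hj, show charDegree β = b from e]; have := h χ hχ; omega⟩]
  have h2 : q ∣ q ^ j := dvd_pow_self q fun e => h1 (by rw [hj, e, pow_zero])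
  obtain ⟨R, hn, hR, i, hi⟩ := npc_of_dvd hq fun χ hχ => or_iff_not_imp_left.2 fun d => by_contra fun d' => by
    obtain ⟨ψ, hψ, e⟩ := exists_deg_mul_quot hχ (hk ▸ ((Nat.Prime.coprime_iff_not_dvd hq).2 d').symm.pow_right k) hβ
    have h3 : charDegree χ = g := ((hg χ hχ).resolve_left d).resolve_left fun e => d' (e ▸ h2)
    have := charDegree_pos hχ
    have := charDegree_pos hβ
    have := hg ψ hψ
    rw [e, ← hj, ← h3] at this
    rcases this with k | k | k
    exacts [d (Nat.eq_one_of_mul_eq_one_left k), d ((Nat.mul_eq_left (by omega)).1 k),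
      h1 ((Nat.mul_eq_right (by omega)).1 k)]
  have h3 : ∀ θ, IsIrrCharacter R θ → charDegree θ = 1 ∨ charDegree θ = ordCompl[q] g := fun θ hθ => by
    obtain ⟨ψ, hψ, e⟩ := deg_compl hq hR hi hθ
    rcases hg ψ hψ with k | k | k <;> rw [e, k]
    exacts [Or.inl (by simp), Or.inl (Nat.ordCompl_self_pow hq), Or.inr rfl]
  by_cases h4 : ordCompl[q] g = 1
  · refine taketa_p hq (comm_of_deg' fun θ hθ => (h3 θ hθ).elim id fun e => e.trans h4) hi
      ((Set.ncard_le_ncard (t := {1, q ^ j, g}) ?_).trans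
        ((Set.ncard_insert_le _ _).trans (Nat.succ_le_succ (ncard_pair_le' _ _))))
    rintro _ ⟨χ, rfl⟩
    exact hg _ χ.2
  have h5 := two_comm (G := G ⧸ ⁅R, R⁆) (m := q ^ j) fun γ hγ => by
    refine (hg _ hγ.inflate).imp_right fun k => k.resolve_right fun e => h4 ?_
    have := Fintype.ofFinite G
    have := Fintype.ofFinite R
    obtain ⟨θ, hθ, hc⟩ := hγ.inflate.exists_res_constituent R
    obtain ⟨c, h6, h7⟩ := deg_mul_of_over hθ hγ.inflate hc
    obtain ⟨l, -, rfl⟩ := (Nat.dvd_prime_pow hq).1 (hi ▸ h7)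
    rw [← e, h6, (charDegree_eq_one_iff hθ.isChar).2 (hθ.deg_one_of_commutator fun x hx =>
      (hγ.inflate.isChar.restrict R).ker_of_constituent hθ hc ?_), mul_one, Nat.ordCompl_self_pow hq]
    rw [(QuotientGroup.eq_one_iff (x : G)).2 ((map_subtype_commutator R).le (mem_map_of_mem _ hx))]
    rfl
  rw [← map_derivedSeries_eq (QuotientGroup.mk'_surjective _), Subgroup.map_eq_bot_iff, QuotientGroup.ker_mk'] at h5
  exact eq_bot_iff.2 ((commutator_mono h5 h5).trans (two_comm_sub fun θ φ hθ hφ a b =>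
    ((h3 θ hθ).resolve_left a).trans ((h3 φ hφ).resolve_left b).symm).le)

theorem three_frob {a b q : ℕ}
    (h : ∀ χ, IsIrrCharacter G χ → charDegree χ = 1 ∨ charDegree χ = a ∨ charDegree χ = b)
    {N : Subgroup G} [N.Normal] (F : FrobQ N q) : derivedSeries G 3 = ⊥ := by
  obtain ⟨β, hβ, e⟩ := F.mem
  obtain ⟨g, hg⟩ : ∃ g, ∀ χ, IsIrrCharacter G χ → charDegree χ = 1 ∨ charDegree χ = N.index ∨ charDegree χ = g := by
    rcases (e ▸ h _ hβ).resolve_left F.ne_one with e | e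
    exacts [⟨b, by rwa [e]⟩, ⟨a, fun χ hχ => by rw [e]; have := h χ hχ; omega⟩]
  have h0 : N.index ≠ 0 := index_ne_zero_of_finite
  have h1 : ∀ ψ, IsIrrCharacter N ψ → ¬ q ∣ charDegree ψ → charDegree ψ ≠ 1 → N.index * charDegree ψ = g :=
    fun ψ hψ d d' => by
      obtain ⟨χ, hχ, e⟩ := F.ind ψ hψ d
      rcases e ▸ hg χ hχ with k | k | k
      exacts [absurd (Nat.eq_one_of_mul_eq_one_left k) d', absurd ((Nat.mul_eq_left h0).1 k) d', k]
  have h2 : ∀ ψ, IsIrrCharacter N ψ → q ∣ charDegree ψ → ∃ e, g = e * charDegree ψ ∧ e ∣ N.index := fun ψ hψ d => by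
    obtain ⟨χ, e, hχ, h1, h2⟩ := exists_over' hψ
    have := d.mul_left e
    rcases hg χ hχ with k | k | k
    exacts [absurd (k ▸ h1 ▸ this) F.prime.not_dvd_one, absurd (k ▸ h1 ▸ this) F.not_dvd, ⟨e, k ▸ h1, h2⟩]
  by_cases hq : q ∣ g
  swap
  · have h3 : ∀ ψ, IsIrrCharacter N ψ → ¬ q ∣ charDegree ψ := fun ψ hψ d => by
      obtain ⟨e, rfl, -⟩ := h2 ψ hψ d
      exact hq (d.mul_left e)
    exact three_of_le F.comm_le (two_comm_sub fun θ φ hθ hφ a b =>
      mul_left_cancel₀ h0 ((h1 θ hθ (h3 θ hθ) a).trans (h1 φ hφ (h3 φ hφ) b).symm))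
  obtain ⟨D, hDN, hD, hmin⟩ := exists_minimal_subgroup (Φ := fun X : Subgroup G => commutator G ≤ X ∧
    ∀ s, s.Prime → s ∣ X.index → s ∣ N.index) (A := N) ⟨F.comm_le, fun _ _ h => h⟩
  have := normal_of_commutator_le' hD.1
  by_contra hno
  have h3 : ∀ r, r.Prime → r ∣ N.index → r ∣ g → ¬ r ∣ Nat.card D := fun r hr a b => by
    obtain ⟨R, hn, hR, i, hi⟩ := npc_of_dvd hr fun χ hχ => (hg χ hχ).imp_right fun k =>
      k.elim (fun e => e ▸ a) fun e => e ▸ b
    have h3 : commutator G ≤ R := by_contra fun k => hno (three_p hr h hi (commutator_quot_ne_bot k))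
    refine fun d => hR (d.trans (card_dvd_of_le (inf_eq_right.1 (hmin (R ⊓ D) ⟨le_inf h3 hD.1, fun s hs d => ?_⟩
      inf_le_right))))
    rw [← relIndex_mul_index (inf_le_right : R ⊓ D ≤ D), inf_relIndex_right] at d
    refine (hs.dvd_mul.1 d).elim (fun d => ?_) (hD.2 s hs)
    rwa [(Nat.prime_dvd_prime_iff_eq hs hr).1 (hs.dvd_of_dvd_pow (hi ▸ d.trans (relIndex_dvd_index_of_normal R D)))]
  have h4 : ∀ ψ, IsIrrCharacter D ψ → charDegree ψ ≠ 1 → ∃ e, g = e * charDegree ψ ∧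
      ∀ s, s.Prime → s ∣ e → s ∣ N.index := fun ψ hψ d => by
    obtain ⟨η, e, hη, h4, h5⟩ := exists_over' (hψ.toSubOf hDN)
    obtain ⟨e', h6, h7⟩ := h2 η hη (by_contra fun k => by
      have := h1 η hη k fun k' => d (Nat.eq_one_of_mul_eq_one_left (h4.symm.trans k'))
      exact (F.prime.dvd_mul.1 (this ▸ hq)).elim F.not_dvd k)
    exact ⟨e' * e, by rw [h6, h4, mul_assoc]; rfl, fun s hs d => (hs.dvd_mul.1 d).elim (fun d => d.trans h7)
      fun d => hD.2 s hs (d.trans (h5.trans (relIndex_dvd_index_of_normal D N)))⟩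
  have h5 : ∀ θ φ, IsIrrCharacter D θ → IsIrrCharacter D φ → charDegree θ ≠ 1 → charDegree φ ≠ 1 →
      charDegree θ ∣ charDegree φ := fun θ φ hθ hφ a b => by
    obtain ⟨e, h5, -⟩ := h4 θ hθ a
    obtain ⟨e', h6, h7⟩ := h4 φ hφ b
    refine Nat.Coprime.dvd_of_dvd_mul_left (by_contra fun k => ?_) (h6 ▸ Dvd.intro_left e h5.symm)
    obtain ⟨s, hs, h8, h9⟩ := Nat.Prime.not_coprime_iff_dvd.1 k
    exact h3 s hs (h7 s hs h9) (h5 ▸ h8.mul_left e) (h8.trans (charDegree_dvd_card hθ))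
  exact hno (three_of_le hD.1 (two_comm_sub fun θ φ hθ hφ a b =>
    Nat.dvd_antisymm (h5 θ φ hθ hφ a b) (h5 φ θ hφ hθ b a)))

theorem three_deg (n : ℕ) : ∀ (G : Type u) [Group G] [Finite G] (a b : ℕ), Nat.card G ≤ n →
    (∀ χ, IsIrrCharacter G χ → charDegree χ = 1 ∨ charDegree χ = a ∨ charDegree χ = b) →
    derivedSeries G 3 = ⊥ := by
  induction n with
  | zero => intro G _ _ _ _ h; exact absurd Nat.card_pos (not_lt.2 h)
  | succ n ih =>
  intro G _ _ a b hn h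
  by_cases h0 : commutator G ≤ ⊥
  · exact eq_bot_iff.2 ((derivedSeries_antitone G (by norm_num : 1 ≤ 3)).trans h0)
  obtain ⟨K, _, -, hK⟩ := exists_minNA h0
  obtain ⟨p, hp, h1, h2⟩ := hK.common_prime fun β hβ => h _ hβ.inflate
  obtain ⟨R, _, hR, k, hk⟩ := npc_of_dvd hp h2
  have hs := solv_of_index_pow hp hk ⟨⟨3, ih R (ordCompl[p] a) (ordCompl[p] b) (Nat.le_of_lt_succ
    ((card_lt_of_not_dvd hR h1).trans_le ((Nat.card_le_card_of_surjective _
      (QuotientGroup.mk'_surjective K)).trans hn))) fun θ hθ => by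
    obtain ⟨β, hβ, e⟩ := deg_compl hp hR hk hθ
    rcases h _ hβ.inflate with k | k | k <;> rw [e, show charDegree β = _ from k] <;> simp⟩⟩
  rcases cases_of_minNA hK hs with ⟨q, hq, h3, -⟩ | ⟨N, _, q, F⟩
  · have := Fact.mk hq
    obtain ⟨j, hj⟩ := IsPGroup.iff_card.1 h3
    exact three_p hq h hj hK.1
  · exact three_frob h F

end CfsgH4
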