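import Cfsg.Agent.H1.Coprime
import Cfsg.Agent.H4.Cyc5
import Cfsg.Agent.H4.Contr2
import Cfsg.Agent.H4.Rob2
import Cfsg.Agent.H2.WClosed
import Cfsg.Agent.H2.Q8a
import Cfsg.Agent.H1.Gasch

/-! Dominated blocks: blocks of a quotient group. -/

set_option autoImplicit false
set_option linter.unusedSectionVars false
open MonoidAlgebra Subgroup CfsgH2 Function Cfsg CfsgH3
open scoped ComplexConjugate commutatorElement

namespace CfsgH4

section ring
variable {R : Type*} [CommRing R] {G H : Type*} [Group G] [Group H]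

theorem coeff_emb_eq_sum [Fintype G] [DecidableEq H] (φ : G →* H) (a : R[G]) (y : H) :
    (emb R φ a).coeff y = ∑ g, if φ g = y then a.coeff g else 0 := by
  conv_lhs => rw [eq_sum_single a]
  rw [map_sum, coeff_sum_apply]
  refine Finset.sum_congr rfl fun g _ => ?_
  rw [map_smul, emb_single]
  simp [Finsupp.single_apply]

theorem coeff_emb_of_unique [Finite G] (φ : G →* H) (a : R[G]) (x : G)
    (h : ∀ g, φ g = φ x → a.coeff g ≠ 0 → g = x) : (emb R φ a).coeff (φ x) = a.coeff x := by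
  classical
  have := Fintype.ofFinite G
  rw [coeff_emb_eq_sum, Finset.sum_eq_single x, if_pos rfl]
  · intro g _ hg
    split_ifs with e
    · by_contra h0
      exact hg (h g e h0)
    · rfl
  · simp

theorem exists_of_coeff_emb_ne_zero' [Finite G] (φ : G →* H) {a : R[G]} {y : H}
    (h : (emb R φ a).coeff y ≠ 0) : ∃ g, φ g = y ∧ a.coeff g ≠ 0 := by
  classical
  have := Fintype.ofFinite G
  rw [coeff_emb_eq_sum] at h
  obtain ⟨g, -, hg⟩ := Finset.exists_ne_zero_of_sum_ne_zero h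
  split_ifs at hg with e
  · exact ⟨g, e, hg⟩
  · exact absurd rfl hg

theorem emb_mem_Fix_top {φ : G →* H} (hφ : Surjective φ) {a : R[G]} (ha : a ∈ Fix R ⊤) :
    emb R φ a ∈ Fix R ⊤ := by
  rw [mem_Fix']
  intro n _
  obtain ⟨g, rfl⟩ := hφ n
  rw [← emb_cjA, mem_Fix'.1 ha g trivial]

theorem emb_mem_Ztop {φ : G →* H} (hφ : Surjective φ) {a : R[G]} (ha : a ∈ Zc R ⊤ ⊤) :
    emb R φ a ∈ Zc R ⊤ ⊤ :=
  mem_Zc_top.2 (emb_mem_Fix_top hφ (mem_Zc_top.1 ha))

end ring

section field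
variable {F : Type*} [Field F] {G : Type*} [Group G] [Finite G] {p : ℕ} [hp : Fact p.Prime]
  [CharP F p] {N : Subgroup G} [hN : N.Normal]

theorem exists_Br_of_emb {H : Type*} [Group H] [Finite H] {φ : G →* H} (hφ : Surjective φ)
    {a : F[G]} (ha : a ∈ Fix F ⊤) {Q : Subgroup H} (hQ : IsPGroup p Q)
    (h : Br Q (emb F φ a) ≠ 0) : ∃ S : Subgroup G, IsPGroup p S ∧ S.map φ = Q ∧ Br S a ≠ 0 := by
  classical
  have := Fintype.ofFinite G
  obtain ⟨y, h1, h2⟩ := Br_ne_zero_iff.1 h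
  obtain ⟨S, hS⟩ := IsSylowIn.exists_sylowIn p (Q.comap φ)
  have e : S.map φ = Q := by
    have := hS.map φ
    rw [map_comap_eq_self_of_surjective hφ] at this
    exact this.eq_of_isPGroup hQ
  refine ⟨S, hS.pgroup, e, fun h0 => h1 ?_⟩
  have hb : tr {g | φ g = y} a ∈ Fix F S := tr_mem_Fix (Fix_anti le_top ha) fun n hn x => by
    have h3 : φ n * y = y * φ n := mem_centralizer_singleton_iff.1 (h2 (hS.le hn))
    simp only [Set.mem_ofPred_eq, map_mul, map_inv]
    constructor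
    · intro e
      have : φ n * φ x = φ n * y := by rw [h3, ← e]; group
      exact mul_left_cancel this
    · intro e
      rw [e, h3]; group
  have h4 := sum_coeff_Br (H := ⊤) hS.pgroup le_top hb
  have h5 : Br S (tr {g | φ g = y} a) = 0 := by
    rw [tr_tr, Set.inter_comm, ← tr_tr]
    exact (congrArg _ h0).trans (map_zero _)
  rw [h5] at h4
  rw [coeff_emb_eq_sum, ← Equiv.sum_comp (topEquiv (G := G)).toEquiv]
  refine Eq.trans ?_ (h4.symm.trans (by simp))
  refine Finset.sum_congr rfl fun g _ => ?_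
  rw [coeff_tr]
  rfl

theorem emb_mk_ne_zero (hP : IsPGroup p N) {e : F[G]} (he : e * e = e) (h0 : e ≠ 0) :
    emb F (QuotientGroup.mk' N) e ≠ 0 := fun h =>
  h0 (idem_nilpotent_eq_zero he (isNilpotent_of_mem_jacobson (mem_jacobson_of_emb_mk_eq_zero hP h)))

theorem exists_idem_lift (hP : IsPGroup p N) {a : F[G]} (ha : a ∈ Zc F ⊤ ⊤)
    (h : emb F (QuotientGroup.mk' N) a * emb F (QuotientGroup.mk' N) a =
      emb F (QuotientGroup.mk' N) a) :
    ∃ e ∈ Zc F ⊤ ⊤, e * e = e ∧ emb F (QuotientGroup.mk' N) e = emb F (QuotientGroup.mk' N) a := by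
  obtain ⟨n, hn⟩ : IsNilpotent (a * a - a) := isNilpotent_of_mem_jacobson
    (mem_jacobson_of_emb_mk_eq_zero hP (by rw [map_sub, map_mul, h, sub_self]))
  have h1 : (a * a - a) ^ p ^ n = 0 :=
    pow_eq_zero_of_le (Nat.lt_pow_self hp.out.one_lt).le hn
  have : CharP F[G] p := charP_of_injective_algebraMap (R := F) (A := F[G]) (by
    intro c d e
    have := congrArg (fun a : F[G] => a.coeff 1) e
    simpa using this) p
  rw [sub_pow_char_pow_of_commute _ _ ((Commute.refl a).mul_left (Commute.refl a)),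
    (Commute.refl a).mul_pow, sub_eq_zero] at h1
  refine ⟨a ^ p ^ n, pow_mem ha _, h1, ?_⟩
  rw [map_pow]
  exact (IsIdempotentElem.pow_eq h (pow_ne_zero _ hp.out.ne_zero))

omit [CharP F p] in
theorem eq_of_reg_of_mk_eq (hP : IsPGroup p N) {x y : G} (hx : ¬ p ∣ orderOf x)
    (hy : ¬ p ∣ orderOf y) (hc : x ∈ centralizer (N : Set G)) (h : (y : G ⧸ N) = x) : y = x := by
  have h1 : y * x⁻¹ ∈ N := by
    have := hN.conj_mem _ (QuotientGroup.eq.1 h.symm) x
    simpa [mul_assoc] using this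
  have := eq_one_of_mul_reg (p := p) (s := y * x⁻¹) (x := x) (mem_centralizer_iff.1 hc _ h1)
    (exists_orderOf_eq_pow hP h1) hx (by simpa using hy)
  exact mul_inv_eq_one.1 this

omit [CharP F p] in
theorem exists_reg_lift {H : Type*} [Group H] [Finite H] {φ : G →* H} (hφ : Surjective φ) {y : H}
    (hy : ¬ p ∣ orderOf y) : ∃ x, ¬ p ∣ orderOf x ∧ φ x = y := by
  obtain ⟨g, rfl⟩ := hφ y
  obtain ⟨u, h⟩ := exists_isPPart p g
  have h1 : φ u = 1 := isPPart_unique (isPPart_map' φ h) (isPPart_one_iff.2 hy)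
  obtain ⟨s, rfl, -, -, h2⟩ := h
  exact ⟨s, h2, by rw [map_mul, h1, one_mul]⟩

omit [CharP F p] hp [Finite G] in
theorem not_dvd_orderOf_map {H : Type*} [Group H] (φ : G →* H) {x : G} (hx : ¬ p ∣ orderOf x) :
    ¬ p ∣ orderOf (φ x) := fun h => hx (h.trans (orderOf_map_dvd φ x))

theorem exists_lift_of_reg (hP : IsPGroup p N) {f : F[G ⧸ N]} (hf : f ∈ Zc F ⊤ ⊤)
    (hff : f * f = f) (hr : ∀ y, f.coeff y ≠ 0 → ¬ p ∣ orderOf y)
    (hC : ∀ x : G, ¬ p ∣ orderOf x → f.coeff x ≠ 0 → x ∈ centralizer (N : Set G)) :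
    ∃ e ∈ Zc F ⊤ ⊤, e * e = e ∧ emb F (QuotientGroup.mk' N) e = f := by
  set a : F[G] := ofFun fun g => if p ∣ orderOf g then 0 else f.coeff g
  have ha : a ∈ Zc F ⊤ ⊤ := mem_Zc_top.2 (mem_Fix.2 fun n _ x => by
    simp only [a, coeff_ofFun, orderOf_conj', QuotientGroup.mk_mul, QuotientGroup.mk_inv]
    rw [mem_Fix.1 (mem_Zc_top.1 hf) _ trivial])
  have e : emb F (QuotientGroup.mk' N) a = f := ga_ext fun y => by
    by_cases h : f.coeff y = 0
    · rw [h]
      by_contra h0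
      obtain ⟨g, rfl, hg⟩ := exists_of_coeff_emb_ne_zero' _ h0
      simp only [a, coeff_ofFun] at hg
      split_ifs at hg
      · exact hg rfl
      · exact hg h
    · obtain ⟨x, hx, rfl⟩ := exists_reg_lift (QuotientGroup.mk'_surjective N) (hr y h)
      rw [coeff_emb_of_unique]
      · simp only [a, coeff_ofFun, if_neg hx]; rfl
      · intro g e hg
        simp only [a, coeff_ofFun] at hg
        split_ifs at hg with h1
        · exact absurd rfl hg
        · exact eq_of_reg_of_mk_eq hP hx h1 (hC x hx h) e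
  rw [← e] at hff ⊢
  exact exists_idem_lift hP ha hff

theorem IsDef.map_of_Br {H : Type*} [Group H] [Finite H] {φ : G →* H} (hφ : Surjective φ)
    {e : F[G]} (he : e ∈ Fix F ⊤) {P : Subgroup G} (hP : IsDef p ⊤ e P) {f : F[H]}
    (hf : f ∈ Fix F ⊤) (h : f * emb F φ e = f) {Q : Subgroup H} (hQ : IsPGroup p Q)
    (h0 : Br Q f ≠ 0) : ∃ g : G, CfsgH2.cj (φ g) Q ≤ P.map φ := by
  have h1 : Br Q (emb F φ e) ≠ 0 := fun h1 => h0 (by
    rw [← h, Br_mul hQ (Fix_anti le_top hf) (Fix_anti le_top (emb_mem_Fix_top hφ he)), h1,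
      mul_zero])
  obtain ⟨S, hS, rfl, h2⟩ := exists_Br_of_emb hφ he hQ h1
  obtain ⟨g, -, hg⟩ := hP.max S le_top hS h2
  exact ⟨g, by rw [← map_cj]; exact map_mono hg⟩

theorem IsDef.map {H : Type*} [Group H] [Finite H] {φ : G →* H} (hφ : Surjective φ)
    {e : F[G]} (he : e ∈ Fix F ⊤) {P : Subgroup G} (hP : IsDef p ⊤ e P) {f : F[H]}
    (hf : f ∈ Fix F ⊤) (h : f * emb F φ e = f) (h0 : Br (P.map φ) f ≠ 0) :
    IsDef p ⊤ f (P.map φ) :=
  ⟨le_top, hP.pgroup.map φ, h0, fun _ _ hQ h1 =>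
    let ⟨g, hg⟩ := hP.map_of_Br hφ he hf h hQ h1
    ⟨φ g, trivial, hg⟩⟩

end field

variable {M : Ideal AlgInt} [hM : M.IsMaximal] {G : Type*} [Group G] [Finite G] {p : ℕ}
  {N : Subgroup G} [hN : N.Normal] {B : Set (IrrCharacter G)} {b : Set (IrrCharacter (G ⧸ N))}
  {χ ψ : IrrCharacter (G ⧸ N)}

omit hM [Finite G] in
theorem om_infl (χ : IrrCharacter (G ⧸ N)) (a : ℂ[G]) :
    om (infl N χ).1 a = om χ.1 (emb ℂ (QuotientGroup.mk' N) a) := by
  rw [om_apply, om_apply, ev_emb]; rfl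

theorem lam_infl (hB : IsPBlock M B) (hb : IsPBlock M b) (hχ : χ ∈ b) (h : infl N χ ∈ B)
    {a : (Res M)[G]} (ha : a ∈ Zc (Res M) ⊤ ⊤) :
    lam (Res M) (bId M b) (emb (Res M) (QuotientGroup.mk' N) a) = lam (Res M) (bId M B) a := by
  have h1 := liftA_mem_Fix (M := M) (mem_Zc_top.1 ha)
  rw [← redA_liftA a, ← redA_emb _ (liftA_mem_SG a), lam_bId hB h h1 (liftA_mem_SG a),
    lam_bId hb hχ (emb_mem_Fix_top (QuotientGroup.mk'_surjective N) h1)
      (emb_mem_SG _ (liftA_mem_SG a)), om_infl]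

theorem infl_mem_iff (hB : IsPBlock M B) (hb : IsPBlock M b) (hχ : χ ∈ b) :
    infl N χ ∈ B ↔ bId M b * emb (Res M) (QuotientGroup.mk' N) (bId M B) = bId M b := by
  rw [← (isPrim_bId hb).lam_idem_ne_zero_iff (isComm_Z _)
    (emb_mem_Ztop (QuotientGroup.mk'_surjective N) (bId_mem B))
    (by rw [← map_mul, (isPrim_bId hB).idem]),
    lam_infl (isPBlock_blockOf (infl N χ)) hb hχ (mem_blockOf_self _) (bId_mem B)]
  constructor
  · intro h
    rw [← block_eq_blockOf hB h, (isPrim_bId hB).lam_self (isComm_Z _)]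
    exact one_ne_zero
  · intro h
    rw [← bId_injective (isPBlock_blockOf _) hB ((isPrim_bId (isPBlock_blockOf _)).eq_of_lam_ne_zero
      (isComm_Z _) (isPrim_bId hB) h)]
    exact mem_blockOf_self _

theorem infl_mem_of_mem (hB : IsPBlock M B) (hb : IsPBlock M b) (hχ : χ ∈ b) (h : infl N χ ∈ B)
    (hψ : ψ ∈ b) : infl N ψ ∈ B :=
  (infl_mem_iff hB hb hψ).2 ((infl_mem_iff hB hb hχ).1 h)

theorem sameBlock_infl_of (h : SameBlock M χ.1 ψ.1) : SameBlock M (infl N χ).1 (infl N ψ).1 :=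
  infl_mem_of_mem (isPBlock_blockOf _) (isPBlock_blockOf χ) (mem_blockOf_self _)
    (mem_blockOf_self _) h

variable [hp : Fact p.Prime] [CharP (Res M) p]

theorem exists_dom_of_Br (hB : IsPBlock M B) {Q : Subgroup (G ⧸ N)}
    (h : Br Q (emb (Res M) (QuotientGroup.mk' N) (bId M B)) ≠ 0) :
    ∃ b : Set (IrrCharacter (G ⧸ N)), IsPBlock M b ∧ (∀ χ ∈ b, infl N χ ∈ B) ∧
      Br Q (bId M b) ≠ 0 := by
  classical
  rw [idem_eq_sum_prims (isComm_Z _) (emb_mem_Ztop (QuotientGroup.mk'_surjective N) (bId_mem B))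
    (by rw [← map_mul, (isPrim_bId hB).idem]), map_sum] at h
  obtain ⟨f, hf, h0⟩ := Finset.exists_ne_zero_of_sum_ne_zero h
  rw [Finset.mem_filter, mem_prims] at hf
  obtain ⟨b, hb, rfl⟩ := exists_block_of_isPrim hf.1
  exact ⟨b, hb, fun χ hχ => (infl_mem_iff hB hb hχ).2 hf.2, h0⟩

theorem exists_infl_mem (hP : IsPGroup p N) (hB : IsPBlock M B) : ∃ χ, infl N χ ∈ B := by
  obtain ⟨b, hb, h, -⟩ := exists_dom_of_Br hB (Q := ⊥) (N := N) (by
    rw [Br_bot]; exact emb_mk_ne_zero hP (isPrim_bId hB).idem (isPrim_bId hB).ne_zero)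
  obtain ⟨χ, hχ⟩ := block_nonempty hb
  exact ⟨χ, h χ hχ⟩

theorem mem_of_infl_mem (hP : IsPGroup p N) (hB : IsPBlock M B) (hb : IsPBlock M b)
    (hC : ∀ x : G, ¬ p ∣ orderOf x → (bId M b).coeff x ≠ 0 → x ∈ centralizer (N : Set G))
    (hχ : χ ∈ b) (h : infl N χ ∈ B) (hψ : infl N ψ ∈ B) : ψ ∈ b := by
  obtain ⟨e, he, -, h1⟩ := exists_lift_of_reg hP (bId_mem b) (isPrim_bId hb).idem
    (fun y hy => not_dvd_of_coeff_bId hb hy) hC
  have h2 := lam_infl hB hb hχ h he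
  have h3 := lam_infl hB (isPBlock_blockOf ψ) (mem_blockOf_self ψ) hψ he
  rw [← h2, h1, (isPrim_bId hb).lam_self (isComm_Z _)] at h3
  rw [← bId_injective (isPBlock_blockOf _) hb ((isPrim_bId (isPBlock_blockOf _)).eq_of_lam_ne_zero
    (isComm_Z _) (isPrim_bId hb) (by rw [h3]; exact one_ne_zero))]
  exact mem_blockOf_self _

theorem sameBlock_infl_iff (hP : IsPGroup p N)
    (hC : ∀ x : G, ¬ p ∣ orderOf x → (bId M (blockOf M χ.1)).coeff x ≠ 0 →
      x ∈ centralizer (N : Set G)) :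
    SameBlock M χ.1 ψ.1 ↔ SameBlock M (infl N χ).1 (infl N ψ).1 :=
  ⟨sameBlock_infl_of, fun h => mem_of_infl_mem hP (isPBlock_blockOf _) (isPBlock_blockOf χ) hC
    (mem_blockOf_self _) (mem_blockOf_self _) h⟩

theorem exists_le_map_of_dom (hB : IsPBlock M B) (hb : IsPBlock M b) (hχ : χ ∈ b)
    (h : infl N χ ∈ B) {Q : Subgroup (G ⧸ N)} (hQ : IsPGroup p Q) (h0 : Br Q (bId M b) ≠ 0) :
    ∃ P, IsDef p ⊤ (bId M B) P ∧ Q ≤ P.map (QuotientGroup.mk' N) := by
  obtain ⟨P, hP⟩ := (isPrim_bId hB).exists_isDef p le_rfl le_normalizer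
  have he := mem_Zc_top.1 (bId_mem (M := M) B)
  obtain ⟨g, hg⟩ := hP.map_of_Br (QuotientGroup.mk'_surjective N) he (mem_Zc_top.1 (bId_mem b))
    ((infl_mem_iff hB hb hχ).1 h) hQ h0
  refine ⟨cj g⁻¹ P, hP.cj he trivial, ?_⟩
  rw [map_cj, map_inv]
  exact cj_le_iff_le_cj_inv.1 hg

theorem Br_map_ne_zero (hP : IsPGroup p N) {e : (Res M)[G]} (he : e ∈ Zc (Res M) ⊤ ⊤)
    (hee : e * e = e) {P : Subgroup G} (h : Br P e ≠ 0) :
    Br (P.map (QuotientGroup.mk' N)) (emb (Res M) (QuotientGroup.mk' N) e) ≠ 0 := by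
  obtain ⟨x, h1, h2⟩ := Br_ne_zero_iff.1 h
  refine Br_ne_zero_iff.2 ⟨QuotientGroup.mk' N x, ?_, ?_⟩
  · rwa [coeff_emb_of_unique]
    intro g e hg
    exact eq_of_reg_of_mk_eq hP (not_dvd_of_coeff_idem he hee h1) (not_dvd_of_coeff_idem he hee hg)
      (mem_of_coeff_ne_zero (mem_Supp_centralizer_of_idem le_top (normalizer_eq_top N).ge hP he hee) h1) e
  · rintro _ ⟨u, hu, rfl⟩
    rw [mem_centralizer_singleton_iff, ← map_mul, ← map_mul,
      mem_centralizer_singleton_iff.1 (h2 hu)]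

theorem isDef_map_of_dom (hB : IsPBlock M B) (hb : IsPBlock M b) (hχ : χ ∈ b) (h : infl N χ ∈ B)
    {P : Subgroup G} (hP : IsDef p ⊤ (bId M B) P)
    (h0 : Br (P.map (QuotientGroup.mk' N)) (bId M b) ≠ 0) :
    IsDef p ⊤ (bId M b) (P.map (QuotientGroup.mk' N)) :=
  hP.map (QuotientGroup.mk'_surjective N) (mem_Zc_top.1 (bId_mem B)) (mem_Zc_top.1 (bId_mem b))
    ((infl_mem_iff hB hb hχ).1 h) h0

theorem exists_dom_isDef (hP : IsPGroup p N) (hB : IsPBlock M B) {P : Subgroup G}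
    (hD : IsDef p ⊤ (bId M B) P) : ∃ b : Set (IrrCharacter (G ⧸ N)), IsPBlock M b ∧
      (∀ χ ∈ b, infl N χ ∈ B) ∧ IsDef p ⊤ (bId M b) (P.map (QuotientGroup.mk' N)) := by
  obtain ⟨b, hb, h1, h2⟩ := exists_dom_of_Br hB
    (Br_map_ne_zero hP (bId_mem B) (isPrim_bId hB).idem hD.ne_zero)
  obtain ⟨χ, hχ⟩ := block_nonempty hb
  exact ⟨b, hb, h1, isDef_map_of_dom hB hb hχ (h1 χ hχ) hD h2⟩

section reg
omit hM [CharP (Res M) p] hN

theorem isGen_reg_part {θ : G → ℂ} (hθ : IsGeneralizedCharacter G θ) :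
    ∃ η, IsGeneralizedCharacter G η ∧ ∀ g x, IsPPart p g x → η g = θ (x⁻¹ * g) := by
  obtain ⟨k, -, hk⟩ := exists_ppart_exp G (p := p) hp.out.not_dvd_one
  refine ⟨fun g => θ ((g ^ k)⁻¹ * g), isGen_of_nilpotent (fun g n => ?_) fun E hE => ?_,
    fun g x h => by simp only [hk g x h]⟩
  · rw [conj_pow, ← hθ.classFun ((g ^ k)⁻¹ * g) n]
    congr 1; group
  · obtain ⟨φ, ψ, h⟩ := exists_parts_of_nilpotent p E
    convert hθ.comp (E.subtype.comp ψ) using 2 with e
    have h1 : IsPPart p (e : G) (φ e) :=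
      isPPart_map' E.subtype ⟨ψ e, (h e).1, (h e).2.2.2 e, (h e).2.1, (h e).2.2.1⟩
    rw [hk _ _ h1]
    congr 1
    rw [inv_mul_eq_iff_eq_mul]
    exact (congrArg Subtype.val (h e).1).symm

omit hp [Finite G] in
theorem regPart_mul_apply (a b : G → ℂ) (x : G) :
    regPart p a x * b x⁻¹ = regPart p (fun y => a y * b y⁻¹) x := by
  simp only [regPart]; split_ifs <;> simp

theorem reg_of_isPPart {g x : G} (h : IsPPart p g x) : ¬ p ∣ orderOf (x⁻¹ * g) := by
  obtain ⟨y, rfl, -, -, h⟩ := h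
  simpa using h

include hN in
theorem isGen_of_comp_mk {θ : G ⧸ N → ℂ} (h : IsGeneralizedCharacter G fun g => θ g) :
    IsGeneralizedCharacter (G ⧸ N) θ := by
  have := Fintype.ofFinite G
  have := Fintype.ofFinite (G ⧸ N)
  refine isGen_of_inner_int (fun a b => ?_) fun χ hχ => ?_
  · obtain ⟨a, rfl⟩ := QuotientGroup.mk_surjective a
    obtain ⟨b, rfl⟩ := QuotientGroup.mk_surjective b
    exact h.classFun a b
  · rw [← inner_comp_surjective _ (QuotientGroup.mk'_surjective N)]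
    exact h.inner_int hχ.inflate.isGen

include hN in
omit hp in
theorem bp_infl (B : Set (IrrCharacter G)) {θ : G ⧸ N → ℂ} (hθ : IsClassFunction _ θ) :
    blockPart B (fun g : G => θ g) = fun g : G => blockPart (infl N ⁻¹' B) θ g := by
  have := Fintype.ofFinite (G ⧸ N)
  have e : (fun g : G => θ g) = ∑ χ : IrrCharacter (G ⧸ N), classInner θ χ.1 • (infl N χ).1 := by
    funext g
    conv_lhs => rw [← bp_univ hθ, blockPart_apply]
    simp [irrF]
  classical
  rw [e, bp_sum]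
  funext g
  rw [blockPart_apply, Finset.sum_apply, ← Finset.sum_subset (Finset.subset_univ (irrF _))]
  · refine Finset.sum_congr rfl fun χ hχ => ?_
    rw [bp_smul, bp_irr_of_mem (B := B) (χ := infl N χ) (mem_irrF.1 hχ :)]
    rfl
  · intro χ _ hχ
    rw [bp_smul, bp_irr_of_notMem (B := B) (by simpa using hχ)]
    simp

variable (hP : IsPGroup p N) (hC : ∀ x : G, ¬ p ∣ orderOf x → x ∈ centralizer (N : Set G))
include hP hC hN

theorem exists_descend_p {θ : G → ℂ} (hθ : IsGeneralizedCharacter G θ) :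
    ∃ η : G ⧸ N → ℂ, IsGeneralizedCharacter _ η ∧ ∀ g : G, ¬ p ∣ orderOf g → η g = θ g := by
  obtain ⟨η, h1, h2⟩ := isGen_reg_part (p := p) hθ
  have h3 : ∀ a b : G, (QuotientGroup.leftRel N) a b → η a = η b := fun a b h => by
    obtain ⟨x, hx⟩ := exists_isPPart p a
    obtain ⟨y, hy⟩ := exists_isPPart p b
    have e : (a : G ⧸ N) = b := Quotient.sound h
    have h4 := isPPart_map' (QuotientGroup.mk' N) hx
    have h5 := isPPart_map' (QuotientGroup.mk' N) hy
    simp only [QuotientGroup.mk'_apply] at h4 h5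
    rw [h2 a x hx, h2 b y hy, eq_of_reg_of_mk_eq hP (reg_of_isPPart hx) (reg_of_isPPart hy)
      (hC _ (reg_of_isPPart hx))]
    simp only [QuotientGroup.mk_mul, QuotientGroup.mk_inv]
    rw [isPPart_unique h4 (e ▸ h5), e]
  refine ⟨Quotient.lift η h3, isGen_of_comp_mk h1, fun g hg => ?_⟩
  exact (h2 g 1 (isPPart_one_iff.2 hg)).trans (by simp)

theorem sum_reg_mk [Fintype G] [Fintype (G ⧸ N)] (F : G ⧸ N → ℂ) :
    ∑ g : G, regPart p (fun g : G => F g) g = ∑ y, regPart p F y := by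
  classical
  simp only [regPart]
  simp_rw [← ite_not (p ∣ _), ← Finset.sum_filter]
  refine Finset.sum_bij (fun g _ => (g : G ⧸ N)) (fun g hg => ?_) (fun a ha b hb h => ?_)
    (fun y hy => ?_) fun _ _ => rfl
  · simpa using not_dvd_orderOf_map (QuotientGroup.mk' N) (Finset.mem_filter.1 hg).2
  · exact eq_of_reg_of_mk_eq hP (Finset.mem_filter.1 hb).2 (Finset.mem_filter.1 ha).2
      (hC _ (Finset.mem_filter.1 hb).2) h
  · obtain ⟨x, hx, e⟩ := exists_reg_lift (QuotientGroup.mk'_surjective N)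
      (Finset.mem_filter.1 hy).2
    exact ⟨x, by simpa using hx, e⟩

theorem mR_comp_mk_p (θ η : G ⧸ N → ℂ) :
    Nat.card N * mR p (fun g : G => θ g) (fun g : G => η g) = mR p θ η := by
  have := Fintype.ofFinite G
  have := Fintype.ofFinite (G ⧸ N)
  have e := sum_reg_mk hP hC fun y => θ y * η y⁻¹
  rw [mR_eq_sum, mR_eq_sum, card_eq_card_quotient_mul_card_subgroup N]
  simp only [regPart_mul_apply]
  rw [← e]
  have : (Nat.card N : ℂ) ≠ 0 := Nat.cast_ne_zero.2 Nat.card_pos.ne'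
  push_cast
  rw [mul_inv, mul_comm _ (Nat.card N : ℂ)⁻¹, mul_assoc, mul_inv_cancel_left₀ this]
  exact congrArg _ (Finset.sum_congr rfl fun g _ => regPart_mul_apply _ (fun g : G => η g) g)

omit hP hC in
theorem regPart_comp_mk_p (θ : G ⧸ N → ℂ) :
    regPart p (fun g : G => regPart p θ g) = regPart p fun g : G => θ g :=
  regPart_congr fun _ hg =>
    regPart_of_not_dvd _ (not_dvd_orderOf_map (QuotientGroup.mk' N) hg)

omit hP hC in
theorem eq_zero_of_regPart_comp_mk_p {θ : G ⧸ N → ℂ} (h : regPart p (fun g : G => θ g) = 0) :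
    regPart p θ = 0 := by
  funext y
  by_cases hy : p ∣ orderOf y
  · exact regPart_of_dvd _ hy
  · obtain ⟨x, hx, rfl⟩ := exists_reg_lift (QuotientGroup.mk'_surjective N) hy
    rw [regPart_of_not_dvd _ hy]
    exact (regPart_of_not_dvd _ hx).symm.trans (congrFun h x)

end reg

omit hN [CharP (Res M) p] hM hp in
theorem regPart_bp_mem_span (B : Set (IrrCharacter G)) (θ : G → ℂ) : regPart p (blockPart B θ) ∈
    Submodule.span ℂ ((fun χ : IrrCharacter G => regPart p χ.1) '' B) := by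
  have := Fintype.ofFinite G
  rw [blockPart_eq_sum, regPart_sum]
  refine Submodule.sum_mem _ fun χ hχ => ?_
  rw [regPart_smul]
  exact Submodule.smul_mem _ _ (Submodule.subset_span ⟨χ, mem_irrF.1 hχ, rfl⟩)

section dom
variable (hP : IsPGroup p N) (hC : ∀ x : G, ¬ p ∣ orderOf x → x ∈ centralizer (N : Set G))
  (hB : IsPBlock M B)
include hP hC hB

theorem isPBlock_dom : IsPBlock M (infl N ⁻¹' B) := by
  obtain ⟨χ, hχ⟩ := exists_infl_mem hP hB
  refine ⟨χ, Set.ext fun ψ => ⟨fun h => ?_, fun h => ?_⟩⟩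
  · exact mem_of_infl_mem hP hB (isPBlock_blockOf χ) (fun x hx _ => hC x hx)
      (mem_blockOf_self χ) hχ h
  · exact infl_mem_of_mem hB (isPBlock_blockOf χ) (mem_blockOf_self χ) hχ h

theorem isDef_dom {P : Subgroup G} (hD : IsDef p ⊤ (bId M B) P) :
    IsDef p ⊤ (bId M (infl N ⁻¹' B)) (P.map (QuotientGroup.mk' N)) := by
  obtain ⟨b, hb, h1, h2⟩ := exists_dom_isDef hP hB hD
  obtain ⟨χ, hχ⟩ := block_nonempty hb
  rwa [← block_eq_of_mem hb (isPBlock_dom hP hC hB) hχ (h1 χ hχ)]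

theorem pow_defect_dom :
    p ^ blockDefect p B = Nat.card N * p ^ blockDefect p (infl N ⁻¹' B) := by
  obtain ⟨P, hD⟩ := (isPrim_bId hB).exists_isDef p le_rfl le_normalizer
  have h1 : N ≤ P := hD.le_of_normal le_top (normalizer_eq_top N).ge hP (bId_mem B)
    (isPrim_bId hB).idem
  rw [← card_isDef hB hD, ← card_isDef (isPBlock_dom hP hC hB) (isDef_dom hP hC hB hD),
    ← card_mul_relIndex h1, ← relIndex_ker, QuotientGroup.ker_mk']

theorem exists_bp_descend {θ : G → ℂ} (hθ : IsGeneralizedCharacter G θ) :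
    ∃ η : G ⧸ N → ℂ, IsGeneralizedCharacter _ η ∧ regPart p (blockPart B θ) =
      regPart p fun g : G => regPart p (blockPart (infl N ⁻¹' B) η) g := by
  obtain ⟨η, h1, h2⟩ := exists_descend_p hP hC hθ
  refine ⟨η, h1, ?_⟩
  rw [regPart_comp_mk_p, ← bp_infl B h1.classFun, ← bp_regPart (eSet_mem_SG hB),
    ← bp_regPart (eSet_mem_SG hB), regPart_congr h2]

theorem blockRank_dom : blockRank p B = blockRank p (infl N ⁻¹' B) := by
  set L : (G ⧸ N → ℂ) →ₗ[ℂ] (G → ℂ) := regL p ∘ₗ LinearMap.funLeft ℂ ℂ QuotientGroup.mk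
  have hL : ∀ θ, L θ = regPart p fun g : G => θ g := fun _ => rfl
  set S := Submodule.span ℂ ((fun χ : IrrCharacter (G ⧸ N) => regPart p χ.1) '' (infl N ⁻¹' B))
  have h1 : Submodule.span ℂ ((fun χ : IrrCharacter G => regPart p χ.1) '' B) = S.map L := by
    refine le_antisymm (Submodule.span_le.2 ?_) ?_
    · rintro _ ⟨χ, hχ, rfl⟩
      obtain ⟨η, -, h⟩ := exists_bp_descend hP hC hB χ.2.isGen
      rw [bp_irr_of_mem hχ] at h
      exact ⟨_, regPart_bp_mem_span _ η, h.symm⟩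
    · rw [Submodule.map_span, Submodule.span_le]
      rintro _ ⟨_, ⟨χ, hχ, rfl⟩, rfl⟩
      exact Submodule.subset_span ⟨infl N χ, hχ, (regPart_comp_mk_p χ.1).symm⟩
  have h2 : Injective (L.domRestrict S) := by
    rw [← LinearMap.ker_eq_bot, eq_bot_iff]
    rintro ⟨v, hv⟩ h
    have h3 : regPart p v = v := by
      refine Submodule.span_induction (p := fun v _ => regL p v = v) ?_ (map_zero _)
        (fun a b _ _ h h' => by rw [map_add, h, h']) (fun c a _ h => by rw [map_smul, h]) hv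
      rintro _ ⟨χ, -, rfl⟩
      exact regPart_regPart _
    exact Subtype.ext (h3.symm.trans (eq_zero_of_regPart_comp_mk_p h))
  rw [blockRank_eq, blockRank_eq, h1, ← LinearMap.range_domRestrict,
    LinearMap.finrank_range_of_inj h2]

theorem Bq_dom (v w : G ⧸ N → ℂ) : Bq p B (regPart p fun g : G => v g) (regPart p fun g : G => w g)
    = Bq p (infl N ⁻¹' B) v w := by
  rw [Bq_reg, Bq_apply, Bq_apply, ← mR_comp_mk_p hP hC, ← mul_assoc, mul_comm _ (Nat.card N : ℂ)]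
  congr 1
  exact_mod_cast pow_defect_dom hP hC hB

theorem Lat_dom {v : G → ℂ} (hv : v ∈ Lat p B) :
    ∃ w ∈ Lat p (infl N ⁻¹' B), v = regPart p fun g : G => w g := by
  obtain ⟨θ, h1, h2, rfl⟩ := hv
  obtain ⟨η, h3, h4⟩ := exists_bp_descend hP hC hB h1
  rw [h2] at h4
  have := Fintype.ofFinite (G ⧸ N)
  refine ⟨_, ⟨blockPart _ η, isGen_of_inner_int (blockPart_classFun _ _) fun χ hχ => ?_,
    bp_bp_self _, rfl⟩, h4⟩
  have := inner_blockPart (infl N ⁻¹' B) η ⟨χ, hχ⟩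
  split_ifs at this
  · exact this ▸ h3.inner_int hχ.isGen
  · exact ⟨0, by simpa using this⟩

theorem Lat_min_dom {c : ℝ}
    (h : ∀ w ∈ Lat p (infl N ⁻¹' B), w ≠ 0 → c ≤ (Bq p (infl N ⁻¹' B) w w).re) :
    ∀ v ∈ Lat p B, v ≠ 0 → c ≤ (Bq p B v v).re := fun v hv h0 => by
  obtain ⟨w, hw, rfl⟩ := Lat_dom hP hC hB hv
  rw [Bq_dom hP hC hB]
  exact h w hw fun e => h0 (by rw [e]; exact (regL p).map_zero)

end dom

end CfsgH4
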