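import Cfsg.Agent.H4.Hat
import Cfsg.Agent.H2.Homo

/-! Brauer: groups with homocyclic Sylow 2-subgroups of rank two and exponent at least 4. -/

set_option autoImplicit false

open Subgroup Function Cfsg CfsgH3 CfsgH2

namespace CfsgH4

variable {G : Type*} [Group G] [Finite G] {P V : Subgroup G}

theorem brauer_homocyclic (h : AK P V) (hS : IsSylowIn 2 P ⊤) (hP : 13 < Nat.card P) :
    HasNormalPComplement 2 G ∨ ∃ a : G → ℂ, IsIrrCharacter G a ∧ a ≠ (fun _ => 1) ∧ a 1 = 1 ∧
      ∃ t, orderOf t = 2 ∧ a t = 1 := by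
  let _ := Fintype.ofFinite G
  rcases h.syl_index hS with e | e
  · exact Or.inl (hasNPC_top_iff.1 (burnside_hasNPC hS (inf_le_right.trans (relIndex_eq_one.1 e))))
  right
  obtain ⟨ω, hω⟩ := exists_C3 hS h.ab e fun z hz h1 => (h.syl_fpf hS hz h1).le
  have H : FrL 2 P 3 := ⟨hS, h.ab, fun u hu => burnside_hasNPC
    (hS.mono (h.ab.trans (centralizer_le (by simp))) le_top)
    (h.syl_fpf hS u.2 (by simpa using hu)).le, hω.cnt⟩
  have hc : ∀ a b : P, a * b = b * a := fun a b => Subtype.ext (h.ab b.2 a a.2)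
  have : (V.subgroupOf P).Normal := ⟨fun a ha b => by rwa [hc b, mul_inv_cancel_right]⟩
  obtain ⟨t, htV, -, -, ht1, -, -⟩ := exists_pair_of_kleinFour h.kl
  have ht := orderOf_two_of ((isKleinFour_iff.1 h.kl).2 t htV) ht1
  have h1 := (V.subgroupOf P).card_mul_index
  rw [CfsgH1.card_subgroupOf_of_le h.le, (isKleinFour_iff.1 h.kl).1] at h1
  have h2 := card_irr_comm (A := P ⧸ V.subgroupOf P) fun a b => by
    obtain ⟨a, rfl⟩ := QuotientGroup.mk_surjective a
    obtain ⟨b, rfl⟩ := QuotientGroup.mk_surjective b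
    rw [← QuotientGroup.mk_mul, hc, QuotientGroup.mk_mul]
  have : Nontrivial (IrrCharacter (P ⧸ V.subgroupOf P)) :=
    Fintype.one_lt_card_iff_nontrivial.1 (by rw [h2, ← index_eq_card]; omega)
  obtain ⟨ψ, hψ⟩ := exists_ne (⟨_, isIrr_one⟩ : IrrCharacter (P ⧸ V.subgroupOf P))
  obtain ⟨a, h3, h4, h5, h6⟩ := H.exists_linear hω hP (t := ⟨t, h.le htV⟩)
    (by rwa [← Subgroup.orderOf_coe])
    ⟨_, ψ.2.comp_surjective (QuotientGroup.mk' _) (QuotientGroup.mk'_surjective _)⟩
    (fun e => hψ (Subtype.ext (funext fun x => by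
      obtain ⟨x, rfl⟩ := QuotientGroup.mk_surjective x
      exact congrFun e x))) fun u hu => by
        have : (QuotientGroup.mk' (V.subgroupOf P)) u = 1 := (QuotientGroup.eq_one_iff u).2
          ((h.mem u).2 ⟨u.2, by exact_mod_cast hu⟩)
        simp only [this]
        refine ψ.2.deg_one_of_comm fun a b => ?_
        obtain ⟨a, rfl⟩ := QuotientGroup.mk_surjective a
        obtain ⟨b, rfl⟩ := QuotientGroup.mk_surjective b
        rw [← QuotientGroup.mk_mul, hc, QuotientGroup.mk_mul]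
  exact ⟨a, h3, h4, h5, t, ht, h6⟩

theorem not_simple_homocyclic [IsSimpleGroup G] (h : AK P V) (hS : IsSylowIn 2 P ⊤)
    (hP : 13 < Nat.card P) : IsMulCommutative G := by
  rcases brauer_homocyclic h hS hP with ⟨Q, N, hN, h1⟩ | ⟨a, h1, h2, h3, t, h4, h5⟩
  · obtain ⟨g, -, e⟩ := hS.exists_cj_eq (IsSylowIn.of_sylow_top Q)
    rw [← e] at h1
    rcases hN.eq_bot_or_eq_top with rfl | rfl
    · have h2 : P = ⊤ := by
        rw [← card_eq_iff_eq_top, ← card_cj g, ← h1.card_mul_card]; simp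
      exact ⟨⟨fun a b => h.ab (h2 ▸ mem_top b) a (h2 ▸ mem_top a)⟩⟩
    · have h2 := h1.card_mul_card
      rw [card_top, card_cj] at h2
      have := Nat.card_pos (α := G)
      nlinarith
  · exfalso
    rcases (inferInstance : h1.isChar.ker.Normal).eq_bot_or_eq_top with e | e
    · have : t ∈ h1.isChar.ker := (CfsgH3.Cfsg.IsCharacter.mem_ker _).2 (h5.trans h3.symm)
      rw [e, mem_bot] at this
      exact ne_one_of_orderOf_two h4 this
    · exact h2 (funext fun g => ((CfsgH3.Cfsg.IsCharacter.mem_ker _).1 (e ▸ mem_top g)).trans h3)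

end CfsgH4
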