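import Cfsg.Agent.H4.Ord4
import Cfsg.Agent.H4.Ext2
import Cfsg.Agent.H4.Pairs3
import Cfsg.Agent.H2.Meta

/-! Knörr's abelian vector theorem for the k(GV) problem. -/

set_option autoImplicit false
open Cfsg CfsgH3 Function Subgroup
open scoped ComplexConjugate

namespace CfsgH4
universe u

section form
variable {J : Type*} [Fintype J] {L : Set (J → ℂ)} {c : ℝ}

/-- lower bound for the weighted norm of functions with Fourier coefficients in `L` -/
def KGood (L : Set (J → ℂ)) (c : ℝ) (A : Type u) [Group A] [Fintype A] (δ : A → ℝ) : Prop :=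
  (∀ a, 0 ≤ δ a) ∧ ∀ x : J → A → ℂ, x ≠ 0 →
    (∀ l, IsIrrCharacter A l → (fun j => classInner (x j) l) ∈ L) →
    c * (Nat.card A : ℝ) ^ 2 ≤ ∑ a, δ a * ∑ j, ‖x j a‖ ^ 2

theorem KGood.unit (hL : ∀ a ∈ L, a ≠ 0 → c ≤ ∑ j, ‖a j‖ ^ 2) : KGood L c PUnit.{u + 1} fun _ => 1 := by
  refine ⟨fun _ => zero_le_one, fun x hx h => ?_⟩
  have h1 : (fun j => classInner (x j) fun _ => 1) = fun j => x j default := by
    funext j; simp [classInner]
  have := hL _ (h1 ▸ h _ isIrr_one) fun e => hx (funext fun j => funext fun a => congrFun e j)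
  simpa using this

theorem KGood.comap {A B : Type u} [Group A] [Fintype A] [Group B] [Fintype B] {δ : B → ℝ}
    (hB : ∀ a b : B, a * b = b * a) (h : KGood L c B δ) (f : A →* B) (hf : Injective f) :
    KGood L c A fun a => δ (f a) := by
  refine ⟨fun a => h.1 _, fun x hx hL => ?_⟩
  have hA := card_ne_zero_complex A
  have hB' := card_ne_zero_complex B
  have hA' : (0 : ℝ) < Nat.card A := by exact_mod_cast Nat.card_pos
  have hB'' : (0 : ℝ) < Nat.card B := by exact_mod_cast Nat.card_pos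
  let y : J → B → ℂ := fun j b => (Nat.card B : ℂ) / Nat.card A * extend f (x j) 0 b
  have hy : ∀ j a, y j (f a) = (Nat.card B : ℂ) / Nat.card A * x j a := fun j a => by
    simp only [y, hf.extend_apply]
  have hy0 : ∀ j b, b ∉ Set.range f → y j b = 0 := fun j b hb => by
    simp only [y]; rw [extend_apply' _ _ _ hb]; simp
  have h1 := h.2 y (fun e => hx (funext fun j => funext fun a => by
    have := hy j a
    rw [e] at this
    simpa [hA, hB'] using this.symm)) fun l hl => by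
      have h2 := hL _ ((hl.isChar.comp f).isIrr_of_deg_one (by rw [map_one]; exact hl.deg_one_of_comm hB))
      convert h2 using 2 with j
      unfold classInner
      rw [← Fintype.sum_of_injective f hf (fun a => y j (f a) * conj (l (f a))) _
        (fun b hb => by rw [hy0 j b hb, zero_mul]) fun _ => rfl]
      simp only [hy, mul_assoc, ← Finset.mul_sum]
      field_simp
  rw [← Fintype.sum_of_injective f hf (fun a => δ (f a) * ∑ j, ‖y j (f a)‖ ^ 2) _
    (fun b hb => by simp [hy0 _ b hb]) fun _ => rfl] at h1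
  simp only [hy, norm_mul, mul_pow, norm_div, Complex.norm_natCast, ← Finset.mul_sum,
    mul_left_comm _ (((Nat.card B : ℝ) / Nat.card A) ^ 2)] at h1
  rw [div_pow, div_mul_eq_mul_div, le_div_iff₀ (by positivity)] at h1
  refine le_of_mul_le_mul_left ?_ (pow_pos hB'' 2)
  linarith

theorem ip_ip {A B : Type*} [Group A] [Fintype A] [Group B] [Fintype B] (x : A × B → ℂ) (l : A → ℂ)
    (m : B → ℂ) : classInner (fun b => classInner (fun a => x (a, b)) l) m =
      classInner x fun g => l g.1 * m g.2 := by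
  unfold classInner
  rw [Fintype.sum_prod_type, Finset.sum_comm, Nat.card_prod]
  simp only [Finset.mul_sum, Finset.sum_mul, map_mul, Nat.cast_mul, mul_inv]
  exact Finset.sum_congr rfl fun _ _ => Finset.sum_congr rfl fun _ _ => by ring

theorem isIrr_prod_lin {A B : Type*} [Group A] [Finite A] [Group B] [Finite B] {l : A → ℂ} {m : B → ℂ}
    (hl : IsIrrCharacter A l) (h1 : l 1 = 1) (hm : IsIrrCharacter B m) :
    IsIrrCharacter (A × B) fun g => l g.1 * m g.2 := by
  obtain ⟨l', rfl⟩ := hl.isChar.exists_hom_of_deg_one h1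
  simpa [mul_comm] using (hm.comp_surjective (MonoidHom.snd A B) Prod.snd_surjective).mul_linear
    (l'.comp (MonoidHom.fst A B))

theorem parseval_cf {A : Type*} [Group A] [Fintype A] {f : A → ℂ} (hf : IsClassFunction A f) :
    ∑ a, ‖f a‖ ^ 2 = Nat.card A * ∑ l : IrrCharacter A, ‖classInner f l.1‖ ^ 2 := by
  rw [sum_normSq_eq, hf.inner_eq_sum, Complex.re_sum]
  congr 1
  refine Finset.sum_congr rfl fun l _ => ?_
  rw [← inner_conj_symm f, Complex.mul_conj, Complex.ofReal_re, Complex.normSq_eq_norm_sq]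

open Classical in
theorem KGood.prod {A B : Type u} [Group A] [Fintype A] [Group B] [Fintype B] {δ : B → ℝ}
    (hA : ∀ a b : A, a * b = b * a) (hc : 0 ≤ c) (h : KGood L c B δ) {q : ℝ} (hq : Nat.card A + 1 ≤ q) :
    KGood L c (A × B) fun g => (if g.1 = 1 then 1 else q) * δ g.2 := by
  have hn : (0 : ℝ) < Nat.card A := by exact_mod_cast Nat.card_pos
  refine ⟨fun g => mul_nonneg (by split_ifs <;> linarith) (h.1 _), fun x hx hL => ?_⟩
  have cf : ∀ f : A → ℂ, IsClassFunction A f := fun f g k => by rw [hA k, mul_inv_cancel_right]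
  let y : IrrCharacter A → J → B → ℂ := fun l j b => classInner (fun a => x j (a, b)) l.1
  let S : Finset (IrrCharacter A) := Finset.univ.filter fun l => y l ≠ 0
  have hS : ∀ l ∉ S, ∀ j b, y l j b = 0 := fun l hl j b => by
    have : y l = 0 := by simpa [S] using hl
    rw [this]; rfl
  have s1 : (1 : ℝ) ≤ S.card := by
    rw [Nat.one_le_cast, Finset.one_le_card]
    by_contra h0
    refine hx (funext fun j => funext fun g => ?_)
    refine ((cf fun a => x j (a, g.2)).apply_eq_sum g.1).trans ?_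
    exact Finset.sum_eq_zero fun l _ => mul_eq_zero_of_left (hS l (fun e => h0 ⟨l, e⟩) j g.2) _
  have s2 : (S.card : ℝ) ≤ Nat.card A := by
    rw [Nat.cast_le, ← sum_deg_sq]
    exact (Finset.card_le_univ _).trans (by
      rw [← Finset.card_univ, Finset.card_eq_sum_ones]
      exact Finset.sum_le_sum fun l _ => Nat.one_le_pow _ _ (deg_pos l))
  have t1 : S.card * (c * (Nat.card B : ℝ) ^ 2) ≤ ∑ l ∈ S, ∑ b, δ b * ∑ j, ‖y l j b‖ ^ 2 := by
    rw [← nsmul_eq_mul]
    refine Finset.card_nsmul_le_sum _ _ _ fun l hl => h.2 _ (Finset.mem_filter.1 hl).2 fun m hm => ?_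
    simp only [y, ip_ip]
    exact hL _ (isIrr_prod_lin l.2 (l.2.deg_one_of_comm hA) hm)
  have t2 : ∀ j b, (q * Nat.card A - (q - 1) * S.card) * ∑ l ∈ S, ‖y l j b‖ ^ 2 ≤
      ∑ a, (if a = 1 then 1 else q) * ‖x j (a, b)‖ ^ 2 := fun j b => by
    have e1 : ∑ a, ‖x j (a, b)‖ ^ 2 = Nat.card A * ∑ l ∈ S, ‖y l j b‖ ^ 2 := by
      rw [parseval_cf (cf fun a => x j (a, b))]
      congr 1
      exact (Finset.sum_subset (Finset.subset_univ S) fun l _ hl => by
        rw [show classInner _ _ = 0 from hS l hl j b]; simp).symm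
    have e2 : x j (1, b) = ∑ l ∈ S, y l j b := by
      refine ((cf fun a => x j (a, b)).apply_eq_sum 1).trans ?_
      rw [Finset.sum_subset (Finset.subset_univ S) fun l _ hl => hS l hl j b]
      exact Finset.sum_congr rfl fun l _ => by rw [l.2.deg_one_of_comm hA, mul_one]
    have e3 : ‖x j (1, b)‖ ^ 2 ≤ S.card * ∑ l ∈ S, ‖y l j b‖ ^ 2 := by
      rw [e2]
      exact (pow_le_pow_left₀ (norm_nonneg _) (norm_sum_le _ _) 2).trans sq_sum_le_card_mul_sum_sq
    have e4 : ∑ a, (if a = 1 then 1 else q) * ‖x j (a, b)‖ ^ 2 =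
        q * ∑ a, ‖x j (a, b)‖ ^ 2 - (q - 1) * ‖x j (1, b)‖ ^ 2 := by
      have : ∀ a, (if a = 1 then 1 else q) * ‖x j (a, b)‖ ^ 2 =
          q * ‖x j (a, b)‖ ^ 2 - if a = 1 then (q - 1) * ‖x j (a, b)‖ ^ 2 else 0 := fun a => by
        split_ifs <;> ring
      simp only [this, Finset.sum_sub_distrib, Finset.sum_ite_eq', Finset.mem_univ, if_true,
        Finset.mul_sum]
    rw [e4, e1]
    nlinarith [mul_le_mul_of_nonneg_left e3 (show 0 ≤ q - 1 by linarith)]
  have t3 : (q * Nat.card A - (q - 1) * S.card) * ∑ l ∈ S, ∑ b, δ b * ∑ j, ‖y l j b‖ ^ 2 ≤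
      ∑ g : A × B, (if g.1 = 1 then 1 else q) * δ g.2 * ∑ j, ‖x j g‖ ^ 2 := by
    rw [Fintype.sum_prod_type_right, Finset.sum_comm, Finset.mul_sum]
    refine Finset.sum_le_sum fun b _ => ?_
    calc _ = δ b * ∑ j, (q * Nat.card A - (q - 1) * S.card) * ∑ l ∈ S, ‖y l j b‖ ^ 2 := by
          rw [← Finset.mul_sum, ← Finset.mul_sum, Finset.sum_comm]; ring
      _ ≤ δ b * ∑ j, ∑ a, (if a = 1 then 1 else q) * ‖x j (a, b)‖ ^ 2 :=
          mul_le_mul_of_nonneg_left (Finset.sum_le_sum fun j _ => t2 j b) (h.1 b)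
      _ = _ := by
          rw [Finset.sum_comm, Finset.mul_sum]
          exact Finset.sum_congr rfl fun a _ => by rw [← Finset.mul_sum]; ring
  refine le_trans ?_ t3
  have t4 : 0 ≤ q * Nat.card A - (q - 1) * S.card := by nlinarith
  refine le_trans ?_ (mul_le_mul_of_nonneg_left t1 t4)
  have t5 : (Nat.card A : ℝ) ^ 2 ≤ (q * Nat.card A - (q - 1) * S.card) * S.card := by
    nlinarith [mul_nonneg (sub_nonneg.2 s2) (show 0 ≤ (q - 1) * S.card - Nat.card A by nlinarith)]
  rw [Nat.card_prod, Nat.cast_mul, mul_pow, ← mul_assoc]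
  nlinarith [mul_le_mul_of_nonneg_right t5 (mul_nonneg hc (sq_nonneg (Nat.card B : ℝ)))]

end form

theorem card_le_mul_of_forall {G : Type*} [Group G] [Finite G] {A B C : Subgroup G}
    (h : ∀ c ∈ C, ∃ a ∈ A, ∃ b ∈ B, c = a * b) : Nat.card C ≤ Nat.card A * Nat.card B := by
  rw [← Nat.card_prod]
  refine le_trans (Nat.card_mono (Set.toFinite _) (t := Set.range fun x : A × B => (x.1 : G) * x.2)
    fun c hc => ?_) (Finite.card_range_le _)
  obtain ⟨a, ha, b, hb, rfl⟩ := h c hc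
  exact ⟨(⟨a, ha⟩, ⟨b, hb⟩), rfl⟩

theorem exists_kgood {J : Type*} [Fintype J] {L : Set (J → ℂ)} {c : ℝ} (hc : 0 ≤ c)
    (hL : ∀ a ∈ L, a ≠ 0 → c ≤ ∑ j, ‖a j‖ ^ 2) {G : Type u} [Group G] [Finite G] {p : ℕ} [Fact p.Prime]
    {H : Subgroup G} (hH : ∀ a b : H, a * b = b * a) (hcop : (Nat.card H).Coprime p) (U : Subgroup G) :
    IsElementaryAbelian p U → H ≤ normalizer (U : Set G) →
    ∃ (A : Type u) (_ : Group A) (_ : Fintype A) (π : H →* A) (δ : A → ℝ), (∀ a b : A, a * b = b * a) ∧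
      (∀ h, π h = 1 → (h : G) ∈ centralizer (U : Set G)) ∧ KGood L c A δ ∧
      ∀ h, δ (π h) * Nat.card (U ⊓ centralizer {(h : G)} : Subgroup G) ≤ Nat.card U := by
  classical
  induction U using WellFoundedLT.induction with
  | ind U ih =>
  intro hU hHU
  by_cases h0 : U = ⊥
  · subst h0
    exact ⟨PUnit, inferInstance, inferInstance, 1, fun _ => 1, fun _ _ => rfl, fun h _ => by simp [mem_centralizer_iff],
      KGood.unit hL, fun h => by simp⟩
  obtain ⟨W, ⟨w1, w2, w3⟩, hmin⟩ := (wellFounded_lt (α := Subgroup G)).has_min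
    {W | W ≤ U ∧ W ≠ ⊥ ∧ H ≤ normalizer (W : Set G)} ⟨U, le_rfl, h0, hHU⟩
  obtain ⟨Y, y1, y2, y3, y4⟩ := CfsgH2.maschke hU hHU hcop w1 w3
  have hcm : ∀ a ∈ U, ∀ b ∈ U, a * b = b * a := fun a ha b hb =>
    congrArg Subtype.val (hU.1.is_comm.comm (⟨a, ha⟩ : U) ⟨b, hb⟩)
  have hYW : Y ≤ normalizer (W : Set G) := fun a ha => mem_normalizer_fintype fun b hb => by
    rw [hcm a (y1 ha) b (w1 hb), mul_inv_cancel_right]; exact hb
  obtain ⟨A, _, _, π, δ, a1, a2, a3, a4⟩ := ih Y (lt_of_le_of_ne y1 fun e => w2 (by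
    rw [← y3, e, inf_eq_right.2 w1])) ⟨⟨⟨fun a b => Subtype.ext (hcm a (y1 a.2) b (y1 b.2))⟩⟩,
      fun a ha => hU.2 a (y1 ha)⟩ y2
  let K : Subgroup H := (centralizer (W : Set G)).subgroupOf H
  have : K.Normal := ⟨fun a ha b => by rw [hH b, mul_inv_cancel_right]; exact ha⟩
  have := Fintype.ofFinite (H ⧸ K)
  have hfree : ∀ h : H, h ∉ K → W ⊓ centralizer {(h : G)} = ⊥ := fun h hh => by
    by_contra hne
    refine hmin (W ⊓ centralizer {(h : G)}) ⟨inf_le_left.trans w1, hne, fun g hg =>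
      mem_normalizer_fintype fun b hb => ⟨(mem_normalizer_iff.1 (w3 hg) b).1 hb.1, ?_⟩⟩
      (lt_of_le_of_ne inf_le_left fun e => hh (mem_subgroupOf.2 fun w hw => ?_))
    · have h1 : (h : G) * g = g * h := congrArg Subtype.val (hH h ⟨g, hg⟩)
      have h2 := mem_centralizer_singleton_iff.1 hb.2
      refine mem_centralizer_singleton_iff.2 ?_
      calc g * b * g⁻¹ * h = g * b * g⁻¹ * (h * g) * g⁻¹ := by group
        _ = g * (b * h) * g⁻¹ := by rw [h1]; group
        _ = (g * h) * b * g⁻¹ := by rw [h2]; group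
        _ = _ := by rw [← h1]; group
    · exact mem_centralizer_singleton_iff.1 (e.ge hw).2
  have hq : Nat.card (H ⧸ K) + 1 ≤ Nat.card W := by
    obtain ⟨w, hw⟩ := (ne_bot_iff_exists_ne_one.1 w2)
    have hw' : (w : G) ≠ 1 := fun e => hw (Subtype.ext e)
    rw [← Finite.card_option]
    refine Nat.card_le_card_of_injective (fun o : Option (H ⧸ K) => (o.elim 1 fun a =>
      ⟨a.out * w * (a.out : G)⁻¹, (mem_normalizer_iff.1 (w3 a.out.2) w).1 w.2⟩ : W)) ?_
    rintro (_ | a) (_ | b) e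
    · rfl
    · exact absurd (by simpa [eq_comm (a := (1 : G)), conj_eq_one_iff] using congrArg Subtype.val e) hw'
    · exact absurd (by simpa [conj_eq_one_iff] using congrArg Subtype.val e) hw'
    · have e' : (a.out : G) * w * (a.out : G)⁻¹ = b.out * w * (b.out : G)⁻¹ := congrArg Subtype.val e
      rw [← a.out_eq', ← b.out_eq', Option.some_inj, QuotientGroup.eq]
      by_contra hn
      have : (w : G) ∈ W ⊓ centralizer {((a.out⁻¹ * b.out : H) : G)} := ⟨w.2,
        mem_centralizer_singleton_iff.2 (by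
          calc (w : G) * ((a.out : G)⁻¹ * b.out) = (a.out : G)⁻¹ * (a.out * w * (a.out : G)⁻¹) * b.out := by group
            _ = ((a.out : G)⁻¹ * b.out) * w := by rw [e']; group)⟩
      rw [hfree _ hn] at this
      exact hw' this
  have hdec : ∀ u ∈ U, ∃ w ∈ W, ∃ y ∈ Y, u = w * y := fun u hu => by
    rw [← y4, sup_comm, ← SetLike.mem_coe, coe_mul_of_right_le_normalizer_left _ _ hYW] at hu
    obtain ⟨w, hw, y, hy, rfl⟩ := hu
    exact ⟨w, hw, y, hy, rfl⟩
  have hA : ∀ a b : H ⧸ K, a * b = b * a := fun a b => by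
    rw [← a.out_eq', ← b.out_eq', ← QuotientGroup.mk_mul, hH, QuotientGroup.mk_mul]
  refine ⟨(H ⧸ K) × A, inferInstance, inferInstance, (QuotientGroup.mk' K).prod π, _,
    fun a b => Prod.ext (hA _ _) (a1 _ _), fun h hh u hu => ?_,
    a3.prod hA hc (q := Nat.card W) (by exact_mod_cast hq), fun h => ?_⟩
  · obtain ⟨w, hw, y, hy, rfl⟩ := hdec u hu
    have h1 : h ∈ K := (QuotientGroup.eq_one_iff h).1 (congrArg Prod.fst hh)
    rw [mul_assoc, a2 h (congrArg Prod.snd hh) y hy, ← mul_assoc, mem_subgroupOf.1 h1 w hw, mul_assoc]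
  · have c1 : Nat.card U = Nat.card W * Nat.card Y := by
      rw [← y4, sup_comm, CfsgH1.card_sup_of_disjoint hYW (disjoint_iff.2 (by rw [inf_comm]; exact y3))]
    have c2 : Nat.card (U ⊓ centralizer {(h : G)} : Subgroup G) ≤
        Nat.card (W ⊓ centralizer {(h : G)} : Subgroup G) * Nat.card (Y ⊓ centralizer {(h : G)} : Subgroup G) := by
      refine card_le_mul_of_forall fun u hu => ?_
      obtain ⟨w, hw : w ∈ W, y, hy : y ∈ Y, rfl⟩ := hdec u hu.1
      have h1 := mem_centralizer_singleton_iff.1 hu.2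
      have h2 : w⁻¹ * (h * w * (h : G)⁻¹) = y * (h * y * (h : G)⁻¹)⁻¹ := by
        calc w⁻¹ * (h * w * (h : G)⁻¹) = w⁻¹ * (h * (w * y)) * y⁻¹ * (h : G)⁻¹ := by group
          _ = _ := by rw [← h1]; group
      have h3 : w⁻¹ * (h * w * (h : G)⁻¹) ∈ Y ⊓ W := mem_inf.2 ⟨h2 ▸ Y.mul_mem hy (Y.inv_mem
        ((mem_normalizer_iff.1 (y2 h.2) y).1 hy)), W.mul_mem (W.inv_mem hw) ((mem_normalizer_iff.1 (w3 h.2) w).1 hw)⟩
      rw [y3, mem_bot] at h3
      rw [h3, eq_comm, mul_inv_eq_one, eq_mul_inv_iff_mul_eq] at h2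
      rw [inv_mul_eq_one, eq_mul_inv_iff_mul_eq] at h3
      exact ⟨w, ⟨hw, mem_centralizer_singleton_iff.2 h3⟩, y, ⟨hy, mem_centralizer_singleton_iff.2 h2⟩, rfl⟩
    have c5 : ∀ t : ℝ, 0 ≤ t → t * Nat.card (W ⊓ centralizer {(h : G)} : Subgroup G) ≤ Nat.card W →
        t * δ (π h) * Nat.card (U ⊓ centralizer {(h : G)} : Subgroup G) ≤ Nat.card U := fun t c4 c3 => by
      refine (mul_le_mul_of_nonneg_left (Nat.cast_le.2 c2) (mul_nonneg c4 (a3.1 _))).trans ?_
      rw [c1, Nat.cast_mul, Nat.cast_mul, mul_mul_mul_comm]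
      exact mul_le_mul c3 (a4 h) (mul_nonneg (a3.1 _) (by positivity)) (by positivity)
    refine c5 _ (by split_ifs <;> positivity) ?_
    split_ifs with h1
    · rw [one_mul, Nat.cast_le]; exact card_le_of_le inf_le_left
    · rw [hfree h fun e => h1 ((QuotientGroup.eq_one_iff h).2 e)]; simp

theorem gen_bound {Z : Type*} [Group Z] [Finite Z] [Fintype {g : Z // orderOf g = Nat.card Z}] {ψ : Z → ℂ}
    (hψ : IsGeneralizedCharacter Z ψ) (h : (fun j : {g : Z // orderOf g = Nat.card Z} => ψ j) ≠ 0) :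
    (Nat.card {g : Z // orderOf g = Nat.card Z} : ℝ) ≤ ∑ j : {g : Z // orderOf g = Nat.card Z}, ‖ψ j‖ ^ 2 := by
  classical
  have := Fintype.ofFinite Z
  obtain ⟨g, hg⟩ := Function.ne_iff.1 h
  have := card_le_sum_normSq hψ (Finset.univ.filter fun g => orderOf g = Nat.card Z) (fun a ha k hk => by
    rw [Finset.mem_filter] at ha ⊢
    exact ⟨Finset.mem_univ _, by rw [Nat.Coprime.orderOf_pow (by rw [ha.2]; exact hk.symm), ha.2]⟩) fun a ha h0 => by
      have h1 : zpowers g.1 = ⊤ := eq_top_of_card_eq _ (by rw [Nat.card_zpowers, g.2])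
      obtain ⟨k, rfl⟩ := (mem_powers_iff_mem_zpowers (x := g.1) (y := a)).2 (h1 ▸ mem_top a)
      have h2 := (Finset.mem_filter.1 ha).2
      simp only [orderOf_pow, g.2] at h2
      have h3 : Nat.Coprime k (Nat.card Z) := by
        rcases Nat.div_eq_self.1 h2 with e | e
        · exact absurd e Nat.card_pos.ne'
        · exact (Nat.coprime_comm.1 e)
      exact hg ((apply_pow_eq_zero_iff hψ h3 _).1 h0)
  rw [Finset.sum_subtype (p := fun g => orderOf g = Nat.card Z) _ (by simp)] at this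
  rwa [Nat.card_eq_fintype_card, Fintype.card_subtype]

theorem knorr {X : Type u} [Group X] [Finite X] (p : ℕ) [hp : Fact p.Prime] (V : Subgroup X) [V.Normal]
    (hVexp : ∀ v ∈ V, v ^ p = 1) (hidx : ¬ p ∣ V.index) (hself : centralizer (V : Set X) = V)
    (G : Subgroup X) (hGV : IsComplement' V G) (v : X) (hv : v ∈ V)
    (hab : ∀ a ∈ G ⊓ centralizer ({v} : Set X), ∀ b ∈ G ⊓ centralizer ({v} : Set X), a * b = b * a) :
    Nat.card (ConjClasses X) ≤ Nat.card V := by
  classical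
  set H := G ⊓ centralizer ({v} : Set X) with hHdef
  have := Fintype.ofFinite X
  have := Fintype.ofFinite H
  have := Fintype.ofFinite (zpowers v)
  have hV : ∀ a ∈ V, ∀ b ∈ V, a * b = b * a := fun a ha b hb => (hself.ge hb) a ha
  have hH : ∀ a b : H, a * b = b * a := fun a b => Subtype.ext (hab a a.2 b b.2)
  have hG : ¬ p ∣ Nat.card H := fun h => hidx (hGV.symm.index_eq_card ▸ h.trans (card_dvd_of_le inf_le_left))
  let J := {g : zpowers v // orderOf g = Nat.card (zpowers v)}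
  let L : Set (J → ℂ) := {a | ∃ ψ, IsGeneralizedCharacter (zpowers v) ψ ∧ a = fun j => ψ j.1}
  obtain ⟨A, _, _, π, δ, a1, a2, a3, a4⟩ := exists_kgood (L := L) (c := Nat.card J) (by positivity)
    (by rintro _ ⟨ψ, hψ, rfl⟩ h; exact gen_bound hψ h) hH ((hp.out.coprime_iff_not_dvd.2 hG).symm) V
    ⟨⟨⟨fun a b => Subtype.ext (hV a a.2 b b.2)⟩⟩, hVexp⟩ le_normalizer_of_normal
  have a5 := a3.comap a1 π ((injective_iff_map_eq_one _).2 fun h hh => Subtype.ext
    (disjoint_def.1 hGV.disjoint (hself.le (a2 h hh)) h.2.1))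
  have hZV : zpowers v ≤ V := zpowers_le.2 hv
  have hcom : ∀ (h : H) (z : zpowers v), Commute (H.subtype h) ((zpowers v).subtype z) := fun h z => by
    obtain ⟨z, k, rfl⟩ := z
    exact Commute.zpow_right (mem_centralizer_singleton_iff.1 h.2.2) k
  have hord : ∀ a ∈ V, ∃ k, orderOf a = p ^ k := fun a ha => by
    rcases (Nat.dvd_prime hp.out).1 (orderOf_dvd_of_pow_eq_one (hVexp a ha)) with h | h
    · exact ⟨0, by rw [h, pow_zero]⟩
    · exact ⟨1, by rw [h, pow_one]⟩
  let j0 : J := ⟨⟨v, mem_zpowers v⟩, by rw [Nat.card_zpowers, orderOf_mk]⟩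
  have b1 : ∀ χ : IrrCharacter X, (Nat.card J : ℝ) * (Nat.card H : ℝ) ^ 2 ≤
      ∑ h : H, δ (π h) * ∑ j : J, ‖χ.1 (h * j.1)‖ ^ 2 := fun χ => by
    refine a5.2 (fun j h => χ.1 (h * j.1)) (fun e => ?_) fun l hl => ?_
    · refine ne_zero_of_not_dvd hp.out χ.2.isChar (fun hd => hidx (hd.trans
        (deg_dvd_index_of_abelian χ.2 (coe_charDegree χ.2.isChar).symm hV))) (hord v hv) ?_
      simpa [j0] using congrFun (congrFun e j0) 1
    · refine ⟨fun z => classInner (fun h : H => χ.1 (h * z)) l, isGen_of_inner_int (fun a b => ?_)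
        fun m hm => ?_, rfl⟩
      · rw [show b * a * b⁻¹ = a from Subtype.ext (by
          simp [hV _ (hZV b.2) _ (hZV a.2)])]
      · rw [ip_ip (fun g : H × zpowers v => χ.1 (g.1 * g.2))]
        exact (χ.2.isChar.comp (H.subtype.noncommCoprod (zpowers v).subtype hcom)).isGen.inner_int
          (isIrr_prod_lin hl (hl.deg_one_of_comm hH) hm).isGen
  have b2 : ∀ (h : H) (j : J), Nat.card (centralizer {(h : X) * j.1}) ≤
      Nat.card (V ⊓ centralizer {(h : X)} : Subgroup X) * Nat.card H := fun h j => by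
    refine card_le_mul_of_forall fun y hy => ?_
    have h0 : (h : X) * j.1 = j.1 * h := hcom h j.1
    rw [h0] at hy
    have h1 : y * h = h * y := mem_centralizer_singleton_iff.1 (centralizer_mul_le (hcom h j.1).symm (hord _ (hZV j.1.2))
      (fun e => hG (e.trans (orderOf_coe h ▸ orderOf_dvd_natCard h))) hy)
    have h2 : Commute y j.1.1 := by
      have := mem_centralizer_singleton_iff.1 hy
      rw [mul_assoc, ← h1, ← mul_assoc, ← mul_assoc] at this
      exact mul_right_cancel this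
    have h3 : zpowers j.1 = ⊤ := eq_top_of_card_eq _ (by rw [Nat.card_zpowers, j.2])
    obtain ⟨k, hk⟩ := (h3 ▸ mem_top _ : j0.1 ∈ zpowers j.1)
    have h4 : Commute y v := by
      have := h2.zpow_right k
      rwa [show j.1.1 ^ k = v from congrArg Subtype.val hk] at this
    obtain ⟨⟨a, b⟩, rfl⟩ := hGV.2 y
    have h5 : Commute (a : X) v := hV _ a.2 _ hv
    have h6 : (b : X) ∈ H := ⟨b.2, mem_centralizer_singleton_iff.2 (by
      simpa using (h5.inv_left.mul_left h4).eq)⟩
    have h7 : Commute (b : X) h := hab _ h6 _ h.2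
    exact ⟨a, ⟨a.2, mem_centralizer_singleton_iff.2 (by
      simpa using ((show Commute ((a : X) * b) h from h1).mul_left h7.inv_left).eq)⟩, b, h6, rfl⟩
  have b3 := Finset.card_nsmul_le_sum _ _ _ fun χ (_ : χ ∈ Finset.univ) => b1 χ
  rw [Finset.sum_comm] at b3
  have b4 : ∀ h : H, ∑ χ : IrrCharacter X, δ (π h) * ∑ j : J, ‖χ.1 (h * j.1)‖ ^ 2 ≤
      Nat.card J * (Nat.card V * Nat.card H) := fun h => by
    rw [← Finset.mul_sum, Finset.sum_comm, Finset.mul_sum, Nat.card_eq_fintype_card (α := J),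
      ← Finset.card_univ, ← nsmul_eq_mul]
    refine Finset.sum_le_card_nsmul _ _ _ fun j _ => ?_
    rw [sum_irr_normSq]
    calc _ ≤ δ (π h) * (Nat.card (V ⊓ centralizer {(h : X)} : Subgroup X) * Nat.card H) :=
          mul_le_mul_of_nonneg_left (by exact_mod_cast b2 h j) (a3.1 _)
      _ ≤ _ := by rw [← mul_assoc]; exact mul_le_mul_of_nonneg_right (a4 h) (by positivity)
  have b5 := b3.trans (Finset.sum_le_card_nsmul _ _ _ fun h _ => b4 h)
  have : Nonempty J := ⟨j0⟩
  have hJ : (0 : ℝ) < Nat.card J * (Nat.card H : ℝ) ^ 2 := by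
    have := Nat.card_pos (α := J); have := Nat.card_pos (α := H); positivity
  rw [Finset.card_univ, Finset.card_univ, ← Nat.card_eq_fintype_card, ← Nat.card_eq_fintype_card,
    nsmul_eq_mul, nsmul_eq_mul, card_irr_eq_card_conjClasses] at b5
  have b6 : (Nat.card (ConjClasses X) : ℝ) ≤ Nat.card V := le_of_mul_le_mul_right (b5.trans_eq (by ring)) hJ
  exact_mod_cast b6

end CfsgH4
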