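import Cfsg.Agent.H4.Proj3

/-! Symmetric local algebras with small centre are commutative. -/

set_option autoImplicit false
set_option linter.unusedSectionVars false
open MonoidAlgebra Subgroup CfsgH2 Function Cfsg CfsgH3 Module

namespace CfsgH4

section alg
variable {F A : Type*} [Field F] [Ring A] [Algebra F A] [FiniteDimensional F A]

theorem nak_of_nil {J W : Submodule F A} (h1 : ∀ a, ∀ x ∈ J, a * x ∈ J)
    (h2 : ∀ x ∈ J, IsNilpotent x) (h : W ≤ J * W) : W = ⊥ := by
  have : IsNoetherianRing A := isNoetherian_of_tower F inferInstance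
  by_contra h0
  have h3 : Submodule.span A (W : Set A) ≠ ⊥ := fun e => h0 (eq_bot_iff.2 fun x hx => by
    have := Submodule.subset_span (R := A) hx
    rwa [e] at this)
  refine (Submodule.FG.jacobson_smul_lt h3 (IsNoetherian.noetherian _)).not_ge
    (Submodule.span_le.2 fun x hx => ?_)
  refine Submodule.mul_induction_on (h hx) (fun a ha b hb => ?_) fun a b => add_mem
  refine Submodule.smul_mem_smul (n := b) ?_ (Submodule.subset_span hb)
  rw [← Ideal.jacobson_bot, Ideal.mem_jacobson_iff]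
  intro y
  obtain ⟨u, hu⟩ := (h2 _ (h1 y a ha)).isUnit_add_one
  exact ⟨↑u⁻¹, by rw [mul_assoc, ← mul_add_one, ← hu, u.inv_mul, sub_self]; rfl⟩

theorem exists_of_finrank_le_succ {V : Type*} [AddCommGroup V] [Module F V] [FiniteDimensional F V]
    {U W : Submodule F V} (h : U ≤ W) (h1 : finrank F W ≤ finrank F U + 1) {s : V} (hs : s ∈ W)
    (hs' : s ∉ U) {a : V} (ha : a ∈ W) : ∃ c : F, a - c • s ∈ U := by
  have h2 : U < U ⊔ F ∙ s := lt_of_le_of_ne le_sup_left fun e => hs' (e ▸
    Submodule.mem_sup_right (Submodule.mem_span_singleton_self s))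
  have h3 : U ⊔ F ∙ s = W := Submodule.eq_of_le_of_finrank_le
    (sup_le h ((Submodule.span_singleton_le_iff_mem _ _).2 hs))
    (h1.trans (Submodule.finrank_lt_finrank_of_lt h2))
  rw [← h3] at ha
  obtain ⟨u, hu, _, h4, rfl⟩ := Submodule.mem_sup.1 ha
  obtain ⟨c, rfl⟩ := Submodule.mem_span_singleton.1 h4
  exact ⟨c, by rwa [add_sub_cancel_right]⟩

theorem comm_of_center_le_four (J : Submodule F A) (hJ : ∀ a, ∃ c : F, a - algebraMap F A c ∈ J)
    (hmul : ∀ x ∈ J, ∀ y ∈ J, x * y ∈ J) (hnil : ∀ x ∈ J, IsNilpotent x) (l : A →ₗ[F] F)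
    (hl : ∀ a b, l (a * b) = l (b * a)) (hnd : ∀ a, (∀ b, l (a * b) = 0) → a = 0)
    (hZ : ∀ x : Fin 5 → A, (∀ i y, x i * y = y * x i) → ¬ LinearIndependent F x) (a b : A) :
    a * b = b * a := by
  have hL : ∀ a, ∀ x ∈ J, a * x ∈ J := fun a x hx => by
    obtain ⟨c, hc⟩ := hJ a
    have := add_mem (hmul _ hc _ hx) (J.smul_mem c hx)
    rwa [sub_mul, ← Algebra.smul_def, sub_add_cancel] at this
  have hR : J * ⊤ ≤ J := Submodule.mul_le.2 fun x hx a _ => by
    obtain ⟨c, hc⟩ := hJ a
    have := add_mem (hmul _ hx _ hc) (J.smul_mem c hx)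
    rwa [mul_sub, ← Algebra.commutes, ← Algebra.smul_def, sub_add_cancel] at this
  have hI : ∀ W : Submodule F A, W * J * ⊤ ≤ W * J := fun W => by
    rw [mul_assoc]; exact mul_le_mul_right hR W
  have hI' : ∀ W : Submodule F A, W * J * J ≤ W * J := fun W =>
    (mul_le_mul_right le_top _).trans (hI W)
  have hJJ : J * J ≤ J := Submodule.mul_le.2 hmul
  have hker : ∀ W : Submodule F A, W * J ≠ ⊥ → ∃ s ∈ W * J, l s ≠ 0 := fun W h => by
    by_contra! h'
    exact h (eq_bot_iff.2 fun x hx => hnd x fun b => h' _ (hI W (Submodule.mul_mem_mul hx trivial)))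
  have hnak : ∀ W : Submodule F A, W ≤ J * W → W = ⊥ := fun W => nak_of_nil hL hnil
  let β : LinearMap.BilinForm F A := (LinearMap.mul F A).compr₂ l
  have horth : ∀ W : Submodule F A, finrank F W + finrank F (β.orthogonal W) = finrank F A :=
    fun W => by
      rw [LinearMap.BilinForm.finrank_add_finrank_orthogonal',
        show W ⊓ LinearMap.ker β = ⊥ from eq_bot_iff.2 fun x hx =>
          hnd x fun b => LinearMap.congr_fun hx.2 b, finrank_bot, add_zero]
  let K : Submodule F A := Submodule.span F {z | ∃ x ∈ J, ∃ y ∈ J, z = x * y - y * x}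
  have hK : ∀ x y, x * y - y * x ∈ K := fun x y => by
    obtain ⟨c, hc⟩ := hJ x
    obtain ⟨d, hd⟩ := hJ y
    refine Submodule.subset_span ⟨_, hc, _, hd, ?_⟩
    simp only [mul_sub, sub_mul, smul_smul, Algebra.algebraMap_eq_smul_one, mul_comm c d,
      smul_mul_assoc, mul_smul_comm, one_mul, mul_one, smul_sub]
    abel
  suffices K = ⊥ by rw [← sub_eq_zero, ← Submodule.mem_bot F, ← this]; exact hK a b
  by_contra hK0
  have h4 : finrank F (β.orthogonal K) ≤ 4 := by
    by_contra! h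
    obtain ⟨x, hx⟩ := exists_linearIndependent_of_le_finrank h
    refine hZ (fun i => x i) (fun i y => sub_eq_zero.1 (hnd _ fun c => ?_))
      (hx.map' (Submodule.subtype _) (Submodule.ker_subtype _))
    have : l ((y * c - c * y) * x i) = 0 := (x i).2 _ (hK y c)
    rw [sub_mul, map_sub, mul_assoc c, hl c] at this
    rwa [sub_mul, map_sub, mul_assoc, hl]
  have hKl : K ≤ LinearMap.ker l := Submodule.span_le.2 (by
    rintro _ ⟨x, -, y, -, rfl⟩
    simp [hl x y])
  have hlt : ∀ W : Submodule F A, K ≤ W * J → finrank F K < finrank F (W * J : Submodule F A) :=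
    fun W h => by
      obtain ⟨s, hs, h0⟩ := hker W fun e => hK0 (eq_bot_iff.2 (e ▸ h))
      exact Submodule.finrank_lt_finrank_of_lt (lt_of_le_of_ne h fun e => h0 (hKl (e ▸ hs)))
  have hK2 : K ≤ J * J := Submodule.span_le.2 (by
    rintro _ ⟨x, hx, y, hy, rfl⟩
    exact sub_mem (Submodule.mul_mem_mul hx hy) (Submodule.mul_mem_mul hy hx))
  have hne : ∀ W : Submodule F A, K ≤ W → J * W ≤ W → finrank F (J * W : Submodule F A) <
      finrank F W := fun W h h' => Submodule.finrank_lt_finrank_of_lt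
    (lt_of_le_of_ne h' fun e => hK0 (eq_bot_iff.2 (hnak W e.ge ▸ h)))
  have h1J : (1 : A) ∉ J := fun h => by
    obtain ⟨n, hn⟩ := hnil 1 h
    exact hK0 (eq_bot_iff.2 fun x _ => by rw [← mul_one x, ← one_pow n, hn, mul_zero]; rfl)
  have hJA : finrank F J < finrank F A := Submodule.finrank_lt fun e => h1J (e ▸ trivial)
  have hA := horth K
  have m21 : ∀ {x y}, x ∈ J * J → y ∈ J → x * y ∈ J * J * J := Submodule.mul_mem_mul
  have m12 : ∀ {x y}, x ∈ J → y ∈ J * J → x * y ∈ J * J * J := fun hx hy => by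
    rw [mul_assoc]; exact Submodule.mul_mem_mul hx hy
  have m31 : ∀ {x y}, x ∈ J * J * J → y ∈ J → x * y ∈ J * J * J * J := Submodule.mul_mem_mul
  have m13 : ∀ {x y}, x ∈ J → y ∈ J * J * J → x * y ∈ J * J * J * J := fun hx hy => by
    rw [mul_assoc, mul_assoc, ← mul_assoc J J J]; exact Submodule.mul_mem_mul hx hy
  have m22 : ∀ {x y}, x ∈ J * J → y ∈ J * J → x * y ∈ J * J * J * J := fun hx hy => by
    rw [mul_assoc]; exact Submodule.mul_mem_mul hx hy
  have h2 := hne J (hK2.trans hJJ) hJJ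
  have h3 := hne (J * J) hK2 (by rw [← mul_assoc]; exact hI' J)
  rw [← mul_assoc] at h3
  by_cases hK3 : K ≤ J * J * J
  · have h5 := hlt _ hK3
    obtain ⟨x, hx, hx'⟩ := SetLike.exists_of_lt
      (lt_of_le_of_ne hJJ fun e => h2.ne (congrArg (fun W : Submodule F A => finrank F W) e))
    have g1 : ∀ a ∈ J, ∃ c : F, a - c • x ∈ J * J := fun a ha =>
      exists_of_finrank_le_succ hJJ (by omega) hx hx' ha
    have g2 : ∀ a ∈ J * J, x * a - a * x ∈ J * J * J * J := fun a ha => by
      refine Submodule.mul_induction_on ha (fun u hu v hv => ?_) fun u v hu hv => ?_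
      · obtain ⟨c, hc⟩ := g1 u hu
        obtain ⟨d, hd⟩ := g1 v hv
        have : u * v - (c * d) • (x * x) ∈ J * J * J := by
          convert add_mem (m21 hc hv) (Submodule.smul_mem _ c (m12 hx hd)) using 1
          simp only [sub_mul, mul_sub, smul_sub, smul_mul_assoc, mul_smul_comm, smul_smul]
          abel
        convert sub_mem (m13 hx this) (m31 this hx) using 1
        simp only [sub_mul, mul_sub, smul_mul_assoc, mul_smul_comm, mul_assoc]
        abel
      · convert add_mem hu hv using 1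
        simp only [mul_add, add_mul]
        abel
    have g3 : K ≤ J * J * J * J := Submodule.span_le.2 (by
      rintro _ ⟨u, hu, v, hv, rfl⟩
      obtain ⟨c, hc⟩ := g1 u hu
      obtain ⟨d, hd⟩ := g1 v hv
      rw [SetLike.mem_coe]
      convert add_mem (sub_mem (m22 hc hd) (m22 hd hc)) (sub_mem (Submodule.smul_mem _ c (g2 _ hd))
        (Submodule.smul_mem _ d (g2 _ hc))) using 1
      simp only [sub_mul, mul_sub, smul_sub, smul_mul_assoc, mul_smul_comm, smul_smul, mul_comm c d]
      abel)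
    have g4 := hlt _ g3
    have g5 := hne (J * J * J) hK3 (by rw [← mul_assoc, ← mul_assoc]; exact hI' _)
    rw [← mul_assoc, ← mul_assoc] at g5
    omega
  obtain ⟨_, ⟨x, hx, y, hy, rfl⟩, hw⟩ := Set.not_subset.1 (mt Submodule.span_le.2 hK3)
  set w := x * y - y * x with hw'
  have hw2 : w ∈ J * J := hK2 (hK x y)
  have h5 := hlt _ hK2
  have hy' : y ∉ J * J := fun h => hw (sub_mem (m12 hx h) (m21 h hx))
  have hlt1 : finrank F (J * J : Submodule F A) < finrank F (J * J ⊔ F ∙ y : Submodule F A) :=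
    Submodule.finrank_lt_finrank_of_lt (lt_of_le_of_ne le_sup_left fun e => hy' (e ▸
      Submodule.mem_sup_right (Submodule.mem_span_singleton_self y)))
  have hle : J * J ⊔ F ∙ y ≤ J := sup_le hJJ ((Submodule.span_singleton_le_iff_mem _ _).2 hy)
  have hx' : x ∉ J * J ⊔ F ∙ y := fun h => by
    obtain ⟨u, hu, _, h4, e⟩ := Submodule.mem_sup.1 h
    obtain ⟨c, rfl⟩ := Submodule.mem_span_singleton.1 h4
    refine hw (SetLike.mem_coe.2 ?_)
    convert sub_mem (m21 hu hy) (m12 hy hu) using 1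
    rw [hw', ← e]
    simp only [add_mul, mul_add, smul_mul_assoc, mul_smul_comm]
    abel
  have g1 : ∀ a ∈ J, ∃ c d : F, a - c • x - d • y ∈ J * J := fun a ha => by
    obtain ⟨c, hc⟩ := exists_of_finrank_le_succ hle (by omega) hx hx' ha
    obtain ⟨u, hu, _, h4, e⟩ := Submodule.mem_sup.1 hc
    obtain ⟨d, rfl⟩ := Submodule.mem_span_singleton.1 h4
    exact ⟨c, d, by rwa [← e, add_sub_cancel_right]⟩
  have hlt2 : finrank F (J * J ⊔ F ∙ y : Submodule F A) < finrank F J :=
    Submodule.finrank_lt_finrank_of_lt (lt_of_le_of_ne hle fun e => hx' (e.symm ▸ hx))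
  have g2 : K ≤ J * J * J ⊔ F ∙ w := Submodule.span_le.2 (by
    rintro _ ⟨u, hu, v, hv, rfl⟩
    obtain ⟨c, d, hc⟩ := g1 u hu
    obtain ⟨c', d', hd⟩ := g1 v hv
    have e1 : c • x + d • y ∈ J := add_mem (J.smul_mem _ hx) (J.smul_mem _ hy)
    refine Submodule.mem_sup.2 ⟨_, add_mem (sub_mem (m21 hc hv) (m12 hv hc))
      (sub_mem (m12 e1 hd) (m21 hd e1)), (c * d' - d * c') • w,
      Submodule.smul_mem _ _ (Submodule.mem_span_singleton_self w), ?_⟩
    simp only [hw', sub_mul, mul_sub, add_mul, mul_add, smul_sub, sub_smul, smul_mul_assoc,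
      mul_smul_comm, smul_smul, smul_add, mul_comm c', mul_comm d']
    abel)
  have hJ3 : J * J * J ≠ ⊥ := fun e => by
    have k1 : J * J ≤ β.orthogonal J := fun a ha n hn => by
      have := m12 hn ha
      rw [e, Submodule.mem_bot] at this
      simp [β, this]
    have k2 := Submodule.finrank_mono k1
    have k3 := horth J
    have k4 : finrank F A ≤ finrank F J + 1 := by
      have : (⊤ : Submodule F A) ≤ J ⊔ F ∙ 1 := fun a _ => by
        obtain ⟨c, hc⟩ := hJ a
        exact Submodule.mem_sup.2 ⟨_, hc, _, Submodule.mem_span_singleton.2 ⟨c, rfl⟩, by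
          rw [← Algebra.algebraMap_eq_smul_one, sub_add_cancel]⟩
      rw [← finrank_top]
      exact (Submodule.finrank_mono this).trans ((Submodule.finrank_add_le_finrank_add_finrank _ _).trans
        (Nat.add_le_add_left (by simpa using finrank_span_le_card (R := F) ({1} : Set A)) _))
    exact hK0 (Submodule.finrank_eq_zero.1 (by omega))
  obtain ⟨s, hs, hs0⟩ := hker _ hJ3
  obtain ⟨ν, hν, hν'⟩ := Submodule.exists_dual_map_eq_bot_of_notMem hw inferInstance
  have hν3 : ∀ a ∈ J * J * J, ν a = 0 := fun a ha => by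
    rw [← Submodule.mem_bot F, ← hν']; exact Submodule.mem_map_of_mem ha
  have g3 : ∀ a ∈ J * J, ν w • a - ν a • w ∈ J * J * J := fun a ha => by
    obtain ⟨c, hc⟩ := exists_of_finrank_le_succ hK2 (by omega) (hI' J hs) (fun h => hs0 (hKl h)) ha
    obtain ⟨u, hu, _, h4, e⟩ := Submodule.mem_sup.1 (g2 hc)
    obtain ⟨d, rfl⟩ := Submodule.mem_span_singleton.1 h4
    rw [eq_sub_iff_add_eq] at e
    rw [← e, map_add, map_add, hν3 u hu, map_smul, map_smul, hν3 s hs]
    convert add_mem (Submodule.smul_mem _ (ν w) hu) (Submodule.smul_mem _ (ν w * c) hs) using 1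
    simp only [smul_add, smul_smul, smul_eq_mul, mul_zero, zero_add, add_zero, mul_comm d]
    abel
  obtain ⟨t, ht, ht'⟩ := Set.not_subset.1 (mt (hnak (J * J * J)) hJ3)
  rw [← mul_assoc, ← mul_assoc] at ht'
  obtain ⟨μ, hμ, hμ'⟩ := Submodule.exists_dual_map_eq_bot_of_notMem ht' inferInstance
  have hμ4 : ∀ a ∈ J * J * J * J, μ a = 0 := fun a ha => by
    rw [← Submodule.mem_bot F, ← hμ']; exact Submodule.mem_map_of_mem ha
  have g4 : ∀ a ∈ J * J, ∀ c ∈ J, ν w * μ (a * c) = ν a * μ (w * c) := fun a ha c hc => by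
    simpa [sub_mul, sub_eq_zero] using hμ4 _ (m31 (g3 a ha) hc)
  have g5 : ∀ a ∈ J, ∀ b ∈ J, ∀ c ∈ J, ν (a * b) * μ (w * c) = ν (b * c) * μ (a * w) :=
    fun a ha b hb c hc => by
      rw [← g4 _ (Submodule.mul_mem_mul ha hb) c hc, mul_assoc a]
      simpa [mul_sub, sub_eq_zero] using hμ4 _ (m13 ha (g3 _ (Submodule.mul_mem_mul hb hc)))
  obtain ⟨c, hc, hc0⟩ : ∃ c ∈ J, μ (w * c) ≠ 0 := by
    by_contra! h
    refine hμ (Submodule.mul_induction_on (C := fun t => μ t = 0) ht (fun a ha c hc => ?_)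
      fun a b ha hb => by rw [map_add, ha, hb, add_zero])
    have := g4 a ha c hc
    rwa [h c hc, mul_zero, mul_eq_zero_iff_left hν] at this
  refine hν (mul_right_cancel₀ (mul_ne_zero hc0 hc0) ?_)
  have e1 := g5 x hx y hy c hc
  have e2 := g5 y hy x hx c hc
  have e3 := g5 x hx c hc c hc
  have e4 := g5 y hy c hc c hc
  rw [hw', map_sub, ← hw']
  linear_combination μ (w * c) * e1 - μ (w * c) * e2 + μ (x * w) * e4 - μ (y * w) * e3

variable [IsAlgClosed F] {j : A}

theorem NPrim.comm_of_le_four (hj : NPrim j) (l : A →ₗ[F] F) (hl : ∀ a b, l (a * b) = l (b * a))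
    (hnd : ∀ a, (∀ b, l (a * b) = 0) → a = 0)
    (hZ : ∀ x : Fin 5 → A, (∀ i, j * x i = x i ∧ x i * j = x i ∧
      ∀ y, x i * (j * y * j) = j * y * j * x i) → ¬ LinearIndependent F x) (a b : A) :
    j * a * j * (j * b * j) = j * b * j * (j * a * j) := by
  let N : A → Prop := fun n => j * n = n ∧ n * j = n ∧ IsNilpotent n
  have N0 : N 0 := ⟨mul_zero _, zero_mul _, IsNilpotent.zero⟩
  have N1 : ∀ {m n}, N m → N n → N (m + n) := fun hm hn =>
    ⟨by rw [mul_add, hm.1, hn.1], by rw [add_mul, hm.2.1, hn.2.1],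
      hj.nilp_add F hm.1 hm.2.1 hm.2.2 hn.1 hn.2.1 hn.2.2⟩
  have N2 : ∀ (c : F) {n}, N n → N (c • n) := fun c n hn =>
    ⟨by rw [mul_smul_comm, hn.1], by rw [smul_mul_assoc, hn.2.1], hn.2.2.smul c⟩
  have N3 : ∀ {m n}, N m → N n → N (m * n) := fun {m n} hm hn =>
    ⟨by rw [← mul_assoc, hm.1], by rw [mul_assoc, hn.2.1], by
      have := hj.nilp_mul F hn.1 hn.2.1 hn.2.2 m
      rwa [hm.1] at this⟩
  let S : Subalgebra F A :=
    { carrier := {a | ∃ c : F, N (a - algebraMap F A c)}
      mul_mem' := by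
        rintro a b ⟨c, hc⟩ ⟨d, hd⟩
        refine ⟨c * d, ?_⟩
        convert N1 (N3 hc hd) (N1 (N2 c hd) (N2 d hc)) using 1
        simp only [mul_sub, sub_mul, smul_smul, smul_sub, Algebra.algebraMap_eq_smul_one,
          mul_comm d c, smul_mul_assoc, mul_smul_comm, one_mul, mul_one]
        abel
      add_mem' := by
        rintro a b ⟨c, hc⟩ ⟨d, hd⟩
        exact ⟨c + d, by convert N1 hc hd using 1; rw [map_add]; abel⟩
      algebraMap_mem' := fun c => ⟨c, by rwa [sub_self]⟩ }
  let J : Submodule F S :=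
    { carrier := {a | N a}
      add_mem' := N1
      zero_mem' := N0
      smul_mem' := fun c _ => N2 c }
  have S1 : ∀ a : S, j * a = a * j := fun ⟨a, c, hc⟩ => by
    have := hc.1.trans hc.2.1.symm
    rwa [mul_sub, sub_mul, ← Algebra.commutes, sub_left_inj] at this
  have S2 : ∀ y, ∃ a : S, j * a = j * y * j := fun y => by
    have e1 : j * (j * y * j) = j * y * j := by rw [← mul_assoc, ← mul_assoc, hj.idem]
    have e2 : j * y * j * j = j * y * j := by rw [mul_assoc, hj.idem]
    obtain ⟨c, hc⟩ := hj.exists_scalar F e1 e2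
    refine ⟨⟨j * y * j - c • j + algebraMap F A c, c, ?_⟩, ?_⟩
    · rw [add_sub_cancel_right]
      exact ⟨by rw [mul_sub, e1, mul_smul_comm, hj.idem], by rw [sub_mul, e2, smul_mul_assoc, hj.idem],
        hc⟩
    · simp only [mul_add, mul_sub, e1, mul_smul_comm, hj.idem, ← Algebra.commutes,
        ← Algebra.smul_def, sub_add_cancel]
  have S3 : ∀ a : S, j * a = 0 → a = 0 := fun ⟨a, c, hc⟩ h => by
    have h1 := hc.1
    rw [mul_sub, h, ← Algebra.commutes, ← Algebra.smul_def, zero_sub] at h1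
    have h2 : c = 0 := by_contra fun h0 => hj.ne_zero (idem_nilpotent_eq_zero hj.idem (by
      have := (h1 ▸ hc.2.2).neg.smul c⁻¹
      rwa [neg_neg, inv_smul_smul₀ h0] at this))
    rw [h2, zero_smul, neg_zero, map_zero, sub_zero] at h1
    exact Subtype.ext h1.symm
  have S4 : ∀ a b : S, j * a * (j * b) = j * (a * b : S) := fun a b => by
    rw [mul_assoc, ← mul_assoc _ j, ← S1, ← mul_assoc, ← mul_assoc, hj.idem, mul_assoc]; rfl
  let π : S →ₗ[F] A := LinearMap.mulLeft F j ∘ₗ S.val.toLinearMap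
  have H := comm_of_center_le_four J (fun ⟨a, c, hc⟩ => ⟨c, hc⟩) (fun x hx y hy => N3 hx hy)
    (fun x ⟨_, _, n, hn⟩ => ⟨n, Subtype.ext hn⟩) (l ∘ₗ π)
    (fun a b => by
      change l (j * (a * b : S)) = l (j * (b * a : S))
      rw [← S4, ← S4, hl])
    (fun a h => S3 a (hnd _ fun y => by
      obtain ⟨b, hb⟩ := S2 y
      have h1 : l (j * (a * b : S)) = 0 := h b
      rw [← S4, hb, ← mul_assoc, hl, ← mul_assoc, ← mul_assoc, ← mul_assoc, hj.idem,
        mul_assoc j _ j, ← S1, ← mul_assoc, hj.idem] at h1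
      exact h1))
    (fun x hx h => hZ (fun i => j * x i) (fun i => ⟨by rw [← mul_assoc, hj.idem], by
      rw [mul_assoc, ← S1, ← mul_assoc, hj.idem], fun y => by
        obtain ⟨b, hb⟩ := S2 y
        rw [← hb, S4, S4, hx]⟩) (h.map' π (LinearMap.ker_eq_bot'.2 S3)))
  obtain ⟨a', ha⟩ := S2 a
  obtain ⟨b', hb⟩ := S2 b
  rw [← ha, ← hb, S4, S4, H]

omit [FiniteDimensional F A] [IsAlgClosed F] in
/-- Transfer of central elements of a corner algebra to the whole block algebra. -/
theorem exists_central_of_corner {ι κ : Type*} [Fintype ι] {b : A} (hc : ∀ x, b * x = x * b)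
    (hb : b * j = j) (a c : ι → A) (h : b = ∑ i, a i * j * c i) {x : κ → A}
    (hx : ∀ k, j * x k = x k ∧ x k * j = x k ∧ ∀ y, x k * (j * y * j) = j * y * j * x k)
    (hi : LinearIndependent F x) :
    ∃ z : κ → A, (∀ k y, y * z k = z k * y) ∧ (∀ k, b * z k = z k) ∧ LinearIndependent F z := by
  have h1 : ∀ k y, j * y * x k = x k * y * j := fun k y => by
    have := (hx k).2.2 y
    rw [← mul_assoc, ← mul_assoc, (hx k).2.1, mul_assoc _ j, (hx k).1] at this
    exact this.symm
  have h2 : ∀ k, b * x k = x k := fun k => by rw [← (hx k).1, ← mul_assoc, hb]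
  have h3 : ∀ k, b * ∑ i, a i * x k * c i = ∑ i, a i * x k * c i := fun k => by
    rw [Finset.mul_sum]
    exact Finset.sum_congr rfl fun i _ => by
      rw [← mul_assoc, ← mul_assoc, hc (a i), mul_assoc _ b, h2]
  refine ⟨fun k => ∑ i, a i * x k * c i, fun k y => ?_, h3,
    LinearIndependent.of_comp (LinearMap.mulLeft F j) ?_⟩
  · calc y * ∑ i, a i * x k * c i = b * y * ∑ i, a i * x k * c i := by rw [hc, mul_assoc, h3]
      _ = ∑ m, ∑ i, a m * (j * (c m * y * a i) * x k) * c i := by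
        conv_lhs => rw [h]
        simp only [Finset.sum_mul, Finset.mul_sum, mul_assoc]
        exact Finset.sum_comm
      _ = (∑ i, a i * x k * c i) * y * b := by
        conv_rhs => rw [h]
        simp only [h1]
        simp only [Finset.sum_mul, Finset.mul_sum, mul_assoc]
        exact Finset.sum_comm
      _ = _ := by rw [← hc, ← mul_assoc, h3]
  · rw [show (LinearMap.mulLeft F j ∘ fun k => ∑ i, a i * x k * c i) = x from funext fun k => ?_]
    · exact hi
    change j * ∑ i, a i * x k * c i = x k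
    conv_rhs => rw [← h2, hc, h]
    simp only [Finset.mul_sum, ← mul_assoc, h1]

end alg

variable {M : Ideal AlgInt} [hM : M.IsMaximal] {G : Type*} [Group G] [Finite G]
  {B : Set (IrrCharacter G)} {p : ℕ} [hp : Fact p.Prime] [CharP (Res M) p]

theorem equal_deg_of_le_four (hB : IsPBlock M B) (hl : blockRank p B = 1) (hk : Nat.card B ≤ 4) :
    ∃ n : ℕ, ∀ χ ∈ B, charDegree χ.1 = n := by
  classical
  have := Fintype.ofFinite G
  have hS := eSet_mem_SG hB
  obtain ⟨j, hj⟩ := Finset.card_eq_one.1 ((card_ptsB hS).trans hl)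
  have hj' : j ∈ ptsB M B := hj ▸ Finset.mem_singleton_self j
  have hjj := ptsB_idem hj'
  obtain ⟨c, hc⟩ := exists_gen hS hj
  have H : ∀ {κ : Type} [Fintype κ] (x : κ → (Res M)[G]), (∀ i, j * x i = x i ∧ x i * j = x i ∧
      ∀ y, x i * (j * y * j) = j * y * j * x i) → LinearIndependent (Res M) x →
      Fintype.card κ ≤ Nat.card B := fun x hx hi => by
    obtain ⟨z, h1, h2, h3⟩ := exists_central_of_corner bId_comm (mem_ptsB.1 hj').2 _ c hc hx hi
    exact card_le_of_central hS (fun i => mem_Fix_iff_comm.2 fun n _ => h1 i _) h2 h3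
  have h1 := (pts_prim (ptsB_sub hj')).comm_of_le_four
    (Finsupp.lapply 1 ∘ₗ (coeffLinearEquiv (Res M)).toLinearMap) (fun a b => by
      change (a * b).coeff 1 = (b * a).coeff 1
      rw [coeff_mul_left, coeff_mul_right]
      exact Finset.sum_congr rfl fun x _ => by rw [mul_one, one_mul, mul_comm])
    (fun a h => ga_ext fun g => by
      have : (a * single g⁻¹ 1).coeff 1 = 0 := h _
      simpa [coeff_mul_single_apply] using this)
    fun x hx hi => by
      have := H x hx hi
      rw [Fintype.card_fin] at this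
      omega
  let w := finBasis (Res M) (LinearMap.range (LinearMap.mulLeftRight (Res M) (j, j)))
  have h2 := H (fun i => (w i).1) (fun i => by
    obtain ⟨a, ha⟩ := (w i).2
    rw [← ha, LinearMap.mulLeftRight_apply]
    exact ⟨by rw [← mul_assoc, ← mul_assoc, hjj], by rw [mul_assoc, hjj], h1 a⟩)
    (w.linearIndependent.map' (Submodule.subtype _) (Submodule.ker_subtype _))
  rw [Fintype.card_fin, finrank_mulLR_res hjj hjj, ← card_irrF, Finset.card_eq_sum_ones] at h2
  obtain ⟨m, -, hm⟩ := exists_mult hS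
  have h3 : ∀ χ ∈ B, charDegree χ.1 = m j * dec M χ j := fun χ hχ => by
    rw [deg_eq_sum hS hm hχ, hj, Finset.sum_singleton]
  have h4 : ∀ χ ∈ irrF B, 1 ≤ dec M χ j * dec M χ j := fun χ hχ => by
    have := charDegree_pos χ.2
    rw [h3 χ (mem_irrF.1 hχ)] at this
    exact Nat.mul_pos (Nat.pos_of_mul_pos_left this) (Nat.pos_of_mul_pos_left this)
  have h5 := (Finset.sum_eq_sum_iff_of_le h4).1 (le_antisymm (Finset.sum_le_sum h4)
    ((Finset.sum_le_sum_of_subset (Finset.subset_univ _)).trans h2))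
  exact ⟨m j, fun χ hχ => by
    rw [h3 χ hχ, Nat.eq_one_of_mul_eq_one_left (h5 χ (mem_irrF.2 hχ)).symm, mul_one]⟩

end CfsgH4
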