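import Cfsg.Prelude.Def_AxialAlgebras

/-! Small computations with Majorana axes. -/

set_option autoImplicit false

open Cfsg Cfsg.Axial

namespace CfsgH4

variable {V : Type*} [AddCommGroup V] [Module ℝ V] {mul : V →ₗ[ℝ] V →ₗ[ℝ] V}
  {B : LinearMap.BilinForm ℝ V}

theorem maj_mem_eigen {a v : V} {c : ℝ} : v ∈ eigen mul a c ↔ mul a v = c • v :=
  Module.End.mem_eigenspace_iff

theorem maj_sum10 {a v : V} (h : v ∈ eigenSum mul a {1, 0}) : mul a (mul a v) = mul a v := by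
  rw [eigenSum, iSup_insert, iSup_singleton, Submodule.mem_sup] at h
  obtain ⟨x, hx, y, hy, rfl⟩ := h
  rw [maj_mem_eigen] at hx hy
  simp [hx, hy]

theorem maj_44 {μ : V ≃ₗ[ℝ] V} {a : V} (h : IsMajoranaPair mul B μ a) {u v : V}
    (hu : mul a u = (1 / 4 : ℝ) • u) (hv : mul a v = (1 / 4 : ℝ) • v) :
    mul a (mul a (mul u v)) = mul a (mul u v) := by
  have := h.2.2.1.1.2.2.2 (1 / 4) (by simp [majoranaSpectrum]) (1 / 4) (by simp [majoranaSpectrum])
    u (maj_mem_eigen.2 hu) v (maj_mem_eigen.2 hv)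
  rw [show monsterLaw (1 / 4 : ℝ) (1 / 32) (1 / 4) (1 / 4) = {1, 0} by
    unfold monsterLaw; norm_num] at this
  exact maj_sum10 this

theorem maj_00 {μ : V ≃ₗ[ℝ] V} {a : V} (h : IsMajoranaPair mul B μ a) {u v : V}
    (hu : mul a u = 0) (hv : mul a v = 0) : mul a (mul u v) = 0 := by
  have := h.2.2.1.1.2.2.2 0 (by simp [majoranaSpectrum]) 0 (by simp [majoranaSpectrum])
    u (maj_mem_eigen.2 (by simpa using hu)) v (maj_mem_eigen.2 (by simpa using hv))
  rw [show monsterLaw (1 / 4 : ℝ) (1 / 32) 0 0 = {0} by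
    unfold monsterLaw; norm_num, eigenSum, iSup_singleton, maj_mem_eigen] at this
  simpa using this

theorem maj_04 {μ : V ≃ₗ[ℝ] V} {a : V} (h : IsMajoranaPair mul B μ a) {u v : V}
    (hu : mul a u = 0) (hv : mul a v = (1 / 4 : ℝ) • v) :
    mul a (mul u v) = (1 / 4 : ℝ) • mul u v := by
  have := h.2.2.1.1.2.2.2 0 (by simp [majoranaSpectrum]) (1 / 4) (by simp [majoranaSpectrum])
    u (maj_mem_eigen.2 (by simpa using hu)) v (maj_mem_eigen.2 hv)
  rwa [show monsterLaw (1 / 4 : ℝ) (1 / 32) 0 (1 / 4) = {1 / 4} by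
    unfold monsterLaw; norm_num, eigenSum, iSup_singleton, maj_mem_eigen] at this

theorem maj_conj {μ φ : V ≃ₗ[ℝ] V} {a : V} (h : IsMajoranaPair mul B μ a)
    (hφ : ∀ u v, φ (mul u v) = mul (φ u) (φ v)) (hc : φ * μ = μ * φ) :
    IsMajoranaPair mul B μ (φ a) := by
  have he : ∀ c, eigen mul (φ a) c = (eigen mul a c).map (φ : V →ₗ[ℝ] V) := by
    intro c
    ext v
    obtain ⟨w, rfl⟩ := φ.surjective v
    rw [maj_mem_eigen, ← hφ, ← map_smul, φ.injective.eq_iff, ← maj_mem_eigen]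
    exact ⟨fun h => ⟨w, h, rfl⟩, fun ⟨x, hx, e⟩ => φ.injective e ▸ hx⟩
  have hs : ∀ S, eigenSum mul (φ a) S = (eigenSum mul a S).map (φ : V →ₗ[ℝ] V) := by
    intro S
    simp only [eigenSum, Submodule.map_iSup, he]
  have hc' : ∀ v, μ (φ v) = φ (μ v) := fun v => (LinearEquiv.congr_fun hc v).symm
  obtain ⟨h1, h2, ⟨⟨h3, h4, h5, h6⟩, h7⟩, h8, h9⟩ := h
  refine ⟨h1, h2, ⟨⟨fun e => h3 (φ.injective (by simpa using e)), by rw [← hφ, h4], ?_, ?_⟩, ?_⟩,
    ?_, ?_⟩
  · rw [hs, h5, Submodule.map_top, LinearEquiv.range]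
  · intro c hc d hd u hu v hv
    rw [he] at hu hv
    obtain ⟨u, hu, rfl⟩ := hu
    obtain ⟨v, hv, rfl⟩ := hv
    rw [hs]
    exact ⟨mul u v, h6 c hc d hd u hu v hv, hφ u v⟩
  · rw [he, h7, Submodule.map_span, Set.image_singleton]; rfl
  · intro v hv
    rw [hs] at hv
    obtain ⟨v, hv, rfl⟩ := hv
    exact (hc' v).trans (congrArg φ (h8 v hv))
  · intro v hv
    rw [he] at hv
    obtain ⟨v, hv, rfl⟩ := hv
    exact (hc' v).trans ((congrArg φ (h9 v hv)).trans (map_neg φ v))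

theorem maj_half (hV : IsMajoranaAmbient mul B) {μ : V ≃ₗ[ℝ] V} {a b : V}
    (h : IsMajoranaPair mul B μ a) (hn : B a a = 1) (hb : mul b b = b) (hf : μ b = b) :
    mul a (mul a b) = (3 * B a b / 4) • a + (1 / 4 : ℝ) • mul a b ∧
      mul (b + (3 * B a b) • a - (4 : ℝ) • mul a b) (mul a b - B a b • a) =
        (1 / 2 - B a b / 4) • (mul a b - B a b • a) := by
  obtain ⟨hcm, hsym, -, has, -⟩ := hV
  have haa : mul a a = a := h.2.2.1.1.2.1
  have hm : b ∈ eigenSum mul a majoranaSpectrum := by rw [h.2.2.1.1.2.2.1]; trivial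
  rw [eigenSum, majoranaSpectrum, iSup_insert, iSup_insert, iSup_insert, iSup_singleton,
    Submodule.mem_sup] at hm
  obtain ⟨x, hx, y, hy, e1⟩ := hm
  obtain ⟨α, hα, y', hy', rfl⟩ := Submodule.mem_sup.1 hy
  obtain ⟨β, hβ, γ, hγ, rfl⟩ := Submodule.mem_sup.1 hy'
  have hS : ∀ c ∈ ({1, 0, 1 / 4} : Set ℝ), ∀ v ∈ eigen mul a c, μ v = v := fun c hc v hv =>
    h.2.2.2.1 v (le_iSup₂ (f := fun c (_ : c ∈ ({1, 0, 1 / 4} : Set ℝ)) => eigen mul a c) c hc hv)
  have hγ0 : γ = 0 := by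
    have h1 : μ γ = -γ := h.2.2.2.2 γ hγ
    rw [← e1, map_add, map_add, map_add, hS 1 (by simp) x hx, hS 0 (by simp) α hα,
      hS (1 / 4) (by simp) β hβ, h1] at hf
    linear_combination (norm := module) (-1 / 2 : ℝ) • hf
  subst hγ0
  rw [h.2.2.1.2, Submodule.mem_span_singleton] at hx
  obtain ⟨l, rfl⟩ := hx
  rw [maj_mem_eigen] at hα hβ
  rw [zero_smul] at hα
  have hl : B a b = l := by
    have h1 : B a α = 0 := by rw [← haa, ← has, hα, map_zero]
    have h2 : B a β = 0 := by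
      have : B a β = (1 / 4) * B a β := by
        conv_lhs => rw [← haa, ← has, hβ, map_smul, smul_eq_mul]
      linarith
    rw [← e1]
    simp [h1, h2, hn]
  have hσ : mul a b = l • a + (1 / 4 : ℝ) • β := by
    rw [← e1]
    simp [haa, hα, hβ]
  rw [hl, hσ]
  refine ⟨by simp only [map_add, map_smul, haa, hβ]; module, ?_⟩
  have h1 := maj_44 h hβ hβ
  have h2 := maj_00 h hα hα
  have h3 := maj_04 h hα hβ
  have h4 : mul b b = (l * l) • a + mul α α + mul β β + (l / 2) • β + (2 : ℝ) • mul α β := by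
    rw [← e1]
    simp only [add_zero, map_add, map_smul, LinearMap.add_apply, LinearMap.smul_apply, haa, hα,
      hβ, hcm α a, hcm β a, hcm β α]
    module
  have h5 : mul a (mul a (mul b b)) - mul a (mul b b) = mul a (mul a b) - mul a b := by rw [hb]
  rw [h4, hσ] at h5
  simp only [map_add, map_smul, haa, hβ, h1, h2, h3, map_zero] at h5
  have h6 : mul α β = (1 / 2 - l / 4) • β := by
    linear_combination (norm := module) (-8 / 3 : ℝ) • h5
  have h7 : b + (3 * l) • a - (4 : ℝ) • (l • a + (1 / 4 : ℝ) • β) = α := by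
    rw [← e1]; module
  rw [h7, add_sub_cancel_left, map_smul, h6]
  module

end CfsgH4
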