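import Cfsg.Agent.H4.Maj

/-! Sakuma's theorem for Majorana involutions. -/

set_option autoImplicit false

open Cfsg Cfsg.Axial

namespace CfsgH4

variable {V : Type*} [AddCommGroup V] [Module ℝ V] {mul : V →ₗ[ℝ] V →ₗ[ℝ] V}
  {B : LinearMap.BilinForm ℝ V}

theorem maj_split {μ : V ≃ₗ[ℝ] V} {a : V} (h : IsMajoranaPair mul B μ a) (b : V) :
    ∃ (l : ℝ) (α β γ : V), b = l • a + α + β + γ ∧ mul a α = 0 ∧ mul a β = (1 / 4 : ℝ) • β ∧
      mul a γ = (1 / 32 : ℝ) • γ := by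
  have hm : b ∈ eigenSum mul a majoranaSpectrum := by rw [h.2.2.1.1.2.2.1]; trivial
  rw [eigenSum, majoranaSpectrum, iSup_insert, iSup_insert, iSup_insert, iSup_singleton,
    Submodule.mem_sup] at hm
  obtain ⟨x, hx, y, hy, e1⟩ := hm
  obtain ⟨α, hα, y', hy', rfl⟩ := Submodule.mem_sup.1 hy
  obtain ⟨β, hβ, γ, hγ, rfl⟩ := Submodule.mem_sup.1 hy'
  rw [h.2.2.1.2, Submodule.mem_span_singleton] at hx
  obtain ⟨l, rfl⟩ := hx
  rw [maj_mem_eigen] at hα hβ hγ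
  exact ⟨l, α, β, γ, by rw [← e1]; abel, by simpa using hα, hβ, hγ⟩

theorem maj_apply {μ : V ≃ₗ[ℝ] V} {a : V} (h : IsMajoranaPair mul B μ a) (l : ℝ) {α β γ : V}
    (hα : mul a α = 0) (hβ : mul a β = (1 / 4 : ℝ) • β) (hγ : mul a γ = (1 / 32 : ℝ) • γ) :
    μ (l • a + α + β + γ) = l • a + α + β - γ := by
  have hS : ∀ c ∈ ({1, 0, 1 / 4} : Set ℝ), ∀ v ∈ eigen mul a c, μ v = v := fun c hc v hv =>
    h.2.2.2.1 v (le_iSup₂ (f := fun c (_ : c ∈ ({1, 0, 1 / 4} : Set ℝ)) => eigen mul a c) c hc hv)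
  have h1 : μ γ = -γ := h.2.2.2.2 γ (maj_mem_eigen.2 hγ)
  rw [map_add, map_add, map_add, map_smul,
    hS 1 (by simp) a (maj_mem_eigen.2 (by simpa using h.2.2.1.1.2.1)),
    hS 0 (by simp) α (maj_mem_eigen.2 (by simpa using hα)),
    hS (1 / 4) (by simp) β (maj_mem_eigen.2 hβ), h1, sub_eq_add_neg]

theorem maj_uniq {μ ν : V ≃ₗ[ℝ] V} {a : V} (h : IsMajoranaPair mul B μ a)
    (h' : IsMajoranaPair mul B ν a) : μ = ν := by
  ext b
  obtain ⟨l, α, β, γ, rfl, hα, hβ, hγ⟩ := maj_split h b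
  rw [maj_apply h l hα hβ hγ, maj_apply h' l hα hβ hγ]

theorem maj_sq {μ : V ≃ₗ[ℝ] V} {a : V} (h : IsMajoranaPair mul B μ a) : μ * μ = 1 := by
  ext b
  obtain ⟨l, α, β, γ, rfl, hα, hβ, hγ⟩ := maj_split h b
  change μ (μ _) = _
  rw [maj_apply h l hα hβ hγ, sub_eq_add_neg, maj_apply h l hα hβ (γ := -γ) (by simp [hγ]),
    sub_neg_eq_add]
  rfl

theorem maj_fix {μ : V ≃ₗ[ℝ] V} {a : V} (h : IsMajoranaPair mul B μ a) : μ a = a := by
  simpa using maj_apply h 1 (α := 0) (β := 0) (γ := 0) (by simp) (by simp) (by simp)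

theorem maj_conj' {μ φ : V ≃ₗ[ℝ] V} {a : V} (h : IsMajoranaPair mul B μ a)
    (hφ : ∀ u v, φ (mul u v) = mul (φ u) (φ v)) (hB : ∀ u v, B (φ u) (φ v) = B u v) :
    IsMajoranaPair mul B (φ * μ * φ⁻¹) (φ a) := by
  have he : ∀ c, eigen mul (φ a) c = (eigen mul a c).map (φ : V →ₗ[ℝ] V) := by
    intro c
    ext v
    obtain ⟨w, rfl⟩ := φ.surjective v
    rw [maj_mem_eigen, ← hφ, ← map_smul, φ.injective.eq_iff, ← maj_mem_eigen]
    exact ⟨fun h => ⟨w, h, rfl⟩, fun ⟨x, hx, e⟩ => φ.injective e ▸ hx⟩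
  have hs : ∀ S, eigenSum mul (φ a) S = (eigenSum mul a S).map (φ : V →ₗ[ℝ] V) := by
    intro S
    simp only [eigenSum, Submodule.map_iSup, he]
  have hc' : ∀ v, (φ * μ * φ⁻¹) (φ v) = φ (μ v) := fun v =>
    congrArg (fun x => φ (μ x)) (φ.symm_apply_apply v)
  obtain ⟨h1, h2, ⟨⟨h3, h4, h5, h6⟩, h7⟩, h8, h9⟩ := h
  refine ⟨fun u v => ?_, fun u v => ?_, ⟨⟨fun e => h3 (φ.injective (by simpa using e)),
    by rw [← hφ, h4], ?_, ?_⟩, ?_⟩, ?_, ?_⟩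
  · obtain ⟨u, rfl⟩ := φ.surjective u
    obtain ⟨v, rfl⟩ := φ.surjective v
    rw [← hφ, hc', hc', hc', h1, hφ]
  · obtain ⟨u, rfl⟩ := φ.surjective u
    obtain ⟨v, rfl⟩ := φ.surjective v
    rw [hc', hc', hB, hB, h2]
  · rw [hs, h5, Submodule.map_top, LinearEquiv.range]
  · intro c hc d hd u hu v hv
    rw [he] at hu hv
    obtain ⟨u, hu, rfl⟩ := hu
    obtain ⟨v, hv, rfl⟩ := hv
    rw [hs]
    exact ⟨mul u v, h6 c hc d hd u hu v hv, hφ u v⟩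
  · rw [he, h7, Submodule.map_span, Set.image_singleton]; rfl
  · intro v hv
    rw [hs] at hv
    obtain ⟨v, hv, rfl⟩ := hv
    exact (hc' v).trans (congrArg φ (h8 v hv))
  · intro v hv
    rw [he] at hv
    obtain ⟨v, hv, rfl⟩ := hv
    exact (hc' v).trans ((congrArg φ (h9 v hv)).trans (map_neg φ v))

/-- `s` is the invariant part of the product of `x` and `y`. -/
def Sg (mul : V →ₗ[ℝ] V →ₗ[ℝ] V) (x y s : V) : Prop := mul x y = s + (1 / 32 : ℝ) • (x + y)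

theorem Sg.symm (hV : IsMajoranaAmbient mul B) {x y s : V} (h : Sg mul x y s) : Sg mul y x s := by
  unfold Sg at *
  rw [hV.1, h, add_comm x]

theorem maj_one (hV : IsMajoranaAmbient mul B) {μ : V ≃ₗ[ℝ] V} {a b b' s : V} {l : ℝ}
    (h : IsMajoranaPair mul B μ a) (hn : B a a = 1) (hb : μ b = b') (hs : Sg mul a b s)
    (hl : B a b = l) :
    Sg mul a b' s ∧
    mul a s = (7 / 32 : ℝ) • s + (3 * l / 4 - 25 / 1024) • a + (7 / 2048 : ℝ) • (b + b') ∧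
    mul a (mul ((4 : ℝ) • s + (1 / 8 - 4 * l) • a + (1 / 16 : ℝ) • (b + b'))
      ((4 : ℝ) • s + (1 / 8 - 4 * l) • a + (1 / 16 : ℝ) • (b + b'))) =
      (B ((4 : ℝ) • s + (1 / 8 - 4 * l) • a + (1 / 16 : ℝ) • (b + b')) b / 4) • a := by
  obtain ⟨hcm, hsym, -, has, -⟩ := hV
  have haa : mul a a = a := h.2.2.1.1.2.1
  obtain ⟨l', α, β, γ, e, hα, hβ, hγ⟩ := maj_split h b
  have e' : b' = l' • a + α + β - γ := by rw [← hb, e, maj_apply h l' hα hβ hγ]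
  have h1 : B a α = 0 := by rw [← haa, ← has, hα, map_zero]
  have h2 : B a β = 0 := by
    have : B a β = (1 / 4) * B a β := by
      conv_lhs => rw [← haa, ← has, hβ, map_smul, smul_eq_mul]
    linarith
  have h3 : B a γ = 0 := by
    have : B a γ = (1 / 32) * B a γ := by
      conv_lhs => rw [← haa, ← has, hγ, map_smul, smul_eq_mul]
    linarith
  have h4 : B β α = 0 := by
    have := has β a α
    rw [hα, hcm β a, hβ] at this
    simpa using this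
  have h5 : B β γ = 0 := by
    have := has β a γ
    rw [hγ, hcm β a, hβ] at this
    simp only [map_smul, LinearMap.smul_apply, smul_eq_mul] at this
    linarith
  have hl' : l' = l := by
    rw [← hl, e]
    simp [h1, h2, h3, hn]
  subst hl'
  have hs' : s = l' • a + (1 / 4 : ℝ) • β + (1 / 32 : ℝ) • γ - (1 / 32 : ℝ) • (a + b) := by
    unfold Sg at hs
    rw [eq_sub_iff_add_eq, ← hs, e]
    simp only [map_add, map_smul, haa, hα, hβ, hγ, add_zero]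
  have hβ' : (4 : ℝ) • s + (1 / 8 - 4 * l') • a + (1 / 16 : ℝ) • (b + b') = β := by
    rw [hs', e', e]; module
  refine ⟨?_, ?_, ?_⟩
  · unfold Sg
    rw [hs', e', e]
    simp only [map_add, map_sub, map_smul, haa, hα, hβ, hγ, add_zero]
    module
  · rw [hs', e', e]
    simp only [map_add, map_sub, map_smul, haa, hα, hβ, hγ, add_zero]
    module
  · rw [hβ']
    have h6 := maj_44 h hβ hβ
    have h7 : mul a (mul β β) ∈ eigen mul a 1 := maj_mem_eigen.2 (by rw [h6, one_smul])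
    rw [h.2.2.1.2, Submodule.mem_span_singleton] at h7
    obtain ⟨c, hc⟩ := h7
    have h8 : c = B β b / 4 := by
      have h9 : B a (mul a (mul β β)) = c := by rw [← hc]; simp [hn]
      rw [← h9, has, haa, has, hβ, e]
      simp only [map_add, map_smul, LinearMap.smul_apply, smul_eq_mul, h4, h5, hsym β a, h2]
      ring
    rw [← hc, h8]

theorem maj_five (hV : IsMajoranaAmbient mul B) {t₀ t₁ t₁' : V ≃ₗ[ℝ] V}
    {x₂' x₁' x₀ x₁ x₂ s p q : V} {l m n : ℝ}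
    (h₀ : IsMajoranaPair mul B t₀ x₀) (h₁ : IsMajoranaPair mul B t₁ x₁)
    (h₁' : IsMajoranaPair mul B t₁' x₁') (n₀ : B x₀ x₀ = 1) (n₁ : B x₁ x₁ = 1)
    (n₁' : B x₁' x₁' = 1) (e₁ : t₀ x₁ = x₁') (e₂ : t₁ x₀ = x₂) (e₃ : t₁' x₀ = x₂')
    (e₄ : t₀ x₂ = x₂') (hs : Sg mul x₀ x₁ s) (hp : Sg mul x₀ x₂ p) (hq : Sg mul x₁' x₁ q)
    (hl : B x₀ x₁ = l) (hm : B x₀ x₂ = m) (hn : B x₁' x₁ = n) :
    n = m ∧ B x₀ s = (31 * l - 1) / 32 ∧ B x₀ p = (31 * m - 1) / 32 ∧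
    B x₀ q = (30 * l + m - 1) / 32 ∧
    mul x₀ q = (32 / 3 * l - 19 / 48) • s + (7 / 96 : ℝ) • p +
      (-32 / 3 * l ^ 2 + 5 / 3 * l - 1 / 24 * m - 127 / 3072) • x₀ +
      (1 / 6 * l - 19 / 3072) • (x₁ + x₁') + (7 / 6144 : ℝ) • (x₂ + x₂') ∧
    (3 : ℝ) • mul s s = (-5 / 4 * l - 13 / 512) • s + (-7 / 512 : ℝ) • p + (21 / 2048 : ℝ) • q +
      (7 / 2 * l ^ 2 - 7 / 128 * l + 7 / 512 * m - 7 / 32768) • x₀ +
      (49 / 256 * l - 245 / 65536) • (x₁ + x₁') + (49 / 65536 : ℝ) • (x₂ + x₂') := by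
  have hf := maj_fix h₀
  have hl' : B x₀ x₁' = l := by rw [← hl, ← h₀.2.1 x₀ x₁, hf, e₁]
  have hm' : B x₀ x₂' = m := by rw [← hm, ← h₀.2.1 x₀ x₂, hf, e₄]
  obtain ⟨hs', m0, hββ⟩ := maj_one hV h₀ n₀ e₁ hs hl
  obtain ⟨hp', m0p, -⟩ := maj_one hV h₀ n₀ e₄ hp hm
  obtain ⟨-, m1, -⟩ := maj_one hV h₁ n₁ e₂ (hs.symm hV) ((hV.2.1 _ _).trans hl)
  obtain ⟨-, m1', -⟩ := maj_one hV h₁' n₁' e₃ (hs'.symm hV) ((hV.2.1 _ _).trans hl')
  obtain ⟨hcm, hsym, -, has, -⟩ := hV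
  have i0 : mul x₀ x₀ = x₀ := h₀.2.2.1.1.2.1
  have i1 : mul x₁ x₁ = x₁ := h₁.2.2.1.1.2.1
  have i1' : mul x₁' x₁' = x₁' := h₁'.2.2.1.1.2.1
  unfold Sg at hs hs' hp hp' hq
  have b1 : B x₀ s = (31 * l - 1) / 32 := by
    have := congrArg (B x₀) hs
    rw [has, i0] at this
    simp only [map_add, map_smul, smul_eq_mul, hl, n₀] at this
    linarith
  have b2 : B x₀ p = (31 * m - 1) / 32 := by
    have := congrArg (B x₀) hp
    rw [has, i0] at this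
    simp only [map_add, map_smul, smul_eq_mul, hm, n₀] at this
    linarith
  have b3 : B x₁ s = (31 * l - 1) / 32 := by
    have := congrArg (B x₁) hs
    rw [hcm x₀, has, i1] at this
    simp only [map_add, map_smul, smul_eq_mul, hsym x₁ x₀, hl, n₁] at this
    linarith
  have b4 : B x₀ q = (30 * l + n - 1) / 32 := by
    have := congrArg (B x₀) hq
    rw [has, hs'] at this
    simp only [map_add, map_smul, smul_eq_mul, LinearMap.add_apply, LinearMap.smul_apply,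
      hsym s x₁, b3, hl, hl', hn] at this
    linarith
  have hβ : mul x₀ ((4 : ℝ) • s + (1 / 8 - 4 * l) • x₀ + (1 / 16 : ℝ) • (x₁ + x₁')) =
      (1 / 4 : ℝ) • ((4 : ℝ) • s + (1 / 8 - 4 * l) • x₀ + (1 / 16 : ℝ) • (x₁ + x₁')) := by
    simp only [map_add, map_smul, m0, i0, hs, hs']
    module
  have hα : mul x₀ ((-4 : ℝ) • s + (3 * l - 1 / 8) • x₀ + (7 / 16 : ℝ) • (x₁ + x₁')) = 0 := by
    simp only [map_add, map_smul, m0, i0, hs, hs']
    module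
  have hαα := maj_00 h₀ hα hα
  have hαβ := maj_04 h₀ hα hβ
  have hc : B ((4 : ℝ) • s + (1 / 8 - 4 * l) • x₀ + (1 / 16 : ℝ) • (x₁ + x₁')) x₁ =
      (31 * l - 1) / 8 + (1 / 8 - 4 * l) * l + (1 + n) / 16 := by
    simp only [map_add, map_smul, smul_eq_mul, LinearMap.add_apply, LinearMap.smul_apply,
      hsym s x₁, b3, hl, hn, n₁]
    ring
  rw [hc] at hββ
  simp only [map_add, map_smul, LinearMap.add_apply, LinearMap.smul_apply, hcm s x₀, hcm s x₁,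
    hcm s x₁', hcm x₁ x₀, hcm x₁' x₀, hcm x₁ x₁', m0, m1, m1', i0, i1, i1', hs, hs', hq, hp,
    hp'] at hαα hαβ hββ
  have r1 : mul x₀ q = (32 / 3 * l - 19 / 48) • s + (7 / 96 : ℝ) • p +
      (-32 / 3 * l ^ 2 + 5 / 3 * l - 1 / 24 * n - 127 / 3072) • x₀ +
      (1 / 6 * l - 19 / 3072) • (x₁ + x₁') + (7 / 6144 : ℝ) • (x₂ + x₂') := by
    linear_combination (norm := module) (8 / 3 : ℝ) • hαα - (8 / 3 : ℝ) • hββ
  have hnm : n = m := by
    have := congrArg (B x₀) r1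
    rw [has, i0] at this
    simp only [map_add, map_smul, smul_eq_mul, b1, b2, b4, hl, hl', hm, hm', n₀] at this
    linarith
  subst hnm
  refine ⟨rfl, b1, b2, b4, r1, ?_⟩
  rw [r1] at hαα hαβ
  linear_combination (norm := module) (3 / 4 : ℝ) • hαα + (3 / 4 : ℝ) • hαβ

theorem sakuma_poly {l m : ℝ}
    (h4 : (-786432/7)*l^4 + (872448/7)*l^3 + (-15360/7)*l^2*m + (-69120/7)*l^2 + (-3336/7)*l*m +
      (1800/7)*l + (-48/7)*m^2 + (501/56)*m + (-117/56) = 0)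
    (h2 : (402653184/49)*l^5 + (-453771264/49)*l^4 + (19660800/49)*l^3*m + (33103872/49)*l^3 +
      (-1195008/49)*l^2*m + (-92160/7)*l^2 + (70656/49)*l*m^2 + (124392/49)*l*m + (-216/7)*l +
      (2088/49)*m^2 + (-8703/196)*m + (351/196) = 0) :
    l = 1 ∨ m = 1 ∨ (l = 1 / 64 ∧ m = 1 / 64) ∨ (l = 13 / 256 ∧ m = 13 / 256) ∨
      (l = 1 / 32 ∧ m = 0) ∨ (l = 1 / 64 ∧ m = 1 / 8) ∨ (l = 3 / 128 ∧ m = 3 / 128) ∨
      (l = 5 / 256 ∧ m = 13 / 256) := by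
  have hQ : ((-2949120/49)*l^3 + (-138240)*l^2 + (71460/49)*l + (8775/784)) * m +
      ((-754974720/49)*l^5 + (796262400/49)*l^4 + (-30689280/49)*l^3 + (-1002240/49)*l^2 +
        (55260/49)*l + (-8775/784)) = 0 := by
    linear_combination h2 + ((1472/7)*l + (87/14)) * h4
  have hR : (l - 1) * (l * ((l - 1 / 8) * ((l - 1 / 64) ^ 2 * ((l - 13 / 256) * ((l - 1 / 32) *
      ((l - 3 / 128) * (l - 5 / 256))))))) = 0 := by
    linear_combination (343 / 1709960483517235200) *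
      (((-2949120/49)*l^3 + (-138240)*l^2 + (71460/49)*l + (8775/784)) ^ 2 * h4 -
      ((-48/7) * (((-2949120/49)*l^3 + (-138240)*l^2 + (71460/49)*l + (8775/784)) * m -
        ((-754974720/49)*l^5 + (796262400/49)*l^4 + (-30689280/49)*l^3 + (-1002240/49)*l^2 +
        (55260/49)*l + (-8775/784))) + ((-15360/7)*l^2 + (-3336/7)*l + (501/56)) *
        ((-2949120/49)*l^3 + (-138240)*l^2 + (71460/49)*l + (8775/784))) * hQ)
  simp only [mul_eq_zero, sub_eq_zero, pow_eq_zero_iff (two_ne_zero)] at hR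
  rcases hR with h | h | h | h | h | h | h | h
  · exact Or.inl h
  · subst h; right; left; linarith
  · subst h; right; left; linarith
  · subst h
    have : (m - 1 / 64) * (m - 1 / 8) = 0 := by linear_combination (-7 / 48) * h4
    rcases mul_eq_zero.1 this with h | h
    · exact Or.inr (Or.inr (Or.inl ⟨rfl, by linarith⟩))
    · exact Or.inr (Or.inr (Or.inr (Or.inr (Or.inr (Or.inl ⟨rfl, by linarith⟩)))))
  · subst h; exact Or.inr (Or.inr (Or.inr (Or.inl ⟨rfl, by linarith⟩)))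
  · subst h; exact Or.inr (Or.inr (Or.inr (Or.inr (Or.inl ⟨rfl, by linarith⟩))))
  · subst h; exact Or.inr (Or.inr (Or.inr (Or.inr (Or.inr (Or.inr (Or.inl ⟨rfl, by linarith⟩))))))
  · subst h; exact Or.inr (Or.inr (Or.inr (Or.inr (Or.inr (Or.inr (Or.inr ⟨rfl, by linarith⟩))))))

theorem sakuma_seq (hV : IsMajoranaAmbient mul B) (a : ℤ → V) (t : ℤ → V ≃ₗ[ℝ] V)
    (h : ∀ i, IsMajoranaPair mul B (t i) (a i)) (hn : ∀ i, B (a i) (a i) = 1)
    (ht : ∀ i j, t i (a j) = a (2 * i - j)) : ∃ n : ℕ, 1 ≤ n ∧ n ≤ 6 ∧ B (a 0) (a n) = 1 := by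
  have hsym := hV.2.1
  have has := hV.2.2.2.1
  have hT : ∀ i j k, 2 * i - j = k → t i (a j) = a k := fun i j k e => e ▸ ht i j
  have hB : ∀ k i j i' j', 2 * k - i = i' → 2 * k - j = j' → B (a i') (a j') = B (a i) (a j) :=
    fun k i j i' j' e e' => by rw [← e, ← e', ← ht, ← ht, (h k).2.1]
  have st : ∀ i j k {s : V}, 2 * i - j = k → Sg mul (a j) (a i) s → Sg mul (a i) (a k) s :=
    fun i j k s e hs => (maj_one hV (h i) (hn i) (hT i j k e) (hs.symm hV) rfl).1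
  have ex : ∀ x y, ∃ s, Sg mul x y s := fun x y =>
    ⟨mul x y - (1 / 32 : ℝ) • (x + y), (sub_add_cancel _ _).symm⟩
  obtain ⟨s, s0⟩ : ∃ s, Sg mul (a (-1)) (a 0) s := ex _ _
  obtain ⟨p, p0⟩ : ∃ s, Sg mul (a (-2)) (a 0) s := ex _ _
  obtain ⟨q, q0⟩ : ∃ s, Sg mul (a (-1)) (a 1) s := ex _ _
  have s1 : Sg mul (a 0) (a 1) s := st 0 (-1) 1 (by norm_num) s0
  have s2 : Sg mul (a 1) (a 2) s := st 1 0 2 (by norm_num) s1
  have s3 : Sg mul (a 2) (a 3) s := st 2 1 3 (by norm_num) s2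
  have s4 : Sg mul (a 3) (a 4) s := st 3 2 4 (by norm_num) s3
  have s5 : Sg mul (a 4) (a 5) s := st 4 3 5 (by norm_num) s4
  have p1 : Sg mul (a 0) (a 2) p := st 0 (-2) 2 (by norm_num) p0
  have p2 : Sg mul (a 2) (a 4) p := st 2 0 4 (by norm_num) p1
  have p3 : Sg mul (a 4) (a 6) p := st 4 2 6 (by norm_num) p2
  have q1 : Sg mul (a 1) (a 3) q := st 1 (-1) 3 (by norm_num) q0
  have q2 : Sg mul (a 3) (a 5) q := st 3 1 5 (by norm_num) q1
  obtain ⟨l, l1⟩ : ∃ l, B (a 0) (a 1) = l := ⟨_, rfl⟩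
  obtain ⟨m, m1⟩ : ∃ l, B (a 0) (a 2) = l := ⟨_, rfl⟩
  have l0 : B (a (-1)) (a 0) = l := (hB 0 1 0 (-1) 0 (by norm_num) (by norm_num)).trans ((hsym _ _).trans l1)
  have l2 : B (a 1) (a 2) = l := (hB 1 1 0 1 2 (by norm_num) (by norm_num)).trans ((hsym _ _).trans l1)
  have l3 : B (a 2) (a 3) = l := (hB 2 2 1 2 3 (by norm_num) (by norm_num)).trans ((hsym _ _).trans l2)
  have l4 : B (a 3) (a 4) = l := (hB 3 3 2 3 4 (by norm_num) (by norm_num)).trans ((hsym _ _).trans l3)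
  have l5 : B (a 4) (a 5) = l := (hB 4 4 3 4 5 (by norm_num) (by norm_num)).trans ((hsym _ _).trans l4)
  have m0 : B (a (-2)) (a 0) = m := (hB 0 2 0 (-2) 0 (by norm_num) (by norm_num)).trans ((hsym _ _).trans m1)
  have m2 : B (a 2) (a 4) = m := (hB 2 2 0 2 4 (by norm_num) (by norm_num)).trans ((hsym _ _).trans m1)
  have m3 : B (a 4) (a 6) = m := (hB 4 4 2 4 6 (by norm_num) (by norm_num)).trans ((hsym _ _).trans m2)
  obtain ⟨n0, b0s, b0p, b0q, r0, E0⟩ := maj_five hV (x₂' := a (-2)) (x₂ := a 2) (h 0) (h 1) (h (-1))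
    (hn _) (hn _) (hn _) (hT 0 1 (-1) (by norm_num)) (hT 1 0 2 (by norm_num)) (hT (-1) 0 (-2) (by norm_num)) (hT 0 2 (-2) (by norm_num)) s1 p1 q0 l1 m1 rfl
  have n1 : B (a 1) (a 3) = m := (hB 1 1 (-1) 1 3 (by norm_num) (by norm_num)).trans ((hsym _ _).trans n0)
  have n2 : B (a 3) (a 5) = m := (hB 3 3 1 3 5 (by norm_num) (by norm_num)).trans ((hsym _ _).trans n1)
  obtain ⟨-, -, -, -, -, E1⟩ := maj_five hV (x₂' := a (-1)) (x₂ := a 3) (h 1) (h 2) (h 0)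
    (hn _) (hn _) (hn _) (hT 1 2 0 (by norm_num)) (hT 2 1 3 (by norm_num)) (hT 0 1 (-1) (by norm_num)) (hT 1 3 (-1) (by norm_num)) s2 q1 p1 l2 n1 m1
  obtain ⟨-, b2s, b2p, -, -, E2⟩ := maj_five hV (x₂' := a 0) (x₂ := a 4) (h 2) (h 3) (h 1)
    (hn _) (hn _) (hn _) (hT 2 3 1 (by norm_num)) (hT 3 2 4 (by norm_num)) (hT 1 2 0 (by norm_num)) (hT 2 4 0 (by norm_num)) s3 p2 q1 l3 m2 n1
  obtain ⟨-, b3s, b3q, b3p, -, E3⟩ := maj_five hV (x₂' := a 1) (x₂ := a 5) (h 3) (h 4) (h 2)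
    (hn _) (hn _) (hn _) (hT 3 4 2 (by norm_num)) (hT 4 3 5 (by norm_num)) (hT 2 3 1 (by norm_num)) (hT 3 5 1 (by norm_num)) s4 q2 p2 l4 n2 m2
  obtain ⟨-, -, -, -, -, E4⟩ := maj_five hV (x₂' := a 2) (x₂ := a 6) (h 4) (h 5) (h 3)
    (hn _) (hn _) (hn _) (hT 4 5 3 (by norm_num)) (hT 5 4 6 (by norm_num)) (hT 3 4 2 (by norm_num)) (hT 4 6 2 (by norm_num)) s5 p3 q2 l5 m3 n2
  obtain ⟨k, hk⟩ : ∃ k : ℝ, k = 256 * l - 6 := ⟨_, rfl⟩
  obtain ⟨u, hu⟩ : ∃ u : ℝ, u = (32768 * l ^ 2 - 2304 * l + 128 * m + 33) / 7 := ⟨_, rfl⟩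
  have R0 : a 3 = a (-2) + k • (a (-1) - a 2) + u • (a 0 - a 1) - (32 : ℝ) • (p - q) := by
    rw [hk, hu]
    linear_combination (norm := module) (65536 / 49 : ℝ) • E0 - (65536 / 49 : ℝ) • E1
  have R1 : a 4 = a (-1) + k • (a 0 - a 3) + u • (a 1 - a 2) + (32 : ℝ) • (p - q) := by
    rw [hk, hu]
    linear_combination (norm := module) (65536 / 49 : ℝ) • E1 - (65536 / 49 : ℝ) • E2
  have R2 : a 5 = a 0 + k • (a 1 - a 4) + u • (a 2 - a 3) - (32 : ℝ) • (p - q) := by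
    rw [hk, hu]
    linear_combination (norm := module) (65536 / 49 : ℝ) • E2 - (65536 / 49 : ℝ) • E3
  have R3 : a 6 = a 1 + k • (a 2 - a 5) + u • (a 3 - a 4) + (32 : ℝ) • (p - q) := by
    rw [hk, hu]
    linear_combination (norm := module) (65536 / 49 : ℝ) • E3 - (65536 / 49 : ℝ) • E4
  have l0' : B (a 0) (a (-1)) = l := (hsym _ _).trans l0
  have m0' : B (a 0) (a (-2)) = m := (hsym _ _).trans m0
  obtain ⟨L3, hL3⟩ : ∃ x, B (a 0) (a 3) = x := ⟨_, rfl⟩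
  obtain ⟨L4, hL4⟩ : ∃ x, B (a 0) (a 4) = x := ⟨_, rfl⟩
  obtain ⟨L5, hL5⟩ : ∃ x, B (a 0) (a 5) = x := ⟨_, rfl⟩
  obtain ⟨L6, hL6⟩ : ∃ x, B (a 0) (a 6) = x := ⟨_, rfl⟩
  obtain ⟨L4', hL4'⟩ : ∃ x, B (a 3) (a (-1)) = x := ⟨_, rfl⟩
  have e3 := congrArg (B (a 0)) R0
  have e4 := congrArg (B (a 0)) R1
  have e5 := congrArg (B (a 0)) R2
  have e6 := congrArg (B (a 0)) R3
  have e7 := congrArg (B (a 3)) R1
  have c30 : B (a 3) (a 0) = L3 := (hsym _ _).trans hL3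
  have c31 : B (a 3) (a 1) = m := (hsym _ _).trans n1
  have c32 : B (a 3) (a 2) = l := (hsym _ _).trans l3
  have c35 : B (a 3) (a (-2)) = L5 := (hB (-1) (-5) 0 3 (-2) (by norm_num) (by norm_num)).trans ((hB 0 5 0 (-5) 0 (by norm_num) (by norm_num)).trans
    ((hsym _ _).trans hL5))
  have c20 : B (a 2) (a 0) = m := (hsym _ _).trans m1
  have c21 : B (a 2) (a 1) = l := (hsym _ _).trans l2
  have c23 : B (a 2) (a (-1)) = L3 := (hB 1 0 3 2 (-1) (by norm_num) (by norm_num)).trans hL3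
  have c24 : B (a 2) (a (-2)) = L4 := (hB 1 0 4 2 (-2) (by norm_num) (by norm_num)).trans hL4
  simp only [map_add, map_sub, map_smul, smul_eq_mul, hn, l1, m1, l0', m0', hL3, hL4, hL5, hL6,
    b0p, b0q, l4, hL4', c30, c31, c32, b3p, b3q] at e3 e4 e5 e6 e7
  have i0 : mul (a 0) (a 0) = a 0 := (h 0).2.2.1.1.2.1
  have i3 : mul (a 3) (a 3) = a 3 := (h 3).2.2.1.1.2.1
  have m0p := (maj_one hV (h 0) (hn 0) (hT 0 2 (-2) (by norm_num)) p1 m1).2.1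
  have s0' := s0.symm hV
  have p0' := p0.symm hV
  unfold Sg at s0' p0' s1 p1
  have M := congrArg (mul (a 0)) R0
  simp only [map_add, map_sub, map_smul, s0', p0', s1, p1, i0, r0, m0p] at M
  have M2 := congrArg (B (a 2)) M
  have M3 := congrArg (B (a 3)) M
  rw [has, hV.1 (a 2), p1, hsym] at M2
  rw [hV.1 (a 0), has, i3] at M3
  simp only [map_add, map_sub, map_smul, smul_eq_mul, hn, c30, c31, c32, c35, c20, c21, c23, c24,
    hL4', b2s, b2p, b3s, b3p] at M2 M3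
  have e7' : L4' = L4 := by linear_combination -e7 - e4
  subst e7'
  rcases sakuma_poly (l := l) (m := m) (by subst hk hu e3; subst e4; linear_combination -M2)
    (by subst hk hu e3; subst e4; subst e5; linear_combination -M3) with
    h | h | ⟨h, h'⟩ | ⟨h, h'⟩ | ⟨h, h'⟩ | ⟨h, h'⟩ | ⟨h, h'⟩ | ⟨h, h'⟩
  · exact ⟨1, by norm_num, by norm_num, l1.trans h⟩
  · exact ⟨2, by norm_num, by norm_num, m1.trans h⟩
  · exact ⟨3, by norm_num, by norm_num, hL3.trans (by rw [e3, hk, hu, h, h']; norm_num)⟩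
  · exact ⟨3, by norm_num, by norm_num, hL3.trans (by rw [e3, hk, hu, h, h']; norm_num)⟩
  · exact ⟨4, by norm_num, by norm_num, hL4.trans (by rw [e4, e3, hk, hu, h, h']; norm_num)⟩
  · exact ⟨4, by norm_num, by norm_num, hL4.trans (by rw [e4, e3, hk, hu, h, h']; norm_num)⟩
  · exact ⟨5, by norm_num, by norm_num, hL5.trans (by rw [e5, e4, e3, hk, hu, h, h']; norm_num)⟩
  · exact ⟨6, by norm_num, by norm_num,
      hL6.trans (by rw [e6, e5, e4, e3, hk, hu, h, h']; norm_num)⟩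

theorem sakuma (hV : IsMajoranaAmbient mul B) {μ₀ μ₁ : V ≃ₗ[ℝ] V} {a₀ a₁ : V}
    (h₀ : IsMajoranaPair mul B μ₀ a₀) (h₁ : IsMajoranaPair mul B μ₁ a₁) (hn₀ : B a₀ a₀ = 1)
    (hn₁ : B a₁ a₁ = 1) : ∃ n : ℕ, 1 ≤ n ∧ n ≤ 6 ∧ (μ₀ * μ₁) ^ n = 1 := by
  have q0 := maj_sq h₀
  have q1 := maj_sq h₁
  obtain ⟨ρ, hρ⟩ : ∃ ρ, ρ = μ₁ * μ₀ := ⟨_, rfl⟩
  have i0 : μ₀⁻¹ = μ₀ := inv_eq_of_mul_eq_one_right q0
  have i1 : μ₁⁻¹ = μ₁ := inv_eq_of_mul_eq_one_right q1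
  have hρi : ρ⁻¹ = μ₀ * μ₁ := by rw [hρ, mul_inv_rev, i0, i1]
  have hc : ∀ k : ℤ, μ₀ * ρ ^ k = ρ ^ (-k) * μ₀ := by
    intro k
    have : μ₀ * ρ * μ₀⁻¹ = ρ⁻¹ := by rw [hρi, hρ]; group
    rw [zpow_neg, ← inv_zpow, ← this, conj_zpow]
    group
  have h10 : μ₁ = ρ * μ₀ := by rw [hρ, mul_assoc, q0, mul_one]
  let A : Subgroup (V ≃ₗ[ℝ] V) :=
    { carrier := {φ | (∀ u v, φ (mul u v) = mul (φ u) (φ v)) ∧ ∀ u v, B (φ u) (φ v) = B u v}
      mul_mem' := fun {x y} hx hy => ⟨fun u v => by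
        simp only [LinearEquiv.mul_apply, hy.1, hx.1], fun u v => by
        simp only [LinearEquiv.mul_apply, hy.2, hx.2]⟩
      one_mem' := ⟨fun _ _ => rfl, fun _ _ => rfl⟩
      inv_mem' := fun {x} hx => ⟨fun u v => x.injective (by
        rw [hx.1]
        change x (x.symm _) = mul (x (x.symm _)) (x (x.symm _))
        simp), fun u v => by
        rw [← hx.2]
        change B (x (x.symm _)) (x (x.symm _)) = _
        simp⟩ }
  have hρA : ∀ k : ℤ, ρ ^ k ∈ A := fun k =>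
    A.zpow_mem (hρ ▸ A.mul_mem ⟨h₁.1, h₁.2.1⟩ ⟨h₀.1, h₀.2.1⟩) k
  obtain ⟨a, ha0, ha1⟩ : ∃ a : ℤ → V, (∀ k, a (2 * k) = (ρ ^ k) a₀) ∧
      ∀ k, a (2 * k + 1) = (ρ ^ k) a₁ := by
    refine ⟨fun i => (ρ ^ (i / 2)) (if i % 2 = 0 then a₀ else a₁), fun k => ?_, fun k => ?_⟩
    · simp only
      rw [show 2 * k / 2 = k by omega, if_pos (by omega)]
    · simp only
      rw [show (2 * k + 1) / 2 = k by omega, if_neg (by omega)]
  have hP : ∀ i : ℤ, IsMajoranaPair mul B (ρ ^ i * μ₀) (a i) := by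
    intro i
    obtain ⟨k, rfl | rfl⟩ := Int.even_or_odd' i
    · have := maj_conj' h₀ (hρA k).1 (hρA k).2
      rwa [mul_assoc, ← zpow_neg, hc, neg_neg, ← mul_assoc, ← zpow_add, ← two_mul, ← ha0] at this
    · have := maj_conj' h₁ (hρA k).1 (hρA k).2
      rwa [h10, mul_assoc, mul_assoc, ← zpow_neg, hc, neg_neg, ← mul_assoc, ← mul_assoc,
        ← zpow_add_one, ← zpow_add, show k + 1 + k = 2 * k + 1 by ring, ← ha1] at this
  have hN : ∀ i, B (a i) (a i) = 1 := by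
    intro i
    obtain ⟨k, rfl | rfl⟩ := Int.even_or_odd' i
    · rw [ha0, (hρA k).2, hn₀]
    · rw [ha1, (hρA k).2, hn₁]
  have hT : ∀ i j : ℤ, (ρ ^ i * μ₀) (a j) = a (2 * i - j) := by
    intro i j
    obtain ⟨k, rfl | rfl⟩ := Int.even_or_odd' j
    · rw [ha0, ← LinearEquiv.mul_apply, mul_assoc, hc, ← mul_assoc, ← zpow_add,
        LinearEquiv.mul_apply, maj_fix h₀, ← ha0]
      congr 1; ring
    · have : μ₀ = ρ ^ (-1 : ℤ) * μ₁ := by rw [h10]; group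
      rw [ha1, ← LinearEquiv.mul_apply, mul_assoc, hc, ← mul_assoc, ← zpow_add, this,
        ← mul_assoc, ← zpow_add, LinearEquiv.mul_apply, maj_fix h₁, ← ha1]
      congr 1; ring
  obtain ⟨n, h1, h6, e⟩ := sakuma_seq hV a (fun i => ρ ^ i * μ₀) hP hN hT
  refine ⟨n, h1, h6, ?_⟩
  have e1 : a 0 = a n := by
    by_contra hne
    have := hV.2.2.1 _ (sub_ne_zero.2 hne)
    simp only [map_sub, LinearMap.sub_apply, hN, e, hV.2.1 (a n) (a 0)] at this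
    norm_num at this
  have e2 := maj_uniq (hP 0) (e1 ▸ hP n)
  rw [← hρi, inv_pow, inv_eq_one, ← zpow_natCast, ← mul_right_cancel e2, zpow_zero]

end CfsgH4
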