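import Cfsg.Agent.H4.PSol3
import Cfsg.Agent.H2.MaxClass
import Cfsg.Agent.H2.PResidual

/-! Sylow 2-subgroups of maximal class and fields of values. -/

open Subgroup Function Cfsg CfsgH3 CfsgH2

namespace CfsgH4.MaxQ

theorem sigma_pow (σ : ℂ ≃+* ℂ) {ζ : ℂ} {N : ℕ} (hN : N ≠ 0) (hζ : IsPrimitiveRoot ζ N) :
    ∃ j : ℕ, σ ζ = ζ ^ j ∧ ∀ z : ℂ, z ^ N = 1 → σ z = z ^ j := by
  have : NeZero N := ⟨hN⟩
  obtain ⟨j, -, hj⟩ := hζ.eq_pow_of_pow_eq_one (ξ := σ ζ) (by rw [← map_pow, hζ.pow_eq_one, map_one])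
  refine ⟨j, hj.symm, fun z hz => ?_⟩
  obtain ⟨i, -, rfl⟩ := hζ.eq_pow_of_pow_eq_one hz
  rw [map_pow, ← hj, ← pow_mul, ← pow_mul, mul_comm]

theorem mem_adjoin_set {S : Set ℂ} (hS : S.Finite) (hi : ∀ s ∈ S, IsIntegral ℚ s) {a : ℂ}
    (ha : IsIntegral ℚ a) (h : ∀ σ : ℂ ≃+* ℂ, (∀ s ∈ S, σ s = s) → σ a = a) :
    a ∈ IntermediateField.adjoin ℚ S := by
  have := hS.to_subtype
  have : FiniteDimensional ℚ (IntermediateField.adjoin ℚ S) :=
    IntermediateField.finiteDimensional_adjoin hi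
  obtain ⟨α, hα⟩ := Field.exists_primitive_element ℚ (IntermediateField.adjoin ℚ S)
  have e : IntermediateField.adjoin ℚ ({(α : ℂ)} : Set ℂ) = IntermediateField.adjoin ℚ S := by
    rw [← IntermediateField.lift_adjoin_simple]
    exact (congrArg IntermediateField.lift hα).trans (IntermediateField.lift_top _ _)
  rw [← e]
  refine mem_adjoin_of_fixed (IntermediateField.isIntegral_iff.1 (IsIntegral.of_finite ℚ α)) ha
    fun σ hσ => h σ fun s hs => ?_
  exact fixed_of_mem_adjoin (σ : ℂ →+* ℂ) hσ (by rw [e]; exact IntermediateField.subset_adjoin _ _ hs)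

theorem fixed_set {S : Set ℂ} (σ : ℂ ≃+* ℂ) (h : ∀ s ∈ S, σ s = s) {a : ℂ}
    (ha : a ∈ IntermediateField.adjoin ℚ S) : σ a = a := by
  let K : IntermediateField ℚ ℂ :=
    (AlgHom.equalizer (σ : ℂ →+* ℂ).toRatAlgHom (AlgHom.id ℚ ℂ)).toIntermediateField fun x hx => by
      have hx' : σ x = x := hx
      show σ x⁻¹ = x⁻¹
      rw [map_inv₀, hx']
  exact (IntermediateField.adjoin_le_iff (T := K)).2 h ha

variable {G : Type*} [Group G] [Finite G]

theorem conj_cases (P : Sylow 2 G) {g : G} {s : ℕ} (ho : orderOf g = 2 ^ s)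
    (hP : (P : Subgroup G) ≤ normalizer (zpowers g : Set G)) {j : ℕ} (h : IsConj g (g ^ j)) :
    ∃ y ∈ (P : Subgroup G), y * g * y⁻¹ = g ^ j := by
  obtain ⟨x, hx⟩ := isConj_iff.1 h
  set N := normalizer (zpowers g : Set G)
  set C := centralizer ({g} : Set G)
  have hxN : x ∈ N := mem_normalizer_fintype (by
    rintro _ ⟨i, rfl⟩
    show x * g ^ i * x⁻¹ ∈ zpowers g
    rw [← conj_zpow, hx]
    exact zpow_mem (pow_mem (mem_zpowers g) j) i)
  have hNC : N ≤ normalizer (C : Set G) := fun y hy => mem_normalizer_fintype fun c hc => by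
    obtain ⟨i, hi⟩ := (mem_normalizer_iff.1 (inv_mem hy) g).1 (mem_zpowers g)
    have hc' : Commute c g := mem_centralizer_singleton_iff.1 hc
    have h1 : c * (y⁻¹ * g * y⁻¹⁻¹) = (y⁻¹ * g * y⁻¹⁻¹) * c := by
      rw [← hi]; exact (hc'.zpow_right i).eq
    show y * c * y⁻¹ ∈ C
    rw [mem_centralizer_singleton_iff]
    calc y * c * y⁻¹ * g = y * (c * (y⁻¹ * g * y⁻¹⁻¹)) * y⁻¹ := by group
      _ = g * (y * c * y⁻¹) := by rw [h1]; group
  obtain ⟨k, hk⟩ := exists_relIndex_eq_pow (p := 2) hNC (fun y hy => by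
    obtain ⟨i, hi⟩ := (mem_powers_iff_mem_zpowers.2
      ((mem_normalizer_iff.1 hy g).1 (mem_zpowers g)) : y * g * y⁻¹ ∈ Submonoid.powers g)
    have hi' : g ^ i = y * g * y⁻¹ := hi
    have hcop : i.Coprime (2 ^ s) := by
      have e : orderOf (g ^ i) = orderOf g := by
        rw [hi']; exact (MulAut.conj y).orderOf_eq g
      rw [orderOf_pow, Nat.div_eq_self] at e
      rw [← ho]
      exact Nat.Coprime.symm (e.resolve_left (orderOf_pos g).ne')
    have hm : ∀ m : ℕ, y ^ m * g * (y ^ m)⁻¹ = g ^ i ^ m := by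
      intro m
      induction m with
      | zero => simp
      | succ m ih =>
        calc y ^ (m + 1) * g * (y ^ (m + 1))⁻¹ = y * (y ^ m * g * (y ^ m)⁻¹) * y⁻¹ := by group
          _ = g ^ i ^ (m + 1) := by rw [ih, ← conj_pow, ← hi', ← pow_mul, pow_succ']
    refine ⟨s, mem_centralizer_singleton_iff.2 ?_⟩
    have h1 : i ^ 2 ^ s ≡ 1 [MOD 2 ^ s] := by
      obtain ⟨c, hc⟩ : Nat.totient (2 ^ s) ∣ 2 ^ s := by
        rcases s with _ | s
        · simp
        · rw [Nat.totient_prime_pow_succ Nat.prime_two]; simp [pow_succ]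
      have := (Nat.ModEq.pow_totient hcop).pow c
      rwa [← pow_mul, ← hc, one_pow] at this
    have h2 := hm (2 ^ s)
    have h3 : g ^ i ^ 2 ^ s = g ^ 1 := pow_eq_pow_iff_modEq.2 (by rw [ho]; exact h1)
    rw [h3, pow_one] at h2
    exact mul_inv_eq_iff_eq_mul.1 h2)
  have h1 : ((P : Subgroup G) ⊔ C).relIndex N = 1 :=
    Nat.eq_one_of_dvd_coprimes
      ((Nat.prime_two.coprime_iff_not_dvd.2 P.not_dvd_index).symm.pow_right k)
      ((relIndex_dvd_of_le_left N le_sup_left).trans (relIndex_dvd_index_of_le hP))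
      (hk ▸ relIndex_dvd_of_le_left N le_sup_right)
  obtain ⟨y, hy, c, hc, rfl⟩ := (mem_sup_of_normalizer' (hP.trans hNC)).1 (relIndex_eq_one.1 h1 hxN)
  refine ⟨y, hy, ?_⟩
  rw [← hx]
  have hc' : c * g = g * c := mem_centralizer_singleton_iff.1 hc
  calc y * g * y⁻¹ = y * (g * c) * c⁻¹ * y⁻¹ := by group
    _ = y * c * g * (y * c)⁻¹ := by rw [← hc']; group

/-- the set of character values at `g` -/
abbrev V (g : G) : Set ℂ := {z : ℂ | ∃ χ : IrrCharacter G, (χ : G → ℂ) g = z}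

theorem field_eq (P : Sylow 2 G) {g : G} {s : ℕ} (ho : orderOf g = 2 ^ s) {k : ℕ}
    (hP : (P : Subgroup G) ≤ normalizer (zpowers g : Set G))
    (hk : ∀ y ∈ (P : Subgroup G), y * g * y⁻¹ = g ∨ y * g * y⁻¹ = g ^ k) (hc : IsConj g (g ^ k))
    {ζ : ℂ} (hζ : IsPrimitiveRoot ζ (2 ^ s)) (hpr : ζ * ζ ^ k = 1 ∨ ζ * ζ ^ k = -1) :
    IntermediateField.adjoin ℚ (V g) = IntermediateField.adjoin ℚ ({ζ + ζ ^ k} : Set ℂ) := by
  have hN : 2 ^ s ≠ 0 := by positivity
  have hiV : ∀ z ∈ V g, IsIntegral ℚ z := by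
    rintro _ ⟨χ, rfl⟩
    exact (χ.2.isChar.isIntegral g).tower_top
  have hiζ : IsIntegral ℚ ζ := (hζ.isIntegral (by positivity)).tower_top
  have hprod : ∀ σ : ℂ ≃+* ℂ, σ ζ * σ ζ ^ k = ζ * ζ ^ k := by
    intro σ
    rw [← map_pow, ← map_mul]
    rcases hpr with h | h <;> simp [h]
  apply le_antisymm
  · rw [IntermediateField.adjoin_le_iff]
    rintro _ ⟨χ, rfl⟩
    refine mem_adjoin_of_fixed (hiζ.add (hiζ.pow k)) (hiV _ ⟨χ, rfl⟩) fun σ hσ => ?_
    obtain ⟨j, hj, hz⟩ := sigma_pow σ hN hζ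
    have e := χ.2.isGen.map_eq_apply_pow (σ := (σ : ℂ →+* ℂ)) (k := j) (g := g) (by rw [ho]; exact hz)
    refine e.trans ?_
    rw [map_add, map_pow] at hσ
    have h0 : (σ ζ - ζ) * (σ ζ - ζ ^ k) = 0 := by
      linear_combination σ ζ * hσ - hprod σ
    have hord : orderOf ζ = orderOf g := by rw [ho, hζ.eq_orderOf]
    rcases mul_eq_zero.1 h0 with h | h
    · have : ζ ^ j = ζ ^ 1 := by rw [← hj, pow_one]; exact sub_eq_zero.1 h
      rw [(hζ.isOfFinOrder hN).pow_eq_pow_iff_modEq, hord, ← pow_eq_pow_iff_modEq] at this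
      rw [this, pow_one]
    · have : ζ ^ j = ζ ^ k := by rw [← hj]; exact sub_eq_zero.1 h
      rw [(hζ.isOfFinOrder hN).pow_eq_pow_iff_modEq, hord, ← pow_eq_pow_iff_modEq] at this
      rw [this]
      exact (χ.2.classFun.of_isConj hc).symm
  · rw [IntermediateField.adjoin_simple_le_iff]
    refine mem_adjoin_set (Set.finite_range _) hiV (hiζ.add (hiζ.pow k)) fun σ hσ => ?_
    obtain ⟨j, hj, hz⟩ := sigma_pow σ hN hζ
    have hcj : IsConj g (g ^ j) := isConj_of_forall_irr fun χ hχ => by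
      have e := hχ.isGen.map_eq_apply_pow (σ := (σ : ℂ →+* ℂ)) (k := j) (g := g) (by rw [ho]; exact hz)
      rw [← e]
      exact (hσ _ ⟨⟨χ, hχ⟩, rfl⟩).symm
    obtain ⟨y, hy, e⟩ := conj_cases P ho hP hcj
    have hord : orderOf g = orderOf ζ := by rw [ho, hζ.eq_orderOf]
    have hp := hprod σ
    rw [map_add, map_pow]
    rcases hk y hy with h | h
    · have : g ^ j = g ^ 1 := by rw [← e, h, pow_one]
      rw [pow_eq_pow_iff_modEq, hord, ← (hζ.isOfFinOrder hN).pow_eq_pow_iff_modEq, ← hj, pow_one] at this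
      rw [this]
    · have : g ^ j = g ^ k := by rw [← e, h]
      rw [pow_eq_pow_iff_modEq, hord, ← (hζ.isOfFinOrder hN).pow_eq_pow_iff_modEq, ← hj] at this
      rw [this] at hp ⊢
      have h0 : ζ ^ k ≠ 0 := pow_ne_zero _ (hζ.ne_zero hN)
      have : (ζ ^ k) ^ k = ζ := mul_left_cancel₀ h0 (by rw [hp, mul_comm])
      rw [this, add_comm]

theorem not_conj {g : G} {r : ℕ} (hg : g ^ 2 ^ (r + 3) = 1) {ζ : ℂ}
    (hζ : IsPrimitiveRoot ζ (2 ^ (r + 3)))
    (h : IntermediateField.adjoin ℚ (V g) = IntermediateField.adjoin ℚ ({ζ + ζ⁻¹} : Set ℂ) ∨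
      IntermediateField.adjoin ℚ (V g) = IntermediateField.adjoin ℚ ({ζ - ζ⁻¹} : Set ℂ))
    (hc : IsConj g (g ^ (1 + 2 ^ (r + 2)))) : False := by
  have hN : 2 ^ (r + 3) ≠ 0 := by positivity
  obtain ⟨σ, hσ⟩ := exists_ringEquiv_pow (k := 1 + 2 ^ (r + 2)) hN
    (Nat.Coprime.pow_right _ (Nat.coprime_two_right.2 (Odd.add_even odd_one ⟨2 ^ (r + 1), by ring⟩)))
  have hfix : ∀ z ∈ V g, σ z = z := by
    rintro _ ⟨χ, rfl⟩
    have e := χ.2.isGen.map_eq_apply_pow (σ := (σ : ℂ →+* ℂ)) (k := 1 + 2 ^ (r + 2)) (g := g)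
      (fun z hz => hσ z (pow_eq_one_of_dvd hz (orderOf_dvd_of_pow_eq_one hg)))
    exact e.trans (χ.2.classFun.of_isConj hc).symm
  have hm : ζ ^ 2 ^ (r + 2) = -1 :=
    (hζ.pow (by positivity) (show 2 ^ (r + 3) = 2 ^ (r + 2) * 2 by ring)).eq_neg_one_of_two_right
  have hs : σ ζ = -ζ := by rw [hσ ζ hζ.pow_eq_one, pow_add, hm]; ring
  have h0 : ζ ≠ 0 := hζ.ne_zero hN
  have h4 : ζ ^ 4 = 1 := by
    rcases h with h | h
    · have e := fixed_set σ hfix (a := ζ + ζ⁻¹) (by rw [h]; exact IntermediateField.mem_adjoin_simple_self _ _)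
      rw [map_add, map_inv₀, hs] at e
      field_simp at e
      have : ζ ^ 2 = -1 := by linear_combination (-1 / 2 : ℂ) * e
      rw [show ζ ^ 4 = (ζ ^ 2) ^ 2 by ring, this]; norm_num
    · have e := fixed_set σ hfix (a := ζ - ζ⁻¹) (by rw [h]; exact IntermediateField.mem_adjoin_simple_self _ _)
      rw [map_sub, map_inv₀, hs] at e
      field_simp at e
      have : ζ ^ 2 = 1 := by linear_combination (-1 / 2 : ℂ) * e
      rw [show ζ ^ 4 = (ζ ^ 2) ^ 2 by ring, this]; norm_num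
  have := Nat.le_of_dvd (by norm_num) (hζ.dvd_of_pow_eq_one 4 h4)
  have : 2 ^ (r + 3) = 8 * 2 ^ r := by ring
  have : 0 < 2 ^ r := by positivity
  omega

theorem index_of_isMC {X : Type*} [Group X] [Finite X] (h : IsMC (⊤ : Subgroup X)) :
    (_root_.commutator X).index = 4 := by
  have := Fact.mk Nat.prime_two
  obtain ⟨a, b, k, m, r, h⟩ := h.exists
  have hc := h.toIdx2.card
  rw [card_top, h.ord, ← pow_succ'] at hc
  exact index_commutator_of_class hc (by omega) h.class_eq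

theorem main (P : Sylow 2 G) (n : ℕ) (hn : 3 ≤ n) (hP : Nat.card (P : Subgroup G) = 2 ^ n) (ζ : ℂ)
    (hζ : IsPrimitiveRoot ζ (2 ^ (n - 1))) :
    (_root_.commutator ↥(P : Subgroup G)).index = 4 ↔
      ∃ g : G, g ∈ (P : Subgroup G) ∧ 2 ∣ (centralizer ({g} : Set G)).index ∧
        (IntermediateField.adjoin ℚ (V g) = IntermediateField.adjoin ℚ ({ζ + ζ⁻¹} : Set ℂ) ∨
          IntermediateField.adjoin ℚ (V g) = IntermediateField.adjoin ℚ ({ζ - ζ⁻¹} : Set ℂ)) := by
  obtain ⟨r, rfl⟩ : ∃ r, n = r + 3 := ⟨n - 3, by omega⟩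
  change IsPrimitiveRoot ζ (2 ^ (r + 2)) at hζ
  have hpos : 0 < 2 ^ r := by positivity
  have e3 : 2 ^ (r + 3) = 8 * 2 ^ r := by ring
  have e2 : 2 ^ (r + 2) = 4 * 2 ^ r := by ring
  have e1 : 2 ^ (r + 1) = 2 * 2 ^ r := by ring
  constructor
  · intro h4
    have hna : ¬ IsMulCommutative (P : Subgroup G) := fun h => by
      rw [commutator_eq_bot_iff'.2 h, index_bot, hP] at h4
      omega
    obtain ⟨a, b, k, m, r', h⟩ := (isMC_of_index P.2 hna h4.le).exists
    have hc := h.toIdx2.card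
    rw [card_top, h.ord, ← pow_succ', hP] at hc
    obtain rfl : r = r' := by have := Nat.pow_right_injective le_rfl hc; omega
    have hI := h.toIdx2.map_inj (P : Subgroup G).subtype (P : Subgroup G).subtype_injective
    rw [← MonoidHom.range_eq_map, range_subtype] at hI
    have ho : orderOf (a : G) = 2 ^ (r + 2) := by rw [orderOf_coe, h.ord]
    have h0 : ζ ≠ 0 := hζ.ne_zero (by positivity)
    have hm : ζ ^ 2 ^ (r + 1) = -1 :=
      (hζ.pow (by positivity) (show 2 ^ (r + 2) = 2 ^ (r + 1) * 2 by ring)).eq_neg_one_of_two_right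
    have key : ∀ k' : ℕ, (a : G) ^ k = (a : G) ^ k' → (ζ * ζ ^ k' = 1 ∨ ζ * ζ ^ k' = -1) →
        IntermediateField.adjoin ℚ (V (a : G)) = IntermediateField.adjoin ℚ ({ζ + ζ ^ k'} : Set ℂ) := by
      intro k' hk' hpr
      refine field_eq P ho hI.le_normalizer (fun y hy => ?_) (isConj_iff.2 ⟨b, hI.conj.trans hk'⟩) hζ hpr
      obtain ⟨i, rfl | rfl⟩ := (hI.mem y).1 hy
      · left; simp only [coe_subtype]; group
      · right
        have := hI.conj_a i 1
        rw [zpow_one, mul_one] at this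
        exact this.trans hk'
    refine ⟨a, a.2, ?_, ?_⟩
    · by_contra hodd
      set C := centralizer ({(a : G)} : Set G)
      have hCN : C ≤ normalizer (zpowers (a : G) : Set G) := fun c hc => mem_normalizer_fintype (by
        rintro _ ⟨i, rfl⟩
        have hc' : Commute c (a : G) := mem_centralizer_singleton_iff.1 hc
        show c * (a : G) ^ i * c⁻¹ ∈ zpowers (a : G)
        rw [(hc'.zpow_right i).eq, mul_inv_cancel_right]
        exact ⟨i, rfl⟩)
      have hb : (b : G) ∉ C := by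
        intro hb
        apply hna
        have hba : Commute (b : G) a := mem_centralizer_singleton_iff.1 hb
        refine ⟨⟨fun x y => Subtype.ext ?_⟩⟩
        have gen : ∀ z : (P : Subgroup G), Commute (z : G) a ∧ Commute (z : G) b := fun z => by
          obtain ⟨i, e | e⟩ := (hI.mem z).1 z.2 <;> rw [e]
          · exact ⟨(Commute.refl _).zpow_left i, hba.symm.zpow_left i⟩
          · exact ⟨((Commute.refl _).zpow_left i).mul_left hba,
              (hba.symm.zpow_left i).mul_left (Commute.refl _)⟩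
        obtain ⟨i, e | e⟩ := (hI.mem y).1 y.2
        · show (x : G) * y = y * x
          rw [e]; exact ((gen x).1.zpow_right i).eq
        · show (x : G) * y = y * x
          rw [e]; exact (((gen x).1.zpow_right i).mul_right (gen x).2).eq
      set N := normalizer (zpowers (a : G) : Set G)
      have hNC : (C.subgroupOf N).Normal := by
        refine (normal_subgroupOf_iff_le_normalizer hCN).2 fun y hy => mem_normalizer_fintype fun c hc => ?_
        obtain ⟨i, hi⟩ := (mem_normalizer_iff.1 (inv_mem hy) (a : G)).1 (mem_zpowers _)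
        have hc' : Commute c (a : G) := mem_centralizer_singleton_iff.1 hc
        have h1 : c * (y⁻¹ * a * y⁻¹⁻¹) = (y⁻¹ * a * y⁻¹⁻¹) * c := by
          rw [← hi]; exact (hc'.zpow_right i).eq
        show y * c * y⁻¹ ∈ C
        rw [mem_centralizer_singleton_iff]
        calc y * c * y⁻¹ * a = y * (c * (y⁻¹ * a * y⁻¹⁻¹)) * y⁻¹ := by group
          _ = a * (y * c * y⁻¹) := by rw [h1]; group
      have hbN : (b : G) ∈ N := hI.le_normalizer b.2
      have h2 : (⟨b, hbN⟩ : N) ^ (C.subgroupOf N).index ∈ C.subgroupOf N :=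
        pow_index_mem (H := C.subgroupOf N) _
      have h3 : ¬ 2 ∣ (C.subgroupOf N).index := fun hd => hodd (hd.trans (relIndex_dvd_index_of_le hCN))
      obtain ⟨t, ht⟩ := P.2 b
      apply hb
      have h5 : (b : G) ^ (C.subgroupOf N).index ∈ C := h2
      have hco : (orderOf (b : G)).Coprime (C.subgroupOf N).index := by
        refine Nat.Coprime.coprime_dvd_left (orderOf_dvd_of_pow_eq_one (n := 2 ^ t) ?_)
          ((Nat.prime_two.coprime_iff_not_dvd.2 h3).pow_left t)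
        exact congrArg Subtype.val ht
      obtain ⟨u, hu⟩ := exists_pow_eq_self_of_coprime hco.symm
      rw [← hu]
      exact pow_mem h5 u
    · rcases h.hk with rfl | ⟨-, rfl⟩
      · left
        have hz : ζ * ζ ^ (2 ^ (r + 2) - 1) = 1 := by
          rw [← pow_succ', show 2 ^ (r + 2) - 1 + 1 = 2 ^ (r + 2) by omega, hζ.pow_eq_one]
        rw [key (2 ^ (r + 2) - 1) ?_ (Or.inl hz), eq_inv_of_mul_eq_one_right hz]
        rw [zpow_neg_one, inv_eq_iff_mul_eq_one, ← pow_succ',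
          show 2 ^ (r + 2) - 1 + 1 = 2 ^ (r + 2) by omega, ← ho, pow_orderOf_eq_one]
      · right
        have hz : ζ * ζ ^ (2 ^ (r + 1) - 1) = -1 := by
          rw [← pow_succ', show 2 ^ (r + 1) - 1 + 1 = 2 ^ (r + 1) by omega, hm]
        have hz' : ζ ^ (2 ^ (r + 1) - 1) = -ζ⁻¹ := by field_simp; rw [mul_comm]; exact hz
        rw [key (2 ^ (r + 1) - 1) ?_ (Or.inr hz), hz', ← sub_eq_add_neg]
        rw [← zpow_natCast, Nat.cast_sub (by omega)]; simp
  · rintro ⟨g, hg, h2, hf⟩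
    have hna : ¬ IsMulCommutative (P : Subgroup G) := fun h => by
      refine P.not_dvd_index (h2.trans (index_dvd_of_le fun y hy => ?_))
      exact mem_centralizer_singleton_iff.2 (congrArg Subtype.val (h.is_comm.comm ⟨y, hy⟩ ⟨g, hg⟩))
    have hna' : ¬ IsMulCommutative (⊤ : Subgroup (P : Subgroup G)) := fun h => hna (isMulCommutative_top_iff.1 h)
    have hidx : ∀ a : (P : Subgroup G), (zpowers a).index ≠ 1 := fun a e => by
      rw [index_eq_one] at e
      exact hna' (e ▸ inferInstance)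
    apply index_of_isMC
    rcases r with _ | r
    · obtain ⟨a, ha⟩ := exists_index_le_two_of_card P.2 hP.le (Or.inr hna)
      have h0 := (zpowers a).index_ne_zero_of_finite
      have h1 := hidx a
      rcases isMC_or_modular (S := ⊤) (P.2.to_subgroup ⊤) (mem_top a)
        (by rw [relIndex_top_right]; omega) hna' with h | ⟨b, r, hr, ho, hI⟩
      · exact h
      · have := hI.card
        rw [card_top, hP, ho, ← pow_succ'] at this
        have := Nat.pow_right_injective le_rfl this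
        omega
    · obtain ⟨s, hs⟩ := (IsPGroup.iff_orderOf.1 P.2) ⟨g, hg⟩
      have hs' : orderOf g = 2 ^ s := by rw [← hs, orderOf_mk]
      have hm := (zpowers (⟨g, hg⟩ : (P : Subgroup G))).card_mul_index
      rw [Nat.card_zpowers, hs, hP] at hm
      have hle : s ≤ r + 1 + 3 := (Nat.pow_dvd_pow_iff_le_right one_lt_two).1 (Dvd.intro _ hm)
      have hne : s ≠ r + 1 + 3 := by
        rintro rfl
        exact hidx _ (Nat.eq_of_mul_eq_mul_left (by positivity) (hm.trans (mul_one _).symm))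
      have hpw : g ^ 2 ^ (r + 3) = 1 :=
        orderOf_dvd_iff_pow_eq_one.1 (hs' ▸ pow_dvd_pow 2 (by omega))
      have hge : ¬ s ≤ r + 2 := fun hh => not_conj hpw hζ hf (by
        rw [pow_add, pow_one, orderOf_dvd_iff_pow_eq_one.1 (hs' ▸ pow_dvd_pow 2 hh), mul_one])
      obtain rfl : s = r + 3 := by omega
      have hi : (zpowers (⟨g, hg⟩ : (P : Subgroup G))).index = 2 :=
        Nat.eq_of_mul_eq_mul_left (by positivity : 0 < 2 ^ (r + 3)) (hm.trans (by ring))
      rcases isMC_or_modular (S := ⊤) (P.2.to_subgroup ⊤) (mem_top (⟨g, hg⟩ : (P : Subgroup G)))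
        (by rw [relIndex_top_right, hi]) hna' with h | ⟨b, r', hr, ho, hI⟩
      · exact h
      · exfalso
        rw [hs] at ho
        obtain rfl : r' = r + 2 := by have := Nat.pow_right_injective le_rfl ho; omega
        refine not_conj hpw hζ hf (isConj_iff.2 ⟨b, ?_⟩)
        have := congrArg Subtype.val hI.conj
        rw [← zpow_natCast]
        simpa using this

end CfsgH4.MaxQ
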