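import Cfsg.Agent.H2.StrEmb

/-! Miller's bound on multiple transitivity: the Sylow subgroup of a point-set stabiliser. -/

open Subgroup Equiv MulAction
open scoped Pointwise commutatorElement

namespace CfsgH4.Miller

variable {α : Type*} [Fintype α] [DecidableEq α]

omit [Fintype α] [DecidableEq α] in
theorem trans_emb (G : Subgroup (Perm α)) {m : ℕ} (hG : IsMultiplyPretransitive G α m)
    {ι : Type*} [Fintype ι] (hc : Fintype.card ι = m) (x y : ι → α) (hx : Function.Injective x)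
    (hy : Function.Injective y) : ∃ g ∈ G, ∀ i, g (x i) = y i := by
  let f := (Fintype.equivFinOfCardEq hc).symm
  obtain ⟨g, hg⟩ := isMultiplyPretransitive_iff.1 hG ⟨x ∘ f, hx.comp f.injective⟩
    ⟨y ∘ f, hy.comp f.injective⟩
  refine ⟨g, g.2, fun i => ?_⟩
  obtain ⟨j, rfl⟩ := f.surjective i
  exact congrArg (fun e : Fin m ↪ α => e j) hg

/-- pointwise stabiliser -/
def fixG (G : Subgroup (Perm α)) (Δ : Finset α) : Subgroup (Perm α) where
  carrier := {g | g ∈ G ∧ ∀ d ∈ Δ, g d = d}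
  mul_mem' := fun {a b} ha hb => ⟨mul_mem ha.1 hb.1, fun d hd => by
    rw [Perm.mul_apply, hb.2 d hd, ha.2 d hd]⟩
  one_mem' := ⟨one_mem _, fun _ _ => rfl⟩
  inv_mem' := fun {a} ha => ⟨inv_mem ha.1, fun d hd => by
    rw [Perm.inv_eq_iff_eq, ha.2 d hd]⟩

theorem exists_P (G : Subgroup (Perm α)) {p k r : ℕ} [Fact p.Prime] (Δ : Finset α) (hΔ : Δ.card = r)
    (hn : Fintype.card α = k * p + r) (hG : IsMultiplyPretransitive G α (r + 1))
    (hG' : IsMultiplyPretransitive G α r) :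
    ∃ P : Subgroup (Perm α), P ≤ G ∧ IsPGroup p P ∧ (∀ y ∈ P, ∀ d ∈ Δ, y d = d) ∧
      (∀ γ ∉ Δ, ∃ y ∈ P, y γ ≠ γ) ∧
      ∀ σ : Perm Δ, ∃ g ∈ G, g ∈ normalizer (P : Set (Perm α)) ∧ ∀ d : Δ, g d = σ d := by
  set H := fixG G Δ with hH
  obtain ⟨P₀⟩ : Nonempty (Sylow p H) := inferInstance
  refine ⟨(P₀ : Subgroup H).map H.subtype, ?_, P₀.2.map _, ?_, ?_, ?_⟩
  · rintro _ ⟨y, -, rfl⟩
    exact y.2.1
  · rintro _ ⟨y, -, rfl⟩
    exact y.2.2
  · intro γ hγ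
    by_contra hc
    push Not at hc
    have h1 : (P₀ : Subgroup H) ≤ stabilizer H γ := fun y hy => hc _ ⟨y, hy, rfl⟩
    have h2 : orbit H γ = ((Δᶜ : Finset α) : Set α) := by
      ext δ
      simp only [Finset.coe_compl, Set.mem_compl_iff, Finset.mem_coe]
      constructor
      · rintro ⟨h, rfl⟩ hd
        have e : (h : Perm α) ((h : Perm α) γ) = (h : Perm α) γ := h.2.2 _ hd
        rw [← (h : Perm α).injective e] at hγ
        exact hγ hd
      · intro hδ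
        have inj : ∀ c ∉ Δ, Function.Injective (fun o : Option Δ => o.elim c Subtype.val) := by
          rintro c hc (_ | a) (_ | b) hab
          · rfl
          · exact absurd (show c ∈ Δ from (show c = b from hab) ▸ b.2) hc
          · exact absurd (show c ∈ Δ from (show (a : α) = c from hab) ▸ a.2) hc
          · exact congrArg some (Subtype.ext hab)
        obtain ⟨g, hg, e⟩ := trans_emb G hG (ι := Option Δ) (by simp [hΔ]) _ _ (inj γ hγ) (inj δ hδ)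
        exact ⟨⟨g, hg, fun d hd => e (some ⟨d, hd⟩)⟩, e none⟩
    have h3 : (stabilizer H γ).index = k * p := by
      rw [index_stabilizer, h2, Set.ncard_coe_finset, Finset.card_compl, hn, hΔ]; omega
    exact P₀.not_dvd_index ((Dvd.intro_left k h3.symm).trans (index_dvd_of_le h1))
  · intro σ
    obtain ⟨g, hg, e⟩ := trans_emb G hG' (ι := Δ) (by simp [hΔ]) Subtype.val
      (fun d => (σ d : α)) Subtype.val_injective (Subtype.val_injective.comp σ.injective)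
    have hcj : ∀ y ∈ H, g * y * g⁻¹ ∈ H := by
      intro y hy
      refine ⟨mul_mem (mul_mem hg hy.1) (inv_mem hg), fun d hd => ?_⟩
      obtain ⟨c, hc⟩ := σ.surjective ⟨d, hd⟩
      have e1 : g c = d := (e c).trans (congrArg Subtype.val hc)
      have e2 : g⁻¹ d = c := by rw [Perm.inv_eq_iff_eq, e1]
      rw [Perm.mul_apply, Perm.mul_apply, e2, hy.2 _ c.2, e1]
    have hp : IsPGroup p ((((P₀ : Subgroup H).map H.subtype).map
        (MulAut.conj g).toMonoidHom).subgroupOf H) := ((P₀.2.map _).map _).comap_subtype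
    obtain ⟨T, hT⟩ := hp.exists_le_sylow
    obtain ⟨h, hh⟩ := exists_smul_eq H P₀ T
    refine ⟨(h : Perm α)⁻¹ * g, mul_mem (inv_mem h.2.1) hg, mem_normalizer_fintype ?_, fun d => ?_⟩
    · rintro _ ⟨y, hy, rfl⟩
      have h1 : (⟨g * y * g⁻¹, hcj _ y.2⟩ : H) ∈ (T : Subgroup H) :=
        hT ⟨y, ⟨y, hy, rfl⟩, rfl⟩
      rw [← hh, Sylow.coe_subgroup_smul, mem_pointwise_smul_iff_inv_smul_mem] at h1
      refine ⟨_, h1, ?_⟩
      simp [mul_assoc]
    · rw [Perm.mul_apply, e d, Perm.inv_eq_iff_eq, h.2.2 _ (σ d).2]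

/-- all orbits off `Δ` have length `p` -/
structure Orb (p : ℕ) (P : Subgroup (Perm α)) (Δ : Finset α) : Prop where
  pg : IsPGroup p P
  fix : ∀ y ∈ P, ∀ d ∈ Δ, y d = d
  card : ∀ γ ∉ Δ, (orbit P γ).ncard = p

theorem orb_of {p k r : ℕ} [hp : Fact p.Prime] {P : Subgroup (Perm α)} {Δ : Finset α} (hΔ : Δ.card = r)
    (hn : Fintype.card α = k * p + r) (hpk : k < p) (h1 : IsPGroup p P)
    (h2 : ∀ y ∈ P, ∀ d ∈ Δ, y d = d) (h3 : ∀ γ ∉ Δ, ∃ y ∈ P, y γ ≠ γ) : Orb p P Δ := by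
  refine ⟨h1, h2, fun γ hγ => ?_⟩
  obtain ⟨m, hm⟩ := h1.card_orbit γ
  rw [Nat.card_coe_set_eq] at hm
  have hle : (orbit P γ).ncard ≤ k * p := by
    have : orbit P γ ⊆ ((Δᶜ : Finset α) : Set α) := by
      rintro _ ⟨y, rfl⟩
      simp only [Finset.coe_compl, Set.mem_compl_iff, Finset.mem_coe]
      intro hd
      have e : (y : Perm α) ((y : Perm α) γ) = (y : Perm α) γ := h2 _ y.2 _ hd
      rw [← (y : Perm α).injective e] at hγ
      exact hγ hd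
    have := Set.ncard_le_ncard this
    rw [Set.ncard_coe_finset, Finset.card_compl, hn, hΔ] at this
    omega
  rcases m with _ | _ | m
  · obtain ⟨y, hy, hne⟩ := h3 γ hγ
    obtain ⟨a, ha⟩ := Set.ncard_eq_one.1 hm
    have e1 : γ ∈ orbit P γ := mem_orbit_self γ
    have e2 : y γ ∈ orbit P γ := ⟨⟨y, hy⟩, rfl⟩
    rw [ha] at e1 e2
    exact absurd (e2.trans e1.symm) hne
  · simpa using hm
  · exfalso
    have : p * p ≤ p ^ (m + 1 + 1) := by
      rw [← pow_two]; exact Nat.pow_le_pow_right hp.out.pos (by omega)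
    have : k * p < p * p := Nat.mul_lt_mul_of_pos_right hpk hp.out.pos
    omega

namespace Orb

variable {p : ℕ} [hp : Fact p.Prime] {P : Subgroup (Perm α)} {Δ : Finset α} (h : Orb p P Δ)
include h

theorem index {γ : α} (hγ : γ ∉ Δ) : (stabilizer P γ).index = p := by
  rw [index_stabilizer, h.card γ hγ]

theorem normal {γ : α} (hγ : γ ∉ Δ) : (stabilizer P γ).Normal := by
  apply normal_of_index_eq_minFac_card
  obtain ⟨m, hm⟩ := h.pg.exists_card_eq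
  have hd := (stabilizer P γ).index_dvd_card
  rw [h.index hγ, hm] at *
  rcases m with _ | m
  · exact absurd (Nat.dvd_one.1 hd) hp.out.one_lt.ne'
  · exact (hp.out.pow_minFac (by omega)).symm

theorem fixes {γ : α} (hγ : γ ∉ Δ) {x : Perm α} (hx : x ∈ P) (e : x γ = γ) {w : Perm α} (hw : w ∈ P) :
    x (w γ) = w γ := by
  have h1 : (⟨w, hw⟩ : P)⁻¹ * ⟨x, hx⟩ * (⟨w, hw⟩ : P)⁻¹⁻¹ ∈ stabilizer P γ :=
    (h.normal hγ).conj_mem ⟨x, hx⟩ e _
  rw [inv_inv] at h1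
  have h2 : w⁻¹ (x (w γ)) = γ := h1
  rwa [Perm.inv_eq_iff_eq] at h2

theorem agree {γ : α} (hγ : γ ∉ Δ) {x y : Perm α} (hx : x ∈ P) (hy : y ∈ P) (e : x γ = y γ)
    {w : Perm α} (hw : w ∈ P) : x (w γ) = y (w γ) := by
  have := h.fixes hγ (mul_mem (inv_mem hy) hx) (by rw [Perm.mul_apply, Perm.inv_eq_iff_eq, e]) hw
  rwa [Perm.mul_apply, Perm.inv_eq_iff_eq] at this

omit [Fintype α] [DecidableEq α] hp h in
theorem pow_agree {γ : α} {d x : Perm α} (hx : x ∈ P) (e : ∀ w ∈ P, d (w γ) = x (w γ)) (i : ℕ) :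
    (d ^ i) γ = (x ^ i) γ := by
  induction i with
  | zero => rfl
  | succ i ih => rw [pow_succ', pow_succ', Perm.mul_apply, Perm.mul_apply, ih, e _ (pow_mem hx i)]

theorem gen {γ : α} (hγ : γ ∉ Δ) : ∃ x ∈ P, ∀ y ∈ P, ∃ i : ℕ, y γ = (x ^ i) γ := by
  have := h.normal hγ
  have hc : Nat.card (P ⧸ stabilizer P γ) = p := h.index hγ
  have := isCyclic_of_prime_card hc
  obtain ⟨q, hq⟩ := IsCyclic.exists_monoid_generator (α := P ⧸ stabilizer P γ)
  obtain ⟨x, rfl⟩ := QuotientGroup.mk_surjective q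
  refine ⟨x, x.2, fun y hy => ?_⟩
  obtain ⟨i, hi⟩ := hq ((⟨y, hy⟩ : P) : P ⧸ stabilizer P γ)
  refine ⟨i, ?_⟩
  have h1 : (x ^ i)⁻¹ * ⟨y, hy⟩ ∈ stabilizer P γ := by
    rw [← QuotientGroup.eq, QuotientGroup.mk_pow]; exact hi
  have h2 : ((x : Perm α) ^ i)⁻¹ (y γ) = γ := h1
  rwa [Perm.inv_eq_iff_eq] at h2

omit [Fintype α] [DecidableEq α] hp in
theorem ext' {x y : Perm α} (hx : x ∈ P) (hy : y ∈ P) (e : ∀ γ ∉ Δ, x γ = y γ) : x = y := by
  ext a
  by_cases ha : a ∈ Δ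
  · rw [h.fix x hx a ha, h.fix y hy a ha]
  · exact e a ha

theorem comm {x y : Perm α} (hx : x ∈ P) (hy : y ∈ P) : x * y = y * x := by
  refine h.ext' (mul_mem hx hy) (mul_mem hy hx) fun γ hγ => ?_
  obtain ⟨z, hz, hg⟩ := h.gen hγ
  obtain ⟨i, hi⟩ := hg x hx
  obtain ⟨j, hj⟩ := hg y hy
  rw [Perm.mul_apply, Perm.mul_apply, h.agree hγ hx (pow_mem hz i) hi hy,
    h.agree hγ hy (pow_mem hz j) hj hx, hi, hj, ← Perm.mul_apply, ← Perm.mul_apply,
    (Commute.pow_pow_self z i j).eq]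

theorem pow_p {x : Perm α} (hx : x ∈ P) : x ^ p = 1 := by
  refine h.ext' (pow_mem hx p) (one_mem _) fun γ hγ => ?_
  have := h.normal hγ
  have h1 := pow_index_mem (H := stabilizer P γ) ⟨x, hx⟩
  rw [h.index hγ] at h1
  exact h1

/-- an element normalising `P` and each of its orbits acts on each constituent as a power map -/
theorem power {g : Perm α} (hg : g ∈ normalizer (P : Set (Perm α)))
    (hK : ∀ γ ∉ Δ, ∃ w ∈ P, g⁻¹ γ = w γ) {γ : α} (hγ : γ ∉ Δ) :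
    ∃ a : ℕ, ∀ y ∈ P, (g * y * g⁻¹) γ = (y ^ a) γ := by
  obtain ⟨x, hx, hgen⟩ := h.gen hγ
  have hcx : g * x * g⁻¹ ∈ P := (mem_normalizer_iff.1 hg x).1 hx
  obtain ⟨a, ha⟩ := hgen _ hcx
  refine ⟨a, fun y hy => ?_⟩
  obtain ⟨i, hi⟩ := hgen y hy
  obtain ⟨w, hw, e⟩ := hK γ hγ
  have e1 : (g * y * g⁻¹) γ = ((g * x * g⁻¹) ^ i) γ := by
    rw [conj_pow, Perm.mul_apply, Perm.mul_apply, Perm.mul_apply, Perm.mul_apply, e,
      h.agree hγ hy (pow_mem hx i) hi hw]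
  rw [e1, pow_agree (pow_mem hx a) (fun w hw => h.agree hγ hcx (pow_mem hx a) ha hw),
    pow_agree (pow_mem hx i) (fun w hw => h.agree hγ hy (pow_mem hx i) hi hw), ← pow_mul, ← pow_mul,
    mul_comm]

omit [Fintype α] [DecidableEq α] hp h in
theorem cent_of {g n : Perm α} (hg : g ∈ normalizer (P : Set (Perm α)))
    (hn : n ∈ normalizer (P : Set (Perm α)))
    (e : ∀ y ∈ P, g * (n * y * n⁻¹) * g⁻¹ = n * (g * y * g⁻¹) * n⁻¹) :
    ∀ y ∈ P, ⁅g, n⁆ * y = y * ⁅g, n⁆ := by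
  intro y hy
  have h1 : (n * g)⁻¹ * y * (n * g)⁻¹⁻¹ ∈ P :=
    (mem_normalizer_iff.1 (inv_mem (mul_mem hn hg)) y).1 hy
  have h2 := e _ h1
  rw [commutatorElement_def]
  calc g * n * g⁻¹ * n⁻¹ * y
      = (g * (n * ((n * g)⁻¹ * y * (n * g)⁻¹⁻¹) * n⁻¹) * g⁻¹) * (g * n * g⁻¹ * n⁻¹) := by group
    _ = y * (g * n * g⁻¹ * n⁻¹) := by rw [h2]; group

theorem cent_comm {g g' : Perm α} (hg : g ∈ normalizer (P : Set (Perm α)))
    (hK : ∀ γ ∉ Δ, ∃ w ∈ P, g⁻¹ γ = w γ) (hg' : g' ∈ normalizer (P : Set (Perm α)))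
    (hK' : ∀ γ ∉ Δ, ∃ w ∈ P, g'⁻¹ γ = w γ) : ∀ y ∈ P, ⁅g, g'⁆ * y = y * ⁅g, g'⁆ := by
  refine cent_of hg hg' fun y hy => ?_
  have c1 := (mem_normalizer_iff.1 hg y).1 hy
  have c2 := (mem_normalizer_iff.1 hg' y).1 hy
  refine h.ext' ((mem_normalizer_iff.1 hg _).1 c2) ((mem_normalizer_iff.1 hg' _).1 c1) fun γ hγ => ?_
  obtain ⟨a, ha⟩ := h.power hg hK hγ
  obtain ⟨b, hb⟩ := h.power hg' hK' hγ
  rw [ha _ c2, hb _ c1, conj_pow, conj_pow, ha _ (pow_mem hy b), hb _ (pow_mem hy a), ← pow_mul,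
    ← pow_mul, mul_comm]

theorem acts_as {d : Perm α} (hc : ∀ y ∈ P, d * y = y * d) (hK : ∀ γ ∉ Δ, ∃ w ∈ P, d γ = w γ)
    {γ : α} (hγ : γ ∉ Δ) : ∃ x ∈ P, ∀ w ∈ P, d (w γ) = x (w γ) := by
  obtain ⟨x, hx, e⟩ := hK γ hγ
  refine ⟨x, hx, fun w hw => ?_⟩
  rw [← Perm.mul_apply, hc w hw, Perm.mul_apply, e, ← Perm.mul_apply, h.comm hw hx, Perm.mul_apply]

theorem d_pow {d : Perm α} (hc : ∀ y ∈ P, d * y = y * d) (hK : ∀ γ ∉ Δ, ∃ w ∈ P, d γ = w γ)
    {γ : α} (hγ : γ ∉ Δ) : (d ^ p) γ = γ := by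
  obtain ⟨x, hx, e⟩ := h.acts_as hc hK hγ
  rw [pow_agree hx e, h.pow_p hx, Perm.one_apply]

theorem d_comm {d d' : Perm α} (hc : ∀ y ∈ P, d * y = y * d) (hK : ∀ γ ∉ Δ, ∃ w ∈ P, d γ = w γ)
    (hc' : ∀ y ∈ P, d' * y = y * d') (hK' : ∀ γ ∉ Δ, ∃ w ∈ P, d' γ = w γ)
    {γ : α} (hγ : γ ∉ Δ) : (d * d') γ = (d' * d) γ := by
  obtain ⟨x, hx, e⟩ := h.acts_as hc hK hγ
  obtain ⟨x', hx', e'⟩ := h.acts_as hc' hK' hγ
  have e1 : d γ = x γ := e 1 (one_mem _)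
  have e2 : d' γ = x' γ := e' 1 (one_mem _)
  rw [Perm.mul_apply, Perm.mul_apply, e1, e2, e _ hx', e' _ hx, ← Perm.mul_apply, ← Perm.mul_apply,
    h.comm hx hx']

/-- with at most three orbits and no `p`-cycle the action is a power map on all of `P` -/
theorem power3 (hk : (Δᶜ).card ≤ 3 * p) (hne : (Δᶜ).Nonempty)
    (hNC : ∀ y ∈ P, y ≠ 1 → 2 * p ≤ y.support.card) {g : Perm α}
    (hg : g ∈ normalizer (P : Set (Perm α))) (hK : ∀ γ ∉ Δ, ∃ w ∈ P, g⁻¹ γ = w γ) :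
    ∃ a : ℕ, ∀ y ∈ P, g * y * g⁻¹ = y ^ a := by
  have two : ∀ γ ∉ Δ, ∀ δ ∉ Δ, δ ∉ orbit P γ → ∀ x ∈ P, ∀ y ∈ P, x γ = y γ → x δ = y δ → x = y := by
    intro γ hγ δ hδ hγδ x hx y hy e1 e2
    rw [← inv_mul_eq_one] 
    by_contra hne
    have hz : x⁻¹ * y ∈ P := mul_mem (inv_mem hx) hy
    have h1 := hNC _ hz hne
    have f1 : (x⁻¹ * y) γ = γ := by rw [Perm.mul_apply, Perm.inv_eq_iff_eq, e1]
    have f2 : (x⁻¹ * y) δ = δ := by rw [Perm.mul_apply, Perm.inv_eq_iff_eq, e2]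
    have hdis : Disjoint (orbit P γ) (orbit P δ) := by
      rw [Set.disjoint_left]
      intro a ha hb
      exact hγδ ((orbit_eq_iff.2 ha).symm.trans (orbit_eq_iff.2 hb) ▸ mem_orbit_self δ)
    have hdis2 : Disjoint (((x⁻¹ * y).support : Finset α) : Set α) (orbit P γ ∪ orbit P δ) := by
      rw [Set.disjoint_left]
      rintro a ha (⟨w, rfl⟩ | ⟨w, rfl⟩)
      · exact Perm.mem_support.1 ha (h.fixes hγ hz f1 w.2)
      · exact Perm.mem_support.1 ha (h.fixes hδ hz f2 w.2)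
    have hsub : (((x⁻¹ * y).support : Finset α) : Set α) ∪ (orbit P γ ∪ orbit P δ) ⊆
        ((Δᶜ : Finset α) : Set α) := by
      have k : ∀ c ∉ Δ, ∀ w : P, (w : Perm α) c ∉ Δ := by
        intro c hc w hd
        have e : (w : Perm α) ((w : Perm α) c) = (w : Perm α) c := h.fix _ w.2 _ hd
        rw [← (w : Perm α).injective e] at hc
        exact hc hd
      rintro a (ha | ⟨w, rfl⟩ | ⟨w, rfl⟩) <;>
        simp only [Finset.coe_compl, Set.mem_compl_iff, Finset.mem_coe]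
      · exact fun hd => Perm.mem_support.1 ha (h.fix _ hz _ hd)
      · exact k γ hγ w
      · exact k δ hδ w
    have := Set.ncard_le_ncard hsub
    rw [Set.ncard_union_eq hdis2, Set.ncard_union_eq hdis, h.card γ hγ, h.card δ hδ,
      Set.ncard_coe_finset, Set.ncard_coe_finset] at this
    have := hp.out.pos
    omega
  by_cases hz : ∃ z ∈ P, z ≠ 1 ∧ ∃ γ ∉ Δ, z γ = γ
  · obtain ⟨z, hz, hz1, c, hc, hzc⟩ := hz
    have hs := hNC z hz hz1
    have hp0 := hp.out.pos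
    obtain ⟨γ, hγ⟩ : z.support.Nonempty := Finset.card_pos.1 (by omega)
    have hout : ∀ a ∈ z.support, a ∉ Δ := fun a ha hd => Perm.mem_support.1 ha (h.fix _ hz _ hd)
    obtain ⟨δ, hδ, hδγ⟩ : ∃ δ ∈ z.support, δ ∉ orbit P γ := by
      by_contra hcon
      push Not at hcon
      have := Set.ncard_le_ncard (s := ((z.support : Finset α) : Set α)) (t := orbit P γ) hcon
      rw [Set.ncard_coe_finset, h.card γ (hout γ hγ)] at this
      omega
    have hoc : ∀ a ∈ z.support, a ∉ orbit P c := by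
      rintro a ha ⟨w, rfl⟩
      exact Perm.mem_support.1 ha (h.fixes hc hz hzc w.2)
    obtain ⟨a, ha⟩ := h.power hg hK (hout γ hγ)
    obtain ⟨b, hb⟩ := h.power hg hK (hout δ hδ)
    have hu : g * z * g⁻¹ ∈ P := (mem_normalizer_iff.1 hg z).1 hz
    have huc : ∀ i : ℕ, (g * z * g⁻¹) c = (z ^ i) c := by
      intro i
      obtain ⟨w, hw, e⟩ := hK c hc
      rw [Perm.pow_apply_eq_self_of_apply_eq_self hzc, Perm.mul_apply, Perm.mul_apply, e,
        h.fixes hc hz hzc hw, ← e]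
      simp
    have e1 := two c hc γ (hout γ hγ) (hoc γ hγ) _ hu _ (pow_mem hz a) (huc a) (ha z hz)
    have e2 := two c hc δ (hout δ hδ) (hoc δ hδ) _ hu _ (pow_mem hz b) (huc b) (hb z hz)
    have ho : orderOf z = p := orderOf_eq_prime (h.pow_p hz) hz1
    have hab : a ≡ b [MOD p] := by rw [← ho, ← pow_eq_pow_iff_modEq, ← e1, e2]
    refine ⟨a, fun y hy => two γ (hout γ hγ) δ (hout δ hδ) hδγ _ ((mem_normalizer_iff.1 hg y).1 hy) _
      (pow_mem hy a) (ha y hy) ?_⟩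
    rw [hb y hy, pow_eq_pow_iff_modEq.2
      (hab.of_dvd (orderOf_dvd_of_pow_eq_one (h.pow_p hy)))]
  · push Not at hz
    obtain ⟨γ, hγ⟩ := hne
    rw [Finset.mem_compl] at hγ
    obtain ⟨a, ha⟩ := h.power hg hK hγ
    refine ⟨a, fun y hy => ?_⟩
    rw [eq_comm, ← inv_mul_eq_one]
    by_contra hne
    refine hz _ (mul_mem (inv_mem (pow_mem hy a)) ((mem_normalizer_iff.1 hg y).1 hy)) hne γ hγ ?_
    rw [Perm.mul_apply, Perm.inv_eq_iff_eq, ha y hy]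

end Orb

end CfsgH4.Miller
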