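import Cfsg.Agent.H4.Miller1
import Cfsg.Agent.S0711
import Cfsg.Agent.S0713
import Cfsg.Agent.S0415
import Cfsg.Agent.S0416

/-! Miller's bound on multiple transitivity. -/

open Subgroup Equiv MulAction
open scoped Pointwise commutatorElement

namespace CfsgH4.Miller

variable {α : Type*} [Fintype α] [DecidableEq α]

theorem eq_one_of_central {β : Type*} [Fintype β] [DecidableEq β] (h3 : 3 ≤ Fintype.card β)
    {σ : Perm β} (h : ∀ τ : Perm β, σ * τ = τ * σ) : σ = 1 := by
  ext a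
  by_contra hne
  rw [Perm.one_apply] at hne
  obtain ⟨c, -, hc⟩ : ∃ c ∈ (Finset.univ : Finset β), c ∉ ({a, σ a} : Finset β) :=
    Finset.exists_mem_notMem_of_card_lt_card (by
      have := Finset.card_le_two (a := a) (b := σ a)
      rw [Finset.card_univ]; omega)
  simp only [Finset.mem_insert, Finset.mem_singleton, not_or] at hc
  have e := congrArg (fun f : Perm β => f a) (h (swap (σ a) c))
  simp only [Perm.mul_apply, swap_apply_left] at e
  rw [swap_apply_of_ne_of_ne (Ne.symm hne) (Ne.symm hc.1)] at e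
  exact hc.2 e.symm

theorem exists_K {p k : ℕ} [hp : Fact p.Prime] {P : Subgroup (Perm α)} {Δ : Finset α} (h : Orb p P Δ)
    (hk : (Δᶜ).card = k * p) (N : Subgroup (Perm α)) (hN : N ≤ normalizer (P : Set (Perm α)))
    (hpres : ∀ g ∈ N, ∀ a, g a ∈ Δ ↔ a ∈ Δ) :
    ∃ K : Subgroup N, K.Normal ∧ K.index ∣ k.factorial ∧
      ∀ g ∈ K, ∀ γ ∉ Δ, ∃ w ∈ P, (g : Perm α) γ = w γ := by
  have hsm : ∀ (g : N) (γ : α), g • orbit P γ = orbit P ((g : Perm α) γ) := by
    intro g γ
    ext a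
    rw [Set.mem_smul_set_iff_inv_smul_mem]
    constructor
    · rintro ⟨w, hw⟩
      refine ⟨⟨g * w * (g : Perm α)⁻¹, (mem_normalizer_iff.1 (hN g.2) _).1 w.2⟩, ?_⟩
      have hw' : (w : Perm α) γ = (g : Perm α)⁻¹ a := hw
      show ((g : Perm α) * w * (g : Perm α)⁻¹) ((g : Perm α) γ) = a
      simp [hw']
    · rintro ⟨w, hw⟩
      refine ⟨⟨(g : Perm α)⁻¹ * w * (g : Perm α)⁻¹⁻¹,
        (mem_normalizer_iff.1 (inv_mem (hN g.2)) _).1 w.2⟩, ?_⟩
      have hw' : (w : Perm α) ((g : Perm α) γ) = a := hw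
      show ((g : Perm α)⁻¹ * w * (g : Perm α)⁻¹⁻¹) γ = (g : Perm α)⁻¹ a
      simp [hw']
  let B : SubMulAction N (Set α) :=
    { carrier := {s | ∃ γ ∉ Δ, s = orbit P γ}
      smul_mem' := by
        rintro g _ ⟨γ, hγ, rfl⟩
        exact ⟨(g : Perm α) γ, fun hd => hγ ((hpres g g.2 γ).1 hd), hsm g γ⟩ }
  have hB : Nat.card B = k := by
    have key := CfsgH2.card_eq_mul_of_fiber
      (fun γ : {γ // γ ∉ Δ} => (⟨orbit P γ.1, γ.1, γ.2, rfl⟩ : B)) (n := p) (by
        rintro ⟨_, γ, hγ, rfl⟩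
        rw [← h.card γ hγ, ← Nat.card_coe_set_eq]
        refine Nat.card_congr ⟨fun a => ⟨a.1.1, orbit_eq_iff.1 (congrArg Subtype.val a.2)⟩,
          fun a => ⟨⟨a.1, ?_⟩, Subtype.ext (orbit_eq_iff.2 a.2)⟩, fun _ => rfl, fun _ => rfl⟩
        obtain ⟨w, hw⟩ := a.2
        intro hd
        have hw' : (w : Perm α) γ = a := hw
        have e : (w : Perm α) ((w : Perm α) γ) = (w : Perm α) γ := by
          rw [hw']; exact h.fix _ w.2 _ hd
        rw [← hw', (w : Perm α).injective e] at hd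
        exact hγ hd)
    have e : Nat.card {γ // γ ∉ Δ} = k * p := by
      rw [← hk, ← Fintype.card_coe, ← Nat.card_eq_fintype_card]
      exact Nat.card_congr (Equiv.subtypeEquivRight fun a => Finset.mem_compl.symm)
    rw [e] at key
    exact (Nat.eq_of_mul_eq_mul_right hp.out.pos key).symm
  refine ⟨(toPermHom N B).ker, inferInstance, ?_, fun g hg γ hγ => ?_⟩
  · rw [index_ker, ← hB, ← Nat.card_perm]
    exact card_subgroup_dvd_card _
  · have e := congrArg (fun f : Perm B => ((f ⟨orbit P γ, γ, hγ, rfl⟩ : B) : Set α)) (MonoidHom.mem_ker.1 hg)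
    have e' : g • orbit P γ = orbit P γ := e
    rw [hsm, orbit_eq_iff] at e'
    obtain ⟨w, hw⟩ := e'
    exact ⟨w, w.2, hw.symm⟩

theorem main (G : Subgroup (Perm α)) {k p r : ℕ} (hp : p.Prime) (hn : Fintype.card α = k * p + r)
    (hk : 1 ≤ k) (hpk : k < p) (hrk : k < r) (hex : ¬ (k = 1 ∧ r = 2))
    (hG : IsMultiplyPretransitive G α (r + 1)) : alternatingGroup α ≤ G := by
  have := Fact.mk hp
  by_contra hA
  have hr3 : 3 ≤ r := by omega
  have hp2 := hp.two_le
  have hkp : p ≤ k * p := Nat.le_mul_of_pos_left p hk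
  have hrn : r + 1 ≤ Fintype.card α := by omega
  have hmin : ∀ g ∈ G, g ≠ 1 → 2 * r ≤ g.support.card := by
    intro g hg hg1
    by_contra hlt
    exact hA (Cfsg.Agent.S0711.result G (by omega) hrn hG g hg hg1 (by omega)).2
  have hGm : ∀ m ≤ r + 1, IsMultiplyPretransitive G α m := fun m hm =>
    isMultiplyPretransitive_of_le hm (by rwa [Nat.card_eq_fintype_card])
  have hsharp : k * p ≤ 2 * r → ∀ x : Fin (r + 1) ↪ α, stabilizer G x = ⊥ := by
    intro hle x
    rw [eq_bot_iff]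
    intro g hg
    rw [mem_bot]
    by_contra hne
    have h1 := hmin g g.2 (fun e => hne (Subtype.ext e))
    have h2 : (g : Perm α).support ⊆ (Finset.univ.map x)ᶜ := by
      intro a ha
      rw [Finset.mem_compl, Finset.mem_map]
      rintro ⟨i, -, rfl⟩
      exact Perm.mem_support.1 ha (congrArg (fun e : Fin (r + 1) ↪ α => e i) (mem_stabilizer_iff.1 hg))
    have h3 := Finset.card_le_card h2
    rw [Finset.card_compl, Finset.card_map, Finset.card_univ, Fintype.card_fin] at h3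
    omega
  obtain ⟨Δ, -, hΔ⟩ := Finset.exists_subset_card_eq (s := (Finset.univ : Finset α)) (n := r)
    (by rw [Finset.card_univ]; omega)
  obtain ⟨P, hPG, hPp, hfix, hmove, hsurj⟩ := exists_P G Δ hΔ hn hG (hGm r (by omega))
  have h : Orb p P Δ := orb_of hΔ hn hpk hPp hfix hmove
  have hΓ : (Δᶜ).card = k * p := by rw [Finset.card_compl, hn, hΔ]; omega
  have hne : (Δᶜ).Nonempty := Finset.card_pos.1 (by omega)
  have hNC : ∀ y ∈ P, y ≠ 1 → 2 * p ≤ y.support.card := by
    intro y hy hy1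
    by_contra hlt
    have ho : orderOf y = p := orderOf_eq_prime (h.pow_p hy) hy1
    have hc : y.IsCycle := Perm.isCycle_of_prime_order (ho ▸ hp) (by rw [ho]; omega)
    exact hA (Cfsg.Agent.S0713.result G (isPreprimitive_of_is_two_pretransitive (hGm 2 (by omega))) hp
      (by omega) (by omega) hc (hc.orderOf.symm.trans ho) (hPG hy))
  have hk2 : 2 ≤ k := by
    obtain ⟨γ, hγ⟩ := hne
    obtain ⟨y, hy, hyγ⟩ := hmove γ (Finset.mem_compl.1 hγ)
    have h1 := hNC y hy (by rintro rfl; exact hyγ rfl)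
    have h2 : y.support ⊆ Δᶜ := fun a ha =>
      Finset.mem_compl.2 fun hd => Perm.mem_support.1 ha (hfix y hy a hd)
    have h3 := Finset.card_le_card h2
    rw [hΓ] at h3
    exact Nat.le_of_mul_le_mul_right (h1.trans h3) hp.pos
  have hL : ∀ g ∈ G, (∀ γ ∉ Δ, g γ = γ) → g = 1 := by
    intro g hg e
    by_contra hne
    have h1 := hmin g hg hne
    have h2 : g.support ⊆ Δ := fun a ha => by
      by_contra hd
      exact Perm.mem_support.1 ha (e a hd)
    have := Finset.card_le_card h2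
    omega
  set N : Subgroup (Perm α) := G ⊓ normalizer (P : Set (Perm α)) with hN
  have hpres0 : ∀ g ∈ N, ∀ a ∈ Δ, g a ∈ Δ := by
    intro g hg a ha
    by_contra hd
    obtain ⟨y, hy, hne⟩ := hmove _ hd
    have h1 := hfix _ ((mem_normalizer_iff.1 (inv_mem hg.2) y).1 hy) a ha
    rw [inv_inv, Perm.mul_apply, Perm.mul_apply, Perm.inv_eq_iff_eq] at h1
    exact hne h1
  have hpres : ∀ g ∈ N, ∀ a, g a ∈ Δ ↔ a ∈ Δ := fun g hg a =>
    ⟨fun ha => by simpa using hpres0 _ (inv_mem hg) _ ha, hpres0 g hg a⟩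
  obtain ⟨K, hKn, hKi, hK⟩ := exists_K h hΓ N inf_le_right hpres
  let π : N →* Perm Δ :=
    { toFun := fun g => (g : Perm α).subtypePerm (hpres g g.2)
      map_one' := by ext; simp
      map_mul' := fun _ _ => Equiv.ext fun _ => rfl }
  have hπ : Function.Surjective π := by
    intro σ
    obtain ⟨g, hg, hgN, e⟩ := hsurj σ
    exact ⟨⟨g, hg, hgN⟩, Equiv.ext fun d => Subtype.ext (e d)⟩
  have hcΔ : Fintype.card Δ = r := by simp [hΔ]
  have hKinv : ∀ g ∈ K, ∀ γ ∉ Δ, ∃ w ∈ P, (g : Perm α)⁻¹ γ = w γ := fun g hg => hK _ (inv_mem hg)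
  suffices hKπ : K ≤ π.ker by
    have h1 := (index_dvd_of_le hKπ).trans hKi
    rw [index_ker, MonoidHom.range_eq_top.2 hπ, card_top, Nat.card_perm, Nat.card_eq_fintype_card,
      hcΔ] at h1
    have h2 := Nat.le_of_dvd (Nat.factorial_pos k) h1
    exact absurd ((Nat.factorial_lt (by omega)).2 hrk) (not_lt.2 h2)
  by_cases hr5 : 5 ≤ r
  · have hM : (K.map π).Normal := hKn.map π hπ
    rw [← Subgroup.map_eq_bot_iff]
    by_contra hMb
    have hcard : 5 ≤ Nat.card Δ := by rw [Nat.card_eq_fintype_card, hcΔ]; exact hr5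
    have hAM := Equiv.Perm.alternatingGroup_le_of_normal hcard ((nontrivial_iff_ne_bot _).2 hMb)
    let D : Subgroup N := K ⊓ (centralizer (P : Set (Perm α))).subgroupOf N
    have hKD : ⁅K, K⁆ ≤ D := by
      rw [commutator_le]
      intro g hg g' hg'
      refine ⟨K.mul_mem (K.mul_mem (K.mul_mem hg hg') (K.inv_mem hg)) (K.inv_mem hg'), fun y hy => ?_⟩
      exact (h.cent_comm g.2.2 (hKinv g hg) g'.2.2 (hKinv g' hg') y hy).symm
    have hDD : ⁅D, D⁆ = ⊥ := by
      rw [eq_bot_iff, commutator_le]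
      intro d hd d' hd'
      rw [mem_bot, commutatorElement_eq_one_iff_mul_comm, ← mul_inv_eq_one, ← inv_inj, inv_one]
      apply Subtype.ext
      refine hL _ (d * d' * (d' * d)⁻¹)⁻¹.2.1 fun γ hγ => ?_
      have hγ' : ((d : Perm α) * d')⁻¹ γ ∉ Δ := fun hh =>
        hγ ((hpres _ (inv_mem (mul_mem d.2 d'.2)) γ).1 hh)
      have e2 := h.d_comm (d := (d : Perm α)) (d' := (d' : Perm α)) (fun y hy => (hd.2 y hy).symm)
        (hK d hd.1) (fun y hy => (hd'.2 y hy).symm) (hK d' hd'.1) hγ'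
      show (((d : Perm α) * d' * ((d' : Perm α) * d)⁻¹)⁻¹) γ = γ
      rw [mul_inv_rev, inv_inv, Perm.mul_apply, ← e2]
      simp
    have hA2 := commutator_alternatingGroup_eq_self hcard
    have hbot : alternatingGroup Δ ≤ ⊥ := by
      calc alternatingGroup Δ = ⁅⁅alternatingGroup Δ, alternatingGroup Δ⁆,
            ⁅alternatingGroup Δ, alternatingGroup Δ⁆⁆ := by rw [hA2, hA2]
        _ ≤ ⁅⁅K.map π, K.map π⁆, ⁅K.map π, K.map π⁆⁆ :=
            commutator_mono (commutator_mono hAM hAM) (commutator_mono hAM hAM)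
        _ = (⁅⁅K, K⁆, ⁅K, K⁆⁆).map π := by simp only [map_commutator]
        _ ≤ (⁅D, D⁆).map π := map_mono (commutator_mono hKD hKD)
        _ = ⊥ := by rw [hDD, Subgroup.map_bot]
    have hnt : Nontrivial (alternatingGroup Δ) :=
      alternatingGroup.nontrivial_of_three_le_card (by omega)
    exact (nontrivial_iff_ne_bot _).1 hnt (le_bot_iff.1 hbot)
  by_cases hp5 : 5 ≤ p
  · intro g hg
    rw [MonoidHom.mem_ker]
    refine eq_one_of_central (by omega) fun τ => ?_
    obtain ⟨n, rfl⟩ := hπ τ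
    obtain ⟨a, ha⟩ := h.power3 (by rw [hΓ]; exact Nat.mul_le_mul_right p (by omega)) hne hNC g.2.2
      (hKinv g hg)
    have hc := Orb.cent_of g.2.2 n.2.2 (fun y hy => by
      rw [ha _ ((mem_normalizer_iff.1 n.2.2 y).1 hy), ha y hy, conj_pow])
    have hcK : ⁅g, n⁆ ∈ K := by
      have := mul_mem hg (hKn.conj_mem _ (inv_mem hg) n)
      simpa [commutatorElement_def, mul_assoc] using this
    have hpw : ⁅g, n⁆ ^ p = 1 := by
      apply Subtype.ext
      exact hL _ (⁅g, n⁆ ^ p).2.1 fun γ hγ => h.d_pow hc (hK _ hcK) hγ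
    have h1 : orderOf (π ⁅g, n⁆) ∣ p := orderOf_dvd_of_pow_eq_one (by rw [← map_pow, hpw, map_one])
    have h2 : orderOf (π ⁅g, n⁆) ∣ r.factorial := by
      rw [← hcΔ, ← Fintype.card_perm]; exact orderOf_dvd_card
    have h3 : p.Coprime r.factorial := (hp.coprime_iff_not_dvd).2 fun hd => by
      have := hp.dvd_factorial.1 hd
      omega
    have h4 := Nat.eq_one_of_dvd_coprimes h3 h1 h2
    rw [orderOf_eq_one_iff, map_commutatorElement, commutatorElement_eq_one_iff_mul_comm] at h4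
    exact h4
  · exfalso
    have hp3 : p = 3 := by
      have : p ≠ 4 := by rintro rfl; exact absurd hp (by norm_num)
      omega
    subst hp3
    obtain rfl : k = 2 := by omega
    have hs := hsharp (by omega)
    obtain rfl | rfl : r = 3 ∨ r = 4 := by omega
    · have := Cfsg.Agent.S0415.result G (by omega) hs
      omega
    · have := Cfsg.Agent.S0416.result G (by omega) hs
      omega

end CfsgH4.Miller
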