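import Cfsg.Agent.H4.Proj2
import Cfsg.Agent.H8.PermMod

/-! Direct summands of permutation modules of `p`-groups; blocks of minimal dimension. -/

set_option autoImplicit false
set_option linter.unusedSectionVars false
open MonoidAlgebra Subgroup CfsgH2 Function Cfsg CfsgH3 Module MulAction Matrix

namespace CfsgH4

section perm
variable (F Γ X : Type*) [Field F] [Group Γ] [MulAction Γ X] [Fintype X] [DecidableEq X]

/-- Invariant matrices. -/
def InvM : Subalgebra F (Matrix X X F) where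
  carrier := {T | ∀ (γ : Γ) x y, T (γ • x) (γ • y) = T x y}
  mul_mem' := fun {a b} ha hb γ x y => by
    simp only [Matrix.mul_apply]
    rw [← Equiv.sum_comp (MulAction.toPerm γ)]
    exact Finset.sum_congr rfl fun z _ => by rw [← ha γ x z, ← hb γ z y]; rfl
  add_mem' := fun ha hb γ x y => by simp only [Matrix.add_apply, ha γ x y, hb γ x y]
  algebraMap_mem' := fun c γ x y => by
    simp only [Matrix.algebraMap_matrix_apply, smul_left_cancel_iff]

variable {F Γ X}

/-- The Brauer quotient of a matrix is non-zero. -/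
def NZ (R : Subgroup Γ) (T : Matrix X X F) : Prop :=
  ∃ x y, (∀ r ∈ R, r • x = x) ∧ (∀ r ∈ R, r • y = y) ∧ T x y ≠ 0

variable (F Γ) in
open Classical in
/-- Indicator function of an orbit. -/
noncomputable def indO (x : X) : X → F := fun y => if y ∈ orbit Γ x then 1 else 0

variable (F Γ) in
/-- Projection onto an orbit. -/
noncomputable def piO (x : X) : InvM F Γ X := ⟨diagonal (indO F Γ x), fun γ y z => by
  classical
  simp only [diagonal_apply, smul_left_cancel_iff, indO, ← orbit_eq_iff, orbit_smul]⟩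

theorem piO_idem (x : X) : piO F Γ x * piO F Γ x = piO F Γ x := Subtype.ext (by
  change diagonal _ * diagonal _ = diagonal _
  rw [diagonal_mul_diagonal]
  congr 1
  funext y
  simp [indO])

theorem nz_piO {R : Subgroup Γ} {x : X} :
    NZ R (piO F Γ x).1 ↔ ∃ y ∈ orbit Γ x, ∀ r ∈ R, r • y = y := by
  refine ⟨fun ⟨y, z, hy, _, h⟩ => ⟨y, by_contra fun h' => h ?_, hy⟩,
    fun ⟨y, hy, h⟩ => ⟨y, y, h, h, by simp [piO, indO, hy]⟩⟩
  simp [piO, indO, h', diagonal_apply]

theorem rank_piO (x : X) : (piO F Γ x).1.rank = Nat.card (orbit Γ x) := by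
  classical
  rw [piO, rank_diagonal, Nat.card_eq_fintype_card]
  exact Fintype.card_congr (Equiv.subtypeEquivRight fun y => by simp [indO])

variable [Finite Γ] {p : ℕ} [hp : Fact p.Prime] [CharP F p] (hΓ : IsPGroup p Γ)
include hΓ

theorem NZ.of_mul {R : Subgroup Γ} {a b : InvM F Γ X} (h : NZ R (a * b).1) :
    NZ R a.1 ∧ NZ R b.1 := by
  obtain ⟨x, y, hx, hy, h⟩ := h
  obtain ⟨z, hz, h0⟩ : ∃ z ∈ fixedPoints R X, a.1 x z * b.1 z y ≠ 0 := by
    by_contra! h'
    exact h (sum_eq_zero_of_invariant (p_smul_eq_zero (F := F)) (hΓ.to_subgroup R)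
      (fun z => a.1 x z * b.1 z y) (fun r z => by
        rw [← a.2 r x z, ← b.2 r z y, hx r r.2, hy r r.2]; rfl) h')
  exact ⟨⟨x, z, hx, fun r hr => hz ⟨r, hr⟩, left_ne_zero_of_mul h0⟩,
    z, y, fun r hr => hz ⟨r, hr⟩, hy, right_ne_zero_of_mul h0⟩

theorem mulVec_indO {x : X} {f : InvM F Γ X} (h1 : f * f = f) (h2 : piO F Γ x * f = f)
    (h0 : f ≠ 0) : f.1 *ᵥ indO F Γ x = indO F Γ x := by
  let ρ : Representation F Γ (X → F) :=
    { toFun := fun γ => LinearMap.funLeft F F (γ⁻¹ • ·)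
      map_one' := by ext; simp
      map_mul' := fun a b => by ext; simp [mul_smul] }
  obtain ⟨_, ⟨w, rfl⟩, hv, h⟩ := CfsgH8.exists_fixed_vec hΓ ρ (LinearMap.range f.1.mulVecLin)
    (by
      rintro γ _ ⟨w, rfl⟩
      refine ⟨ρ γ w, funext fun y => ?_⟩
      change ∑ z, f.1 y z * w (γ⁻¹ • z) = ∑ z, f.1 (γ⁻¹ • y) z * w z
      rw [← Equiv.sum_comp (MulAction.toPerm γ)]
      exact Finset.sum_congr rfl fun z _ => by rw [← f.2 γ (γ⁻¹ • y) z]; simp)
    (fun e => h0 (Subtype.ext (Matrix.toLin'.map_eq_zero_iff.1 (LinearMap.range_eq_bot.1 e))))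
  set v := f.1.mulVecLin w with hv'
  have e1 : f.1 *ᵥ v = v := by
    rw [hv', mulVecLin_apply, mulVec_mulVec]; exact congrArg (fun a : InvM F Γ X => a.1 *ᵥ w) h1
  have e2 : (piO F Γ x).1 *ᵥ v = v := by
    rw [hv', mulVecLin_apply, mulVec_mulVec]; exact congrArg (fun a : InvM F Γ X => a.1 *ᵥ w) h2
  have e3 : v = v x • indO F Γ x := funext fun y => by
    by_cases hy : y ∈ orbit Γ x
    · obtain ⟨γ, rfl⟩ := hy
      have := congrFun (h γ) (γ • x)
      simp only [ρ, MonoidHom.coe_mk, OneHom.coe_mk, LinearMap.funLeft_apply, inv_smul_smul] at this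
      simp [indO, this]
    · rw [← e2]; simp [piO, mulVec_diagonal, indO, hy]
  have e4 : v x ≠ 0 := fun e => hv (by rw [e3, e, zero_smul])
  rw [e3, mulVec_smul] at e1
  exact smul_right_injective _ e4 e1

theorem nprim_piO (x : X) : NPrim (piO F Γ x) := by
  have h0 : indO F Γ x x = 1 := by simp [indO]
  refine ⟨piO_idem x, fun e => ?_, fun f h1 h2 h3 => by_contra fun h => ?_⟩
  · have := congrArg (fun a : InvM F Γ X => a.1 x x) e
    simp [piO, h0] at this
  · rw [not_or] at h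
    have k1 := mulVec_indO hΓ h1 h2 h.1
    have k2 := mulVec_indO hΓ (x := x) (f := piO F Γ x - f)
      (by simp [mul_sub, sub_mul, h1, h2, h3, piO_idem]) (by simp [mul_sub, h2, piO_idem])
      (sub_ne_zero.2 (Ne.symm h.2))
    have k3 := mulVec_indO hΓ (piO_idem x) (piO_idem (F := F) x) fun e => h.1 (by
      rw [← h2, e, zero_mul])
    rw [AddSubgroupClass.coe_sub, sub_mulVec, k1, k3, sub_self] at k2
    exact zero_ne_one (h0 ▸ congrFun k2 x)

omit hΓ in
theorem sum_piO [Fintype (orbitRel.Quotient Γ X)] :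
    ∑ q : orbitRel.Quotient Γ X, piO F Γ q.out = 1 := by
  classical
  refine Subtype.ext (Matrix.ext fun x y => ?_)
  simp only [AddSubmonoidClass.coe_finsetSum, Matrix.sum_apply, piO, diagonal_apply,
    OneMemClass.coe_one, one_apply, Finset.sum_ite_irrel, Finset.sum_const_zero, indO]
  rw [Finset.sum_eq_single (Quotient.mk'' x), if_pos (show x ∈ orbit Γ _ from
    Quotient.exact (s := orbitRel Γ X) (Quotient.out_eq _).symm)]
  · intro q _ hq
    exact if_neg fun h => hq ((Quotient.out_eq q).symm.trans (Quotient.sound' h).symm)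
  · simp

variable [IsAlgClosed F]

theorem exists_orbit_of_idem {ε : InvM F Γ X} (h : ε * ε = ε) (h0 : ε ≠ 0) :
    ∃ x : X, NZ (stabilizer Γ x) ε.1 ∧ Nat.card (orbit Γ x) ≤ ε.1.rank ∧
      (ε.1.rank ≤ Nat.card (orbit Γ x) → ∀ R : Subgroup Γ, NZ R ε.1 →
        ∃ y ∈ orbit Γ x, ∀ r ∈ R, r • y = y) := by
  revert h0
  refine idem_induction F (P := fun ε : InvM F Γ X => ε ≠ 0 → ∃ x : X, NZ (stabilizer Γ x) ε.1 ∧
    Nat.card (orbit Γ x) ≤ ε.1.rank ∧ (ε.1.rank ≤ Nat.card (orbit Γ x) → ∀ R : Subgroup Γ,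
      NZ R ε.1 → ∃ y ∈ orbit Γ x, ∀ r ∈ R, r • y = y)) (fun h => absurd rfl h)
    (fun e he _ => ?_) (fun e f h1 h2 h3 h4 he hf h0 => ?_) h
  · have := Fintype.ofFinite (orbitRel.Quotient Γ X)
    obtain ⟨q, hq⟩ : ∃ q : orbitRel.Quotient Γ X, ¬ IsNilpotent (e * piO F Γ q.out * e) := by
      by_contra! h'
      have := he.nilp_sum F Finset.univ _ fun q _ => h' q
      rw [sum_piO, mul_one, he.idem] at this
      exact he.ne_zero (idem_nilpotent_eq_zero he.idem this)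
    obtain ⟨w, hw, -⟩ := (he.nilp_or_unit F (by rw [← mul_assoc, ← mul_assoc, he.idem])
      (by rw [mul_assoc, he.idem])).resolve_left hq
    have hπ := piO_idem (F := F) (Γ := Γ) q.out
    obtain ⟨a, b, e1, e2⟩ := (nprim_piO hΓ q.out).eqv he.idem he.ne_zero
      (a := e * piO F Γ q.out) (b := piO F Γ q.out * (e * w))
      (by rw [mul_assoc, ← mul_assoc _ _ (e * w), hπ, ← mul_assoc, ← mul_assoc, hw])
      (by rw [← mul_assoc, he.idem]) (by rw [mul_assoc, hπ]) (by rw [← mul_assoc, hπ])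
    have e3 : piO F Γ q.out = b * (e * a) := by rw [← e1, mul_assoc, ← mul_assoc, e2, hπ]
    have e4 : e = a * (piO F Γ q.out * b) := by rw [← e2, mul_assoc, ← mul_assoc, e1, he.idem]
    refine ⟨q.out, (NZ.of_mul hΓ (NZ.of_mul hΓ (e3 ▸ nz_piO.2
      ⟨_, mem_orbit_self _, fun r hr => hr⟩)).2).1, ?_, fun _ R hR =>
      nz_piO.1 (NZ.of_mul hΓ (NZ.of_mul hΓ (e4 ▸ hR)).2).1⟩
    rw [← rank_piO (F := F), e3]
    exact (rank_mul_le_right _ _).trans (rank_mul_le_left _ _)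
  · by_cases hf0 : f = 0
    · rw [hf0, add_zero] at h0 ⊢; exact he h0
    by_cases he0 : e = 0
    · rw [he0, zero_add]; exact hf hf0
    obtain ⟨x, k1, k2, -⟩ := he he0
    have e1 : (e + f) * e = e := by rw [add_mul, h1, h4, add_zero]
    have e2 : (e + f) * f = f := by rw [add_mul, h2, h3, zero_add]
    have e3 : e.1.rank < (e + f).1.rank := by
      have hm : ∀ a b : InvM F Γ X, (a * b).1.mulVecLin = a.1.mulVecLin ∘ₗ b.1.mulVecLin :=
        fun a b => mulVecLin_mul _ _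
      refine Submodule.finrank_lt_finrank_of_lt (lt_of_le_of_ne (by
        conv_lhs => rw [← e1, hm]
        exact LinearMap.range_comp_le_range _ _) fun h => hf0 (Subtype.ext
          (Matrix.toLin'.map_eq_zero_iff.1 (LinearMap.ext fun v => ?_))))
      obtain ⟨w, hw⟩ : f.1.mulVecLin v ∈ LinearMap.range e.1.mulVecLin := by
        rw [h]
        exact ⟨f.1.mulVecLin v, (LinearMap.congr_fun (hm _ _) v).symm.trans (by rw [e2])⟩
      change f.1.mulVecLin v = 0
      rw [← hw, ← h1, hm, LinearMap.comp_apply, hw, ← LinearMap.comp_apply, ← hm, h3]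
      simp
    exact ⟨x, (NZ.of_mul hΓ (e1.symm ▸ k1)).1, k2.trans e3.le, fun h => by omega⟩

end perm

section biset
variable {G : Type*} [Group G] (S : Subgroup G)

/-- The two-sided action of `S × S`. -/
@[reducible] def biAct : MulAction (S × S) G where
  smul γ g := γ.1 * g * (γ.2 : G)⁻¹
  one_smul g := by change (1 : G) * g * (1 : G)⁻¹ = g; simp
  mul_smul a b g := by
    change (a.1 * b.1 : G) * g * (a.2 * b.2 : G)⁻¹ = a.1 * (b.1 * g * (b.2 : G)⁻¹) * (a.2 : G)⁻¹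
    group

/-- Twisted diagonal subgroup. -/
def twD (Q : Subgroup G) (g : G) : Subgroup (S × S) where
  carrier := {γ | (γ.1 : G) ∈ Q ∧ (γ.2 : G) = g⁻¹ * γ.1 * g}
  mul_mem' := fun {a b} ha hb => ⟨mul_mem ha.1 hb.1, by
    change (a.2 * b.2 : G) = g⁻¹ * (a.1 * b.1) * g
    rw [ha.2, hb.2]; group⟩
  one_mem' := ⟨one_mem _, by simp⟩
  inv_mem' := fun {a} ha => ⟨inv_mem ha.1, by
    change ((a.2 : G))⁻¹ = g⁻¹ * (a.1 : G)⁻¹ * g
    rw [ha.2]; group⟩

end biset

theorem MP.nil_of_finrank {F : Type*} [Field F] [IsAlgClosed F] {G : Type*} [Group G] [Finite G]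
    {p : ℕ} [hp : Fact p.Prime] [CharP F p] {E e : F[G]} {P S : Subgroup G} (hm : MP p ⊤ E P e)
    (hS : IsPGroup p S) (hPS : P ≤ S)
    (h : finrank F (LinearMap.range (LinearMap.mulLeftRight F (E, 1))) * Nat.card P ≤
      Nat.card S * Nat.card S) : Nil p ⊤ E := by
  classical
  have := Fintype.ofFinite G
  let := biAct S
  have hs : ∀ (γ : S × S) (g : G), γ • g = γ.1 * g * (γ.2 : G)⁻¹ := fun _ _ => rfl
  have hΓ : IsPGroup p (S × S) := by
    obtain ⟨k, hk⟩ := IsPGroup.iff_card.1 hS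
    exact IsPGroup.of_card (n := k + k) (by rw [Nat.card_prod, hk, pow_add])
  let L := Algebra.leftMulMatrix (MonoidAlgebra.basis G F)
  have hL : ∀ i j, L E i j = E.coeff (i * j⁻¹) := fun i j => by
    rw [Algebra.leftMulMatrix_eq_repr_mul]
    change (E * single j 1).coeff i = _
    rw [coeff_mul_single_apply, mul_one]
  let T : InvM F (S × S) G := ⟨L E, fun γ x y => by
    rw [hL, hL, hs, hs, ← mem_Fix.1 hm.prim.mem.2 γ.1 trivial (x * y⁻¹)]
    congr 1
    group⟩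
  have hT : ∀ (Q : Subgroup G) g, Br Q E ≠ 0 → NZ (twD S Q g) T.1 := fun Q g h0 => by
    obtain ⟨y, hy, hc⟩ := Br_ne_zero_iff.1 h0
    refine ⟨y * g, g, fun r hr => ?_, fun r hr => by rw [hs, hr.2]; group, by
      simpa [T, hL] using hy⟩
    rw [hs, hr.2, ← mul_assoc, mem_centralizer_singleton_iff.1 (hc hr.1)]
    group
  have hr : T.1.rank = finrank F (LinearMap.range (LinearMap.mulLeftRight F (E, 1))) := by
    rw [rank_eq_finrank_range_toLin _ (MonoidAlgebra.basis G F) (MonoidAlgebra.basis G F)]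
    refine congrArg (fun f : F[G] →ₗ[F] F[G] => finrank F (LinearMap.range f)) ?_
    simp only [T, L, Algebra.leftMulMatrix_apply, Matrix.toLin_toMatrix]
    exact LinearMap.ext fun x => by simp
  obtain ⟨x, ⟨y, z, hy, hz, h1⟩, h2, h3⟩ := exists_orbit_of_idem hΓ (ε := T)
    (Subtype.ext ((map_mul L E E).symm.trans (congrArg L hm.prim.idem))) fun e0 => by
      obtain ⟨x, y, -, -, h⟩ := hT P 1 hm.isDef.ne_zero
      exact h (by rw [e0]; rfl)
  let f : S × S →* G := S.subtype.comp (MonoidHom.fst _ _)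
  have hf : ∀ x : G, Nat.card ((stabilizer (S × S) x).map f) = Nat.card (stabilizer (S × S) x) :=
    fun x => by
      refine (Nat.card_congr (Equiv.ofBijective (f.subgroupMap _) ⟨?_,
        f.subgroupMap_surjective _⟩)).symm
      rintro ⟨a, ha⟩ ⟨b, hb⟩ hab
      have e1 : (a.1 : G) = b.1 := (Subtype.ext_iff.1 hab :)
      have e2 : (a.1 : G) * x * (a.2 : G)⁻¹ = b.1 * x * (b.2 : G)⁻¹ := ha.trans hb.symm
      rw [e1, mul_right_inj, _root_.inv_inj] at e2
      exact Subtype.ext (Prod.ext (Subtype.ext e1) (Subtype.ext e2))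
  have ho : ∀ x : G, Nat.card (orbit (S × S) x) * Nat.card (stabilizer (S × S) x) =
      Nat.card S * Nat.card S := fun x => by
    rw [← Nat.card_prod, ← Nat.card_prod]
    exact Nat.card_congr (orbitProdStabilizerEquivGroup _ x)
  have h4 : Nat.card (stabilizer (S × S) x) ≤ Nat.card P := by
    rw [← hf]
    refine hm.isDef.card_le le_top ((hΓ.to_subgroup _).map f) (Br_ne_zero_iff.2 ⟨y * z⁻¹, by
      simpa [T, hL] using h1, ?_⟩)
    rintro _ ⟨r, hr, rfl⟩
    rw [mem_centralizer_singleton_iff]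
    conv_rhs => rw [← hy r hr, ← hz r hr, hs, hs]
    change (r.1 : G) * _ = _ * (r.1 : G)
    group
  have h5 : T.1.rank ≤ Nat.card (orbit (S × S) x) := Nat.le_of_mul_le_mul_right
    (by rw [hr]; exact h.trans ((ho x).ge.trans (Nat.mul_le_mul_left _ h4))) Nat.card_pos
  obtain ⟨x1, hx1, h6⟩ := h3 h5 _ (hT P 1 hm.isDef.ne_zero)
  have h7 : P ≤ (stabilizer (S × S) x1).map f := fun u hu =>
    ⟨(⟨u, hPS hu⟩, ⟨u, hPS hu⟩), h6 _ ⟨hu, by simp⟩, rfl⟩
  have h8 : P = (stabilizer (S × S) x1).map f := eq_of_le_of_card_ge h7 (by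
    rw [hf]
    have : Nonempty (orbit (S × S) x) := ⟨⟨x, mem_orbit_self x⟩⟩
    refine le_trans (Nat.le_of_mul_le_mul_left ?_ (Nat.card_pos (α := orbit (S × S) x))) h4
    rw [ho x, ← orbit_eq_iff.2 hx1, ho])
  have h9 : ∀ r ∈ stabilizer (S × S) x1, r.1 = r.2 := fun r hr => by
    have k1 : (r.1 : G) ∈ P := h8 ▸ mem_map_of_mem f hr
    have k2 : (r.1 : G) * x1 * (r.1 : G)⁻¹ = r.1 * x1 * (r.2 : G)⁻¹ :=
      (h6 (r.1, r.1) ⟨k1, by simp⟩).trans hr.symm
    rw [mul_right_inj, _root_.inv_inj] at k2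
    exact Subtype.ext k2
  refine hm.nil_of_fusion fun Q a hs' g _ hg _ hg' => ?_
  obtain ⟨x2, hx2, k⟩ := h3 h5 _ (hT Q g⁻¹ (Br_ne_zero_of_le hs'.le hm.isDef.ne_zero))
  rw [← orbit_eq_iff.2 hx1] at hx2
  obtain ⟨σ, rfl⟩ := hx2
  refine mem_centralizer_of_acts_like (s := σ.2 * (σ.1 : G)⁻¹) hg' ?_ (fun u hu => ?_) hg
  · obtain ⟨n, hn⟩ := IsPGroup.iff_orderOf.1 hS (σ.2 * σ.1⁻¹)
    exact ⟨n, by rw [← hn, ← orderOf_coe]; rfl⟩
  · have k1 := k (⟨u, hPS (hs'.le hu)⟩, ⟨g * u * g⁻¹, hPS (hs'.le ((mem_normalizer_iff.1 hg u).1 hu))⟩)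
      ⟨hu, by simp⟩
    have k2 := congrArg Subtype.val (h9 (σ⁻¹ * _ * σ) (by
      rw [mem_stabilizer_iff, mul_smul, mul_smul, k1, inv_smul_smul]))
    simp only [Prod.fst_mul, Prod.fst_inv, Prod.snd_mul, Prod.snd_inv, coe_mul, coe_inv] at k2
    calc g * u * g⁻¹ = σ.2 * ((σ.2 : G)⁻¹ * (g * u * g⁻¹) * σ.2) * (σ.2 : G)⁻¹ := by group
      _ = _ := by rw [← k2]; group

end CfsgH4
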