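import Cfsg.Agent.H4.Coh
import Cfsg.Agent.H4.PPart
import Cfsg.Agent.H1.Solv
import Cfsg.Agent.H1.Coprime

/-! Irreducible products with Galois conjugates, a transfer lemma, Sylow normalizers and class
sizes, fully ramified characters. -/

set_option autoImplicit false
set_option linter.unusedSectionVars false

open Subgroup Function Cfsg CfsgH3 CfsgH2
open scoped ComplexConjugate commutatorElement

namespace CfsgH4

universe u v

variable {G : Type u} [Group G]

theorem sum_conj_comp {Γ : Type v} [Group Γ] [Fintype G] {ζ : Γ → ℂ} (hζ : IsCharacter Γ ζ)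
    (f : G →* Γ) (h : IsIrrCharacter G (fun g => ζ (f g))) (x y : Γ) :
    ζ 1 * ∑ g, ζ (y * (f g * x * (f g)⁻¹)) = Nat.card G * ζ x * ζ y := by
  obtain ⟨n, ρ, rfl⟩ := hζ
  let σ : Representation ℂ G (Fin n → ℂ) := ρ.comp f
  have hirr : σ.IsIrreducible := irreducible_of_isIrr σ h
  set T : (Fin n → ℂ) →ₗ[ℂ] (Fin n → ℂ) := ∑ g, ρ (f g * x * (f g)⁻¹) with hT
  obtain ⟨c, hc⟩ := exists_scalar_of_commute σ T fun a => by
    change T * ρ (f a) = ρ (f a) * T
    rw [hT, Finset.sum_mul, Finset.mul_sum]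
    refine (Fintype.sum_equiv (Equiv.mulLeft a) _ _ fun g => ?_).symm
    rw [← map_mul, ← map_mul]
    congr 1
    simp only [Equiv.coe_mulLeft, map_mul]; group
  have h1 : (Nat.card G : ℂ) * ρ.character x = c * ρ.character 1 := by
    have := congrArg (LinearMap.trace ℂ _) hc
    rw [hT, map_sum, map_smul] at this
    have e : ∀ g, LinearMap.trace ℂ _ (ρ (f g * x * (f g)⁻¹)) = ρ.character x := fun g =>
      (isCharacter_rep ρ).classFun x (f g)
    simp only [e, Finset.sum_const, Finset.card_univ, nsmul_eq_mul] at this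
    rw [Nat.card_eq_fintype_card, this, smul_eq_mul]
    congr 1
    change _ = LinearMap.trace ℂ _ (ρ 1)
    rw [map_one]; rfl
  have h2 : ∑ g, ρ.character (y * (f g * x * (f g)⁻¹)) = c * ρ.character y := by
    have : ∑ g, ρ.character (y * (f g * x * (f g)⁻¹)) = LinearMap.trace ℂ _ (ρ y * T) := by
      rw [hT, Finset.mul_sum, map_sum]
      exact Finset.sum_congr rfl fun g _ => by rw [← map_mul]; rfl
    rw [this, hc, mul_smul_comm, map_smul, smul_eq_mul]; rfl
  rw [h2, h1]; ring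

theorem eq_zero_of_comm_central [Finite G] {χ : G → ℂ} (hχ : IsIrrCharacter G χ)
    (hf : ∀ g, χ g = χ 1 → g = 1) {a x : G} (hz : ⁅a, x⁆ ∈ center G) (h : ¬ Commute a x) :
    χ x = 0 := by
  obtain ⟨ω, -, hω⟩ := hχ.exists_scalar_of_mem_center hz
  have e1 : χ x = ω * χ x := by
    rw [← hω, commutatorElement_def, inv_mul_cancel_right, hχ.classFun x a]
  by_contra h0
  have : ω = 1 := by
    apply mul_right_cancel₀ h0; rw [← e1, one_mul]
  have h2 := hω 1
  rw [this, one_mul, mul_one] at h2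
  exact h (commutatorElement_eq_one_iff_commute.1 (hf _ h2))

theorem fitting_eq_center_of_mul_irr [Finite G] {χ : G → ℂ} (hχ : IsIrrCharacter G χ)
    (hf : ∀ g, χ g = χ 1 → g = 1) {k : ℕ} (hk : Nat.Coprime k (Nat.card G))
    (hirr : IsIrrCharacter G (fun g => χ g * χ (g ^ k))) : fittingSubgroup G = center G := by
  classical
  have := Fintype.ofFinite G
  by_contra hne
  have hlt : center G < fittingSubgroup G := lt_of_le_of_ne CfsgH1.center_le_fitting (Ne.symm hne)
  have := CfsgH1.isNilpotent_fitting G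
  obtain ⟨N, hN, h1, h2, h3⟩ := exists_central_above (K := fittingSubgroup G) hlt le_rfl
  obtain ⟨b, hb, hbZ⟩ := SetLike.exists_of_lt h1
  have hcm : ∀ x ∈ N, ∀ y ∈ N, ⁅x, y⁆ ∈ center G := fun x hx y hy =>
    h3 (commutator_mem_commutator hx (h2 hy))
  obtain ⟨σ, hσ⟩ := exists_ringEquiv_apply_pow hk
  have hψ : IsIrrCharacter G (fun g => χ (g ^ k)) := by
    have := hχ.map_ringHom σ.toRingHom
    simpa [hσ χ hχ.isGen] using this
  set a := (b ^ k)⁻¹ with ha
  have haN : a ∈ N := inv_mem (pow_mem hb k)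
  have E1 := sum_conj_comp (irr_prod hχ hψ).isChar ((MonoidHom.id G).prod (MonoidHom.id G)) hirr
    (a, b) (a⁻¹, b⁻¹)
  have E2 := sum_conj_comp hχ.isChar (MonoidHom.id G) hχ a a⁻¹
  simp only [MonoidHom.prod_apply, MonoidHom.id_apply, Prod.fst_mul, Prod.snd_mul, Prod.fst_inv,
    Prod.snd_inv, Prod.fst_one, Prod.snd_one, one_pow] at E1 E2
  set F : G → ℂ := fun g => χ (a⁻¹ * (g * a * g⁻¹)) with hF
  have hpt : ∀ g, χ (a⁻¹ * (g * a * g⁻¹)) * χ ((b⁻¹ * (g * b * g⁻¹)) ^ k) = F g * conj (F g) := by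
    intro g
    by_cases hc : Commute b (g * b * g⁻¹)
    · congr 1
      rw [hc.inv_left.mul_pow, conj_pow, ← hχ.isChar.apply_inv, hχ.classFun.mul_comm, inv_pow, ha]
      congr 1; group
    · have : F g = 0 := by
        refine eq_zero_of_comm_central hχ hf (a := a) (hcm _ haN _
          (mul_mem (inv_mem haN) (hN.conj_mem _ haN g))) fun h => hc ?_
        have h4 : Commute a (g * a * g⁻¹) := by
          have := (Commute.refl a).mul_right h
          rwa [mul_inv_cancel_left] at this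
        have h5 : b ∈ zpowers a := by
          rw [← pow_mem_iff_of_coprime hk, ← inv_mem_iff]; exact mem_zpowers _
        obtain ⟨m, hm⟩ := mem_zpowers_iff.1 h5
        have := h4.zpow_zpow m m
        rwa [conj_zpow, hm] at this
      change F g * _ = _
      rw [this, zero_mul, zero_mul]
  simp only [hpt] at E1
  have e3 : χ (b ^ k) = χ a⁻¹ := by rw [ha, inv_inv]
  have e4 : χ (b⁻¹ ^ k) = χ a := by rw [inv_pow]
  rw [e3, e4] at E1
  have d0 := hχ.one_ne_zero
  set s := χ a * χ a⁻¹ / χ 1 with hs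
  have hsc : conj s = s := by
    rw [hs, hχ.isChar.apply_inv a, map_div₀, map_mul, Complex.conj_conj, hχ.isChar.conj_one, mul_comm]
  have S1 : ∑ g, F g = Nat.card G * s := by
    apply mul_left_cancel₀ d0; rw [E2, hs]; field_simp
  have S2 : ∑ g, F g * conj (F g) = Nat.card G * s ^ 2 := by
    apply mul_left_cancel₀ (mul_ne_zero d0 d0); rw [E1, hs]; field_simp
  have S3 : ∑ g, conj (F g) = Nat.card G * s := by
    rw [← map_sum, S1, map_mul, hsc, Complex.conj_natCast]
  have h0 : (fun g => F g - s) = 0 := by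
    rw [← CfsgH3.inner_self_eq_zero, classInner]
    have : ∑ g, (F g - s) * conj (F g - s) = ∑ g, F g * conj (F g) - s * ∑ g, F g
        - s * ∑ g, conj (F g) + Nat.card G * s ^ 2 := by
      rw [Finset.mul_sum, Finset.mul_sum, ← Finset.sum_sub_distrib, ← Finset.sum_sub_distrib,
        Nat.card_eq_fintype_card, ← nsmul_eq_mul, ← Finset.card_univ, ← Finset.sum_const,
        ← Finset.sum_add_distrib]
      exact Finset.sum_congr rfl fun g _ => by rw [map_sub, hsc]; ring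
    rw [this, S1, S2, S3]; ring
  have h6 : ∀ g, F g = χ 1 := fun g => by
    have a1 := congrFun h0 g
    have a2 := congrFun h0 1
    simp only [hF, Pi.zero_apply, one_mul, inv_one, mul_one, inv_mul_cancel] at a1 a2 ⊢
    linear_combination a1 - a2
  apply hbZ
  rw [← pow_mem_iff_of_coprime hk, ← inv_mem_iff, mem_center_iff]
  intro g
  have := hf _ (h6 g)
  rw [← ha]
  calc g * a = a * (a⁻¹ * (g * a * g⁻¹)) * g := by group
    _ = a * g := by rw [this, mul_one]

/-! ### A transfer lemma -/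

theorem transfer_comp [Finite G] {A B : Type*} [CommGroup A] [CommGroup B] {H : Subgroup G}
    (ϕ : H →* A) (π : A →* B) (g : G) :
    MonoidHom.transfer (π.comp ϕ) g = π (MonoidHom.transfer ϕ g) := by
  classical
  have := Fintype.ofFinite (Quotient (MulAction.orbitRel (zpowers g) (G ⧸ H)))
  rw [MonoidHom.transfer_eq_prod_quotient_orbitRel_zpowers_quot,
    MonoidHom.transfer_eq_prod_quotient_orbitRel_zpowers_quot, map_prod]
  rfl

theorem sq_mem_commutator [Finite G] (N : Subgroup G) [hN : N.Normal] (P : Sylow 2 G)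
    (hP : ∀ x ∈ (P : Subgroup G), x ^ 2 ∈ ((P : Subgroup G) ⊓ N) ⊔ ⁅(P : Subgroup G), (P : Subgroup G)⁆)
    (hQ : ∀ x ∈ (P : Subgroup G) ⊓ N, x ^ 2 ∈ ⁅(P : Subgroup G) ⊓ N, (P : Subgroup G) ⊓ N⁆)
    (hodd : Odd (Nat.card (Abelianization N))) :
    ∀ x ∈ (P : Subgroup G), x ^ 2 ∈ ⁅(P : Subgroup G), (P : Subgroup G)⁆ := by
  intro x hx
  set S : Subgroup G := (P : Subgroup G) with hS
  set H := N ⊔ S with hH
  have hSH : S ≤ H := le_sup_right
  have hNH : N ≤ H := le_sup_left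
  let φ₀ : S →* Abelianization S := Abelianization.of
  have hφ : ∀ y : S, φ₀ y = 1 ↔ (y : G) ∈ ⁅S, S⁆ := fun y => by
    rw [← MonoidHom.mem_ker, Abelianization.ker_of, ← map_subtype_commutator]
    exact ⟨fun h => mem_map_of_mem _ h, fun ⟨z, hz, e⟩ => Subtype.ext e ▸ hz⟩
  let φ : S.subgroupOf H →* Abelianization S := φ₀.comp (subgroupOfEquivOfLe hSH).toMonoidHom
  let V := MonoidHom.transfer φ
  have hA : IsPGroup 2 (Abelianization S) := P.isPGroup'.of_surjective φ₀ Quot.mk_surjective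
  have odd1 : ∀ (a : Abelianization S) (m : ℕ), Odd m → a ^ m = 1 → a = 1 := fun a m hm h => by
    obtain ⟨k, hk⟩ := hA a
    exact orderOf_eq_one_iff.1 (Nat.eq_one_of_dvd_coprimes
      ((Nat.coprime_two_right.2 hm).pow_right k) (orderOf_dvd_of_pow_eq_one h)
      (orderOf_dvd_of_pow_eq_one hk))
  have V1 : ∀ n : N, V (inclusion hNH n) = 1 := fun n => by
    refine odd1 _ _ hodd ?_
    have : V (inclusion hNH n) = Abelianization.lift (V.comp (inclusion hNH)) (Abelianization.of n) :=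
      rfl
    rw [this, ← map_pow, pow_card_eq_one', map_one]
  have V2 : (S ⊓ N) ⊔ ⁅S, S⁆ ≤ V.ker.map H.subtype := by
    refine sup_le (fun y hy => ⟨inclusion hNH ⟨y, hy.2⟩, V1 _, rfl⟩) (commutator_le.2 ?_)
    intro a ha b hb
    refine ⟨⁅(⟨a, hSH ha⟩ : H), (⟨b, hSH hb⟩ : H)⁆, ?_, rfl⟩
    change V _ = 1
    rw [map_commutatorElement, commutatorElement_eq_one_iff_mul_comm, mul_comm]
  let B : Subgroup (Abelianization S) := ((S ⊓ N).subgroupOf S).map φ₀
  let π := QuotientGroup.mk' B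
  let x' : S.subgroupOf H := ⟨⟨x, hSH hx⟩, hx⟩
  have T1 := transfer_eq_pow' (π.comp φ) x' fun m a ha => by
    obtain ⟨y, hy, n, hn, e⟩ := (mem_sup_of_normalizer' (H := S) (N := N)
      le_normalizer_of_normal (x := (a : G)⁻¹)).1 (by rw [sup_comm]; exact inv_mem a.2)
    have ea : (a : G) = n⁻¹ * y⁻¹ := by rw [← mul_inv_rev, e, inv_inv]
    have ha' : (a : G)⁻¹ * x ^ m * a ∈ S := ha
    have hq : (x ^ m)⁻¹ * (n * x ^ m * n⁻¹) ∈ S ⊓ N := by
      refine mem_inf.2 ⟨mul_mem (inv_mem (pow_mem hx m)) ?_, ?_⟩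
      · have := mul_mem (mul_mem (inv_mem hy) ha') hy
        rw [← e, ea] at this
        convert this using 1; group
      · have := mul_mem (hN.conj_mem' n hn (x ^ m)) (inv_mem hn)
        convert this using 1; group
    have e2 : φ ⟨_, ha⟩ = φ₀ ⟨y, hy⟩ * (φ₀ ⟨x, hx⟩ ^ m * φ₀ ⟨_, hq.1⟩) * (φ₀ ⟨y, hy⟩)⁻¹ := by
      rw [← map_pow, ← map_mul, ← map_mul, ← map_inv, ← map_mul]
      change φ₀ _ = φ₀ _
      congr 1
      apply Subtype.ext
      change (a : G)⁻¹ * x ^ m * a = y * (x ^ m * ((x ^ m)⁻¹ * (n * x ^ m * n⁻¹))) * y⁻¹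
      rw [← e, ea]; group
    have e3 : π (φ₀ ⟨_, hq.1⟩) = 1 := (QuotientGroup.eq_one_iff _).2 (mem_map_of_mem _ hq)
    rw [MonoidHom.comp_apply, e2, mul_inv_cancel_comm, map_mul, e3, mul_one, map_pow]
    rfl
  rw [transfer_comp, MonoidHom.comp_apply, ← map_pow] at T1
  obtain ⟨q, hq, e⟩ : (φ x' ^ (S.subgroupOf H).index)⁻¹ * V x' ∈ B := by
    rw [← QuotientGroup.eq]; exact T1.symm
  have hq2 : φ₀ q ^ 2 = 1 := by
    rw [← map_pow, hφ]
    exact commutator_mono inf_le_left inf_le_left (hQ _ hq)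
  have hV : V x' ^ 2 = 1 := by
    obtain ⟨z, hz, e⟩ := V2 (hP x hx)
    have : z = (x' : H) ^ 2 := Subtype.ext e
    rw [← map_pow, ← this]; exact hz
  have hodd' : Odd (S.subgroupOf H).index := Nat.not_even_iff_odd.1 fun h =>
    (IsSylowIn.of_sylow P hSH).not_dvd h.two_dvd
  rw [e, mul_pow, hV, mul_one, inv_pow, inv_eq_one, ← pow_mul, mul_comm, pow_mul] at hq2
  have := odd1 _ _ hodd' hq2
  exact (hφ (⟨x, hx⟩ ^ 2)).1 (by rw [map_pow]; exact this)

/-! ### Class sizes of `q`-elements -/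

theorem syl_norm_aux {p q : ℕ} [hp : Fact p.Prime] [hq : Fact q.Prime] (hpq : p ≠ q) (n : ℕ) :
    ∀ (G : Type u) [Group G] [Finite G], Nat.card G ≤ n → (IsPSolvable p G ∨ IsPSolvable q G) →
      (∀ y : G, (∃ k, orderOf y = q ^ k) → ¬ p ∣ (centralizer ({y} : Set G)).index) →
      ∃ Q : Subgroup G, IsSylowIn q Q ⊤ ∧ ¬ p ∣ (normalizer (Q : Set G)).index := by
  induction n with
  | zero => intro G _ _ h; exact absurd h (Nat.not_le.2 Nat.card_pos)
  | succ n ih =>
    intro G _ _ hn hs h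
    rcases subsingleton_or_nontrivial G with h0 | h0
    · obtain ⟨Q, hQ⟩ := IsSylowIn.exists_sylowIn q (⊤ : Subgroup G)
      exact ⟨Q, hQ, by rw [Subsingleton.elim (normalizer (Q : Set G)) ⊤, index_top]
                       exact hp.1.one_lt.ne' ∘ Nat.dvd_one.1⟩
    have hc : Nat.Coprime p q := (Nat.coprime_primes hp.1 hq.1).2 hpq
    obtain ⟨N, hN, N1, N2⟩ : ∃ N : Subgroup G, N.Normal ∧ N ≠ ⊥ ∧
        ((Nat.card N).Coprime p ∨ (Nat.card N).Coprime q) := by
      rcases hs with hs | hs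
      · obtain ⟨M, m1, m2, -, m3 | m3⟩ := CfsgH1.IsPSolvable.exists_normal_le hs ⊤ top_ne_bot
        · exact ⟨M, m1, m2, .inl m3⟩
        · exact ⟨M, m1, m2, .inr (CfsgH1.IsPGroup.coprime_card_of_coprime m3 hc.symm)⟩
      · obtain ⟨M, m1, m2, -, m3 | m3⟩ := CfsgH1.IsPSolvable.exists_normal_le hs ⊤ top_ne_bot
        · exact ⟨M, m1, m2, .inr m3⟩
        · exact ⟨M, m1, m2, .inl (CfsgH1.IsPGroup.coprime_card_of_coprime m3 hc)⟩
    let π := QuotientGroup.mk' N
    have hπ : Surjective π := QuotientGroup.mk'_surjective N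
    obtain ⟨Q₀, q1, q2⟩ := ih (G ⧸ N) (by
      have h1 := N.card_mul_index
      have h2 : 1 < Nat.card N := (one_lt_card_iff_ne_bot N).2 N1
      have h3 : 0 < N.index := Nat.pos_of_ne_zero N.index_ne_zero_of_finite
      change N.index ≤ n
      nlinarith)
      (hs.imp (fun h => CfsgH1.IsPSolvable.quotient h N) fun h => CfsgH1.IsPSolvable.quotient h N)
      (by
        intro y hy
        obtain ⟨g, rfl⟩ := hπ y
        obtain ⟨x, hx⟩ := exists_isPPart q g
        have e : π g = π x := isPPart_unique (isPPart_self hy) (isPPart_map' π hx)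
        rw [e]
        refine fun hd => h x (isPPart_order hx) (hd.trans ((index_dvd_of_le ?_).trans
          (index_map_dvd _ hπ)))
        rintro _ ⟨c, hc, rfl⟩
        rw [mem_centralizer_singleton_iff, ← map_mul, mem_centralizer_singleton_iff.1 hc, map_mul])
    set R := Q₀.comap π with hR
    have hNR : N ≤ R := CfsgH1.le_comap_mk' N Q₀
    obtain ⟨Q, hQ⟩ := IsSylowIn.exists_sylowIn q R
    have hQ' : IsSylowIn q Q ⊤ := hQ.trans_of_not_dvd le_top (by
      rw [relIndex_top_right, hR, index_comap_of_surjective _ hπ, ← relIndex_top_right]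
      exact q1.not_dvd)
    obtain ⟨k, hk⟩ := q1.pgroup.exists_card_eq
    have hsup : Q ⊔ N = R := hQ.sup_eq_of_pow hNR (by rw [hR, CfsgH1.relIndex_comap_mk', hk])
    set W := normalizer (Q : Set G) with hW
    have hU : (normalizer (Q₀ : Set (G ⧸ N))).comap π ≤ N ⊔ W := fun u hu => by
      obtain ⟨r, hr, h1⟩ := hQ.frattini (le_normalizer_comap π hu)
      have : r ∈ N ⊔ W := by
        rw [← hsup] at hr
        exact (sup_le (le_normalizer.trans le_sup_right) le_sup_left : Q ⊔ N ≤ N ⊔ W) hr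
      simpa using mul_mem (inv_mem this) (mem_sup_right h1)
    have h1 : ¬ p ∣ (N ⊔ W).index := fun hd => q2 (by
      rw [← index_comap_of_surjective _ hπ]; exact hd.trans (index_dvd_of_le hU))
    refine ⟨Q, hQ', ?_⟩
    rw [← relIndex_mul_index (le_sup_right : W ≤ N ⊔ W),
      ← CfsgH1.relIndex_eq_relIndex_sup le_normalizer_of_normal, hp.1.dvd_mul, not_or]
    refine ⟨?_, h1⟩
    rcases N2 with N2 | N2
    · exact fun hd => (hp.1.coprime_iff_not_dvd.1 N2.symm) (hd.trans (relIndex_dvd_card _ _))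
    have hcop : (Nat.card Q).Coprime (Nat.card N) :=
      CfsgH1.IsPGroup.coprime_card_of_coprime hQ.pgroup N2
    have := hQ.pgroup.isNilpotent
    obtain ⟨S, s1, s2⟩ := CfsgH1.exists_invariant_sylow (A := Q) (K := N) le_normalizer_of_normal
      hcop (.inl inferInstance) p
    have hS : S ≤ centralizer (Q : Set G) := by
      rw [le_centralizer_iff]
      intro y hy
      obtain ⟨P₁, p1⟩ := IsSylowIn.exists_sylowIn p (centralizer ({y} : Set G))
      have p2 := p1.trans_of_not_dvd le_top (by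
        rw [relIndex_top_right]; exact h y (exists_orderOf_eq_pow hQ.pgroup hy))
      have p3 := p2.inf_of_normalizer' (N := N) le_top le_normalizer_of_normal
      have hy1 : zpowers y ≤ Q := zpowers_le.2 hy
      have p4 : P₁ ⊓ N ≤ centralizer (zpowers y : Set G) := by
        rw [zpowers_eq_closure, centralizer_closure]; exact inf_le_left.trans p1.le
      obtain ⟨c, c1, c2⟩ := CfsgH1.invariant_sylow_conj (A := zpowers y) (K := N)
        le_normalizer_of_normal (CfsgH1.coprime_of_le_left hcop hy1)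
        (.inl (CfsgH1.isSolvable_zpowers y)) p3 s1
        ((le_centralizer_iff.1 p4).trans (centralizer_le_normalizer _)) (hy1.trans s2)
      have : S ≤ centralizer (zpowers y : Set G) := by
        rw [← c2, ← cj_eq_smul, cj_le_iff]
        exact fun x hx => mul_mem (mul_mem c1.2 (p4 hx)) (inv_mem c1.2)
      exact le_centralizer_iff.1 this (mem_zpowers y)
    rw [← inf_relIndex_right]
    exact s1.not_dvd_of_le (le_inf (hS.trans (centralizer_le_normalizer _)) s1.le) inf_le_right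

/-! ### Fully ramified characters -/

structure FR (Z : Subgroup G) (χ : G → ℂ) (θ : Z → ℂ) (e : ℕ) : Prop where
  irr : IsIrrCharacter G χ
  irrθ : IsIrrCharacter Z θ
  sq : e ^ 2 = Z.index
  res : ∀ z : Z, χ z = e * θ z

section FR

variable [Finite G] {Z : Subgroup G} [hZ : Z.Normal] {χ : G → ℂ} {θ : Z → ℂ} {e : ℕ}

theorem FR.ne_zero (h : FR Z χ θ e) : (e : ℂ) ≠ 0 := by
  have := h.res 1
  exact fun h0 => h.irr.one_ne_zero (by simpa [h0] using this)

theorem FR.res_eq (h : FR Z χ θ e) : (fun z : Z => χ z) = (e : ℂ) • θ := funext h.res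

theorem FR.vanish (h : FR Z χ θ e) {g : G} (hg : g ∉ Z) : χ g = 0 := by
  have := Fintype.ofFinite G
  have := Fintype.ofFinite Z
  refine vanish_of_ip_res Z ?_ hg
  rw [h.res_eq, CfsgH3.inner_smul_left, CfsgH3.inner_smul_right, h.irrθ.inner_self, h.irr.inner_self,
    Complex.conj_natCast, ← h.sq]
  push_cast; ring

theorem FR.inv (h : FR Z χ θ e) (g : G) : CfsgH3.cj g θ = θ := by
  have := cj_res (N := Z) h.irr.classFun g
  rw [h.res_eq, cj_smul] at this
  exact smul_right_injective _ h.ne_zero this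

theorem FR.ind [Fintype G] (h : FR Z χ θ e) : indFun Z θ = (e : ℂ) • χ := by
  funext g
  by_cases hg : g ∈ Z
  · have := congrFun (res_indFun_of_invariant h.inv) ⟨g, hg⟩
    rw [this, Pi.smul_apply, Pi.smul_apply, h.res ⟨g, hg⟩, ← h.sq]
    simp only [smul_eq_mul]; push_cast; ring
  · rw [indFun_of_not_mem_normal _ _ hg, Pi.smul_apply, h.vanish hg, smul_zero]

theorem FR.uniq [Fintype Z] (h : FR Z χ θ e) {ψ : G → ℂ} (hψ : IsIrrCharacter G ψ)
    (hc : classInner (fun z : Z => ψ z) θ ≠ 0) : ψ = χ := by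
  have := Fintype.ofFinite G
  rw [← inner_indFun_right _ _ hψ.classFun, h.ind, CfsgH3.inner_smul_right] at hc
  exact hψ.eq_of_inner_ne_zero h.irr (right_ne_zero_of_mul hc)

theorem sum_coset [Fintype G] (N : Subgroup G) [Fintype N] (c : G) (f : G → ℂ)
    [DecidablePred (· ∈ N)] :
    ∑ x, (if x * c⁻¹ ∈ N then f x else 0) = ∑ n : N, f (n * c) := by
  rw [← sum_ext0 N fun n : N => f (n * c)]
  refine Fintype.sum_equiv (Equiv.mulRight c⁻¹) _ _ fun x => ?_
  simp only [Equiv.coe_mulRight]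
  split_ifs with hx
  · rw [ext0_of_mem _ _ hx]; simp
  · rw [ext0_of_not_mem _ _ hx]

theorem FR.cent_ne (h : FR Z χ θ e) (hne : Z ≠ ⊤) (C : Subgroup (G ⧸ Z)) (hC : IsCyclic C) :
    centralizer (C : Set (G ⧸ Z)) ≠ C := by
  classical
  intro hc
  have := Fintype.ofFinite G
  obtain ⟨c₀, rfl⟩ := (Subgroup.isCyclic_iff_exists_zpowers_eq_top C).1 hC
  obtain ⟨c, rfl⟩ := QuotientGroup.mk_surjective c₀
  have hcZ : c ∉ Z := fun h0 => hne (by
    rw [(QuotientGroup.eq_one_iff c).2 h0, zpowers_one_eq_bot] at hc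
    rw [eq_top_iff]
    intro x _
    have : (x : G ⧸ Z) ∈ (⊥ : Subgroup (G ⧸ Z)) := by
      rw [← hc]; intro y hy; rw [mem_bot.1 hy, one_mul, mul_one]
    exact (QuotientGroup.eq_one_iff x).1 this)
  set D := (zpowers (c : G ⧸ Z)).comap (QuotientGroup.mk' Z) with hD
  have hZD : Z ≤ D := CfsgH1.le_comap_mk' Z _
  have hcD : c ∈ D := mem_zpowers _
  have := Fintype.ofFinite D
  have := Fintype.ofFinite Z
  have := Fintype.ofFinite (Z.subgroupOf D)
  obtain ⟨η, hη, he⟩ := ext_of_cyclic (h.irrθ.toSubOf hZD) (fun t => by rw [cj_toSubOf, h.inv])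
    ⟨(⟨c, hcD⟩ : D), fun x => by
      obtain ⟨d, rfl⟩ := QuotientGroup.mk_surjective x
      obtain ⟨k, hk⟩ := mem_zpowers_iff.1 d.2
      refine ⟨k, ?_⟩
      change ((⟨c, hcD⟩ : D) : D ⧸ Z.subgroupOf D) ^ k = _
      rw [← QuotientGroup.mk_zpow, QuotientGroup.eq, mem_subgroupOf, ← QuotientGroup.eq_one_iff]
      change (((c ^ k)⁻¹ * d : G) : G ⧸ Z) = 1
      rw [QuotientGroup.mk_mul, QuotientGroup.mk_inv, QuotientGroup.mk_zpow, hk]
      exact inv_mul_cancel _⟩
  set c' : D := ⟨c, hcD⟩ with hc'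
  have he' : (fun n : Z.subgroupOf D => η n) = toSubOf D θ := funext he
  let f : D → ℂ := fun x => if x * c'⁻¹ ∈ Z.subgroupOf D then η x else 0
  have hF : indFun D f = 0 := (indFun_classFun D f).eq_zero_of_inner fun ψ hψ => by
    rw [inner_indFun_left _ _ hψ.classFun, classInner]
    have : ∑ x : D, f x * conj (ψ x) = ∑ n : Z.subgroupOf D, η (n * c') * conj (ψ ((n * c' : D) : G)) := by
      rw [← sum_coset (Z.subgroupOf D) c' fun x => η x * conj (ψ x)]
      exact Finset.sum_congr rfl fun x _ => by simp only [f]; split_ifs <;> simp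
    rw [this]
    by_cases e : ψ = χ
    · rw [Finset.sum_eq_zero, mul_zero]
      intro n _
      rw [e, h.vanish, map_zero, mul_zero]
      exact fun h0 => hcZ ((Z.mul_mem_cancel_left n.2).1 h0)
    · have h1 := isChar_navg (N := Z.subgroupOf D) (hη.isChar.mul (hψ.isChar.restrict D).conj_char)
      have h2 := congrFun (h1.eq_zero_of_deg (by
        have h3 : classInner (toSubOf D θ) (fun x : Z.subgroupOf D => ψ ((x : D) : G)) = 0 := by
          rw [CfsgH3.inner_eq_zero_symm, ip_res_toSubOf hZD (fun x : D => ψ x)]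
          exact of_not_not fun h0 => e (h.uniq hψ h0)
        rw [navg_one, ← h3, ← he']
        simp [classInner])) c'
      rw [navg, Pi.zero_apply, mul_eq_zero] at h2
      rcases h2 with h2 | h2
      · exact absurd (inv_eq_zero.1 h2) (card_ne_zero_complex _)
      · rw [mul_eq_zero]; exact .inr h2
  have h0 : ∀ n : Z.subgroupOf D, η (n * c') = 0 := fun n => by
    have h1 := congrFun hF ((n * c' : D) : G)
    rw [indFun_apply', Pi.zero_apply] at h1
    have h2 : ∀ x : G, extendByZero D f (x * ((n * c' : D) : G) * x⁻¹) =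
        extendByZero D (fun _ => η (n * c')) x := fun x => by
      by_cases hx : x ∈ D
      · rw [ext0_of_mem _ _ hx, ext0_of_mem _ _ (mul_mem (mul_mem hx (n * c' : D).2) (inv_mem hx))]
        have : (⟨_, mul_mem (mul_mem hx (n * c' : D).2) (inv_mem hx)⟩ : D) =
          ⟨x, hx⟩ * (n * c') * ⟨x, hx⟩⁻¹ := rfl
        rw [this]
        simp only [f]
        rw [if_pos, hη.classFun]
        rw [mem_subgroupOf, ← QuotientGroup.eq_one_iff]
        change ((x * ((n : D) * c) * x⁻¹ * c⁻¹ : G) : G ⧸ Z) = 1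
        have h3 : (x : G ⧸ Z) ∈ centralizer (zpowers (c : G ⧸ Z) : Set (G ⧸ Z)) := by
          rw [hc]; exact hx
        have h4 := h3 _ (mem_zpowers _)
        simp only [QuotientGroup.mk_mul, QuotientGroup.mk_inv,
          (QuotientGroup.eq_one_iff _).2 (mem_subgroupOf.1 n.2), one_mul, ← h4]
        group
      · rw [ext0_of_not_mem _ _ hx, ext0_eq]
        split_ifs with h3
        · simp only [f]
          rw [if_neg]
          intro h4
          apply hx
          rw [mem_subgroupOf, ← QuotientGroup.eq_one_iff] at h4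
          change ((x * ((n : D) * c) * x⁻¹ * c⁻¹ : G) : G ⧸ Z) = 1 at h4
          simp only [QuotientGroup.mk_mul, QuotientGroup.mk_inv,
            (QuotientGroup.eq_one_iff _).2 (mem_subgroupOf.1 n.2), one_mul] at h4
          change (x : G ⧸ Z) ∈ zpowers (c : G ⧸ Z)
          rw [← hc, zpowers_eq_closure, centralizer_closure, mem_centralizer_singleton_iff]
          rw [mul_inv_eq_one, mul_inv_eq_iff_eq_mul] at h4
          exact h4
        · rfl
    simp only [h2] at h1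
    rw [sum_ext0, Finset.sum_const, Finset.card_univ, nsmul_eq_mul, ← Nat.card_eq_fintype_card,
      inv_mul_cancel_left₀ (card_ne_zero_complex _)] at h1
    exact h1
  have h1 := congrFun (navg_mul_conj (N := Z.subgroupOf D) hη.isChar
    (he' ▸ h.irrθ.toSubOf hZD)) c'
  simp [navg, h0] at h1

theorem FR.sub (h : FR Z χ θ e) {p a : ℕ} (hp : p.Prime) {P : Subgroup G} (hZP : Z ≤ P)
    (h1 : Z.relIndex P = p ^ a) (h2 : ¬ p ∣ P.index) :
    ∃ η e', FR (Z.subgroupOf P) η (toSubOf P θ) e' := by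
  have := Fintype.ofFinite P
  have := Fintype.ofFinite (Z.subgroupOf P)
  have hθ := h.irrθ.toSubOf hZP
  have hinv : ∀ t : P, CfsgH3.cj t (toSubOf P θ) = toSubOf P θ := fun t => by rw [cj_toSubOf, h.inv]
  obtain ⟨η, hη, hc⟩ := hθ.exists_over
  obtain ⟨b, b0, b1, b2⟩ := clifford_invariant' hη hθ hinv hc
  refine ⟨η, b, hη, hθ, ?_, b2⟩
  change _ = Z.relIndex P
  have hΨ := hθ.isChar.ind
  have e1 : ((p ^ a : ℕ) : ℂ) • (fun x : P => χ x) = (e : ℂ) • indFun _ (toSubOf P θ) := by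
    funext g
    by_cases hg : g ∈ Z.subgroupOf P
    · have := congrFun (res_indFun_of_invariant hinv) ⟨g, hg⟩
      rw [Pi.smul_apply, Pi.smul_apply, this, h.res ⟨g, hg⟩, ← h1]
      simp only [smul_eq_mul, Pi.smul_apply, toSubOf, relIndex]; ring
    · rw [Pi.smul_apply, Pi.smul_apply, indFun_of_not_mem_normal _ _ hg,
        h.vanish (g := g) hg, smul_zero,
        smul_zero]
  have e2 : classInner (indFun _ (toSubOf P θ)) η = b := by
    rw [inner_indFun_left _ _ hη.classFun, hθ.isChar.inner_comm (hη.isChar.restrict _), b1]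
  obtain ⟨m, hm⟩ := (h.irr.isChar.restrict P).inner_nat hη.isChar
  have e3 := congrArg (classInner · η) e1
  simp only [CfsgH3.inner_smul_left, hm, e2] at e3
  have e4 : p ^ a * m = e * b := by exact_mod_cast e3
  obtain ⟨d, d0, hd⟩ := hθ.exists_deg
  have e5 := hΨ.mul_deg_le hη e2 (a := p ^ a * d) (b := b * d)
    (by rw [indFun_one, hd]; change (Z.relIndex P : ℂ) * _ = _; rw [h1]; push_cast; ring)
    (by have := b2 1; rw [hd] at this; exact_mod_cast this)
  have e6 : b ^ 2 ≤ p ^ a := Nat.le_of_mul_le_mul_right (by nlinarith) d0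
  have e7 : e ^ 2 = p ^ a * P.index := by rw [h.sq, ← h1, relIndex_mul_index hZP]
  have e8 : p ^ a * m ^ 2 = P.index * b ^ 2 := by
    apply Nat.eq_of_mul_eq_mul_left (pow_pos hp.pos a)
    calc p ^ a * (p ^ a * m ^ 2) = (p ^ a * m) ^ 2 := by ring
      _ = _ := by rw [e4, mul_pow, e7]; ring
  rw [h1]
  exact le_antisymm e6 (Nat.le_of_dvd (pow_pos b0 2) (Nat.Coprime.dvd_of_dvd_mul_left
    ((hp.coprime_iff_not_dvd.2 h2).pow_left a) ⟨_, e8.symm⟩))

variable {A : Subgroup G} [hA : A.Normal] [Fintype A] [Fintype Z]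

theorem FR.uniq_over (h : FR Z χ θ e) (hZA : Z ≤ A) {φ : A → ℂ} (hφ : IsIrrCharacter A φ)
    (hc : classInner (resLe hZA φ) θ ≠ 0) {ψ : G → ℂ} (hψ : IsIrrCharacter G ψ)
    (h2 : classInner (fun a : A => ψ a) φ ≠ 0) : ψ = χ :=
  h.uniq hψ (ip_comp_ne_zero_of_constituent (inclusion hZA) (hψ.isChar.restrict A) hφ h2
    h.irrθ.isChar hc)

theorem FR.over (h : FR Z χ θ e) (hZA : Z ≤ A) {φ : A → ℂ} (hφ : IsIrrCharacter A φ)
    (hc : classInner (resLe hZA φ) θ ≠ 0) : classInner (fun a : A => χ a) φ ≠ 0 := by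
  obtain ⟨ψ, hψ, h2⟩ := hφ.exists_over
  rwa [h.uniq_over hZA hφ hc hψ h2] at h2

theorem FR.conj (h : FR Z χ θ e) (hZA : Z ≤ A) {φ φ' : A → ℂ} (hφ : IsIrrCharacter A φ)
    (hc : classInner (resLe hZA φ) θ ≠ 0) (hφ' : IsIrrCharacter A φ')
    (hc' : classInner (resLe hZA φ') θ ≠ 0) : ∃ g : G, φ' = CfsgH3.cj g φ :=
  exists_cj_of_constituents h.irr hφ hφ' (h.over hZA hφ hc) (h.over hZA hφ' hc')

theorem FR.deg (h : FR Z χ θ e) (hZA : Z ≤ A) {φ : A → ℂ} (hφ : IsIrrCharacter A φ)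
    (hc : classInner (resLe hZA φ) θ ≠ 0) :
    ∃ b : ℕ, b ^ 2 = A.relIndex (inertia φ) ∧ χ 1 = b * (inertia φ).index * φ 1 := by
  classical
  have := Fintype.ofFinite G
  obtain ⟨b, hb⟩ := (h.irr.isChar.restrict A).inner_nat hφ.isChar
  refine ⟨b, ?_, by rw [clifford_deg h.irr hφ (h.over hZA hφ hc), hb]⟩
  have e1 : indFun A φ = (b : ℂ) • χ := (indFun_classFun A φ).ext_inner
    (isClassFunction_smul _ h.irr.classFun) fun ψ hψ => by
      rw [inner_indFun_left _ _ hψ.classFun, CfsgH3.inner_smul_left,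
        hφ.isChar.inner_comm (hψ.isChar.restrict A)]
      by_cases e : ψ = χ
      · rw [e, hb, h.irr.inner_self, mul_one]
      · rw [h.irr.inner_of_ne hψ (Ne.symm e), mul_zero]
        exact of_not_not fun h0 => e (h.uniq_over hZA hφ hc hψ h0)
  have e2 := ip_indFun_self hφ
  rw [e1, CfsgH3.inner_smul_left, CfsgH3.inner_smul_right, h.irr.inner_self, Complex.conj_natCast,
    mul_one, ← pow_two] at e2
  exact_mod_cast e2

theorem FR.inertia_le_of_cyclic (h : FR Z χ θ e) (hZA : Z ≤ A) {φ : A → ℂ}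
    (hφ : IsIrrCharacter A φ) (hc : classInner (resLe hZA φ) θ ≠ 0) (hcyc : IsCyclic (G ⧸ A)) :
    inertia φ ≤ A := by
  have := Fintype.ofFinite G
  set T := inertia φ with hT
  have hAT : A ≤ T := le_inertia hφ.classFun
  have := Fintype.ofFinite T
  have hcT : IsCyclic (T ⧸ A.subgroupOf T) := by
    refine isCyclic_of_injective (QuotientGroup.lift (A.subgroupOf T)
      ((QuotientGroup.mk' A).comp T.subtype) fun x hx => (QuotientGroup.eq_one_iff _).2 hx) ?_
    rw [injective_iff_map_eq_one]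
    intro x hx
    obtain ⟨t, rfl⟩ := QuotientGroup.mk_surjective x
    exact (QuotientGroup.eq_one_iff _).2 ((QuotientGroup.eq_one_iff (t : G)).1 hx)
  obtain ⟨η, hη, he⟩ := ext_of_cyclic (hφ.toSubOf hAT) (fun t => by rw [cj_toSubOf, t.2]) hcT
  obtain ⟨g1, g2⟩ := gallagher (N := A.subgroupOf T) hη.isChar
    ((funext he : (fun n : A.subgroupOf T => η n) = _) ▸ hφ.toSubOf hAT)
  have key : ∀ β : IrrCharacter (T ⧸ A.subgroupOf T),
      classInner (resLe hAT ((fun g : T => β.1 g) * η)) φ ≠ 0 := fun β => by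
    have : resLe hAT ((fun g : T => β.1 g) * η) = β.1 1 • φ := by
      funext a
      have e1 := he ⟨⟨a, hAT a.2⟩, a.2⟩
      rw [resLe_apply, Pi.mul_apply, e1, (QuotientGroup.eq_one_iff (⟨a, hAT a.2⟩ : T)).2 a.2]
      rfl
    rw [this, CfsgH3.inner_smul_left, hφ.inner_self, mul_one]
    exact β.2.one_ne_zero
  have k2 : ∀ β : IrrCharacter (T ⧸ A.subgroupOf T), indFun T ((fun g : T => β.1 g) * η) = χ :=
    fun β => by
      obtain ⟨c1, c2⟩ := clifford_corr_irr hφ hT hAT (g1 β) (key β)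
      exact h.uniq_over hZA hφ hc c1 (c2 ▸ key β)
  intro t ht
  have : ((⟨t, ht⟩ : T) : T ⧸ A.subgroupOf T) = 1 := eq_one_of_forall_irr fun β hβ => by
    have := g2 (clifford_corr_inj hφ hT hAT (g1 ⟨β, hβ⟩) (key _) (g1 ⟨_, isIrr_one⟩) (key _)
      ((k2 _).trans (k2 _).symm))
    rw [show β = fun _ => 1 from congrArg Subtype.val this]
  exact (QuotientGroup.eq_one_iff (⟨t, ht⟩ : T)).1 this

end FR

theorem relIndex_eq_of_forall {I P L : Subgroup G} (h : P ≤ L) (h1 : ∀ g ∈ L, ∃ x ∈ P, g * x⁻¹ ∈ I) :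
    I.relIndex L = I.relIndex P := by
  refine (Nat.card_congr (Equiv.ofBijective (quotientSubgroupOfEmbeddingOfLE I h)
    ⟨(quotientSubgroupOfEmbeddingOfLE I h).injective, fun y => ?_⟩)).symm
  obtain ⟨g, rfl⟩ := QuotientGroup.mk_surjective y
  obtain ⟨x, hx, h2⟩ := h1 _ (inv_mem g.2)
  refine ⟨QuotientGroup.mk ⟨x⁻¹, inv_mem hx⟩, ?_⟩
  rw [quotientSubgroupOfEmbeddingOfLE_apply_mk, eq_comm, QuotientGroup.eq, mem_subgroupOf]
  exact h2

theorem exists_compl_aux [Finite G] {p s : ℕ} {I P A K Γ : Subgroup G} [K.Normal]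
    (hF : ∀ h : G, ∃ k ∈ K, k * h ∈ Γ) (hI : I ≤ Γ) (hP : P ≤ Γ) (hAI : A ≤ I) (hAK : A ≤ K)
    (hIP : I ⊓ P = A) (h1 : ∀ g ∈ Γ, ∃ x ∈ P, g * x⁻¹ ∈ I) (hs : A.relIndex P = p ^ s)
    (hc : (A.relIndex K).Coprime p) : ∃ M : Subgroup G, K ≤ M ∧ M.index = A.relIndex P := by
  have e1 : I.relIndex Γ = p ^ s := by
    rw [relIndex_eq_of_forall hP h1, ← inf_relIndex_right, hIP, hs]
  have hB : K ⊓ Γ ≤ I := by
    rw [← relIndex_eq_one]
    have n1 : I ≤ normalizer ((K ⊓ Γ : Subgroup G) : Set G) := fun i hi =>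
      mem_normalizer_of_conj_mem fun x hx => mem_inf.2 ⟨‹K.Normal›.conj_mem _ hx.1 _,
        mul_mem (mul_mem (hI hi) hx.2) (inv_mem (hI hi))⟩
    have d1 : I.relIndex (K ⊓ Γ) ∣ p ^ s := by
      rw [CfsgH1.relIndex_eq_relIndex_sup n1, ← e1]
      exact Dvd.intro _ (relIndex_mul_relIndex _ _ _ le_sup_right (sup_le inf_le_right hI))
    have d2 : I.relIndex (K ⊓ Γ) ∣ A.relIndex K := (relIndex_dvd_of_le_left _ hAI).trans
      (Dvd.intro _ (relIndex_mul_relIndex _ _ _ (le_inf hAK (hAI.trans hI)) inf_le_left))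
    exact Nat.eq_one_of_dvd_coprimes (hc.pow_right s) d2 d1
  refine ⟨K ⊔ I, le_sup_left, ?_⟩
  rw [← relIndex_top_right, relIndex_eq_of_forall (P := P) le_top, ← inf_relIndex_right]
  · congr 1
    refine le_antisymm (fun m hm => hIP ▸ ⟨?_, hm.2⟩) (hIP ▸ inf_le_inf_right _ le_sup_right)
    obtain ⟨k, hk, i, hi, rfl⟩ := (mem_sup_of_normalizer le_normalizer_of_normal).1 hm.1
    exact mul_mem (hB ⟨hk, (Γ.mul_mem_cancel_right (hI hi)).1 (hP hm.2)⟩) hi
  · intro g _
    obtain ⟨k, hk, h2⟩ := hF g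
    obtain ⟨x, hx, h3⟩ := h1 _ h2
    refine ⟨x, hx, ?_⟩
    have := mul_mem (inv_mem (mem_sup_left hk : k ∈ K ⊔ I)) (mem_sup_right h3)
    rwa [mul_assoc, inv_mul_cancel_left] at this

/-- Stabilizer of a function on `A` in the normalizer of `A`. -/
def nst (A : Subgroup G) (φ : A → ℂ) : Subgroup G where
  carrier := {g | g ∈ normalizer (A : Set G) ∧ ∀ a b : A, (b : G) = g * a * g⁻¹ → φ b = φ a}
  one_mem' := ⟨one_mem _, fun a b h => by rw [show b = a from Subtype.ext (by simpa using h)]⟩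
  mul_mem' := fun {g h} hg hh => ⟨mul_mem hg.1 hh.1, fun a b e =>
    (hg.2 ⟨_, conj_mem_of_mem_normalizer hh.1 a.2⟩ b (by rw [e]; group)).trans (hh.2 a _ rfl)⟩
  inv_mem' := fun {g} hg => ⟨inv_mem hg.1, fun a b e => (hg.2 b a (by rw [e]; group)).symm⟩

section FR2

variable [Finite G] {Z : Subgroup G} [hZ : Z.Normal] {χ : G → ℂ} {θ : Z → ℂ} {e : ℕ}
  {K : Subgroup G} [hK : K.Normal] {p : ℕ} [hp : Fact p.Prime] {S : Subgroup G}

theorem relIndex_sylow_sup (hS : IsSylowIn p S ⊤) (Z : Subgroup G) [Z.Normal] :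
    (∃ a, Z.relIndex (S ⊔ Z) = p ^ a) ∧ ¬ p ∣ (S ⊔ Z).index := by
  refine ⟨?_, by rw [← relIndex_top_right]; exact hS.not_dvd_of_le le_sup_left le_top⟩
  obtain ⟨k, hk⟩ := hS.pgroup.exists_card_eq
  rw [relIndex_sup_right]
  exact ((Nat.dvd_prime_pow hp.1).1 (hk ▸ relIndex_dvd_card Z S)).imp fun _ h => h.2

theorem over_toSubOf [Fintype Z] {A P : Subgroup G} [Fintype (Z.subgroupOf P)] (hZA : Z ≤ A)
    (hZP : Z ≤ P) {φ : A → ℂ} (h : classInner (resLe hZA φ) θ ≠ 0) :
    classInner (resLe (N := Z.subgroupOf P) (T := A.subgroupOf P) (comap_mono hZA) (toSubOf P φ))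
      (toSubOf P θ) ≠ 0 := by
  rw [← ip_toSubOf hZP] at h; exact h

theorem FR.exists_compl [Fintype Z] (h : FR Z χ θ e) (hZK : Z ≤ K) (hS : IsSylowIn p S ⊤)
    {P A : Subgroup G} (hP : P = S ⊔ Z) (hA : A = P ⊓ K) (hZA : Z ≤ A) [hn : (A.subgroupOf P).Normal]
    {φ : A → ℂ} (hφ : IsIrrCharacter _ φ) (hc : classInner (resLe hZA φ) θ ≠ 0)
    (hI : inertia (toSubOf P φ) ≤ A.subgroupOf P) :
    ∃ M : Subgroup G, K ≤ M ∧ M.index = K.relIndex S := by
  have hAP : A ≤ P := hA ▸ inf_le_left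
  have hAK : A ≤ K := hA ▸ inf_le_right
  have hZP : Z ≤ P := hZA.trans hAP
  obtain ⟨⟨a, ha⟩, hi⟩ := relIndex_sylow_sup hS Z
  rw [← hP] at ha hi
  obtain ⟨η, e', hη⟩ := h.sub hp.1 hZP ha hi
  have hAe : A = (S ⊓ K) ⊔ Z := by
    rw [hA, hP, inf_comm, sup_comm, CfsgH1.inf_sup_eq_of_le_normalizer hZK le_normalizer_of_normal,
      sup_comm, inf_comm]
  have hSK := hS.inf_of_normalizer' (N := K) le_top le_normalizer_of_normal
  have hPN : P ≤ normalizer (A : Set G) := (normal_subgroupOf_iff_le_normalizer hAP).1 hn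
  have e1 : A.relIndex P = K.relIndex S := by
    rw [hA, inf_relIndex_left, hP, ← relIndex_sup_right S K, ← relIndex_sup_right (S ⊔ Z) K,
      sup_assoc, sup_eq_right.2 hZK]
  obtain ⟨⟨s, hs⟩, -⟩ := relIndex_sylow_sup hS K
  rw [relIndex_sup_right, ← e1] at hs
  rw [← e1]
  have := Fintype.ofFinite (Z.subgroupOf P)
  have := Fintype.ofFinite (A.subgroupOf P)
  refine exists_compl_aux (p := p) (I := nst A φ) (Γ := normalizer (A : Set G)) (fun g => ?_)
    (fun _ h => h.1) hPN (fun x hx => ⟨le_normalizer hx, fun a b e => ?_⟩) hAK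
    (le_antisymm (fun x hx => ?_) (le_inf (fun x hx => ⟨le_normalizer hx, fun a b e => ?_⟩)
      hAP)) (fun g hg => ?_) hs ?_
  · obtain ⟨k, hk, h1⟩ := hSK.frattini (g := g) (le_normalizer_of_normal (mem_top g))
    refine ⟨k, hk, ?_⟩
    rw [← cj_eq_iff_mem_normalizer] at h1 ⊢
    rw [hAe, cj_sup, h1, cj_eq_of_normal]
  · rw [show b = ⟨x, hx⟩ * a * ⟨x, hx⟩⁻¹ from Subtype.ext e, hφ.classFun]
  · exact hI (show (⟨x, hx.2⟩ : P) ∈ _ from funext fun n => hx.1.2 _ _ rfl)
  · rw [show b = ⟨x, hx⟩ * a * ⟨x, hx⟩⁻¹ from Subtype.ext e, hφ.classFun]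
  · have hφ' := hφ.comp_equiv (A.normalizerMonoidHom ⟨g, hg⟩)
    have hc' : classInner (resLe hZA fun x => φ (A.normalizerMonoidHom ⟨g, hg⟩ x)) θ ≠ 0 := by
      have : (resLe hZA fun x => φ (A.normalizerMonoidHom ⟨g, hg⟩ x)) =
        CfsgH3.cj g (resLe hZA φ) := rfl
      rw [this, ip_cj_left, h.inv]; exact hc
    obtain ⟨x, hx⟩ := hη.conj (A := A.subgroupOf P) (comap_mono hZA) (hφ.toSubOf hAP)
      (over_toSubOf hZA hZP hc) (hφ'.toSubOf hAP) (over_toSubOf hZA hZP hc')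
    refine ⟨x, x.2, mul_mem hg (inv_mem (hPN x.2)), fun a b e => ?_⟩
    have h1 := conj_mem_of_mem_normalizer' (hPN x.2) a.2
    have h2 := congrFun hx ⟨⟨_, hAP h1⟩, h1⟩
    refine Eq.trans ?_ (h2.trans ?_)
    · refine congrArg φ (Subtype.ext ?_)
      change (b : G) = g * ((x : G)⁻¹ * a * x) * g⁻¹
      rw [e]; group
    · refine congrArg φ (Subtype.ext ?_)
      change (x : G) * ((x : G)⁻¹ * a * x) * (x : G)⁻¹ = a
      group
  · refine (hp.1.coprime_iff_not_dvd.2 ?_).symm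
    exact hSK.not_dvd_of_le (hAe ▸ le_sup_left) hAK

theorem FR.exists_compl_of_cyclic (h : FR Z χ θ e) (hZK : Z ≤ K) (hS : IsSylowIn p S ⊤)
    (hcyc : IsCyclic (S.map (QuotientGroup.mk' K))) :
    ∃ M : Subgroup G, K ≤ M ∧ M.index = K.relIndex S := by
  have := Fintype.ofFinite Z
  set P := S ⊔ Z with hP
  set A := P ⊓ K with hA
  have hZP : Z ≤ P := le_sup_right
  have hZA : Z ≤ A := le_inf hZP hZK
  have := Fintype.ofFinite (Z.subgroupOf A)
  obtain ⟨φ, hφ, hc⟩ := (h.irrθ.toSubOf hZA).exists_over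
  rw [ip_res_toSubOf hZA] at hc
  obtain ⟨⟨a, ha⟩, hi⟩ := relIndex_sylow_sup hS Z
  obtain ⟨η, e', hη⟩ := h.sub hp.1 hZP ha hi
  have := Fintype.ofFinite (Z.subgroupOf P)
  have := Fintype.ofFinite (A.subgroupOf P)
  have hn : (A.subgroupOf P).Normal := by rw [hA, inf_subgroupOf_left]; infer_instance
  refine h.exists_compl hZK hS hP hA hZA hφ hc (hη.inertia_le_of_cyclic (A := A.subgroupOf P)
    (comap_mono hZA) (hφ.toSubOf inf_le_left) (over_toSubOf hZA hZP hc) ?_)
  have e1 : P.map (QuotientGroup.mk' K) = S.map (QuotientGroup.mk' K) := by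
    rw [hP, Subgroup.map_sup, (CfsgH1.map_mk'_eq_bot_iff K).2 hZK, sup_bot_eq]
  rw [← e1] at hcyc
  refine isCyclic_of_injective (QuotientGroup.lift (A.subgroupOf P)
    ((QuotientGroup.mk' K).subgroupMap P) fun x hx =>
      Subtype.ext ((QuotientGroup.eq_one_iff _).2 hx.2)) ?_
  rw [injective_iff_map_eq_one]
  intro x hx
  obtain ⟨t, rfl⟩ := QuotientGroup.mk_surjective x
  exact (QuotientGroup.eq_one_iff _).2
    ⟨t.2, (QuotientGroup.eq_one_iff (t : G)).1 (congrArg Subtype.val hx)⟩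

theorem over_of_constituent {A : Type u} [Group A] [Fintype A] [Fintype Z] (f : Z →* A)
    (hθ : IsIrrCharacter Z θ) {ξ ψ : A → ℂ} (hξ : IsCharacter A ξ) (hψ : IsIrrCharacter A ψ)
    (hc : classInner ξ ψ ≠ 0) {c : ℂ} (h : (fun z => ξ (f z)) = c • θ) :
    ∃ m : ℕ, m ≠ 0 ∧ (fun z => ψ (f z)) = (m : ℂ) • θ := by
  obtain ⟨m, hm⟩ := eq_smul_of_add (hψ.isChar.comp f) ((hξ.sub_constituent hψ hc).comp f) hθ
    (c := c) (by rw [← h]; funext z; simp)
  refine ⟨m, fun h0 => hψ.one_ne_zero ?_, hm⟩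
  have := congrFun hm 1
  simpa [h0] using this

theorem FR.exists_compl_of_ind [Fintype G] (h : FR Z χ θ e) (hZK : Z ≤ K) (hS : IsSylowIn p S ⊤)
    {ξ : K → ℂ} (hξ : IsCharacter K ξ) (hind : indFun K ξ = χ) :
    ∃ M : Subgroup G, K ≤ M ∧ M.index = K.relIndex S := by
  classical
  have := Fintype.ofFinite Z
  have := Fintype.ofFinite K
  set P := S ⊔ Z with hP
  set A := P ⊓ K with hA
  have hZP : Z ≤ P := le_sup_right
  have hZA : Z ≤ A := le_inf hZP hZK
  have := Fintype.ofFinite (Z.subgroupOf A)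
  obtain ⟨φ, hφ, hc⟩ := (h.irrθ.toSubOf hZA).exists_over
  rw [ip_res_toSubOf hZA] at hc
  obtain ⟨⟨a, ha⟩, hi⟩ := relIndex_sylow_sup hS Z
  obtain ⟨η, e', hη⟩ := h.sub hp.1 hZP ha hi
  have := Fintype.ofFinite (Z.subgroupOf P)
  have := Fintype.ofFinite (A.subgroupOf P)
  have := Fintype.ofFinite A
  have hn : (A.subgroupOf P).Normal := by rw [hA, inf_subgroupOf_left]; infer_instance
  refine h.exists_compl hZK hS hP hA hZA hφ hc ?_
  have hc1 := over_toSubOf hZA hZP hc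
  obtain ⟨b, b1, b2⟩ := hη.deg (A := A.subgroupOf P) (comap_mono hZA) (hφ.toSubOf inf_le_left) hc1
  set T := inertia (toSubOf P φ) with hT
  have hAT : A.subgroupOf P ≤ T := le_inertia (hφ.toSubOf inf_le_left).classFun
  have hξi := irr_of_ind_irr hξ (hind ▸ h.irr)
  obtain ⟨m, -, hm⟩ := over_of_constituent (inclusion hZK) h.irrθ (h.irr.isChar.restrict K) hξi
    (by rw [← inner_indFun_right _ _ h.irr.classFun, hind, h.irr.inner_self]; exact one_ne_zero)
    h.res_eq
  have hξA := hξ.resLe (inf_le_right : A ≤ K)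
  obtain ⟨n, n1, n2⟩ := hξA.exists_coeff
  have n3 : ξ 1 = (∑ ψ, n ψ : ℕ) * φ 1 := by
    have := congrFun n2 1
    rw [Finset.sum_apply] at this
    refine this.trans ?_
    push_cast
    rw [Finset.sum_mul]
    refine Finset.sum_congr rfl fun ψ _ => ?_
    by_cases h0 : n ψ = 0
    · simp [h0]
    obtain ⟨j, j0, hj⟩ := over_of_constituent (inclusion hZA) h.irrθ hξA ψ.2
      (by rw [n1]; exact_mod_cast h0) hm
    have hj' : classInner (resLe hZA ψ.1) θ ≠ 0 := by
      change classInner (fun z => ψ.1 (inclusion hZA z)) θ ≠ 0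
      rw [hj, CfsgH3.inner_smul_left, h.irrθ.inner_self, mul_one]; exact_mod_cast j0
    obtain ⟨x, hx⟩ := hη.conj (A := A.subgroupOf P) (comap_mono hZA) (hφ.toSubOf inf_le_left) hc1
      (ψ.2.toSubOf inf_le_left) (over_toSubOf hZA hZP hj')
    have := congrFun hx 1
    rw [cj_apply_one] at this
    rw [Pi.smul_apply, smul_eq_mul]
    exact congrArg _ this
  obtain ⟨d, d0, hd⟩ := hφ.exists_deg
  obtain ⟨t, t0, ht⟩ := h.irrθ.exists_deg
  have q1 : e * t = K.index * ((∑ ψ, n ψ) * d) := by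
    have := h.res 1
    rw [OneMemClass.coe_one, ← hind, indFun_one, n3, hd, ht] at this
    exact_mod_cast this.symm
  have q2 : e' * t = b * T.index * d := by
    have := hη.res 1
    rw [OneMemClass.coe_one, b2] at this
    change _ * φ 1 = _ * θ 1 at this
    rw [hd, ht] at this
    exact_mod_cast this.symm
  have q3 : e ^ 2 = e' ^ 2 * P.index := by rw [h.sq, hη.sq]; exact (relIndex_mul_index hZP).symm
  have q4 : b ^ 2 * T.index = K.relIndex P := by
    rw [b1, relIndex_mul_index hAT, ← inf_relIndex_left]; rfl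
  obtain ⟨r, q5⟩ : K.relIndex P ∣ K.index := relIndex_dvd_index_of_normal _ _
  obtain ⟨⟨s, hs⟩, -⟩ := relIndex_sylow_sup hS K
  have q6 : K.relIndex P = p ^ s := by
    rw [← hs, hP, ← relIndex_sup_right (S ⊔ Z) K, sup_assoc, sup_eq_right.2 hZK]
  have T0 : 0 < T.index := Nat.pos_of_ne_zero T.index_ne_zero_of_finite
  have b0 : 0 < b := Nat.pos_of_ne_zero fun h0 => by
    rw [h0, q6] at q4; simp at q4; exact absurd q4.symm (pow_ne_zero _ hp.1.ne_zero)
  have q7 : b ^ 2 * (r * ∑ ψ, n ψ) ^ 2 = P.index := by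
    apply Nat.eq_of_mul_eq_mul_left (pow_pos (Nat.mul_pos (Nat.mul_pos b0 T0) d0) 2)
    calc _ = (K.index * ((∑ ψ, n ψ) * d)) ^ 2 := by rw [q5, ← q4]; ring
      _ = _ := by rw [← q1, ← q2, mul_pow, q3]; ring
  have q8 : b ^ 2 = 1 := Nat.eq_one_of_dvd_coprimes
    ((hp.1.coprime_iff_not_dvd.2 hi).pow_left s) (Dvd.intro _ (q4.trans q6)) (Dvd.intro _ q7)
  exact relIndex_eq_one.1 (b1.symm.trans q8)

end FR2

end CfsgH4
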