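import Cfsg.Agent.H4.Ord4
import Cfsg.Agent.H3.Brauer2
import Mathlib.LinearAlgebra.Matrix.PosDef
import Mathlib.Analysis.Complex.Order

/-! Invariant bilinear forms and the Frobenius–Schur indicator, realizability over subfields,
Brauer's splitting field theorem, orbits on real characters and real classes. -/

set_option autoImplicit false
set_option linter.unusedSectionVars false

open Subgroup Function Cfsg CfsgH3 Matrix
open scoped ComplexConjugate commutatorElement ComplexOrder

namespace CfsgH4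

universe u v

variable {G : Type u} [Group G]

section Mat

variable {n : Type v} [Fintype n] [DecidableEq n]

/-- The representation attached to a matrix homomorphism. -/
noncomputable def matRep {F : Type*} [Field F] (X : G →* Matrix n n F) :
    Representation F G (n → F) :=
  (Matrix.toLinAlgEquiv' (R := F) (n := n)).toMulEquiv.toMonoidHom.comp X

theorem matRep_apply {F : Type*} [Field F] (X : G →* Matrix n n F) (g : G) :
    matRep X g = Matrix.toLin' (X g) := rfl

theorem matRep_char {F : Type*} [Field F] (X : G →* Matrix n n F) (g : G) :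
    (matRep X).character g = (X g).trace := Matrix.trace_toLin'_eq _

/-- The matrices of a representation on a coordinate space. -/
noncomputable def repMat {F : Type*} [Field F] (ρ : Representation F G (n → F)) :
    G →* Matrix n n F :=
  (LinearMap.toMatrixAlgEquiv' (R := F) (n := n)).toMulEquiv.toMonoidHom.comp ρ

theorem repMat_apply {F : Type*} [Field F] (ρ : Representation F G (n → F)) (g : G) :
    repMat ρ g = LinearMap.toMatrix' (ρ g) := rfl

theorem repMat_trace {F : Type*} [Field F] (ρ : Representation F G (n → F)) (g : G) :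
    (repMat ρ g).trace = ρ.character g := by
  rw [← Matrix.trace_toLin'_eq, repMat_apply, Matrix.toLin'_toMatrix']; rfl

variable [Fintype G] {X : G →* Matrix n n ℂ} (hX : IsIrrCharacter G fun g => (X g).trace)
include hX

theorem matRep_irr : (matRep X).IsIrreducible :=
  irreducible_of_isIrr _ (by rw [funext (matRep_char X)]; exact hX)

theorem mat_schur {A : Matrix n n ℂ} (h : ∀ g, A * X g = X g * A) : ∃ c : ℂ, A = c • 1 := by
  have := matRep_irr hX
  obtain ⟨c, hc⟩ := exists_scalar_of_commute (matRep X) (Matrix.toLin' A) fun g => by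
    rw [matRep_apply, ← Matrix.toLin'_mul, ← Matrix.toLin'_mul, h]
  exact ⟨c, Matrix.toLin'.injective (by rw [hc, map_smul, Matrix.toLin'_one])⟩

theorem mat_card_ne : (Fintype.card n : ℂ) ≠ 0 := by
  have := hX.one_ne_zero
  rwa [map_one, trace_one] at this

theorem mat_avg (A : Matrix n n ℂ) :
    ∑ g, X g⁻¹ * A * X g = (Nat.card G * A.trace / Fintype.card n) • (1 : Matrix n n ℂ) := by
  obtain ⟨c, hc⟩ := mat_schur hX (A := ∑ g, X g⁻¹ * A * X g) fun a => by
    rw [Finset.sum_mul, Finset.mul_sum]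
    refine Fintype.sum_equiv (Equiv.mulRight a) _ _ fun g => ?_
    simp only [Equiv.coe_mulRight, _root_.mul_inv_rev, map_mul, ← mul_assoc]
    rw [← map_mul X a, mul_inv_cancel, map_one, one_mul]
  have := congrArg trace hc
  rw [trace_sum, trace_smul, trace_one] at this
  simp only [trace_mul_cycle (X _⁻¹), ← map_mul, mul_inv_cancel, map_one, one_mul,
    Finset.sum_const, Finset.card_univ, nsmul_eq_mul, smul_eq_mul] at this
  rw [hc, Nat.card_eq_fintype_card, this, mul_div_cancel_right₀ _ (mat_card_ne hX)]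

omit hX in
theorem form_eq {M : Matrix n n ℂ} (hM : ∀ g, (X g)ᵀ * M * X g = M) (g : G) :
    (X g)ᵀ * M = M * X g⁻¹ := by
  conv_rhs => rw [← hM g]
  rw [mul_assoc, ← map_mul, mul_inv_cancel, map_one, mul_one]

theorem form_unit {M : Matrix n n ℂ} (hM : ∀ g, (X g)ᵀ * M * X g = M) (h0 : M ≠ 0) : IsUnit M := by
  have := matRep_irr hX
  rw [← Matrix.mulVec_injective_iff_isUnit]
  rcases eq_bot_or_top_of_irreducible (matRep X) (LinearMap.ker (Matrix.toLin' M)) (fun g v hv => by
    have e := form_eq hM g⁻¹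
    rw [inv_inv] at e
    rw [LinearMap.mem_ker, matRep_apply, ← LinearMap.comp_apply, ← Matrix.toLin'_mul, ← e,
      Matrix.toLin'_mul, LinearMap.comp_apply, LinearMap.mem_ker.1 hv, map_zero]) with h | h
  · exact LinearMap.ker_eq_bot.1 h
  · exact absurd (Matrix.toLin'.injective (by rw [LinearMap.ker_eq_top.1 h, map_zero])) h0

omit hX in
theorem form_avg_inv (B : Matrix n n ℂ) (a : G) :
    (X a)ᵀ * (∑ g, (X g)ᵀ * B * X g) * X a = ∑ g, (X g)ᵀ * B * X g := by
  rw [Finset.mul_sum, Finset.sum_mul]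
  refine Fintype.sum_equiv (Equiv.mulRight a) _ _ fun g => ?_
  simp only [Equiv.coe_mulRight, map_mul, transpose_mul, mul_assoc]

omit hX in
theorem form_single (g : G) (a b c d : n) :
    ((X g)ᵀ * single a b (1 : ℂ) * X g) c d = X g a c * X g b d := by
  simp [mul_apply, single_apply, ite_and, Finset.sum_mul, Finset.sum_comm]

omit hX in
theorem sum_trace_sq : ∑ g, (X (g * g)).trace =
    ∑ i, ∑ j, (∑ g, (X g)ᵀ * single i j (1 : ℂ) * X g : Matrix n n ℂ) j i := by
  simp only [Matrix.sum_apply, form_single]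
  simp only [map_mul, trace, Matrix.diag_apply, Matrix.mul_apply]
  rw [Finset.sum_comm]
  exact Finset.sum_congr rfl fun i _ => Finset.sum_comm

omit hX in
theorem sum_trace_mul : ∑ g, (X g).trace * (X g).trace =
    ∑ i, ∑ j, (∑ g, (X g)ᵀ * single i j (1 : ℂ) * X g : Matrix n n ℂ) i j := by
  simp only [Matrix.sum_apply, form_single, trace, Matrix.diag_apply, Finset.sum_mul_sum]
  rw [Finset.sum_comm]
  exact Finset.sum_congr rfl fun i _ => Finset.sum_comm

theorem form_transpose {M : Matrix n n ℂ} (hM : ∀ g, (X g)ᵀ * M * X g = M) :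
    Mᵀ = ((Nat.card G : ℂ)⁻¹ * ∑ s, (X (s * s)).trace) • M := by
  by_cases h0 : M = 0
  · simp [h0]
  have hu := (Matrix.isUnit_iff_isUnit_det M).1 (form_unit hX hM h0)
  have hT : ∀ g, (X g)ᵀ * Mᵀ * X g = Mᵀ := fun g => by
    have := congrArg transpose (hM g)
    rwa [transpose_mul, transpose_mul, transpose_transpose, ← mul_assoc] at this
  obtain ⟨c, hc⟩ := mat_schur hX (A := M⁻¹ * Mᵀ) fun g => by
    have e1 := form_eq hT g⁻¹
    have e2 := form_eq hM g⁻¹
    rw [inv_inv] at e1 e2
    have e3 : M⁻¹ * (X g⁻¹)ᵀ = X g * M⁻¹ := by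
      calc _ = M⁻¹ * ((X g⁻¹)ᵀ * M) * M⁻¹ := by
            rw [mul_assoc, mul_assoc, mul_nonsing_inv _ hu, mul_one]
        _ = _ := by rw [e2, ← mul_assoc, nonsing_inv_mul _ hu, one_mul]
    rw [mul_assoc, ← e1, ← mul_assoc, e3, mul_assoc]
  have e4 : Mᵀ = c • M := by
    calc Mᵀ = M * (M⁻¹ * Mᵀ) := by rw [← mul_assoc, mul_nonsing_inv _ hu, one_mul]
      _ = _ := by rw [hc, mul_smul_comm, mul_one]
  have e5 : ∀ B : Matrix n n ℂ, ∑ g, (X g)ᵀ * B * X g =
      (Nat.card G * (M⁻¹ * B).trace / Fintype.card n) • M := fun B => by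
    have := congrArg (M * ·) (mat_avg hX (M⁻¹ * B))
    simp only [mul_smul_comm, mul_one, Finset.mul_sum] at this
    rw [← this]
    refine Finset.sum_congr rfl fun g _ => ?_
    rw [← mul_assoc, ← mul_assoc, ← form_eq hM, mul_assoc _ M, ← mul_assoc M, mul_nonsing_inv _ hu,
      one_mul]
  have e6 : ∑ i, ∑ j, M⁻¹ j i * M j i = c * Fintype.card n := by
    have := congrArg trace hc
    rw [trace_smul, trace_one, smul_eq_mul] at this
    rw [← this, Finset.sum_comm]
    simp [trace, mul_apply]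
  rw [e4, sum_trace_sq]
  congr 1
  simp only [e5, trace_mul_single, Matrix.smul_apply, smul_eq_mul, MulOpposite.op_one, one_smul]
  have : ∀ i j, Nat.card G * M⁻¹ j i / Fintype.card n * M j i =
      Nat.card G / Fintype.card n * (M⁻¹ j i * M j i) := fun i j => by ring
  simp only [this, ← Finset.mul_sum, e6]
  have := mat_card_ne hX
  have := card_ne_zero_complex G
  field_simp

theorem exists_form_of_real (h : ∀ g, ((X g).trace).im = 0) :
    ∃ M : Matrix n n ℂ, M ≠ 0 ∧ ∀ g, (X g)ᵀ * M * X g = M := by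
  by_contra hn
  have h0 : ∀ B : Matrix n n ℂ, ∑ g, (X g)ᵀ * B * X g = 0 := fun B =>
    of_not_not fun h0 => hn ⟨_, h0, form_avg_inv B⟩
  have e1 := sum_trace_mul (X := X)
  have e2 := hX.sum_conj_mul
  simp only [Complex.conj_eq_iff_im.2 (h _)] at e2
  simp only [h0, Matrix.zero_apply, Finset.sum_const_zero] at e1
  exact card_ne_zero_complex G (e2.symm.trans e1)

theorem exists_real_of_fs (h : (Nat.card G : ℂ)⁻¹ * ∑ s, (X (s * s)).trace = 1) :
    ∃ R : G →* Matrix n n ℝ, ∀ g, (((R g).trace : ℝ) : ℂ) = (X g).trace := by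
  classical
  obtain ⟨M, h0, hM⟩ : ∃ M : Matrix n n ℂ, M ≠ 0 ∧ ∀ g, (X g)ᵀ * M * X g = M := by
    by_contra hn
    have h0 : ∀ B : Matrix n n ℂ, ∑ g, (X g)ᵀ * B * X g = 0 := fun B =>
      of_not_not fun h0 => hn ⟨_, h0, form_avg_inv B⟩
    rw [sum_trace_sq] at h
    simp [h0] at h
  have hs := form_transpose hX hM
  rw [h, one_smul] at hs
  have hMu := form_unit hX hM h0
  let bar : Matrix n n ℂ →+* Matrix n n ℂ := (starRingEnd ℂ).mapMatrix
  have bb : ∀ A, bar (bar A) = A := fun A => by ext; simp [bar]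
  have bs : ∀ (c : ℂ) A, bar (c • A) = conj c • bar A := fun c A => by ext; simp [bar]
  have bt : ∀ A, bar A = Aᵀᴴ := fun A => by ext; simp [bar]
  set H : Matrix n n ℂ := ∑ g, (X g)ᴴ * X g with hH
  have Hp : H.PosDef := by
    rw [hH, ← Finset.add_sum_erase _ _ (Finset.mem_univ 1), map_one, conjTranspose_one, mul_one]
    exact PosDef.one.add_posSemidef (posSemidef_sum _ fun g _ => posSemidef_conjTranspose_mul_self _)
  have Hi : ∀ a, (X a)ᴴ * H * X a = H := fun a => by
    rw [hH, Finset.mul_sum, Finset.sum_mul]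
    refine Fintype.sum_equiv (Equiv.mulRight a) _ _ fun g => ?_
    simp only [Equiv.coe_mulRight, map_mul, conjTranspose_mul, mul_assoc]
  have bH : bar H = Hᵀ := by rw [bt, Hp.transpose.1.eq]
  have Hu := (Matrix.isUnit_iff_isUnit_det _).1 Hp.isUnit
  have Hu' := (Matrix.isUnit_iff_isUnit_det _).1 Hp.transpose.isUnit
  have Hi' : ∀ a, (X a)ᵀ * Hᵀ * bar (X a) = Hᵀ := fun a => by
    have := congrArg transpose (Hi a)
    rw [transpose_mul, transpose_mul, ← mul_assoc] at this
    rw [bt]; exact this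
  set B₀ := Hᵀ⁻¹ * M with hB₀
  have c1 : ∀ g, B₀ * X g = bar (X g) * B₀ := fun g => by
    have e1 := form_eq hM g⁻¹
    rw [inv_inv] at e1
    have e2 : (X g⁻¹)ᵀ * Hᵀ = Hᵀ * bar (X g) := by
      conv_rhs => rw [← Hi' g⁻¹]
      rw [mul_assoc, ← map_mul, ← map_mul, inv_mul_cancel, map_one, map_one, mul_one]
    have e3 : Hᵀ⁻¹ * (X g⁻¹)ᵀ = bar (X g) * Hᵀ⁻¹ := by
      calc _ = Hᵀ⁻¹ * ((X g⁻¹)ᵀ * Hᵀ) * Hᵀ⁻¹ := by
            rw [mul_assoc, mul_assoc, mul_nonsing_inv _ Hu', mul_one]
        _ = _ := by rw [e2, ← mul_assoc, nonsing_inv_mul _ Hu', one_mul]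
    rw [hB₀, mul_assoc, ← e1, ← mul_assoc, e3, mul_assoc]
  obtain ⟨c, hc⟩ := mat_schur hX (A := bar B₀ * B₀) fun g => by
    have := congrArg bar (c1 g)
    rw [map_mul bar B₀, map_mul bar _ B₀, bb] at this
    rw [mul_assoc, c1, ← mul_assoc, this, mul_assoc]
  have c2 : c • H = Mᴴ * Hᵀ⁻¹ * M := by
    have e1 : H * bar Hᵀ⁻¹ = 1 := by
      have := congrArg bar (mul_nonsing_inv _ Hu')
      have e0 : bar Hᵀ = H := by rw [← bH, bb]
      rwa [map_mul, map_one, e0] at this
    have := congrArg (H * ·) hc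
    simp only [mul_smul_comm, mul_one] at this
    rw [← this, hB₀, map_mul, ← mul_assoc H, ← mul_assoc H, e1, one_mul, bt M, hs, mul_assoc]
  have c3 : (c • H).PosDef := c2 ▸ Hp.transpose.inv.conjTranspose_mul_mul_same
    (Matrix.mulVec_injective_iff_isUnit.2 hMu)
  have hne : Nonempty n := Fintype.card_pos_iff.1 (Nat.pos_of_ne_zero fun h0 => mat_card_ne hX
    (by rw [h0, Nat.cast_zero]))
  obtain ⟨i⟩ := hne
  have d1 := Complex.pos_iff.1 (Hp.diag_pos (i := i))
  have d2 := Complex.pos_iff.1 (c3.diag_pos (i := i))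
  rw [Matrix.smul_apply, smul_eq_mul, Complex.mul_re, Complex.mul_im, ← d1.2, mul_zero, mul_zero, sub_zero,
    zero_add] at d2
  have cim : c.im = 0 := (mul_eq_zero.1 d2.2.symm).resolve_right d1.1.ne'
  have cre : 0 < c.re := (mul_pos_iff_of_pos_right d1.1).1 d2.1
  set r : ℝ := (√c.re)⁻¹ with hr
  have rr : (r : ℂ) * r * c = 1 := by
    have : c = (c.re : ℂ) := Complex.ext rfl (by simp [cim])
    rw [this, ← Complex.ofReal_mul, ← Complex.ofReal_mul, hr, ← mul_inv, Real.mul_self_sqrt cre.le,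
      inv_mul_cancel₀ cre.ne', Complex.ofReal_one]
  set B := (r : ℂ) • B₀ with hB
  have b1 : ∀ g, B * X g = bar (X g) * B := fun g => by rw [hB, smul_mul_assoc, c1, mul_smul_comm]
  have b2 : bar B * B = 1 := by
    rw [hB, bs, Complex.conj_ofReal, smul_mul_assoc, mul_smul_comm, hc, smul_smul, smul_smul, rr,
      one_smul]
  have b3 : B * bar B = 1 := mul_eq_one_comm.1 b2
  have hden : ∀ t : ℕ, (1 - t * Complex.I : ℂ) ≠ 0 := fun t h => by
    have := congrArg Complex.re h; simp at this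
  obtain ⟨_, ⟨t, rfl⟩, ht⟩ := (Set.infinite_range_of_injective
    (f := fun t : ℕ => -(1 + t * Complex.I) / (1 - t * Complex.I)) fun a b hab => by
      rw [div_eq_div_iff (hden a) (hden b)] at hab
      have := congrArg Complex.im hab
      simp at this
      exact_mod_cast (by linarith : (a : ℝ) = b)).exists_notMem_finite (Matrix.finite_spectrum (bar B))
  set l : ℂ := 1 + t * Complex.I with hl
  have hl' : conj l = 1 - t * Complex.I := by simp [hl, sub_eq_add_neg]
  set U := l • (1 : Matrix n n ℂ) + conj l • bar B with hU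
  have Uu : IsUnit U.det := by
    rw [← Matrix.isUnit_iff_isUnit_det]
    have e : U = (-conj l) • (algebraMap ℂ _ (-l / (1 - t * Complex.I)) - bar B) := by
      rw [Algebra.algebraMap_eq_smul_one, smul_sub, smul_smul, hU, neg_smul, sub_neg_eq_add, hl']
      congr 2
      have := hden t
      field_simp
    rw [e]
    rw [Algebra.smul_def]
    exact ((IsUnit.mk0 _ (neg_ne_zero.2 (hl' ▸ hden t))).map _).mul (spectrum.notMem_iff.1 ht)
  have U1 : bar U = B * U := by
    rw [hU, map_add, bs, bs, map_one, bb, Complex.conj_conj, mul_add, mul_smul_comm, mul_smul_comm,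
      b3, mul_one, add_comm]
  have U2 : bar U⁻¹ = U⁻¹ * bar B := by
    have e1 : bar U⁻¹ * (B * U) = 1 := by rw [← U1, ← map_mul, nonsing_inv_mul _ Uu, map_one]
    calc _ = bar U⁻¹ * (B * U) * (U⁻¹ * bar B) := by
          rw [mul_assoc, mul_assoc, ← mul_assoc U, mul_nonsing_inv _ Uu, one_mul, b3, mul_one]
      _ = _ := by rw [e1, one_mul]
  have Y1 : ∀ g, bar (U⁻¹ * X g * U) = U⁻¹ * X g * U := fun g => by
    rw [map_mul, map_mul, U1, U2, mul_assoc, ← mul_assoc (bar (X g)), ← b1, mul_assoc, mul_assoc,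
      ← mul_assoc (bar B), b2, one_mul, mul_assoc]
  let up : Matrix n n ℝ →+* Matrix n n ℂ := Complex.ofRealHom.mapMatrix
  have upi : Injective up := fun A B h => by
    ext i j; exact Complex.ofReal_injective (congrFun (congrFun h i) j)
  have Y2 : ∀ g, up ((U⁻¹ * X g * U).map Complex.re) = U⁻¹ * X g * U := fun g => by
    ext i j
    exact Complex.conj_eq_iff_re.1 (congrFun (congrFun (Y1 g) i) j)
  refine ⟨⟨⟨fun g => (U⁻¹ * X g * U).map Complex.re, upi ?_⟩, fun a b => upi ?_⟩, fun g => ?_⟩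
  · rw [Y2, map_one, map_one, mul_one, nonsing_inv_mul _ Uu]
  · rw [map_mul, Y2, Y2, Y2, map_mul]
    simp only [mul_assoc]
    rw [← mul_assoc U, mul_nonsing_inv _ Uu, one_mul]
  · have := AddMonoidHom.map_trace Complex.ofRealHom ((U⁻¹ * X g * U).map Complex.re)
    refine this.trans ?_
    change (up _).trace = _
    rw [Y2, trace_mul_cycle, mul_nonsing_inv _ Uu, one_mul]

end Mat

/-! ### Realizability over a subfield -/

/-- `χ` is the character of a representation by matrices over `F`. -/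
def Rz {F : Type} [Field F] (ι : F →+* ℂ) (χ : G → ℂ) : Prop :=
  ∃ (n : ℕ) (X : G →* Matrix (Fin n) (Fin n) F), ∀ g, ι (X g).trace = χ g

section Rz

variable {F : Type} [Field F] {ι : F →+* ℂ}

theorem Rz.of_mat {n : Type v} [Fintype n] [DecidableEq n] (X : G →* Matrix n n F) {χ : G → ℂ}
    (h : ∀ g, ι (X g).trace = χ g) : Rz ι χ :=
  ⟨_, (reindexAlgEquiv F F (Fintype.equivFin n)).toMulEquiv.toMonoidHom.comp X, fun g => by
    rw [← h]; exact congrArg ι (Matrix.trace_map (reindexAlgEquiv F F (Fintype.equivFin n)) _)⟩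

theorem Rz.of_rep {V : Type v} [AddCommGroup V] [Module F V] [FiniteDimensional F V]
    (ρ : Representation F G V) : Rz ι fun g => ι (ρ.character g) :=
  ⟨_, repMat (repTransport ρ (Module.finBasis F V).equivFun), fun g => by
    rw [repMat_trace, ← Representation.char_iso (repTransportEquiv ρ _)]⟩

theorem Rz.exists_rep {χ : G → ℂ} (h : Rz ι χ) :
    ∃ (n : ℕ) (ρ : Representation F G (Fin n → F)), χ = fun g => ι (ρ.character g) := by
  obtain ⟨n, X, hX⟩ := h
  exact ⟨n, matRep X, funext fun g => by rw [matRep_char, hX]⟩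

theorem Rz.exists_mat {χ : G → ℂ} (h : Rz ι χ) : ∃ (n : ℕ) (X : G →* Matrix (Fin n) (Fin n) ℂ),
    (∀ g, (X g).trace = χ g) ∧ ∀ g i j, X g i j ∈ ι.range := by
  obtain ⟨n, X, hX⟩ := h
  exact ⟨n, ι.mapMatrix.toMonoidHom.comp X, fun g => by
    rw [← hX, AddMonoidHom.map_trace]; rfl, fun g i j => ⟨_, rfl⟩⟩

theorem Rz.isChar {χ : G → ℂ} (h : Rz ι χ) : IsCharacter G χ := by
  obtain ⟨n, X, hX, -⟩ := h.exists_mat
  exact ⟨n, matRep X, funext fun g => by rw [matRep_char, hX]⟩

theorem Rz.zero : Rz ι (0 : G → ℂ) := ⟨0, 1, fun g => by simp⟩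

theorem Rz.add {χ ψ : G → ℂ} (h : Rz ι χ) (h' : Rz ι ψ) : Rz ι (χ + ψ) := by
  obtain ⟨n, ρ, rfl⟩ := h.exists_rep
  obtain ⟨m, σ, rfl⟩ := h'.exists_rep
  have := Rz.of_rep (ι := ι) (ρ.prod σ)
  rw [character_prod] at this
  convert this using 1
  funext g; simp

theorem Rz.lin (lam : G →* ℂˣ) (h : ∀ g, (lam g : ℂ) ∈ ι.range) : Rz ι fun g => (lam g : ℂ) := by
  choose f hf using h
  let φ : G →* F := ⟨⟨f, ι.injective (by simp [hf])⟩, fun a b => ι.injective (by simp [hf])⟩
  exact Rz.of_mat ((scalar Unit).toMonoidHom.comp φ) fun g => by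
    rw [← hf]; congr 1; simp [φ, trace]

theorem Rz.ind [Fintype G] {H : Subgroup G} {θ : H → ℂ} (h : Rz ι θ) : Rz ι (indFun H θ) := by
  classical
  have hθ := h.isChar
  obtain ⟨n, X, hX⟩ := h
  have := Fintype.ofFinite (G ⧸ H)
  have := Fintype.ofFinite H
  let X₀ : G → Matrix (Fin n) (Fin n) F := fun g => if h : g ∈ H then X ⟨g, h⟩ else 0
  have m1 : ∀ a ∈ H, ∀ b, X₀ a * X₀ b = X₀ (a * b) := fun a ha b => by
    by_cases hb : b ∈ H
    · simp only [X₀, dif_pos ha, dif_pos hb, dif_pos (mul_mem ha hb), ← map_mul]; rfl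
    · simp only [X₀, dif_neg hb, dif_neg (fun h => hb ((H.mul_mem_cancel_left ha).1 h)), mul_zero]
  let Y : G →* Matrix (G ⧸ H) (G ⧸ H) (Matrix (Fin n) (Fin n) F) :=
    { toFun := fun g => Matrix.of fun x y => X₀ (x.out⁻¹ * g * y.out)
      map_one' := by
        refine Matrix.ext fun x y => ?_
        rw [of_apply, mul_one, Matrix.one_apply]
        split_ifs with h
        · simp only [X₀, h, inv_mul_cancel, dif_pos H.one_mem]; exact map_one X
        · refine dif_neg fun h' => h ?_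
          rw [← QuotientGroup.eq] at h'
          simpa using h'
      map_mul' := fun a b => by
        refine Matrix.ext fun x y => ?_
        rw [Matrix.mul_apply, Finset.sum_eq_single ((a⁻¹ * x.out : G) : G ⧸ H)]
        · rw [of_apply, of_apply, of_apply, m1]
          · congr 1; group
          · have := QuotientGroup.eq.1 (QuotientGroup.out_eq' ((a⁻¹ * x.out : G) : G ⧸ H)).symm
            convert this using 1; group
        · intro z _ hz
          rw [of_apply, of_apply]
          simp only [X₀]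
          rw [dif_neg, zero_mul]
          intro h
          apply hz
          rw [← QuotientGroup.out_eq' z, eq_comm, QuotientGroup.eq]
          convert h using 1; group
        · exact fun h => absurd (Finset.mem_univ _) h }
  refine Rz.of_mat ((compRingEquiv _ _ F).toMonoidHom.comp Y) fun g => ?_
  have e1 : (((compRingEquiv _ _ F).toMonoidHom.comp Y) g).trace =
      ∑ x : G ⧸ H, (X₀ (x.out⁻¹ * g * x.out)).trace := by
    rw [trace, Fintype.sum_prod_type]; rfl
  have e2 : ∀ y, ι (X₀ y).trace = extendByZero H θ y := fun y => by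
    rw [ext0_eq]
    simp only [X₀]
    split_ifs
    · exact hX _
    · simp
  rw [e1, map_sum, indFun_apply, sum_cosets H, Finset.mul_sum]
  refine Finset.sum_congr rfl fun x _ => ?_
  have : ∀ h : H, extendByZero H θ ((x.out * h)⁻¹ * g * (x.out * h)) =
      extendByZero H θ (x.out⁻¹ * g * x.out) := fun h => by
    rw [← ext0_conj_mem hθ.classFun _ h.2]; congr 1; group
  simp only [this]
  rw [e2, Finset.sum_const, Finset.card_univ, nsmul_eq_mul, ← Nat.card_eq_fintype_card,
    inv_mul_cancel_left₀ (card_ne_zero_complex _)]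

theorem fs_eq_one_iff [Fintype G] {χ : G → ℂ} (hχ : IsIrrCharacter G χ) :
    (Nat.card G : ℂ)⁻¹ * ∑ s, χ (s * s) = 1 ↔ Rz Complex.ofRealHom χ := by
  constructor
  · obtain ⟨n, ρ, -, rfl⟩ := id hχ
    simp only [← repMat_trace] at *
    intro h
    obtain ⟨R, hR⟩ := exists_real_of_fs (X := repMat ρ) (by simpa only [repMat_trace] using hχ) h
    exact ⟨n, R, fun g => by rw [← repMat_trace]; exact hR g⟩
  · intro h
    obtain ⟨n, X, h1, h2⟩ := h.exists_mat
    have hX : IsIrrCharacter G fun g => (X g).trace := by rw [funext h1]; exact hχ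
    have h3 : ∀ g, (X g)ᵀ = (X g)ᴴ := fun g => by
      ext i j
      obtain ⟨r, hr⟩ := h2 g j i
      simp [← hr]
    have h4 := form_transpose hX (form_avg_inv (X := X) 1)
    have h5 : (∑ g, (X g)ᵀ * 1 * X g)ᵀ = ∑ g, (X g)ᵀ * 1 * X g := by
      simp [transpose_sum, transpose_mul]
    have h6 : (∑ g, (X g)ᵀ * 1 * X g).PosDef := by
      classical
      simp only [mul_one, h3]
      rw [← Finset.add_sum_erase _ _ (Finset.mem_univ 1), map_one, conjTranspose_one, mul_one]
      exact PosDef.one.add_posSemidef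
        (posSemidef_sum _ fun g _ => posSemidef_conjTranspose_mul_self _)
    obtain ⟨i⟩ : Nonempty (Fin n) := Fintype.card_pos_iff.1 (Nat.pos_of_ne_zero fun h0 =>
      mat_card_ne hX (by rw [h0, Nat.cast_zero]))
    rw [h5] at h4
    have h7 := congrFun (congrFun h4 i) i
    rw [Matrix.smul_apply, smul_eq_mul] at h7
    simp only [h1] at h7
    exact (mul_right_cancel₀ (h6.diag_pos (i := i)).ne' (by rw [← h7, one_mul])).symm

/-- `s` is the character of an irreducible `F`-representation. -/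
def IrrF (ι : F →+* ℂ) (s : G → ℂ) : Prop :=
  ∃ (n : ℕ) (ρ : Representation F G (Fin n → F)), ρ.IsIrreducible ∧ s = fun g => ι (ρ.character g)

theorem IrrF.rz {s : G → ℂ} (h : IrrF ι s) : Rz ι s := by
  obtain ⟨n, ρ, -, rfl⟩ := h; exact Rz.of_rep ρ

theorem IrrF.eq_of_ip [Fintype G] {s t : G → ℂ} (hs : IrrF ι s) (ht : IrrF ι t)
    (h : classInner s t ≠ 0) : s = t := by
  have hc := ht.rz.isChar
  obtain ⟨n, ρ, h1, rfl⟩ := hs
  obtain ⟨m, σ, h2, rfl⟩ := ht
  have : CharZero F := ι.charZero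
  have := invertibleOfNonzero (Nat.cast_ne_zero.2 (Nat.card_pos (α := G)).ne' : (Nat.card G : F) ≠ 0)
  have e := congrArg ι (Representation.card_inv_mul_sum_char_mul_char_eq_finrank σ ρ)
  have e2 : classInner (fun g => ι (ρ.character g)) (fun g => ι (σ.character g)) =
      Module.finrank F (σ.IntertwiningMap ρ) := by
    rw [classInner, ← map_natCast ι (Module.finrank _ _), ← e]
    simp only [map_mul, map_inv₀, map_natCast, map_sum, ← hc.apply_inv]
  by_cases hE : Nonempty (σ.Equiv ρ)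
  · obtain ⟨φ⟩ := hE
    rw [Representation.char_iso φ]
  · rw [not_nonempty_iff] at hE
    exact absurd (by rw [e2, Module.finrank_zero_of_subsingleton, Nat.cast_zero]) h

theorem Rz.induction [Finite G] {P : (G → ℂ) → Prop} (h0 : P 0) (hi : ∀ s, IrrF ι s → P s)
    (ha : ∀ a b, P a → P b → P (a + b)) {χ : G → ℂ} (h : Rz ι χ) : P χ := by
  have : CharZero F := ι.charZero
  have : NeZero (Nat.card G : F) := ⟨Nat.cast_ne_zero.2 Nat.card_pos.ne'⟩
  obtain ⟨n, ρ, rfl⟩ := h.exists_rep
  refine rep_induction (P := fun V _ _ _ ρ => P fun g => ι (ρ.character g)) (fun V _ _ _ ρ h => ?_)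
    (fun V _ _ _ ρ h => hi _ ⟨_, repTransport ρ (Module.finBasis F V).equivFun,
      irreducible_of_equiv (repTransportEquiv ρ _), ?_⟩) (fun V _ _ _ ρ U W h h1 h2 => ?_) _ ρ
  · convert h0 using 1
    funext g
    rw [Representation.character, Subsingleton.elim (ρ g) 0, map_zero, map_zero]; rfl
  · rw [← Representation.char_iso (repTransportEquiv ρ _)]
  · convert ha _ _ h1 h2 using 1
    funext g
    rw [character_eq_add_of_isCompl h]; simp

theorem rz_of_mem_closure [Finite G] {χ : G → ℂ} (hχ : IsIrrCharacter G χ)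
    (h : χ ∈ AddSubgroup.closure {f | Rz ι f}) : Rz ι χ := by
  have := Fintype.ofFinite G
  have key : ∀ {P : (G → ℂ) → Prop}, P 0 → (∀ s, IrrF ι s → P s) → (∀ a b, P a → P b → P (a + b)) →
      (∀ a, P a → P (-a)) → P χ := fun h0 hi ha hn =>
    AddSubgroup.closure_induction (fun f hf => Rz.induction h0 hi ha hf) h0
      (fun a b _ _ => ha a b) (fun a _ => hn a) h
  obtain ⟨s, hs, hne⟩ : ∃ s, IrrF ι s ∧ classInner s χ ≠ 0 := by
    by_contra hn
    push Not at hn
    have := key (P := fun f => classInner f χ = 0) (CfsgH3.inner_zero_left _) hn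
      (fun a b h1 h2 => by rw [CfsgH3.inner_add_left, h1, h2, add_zero])
      (fun a h1 => by rw [CfsgH3.inner_neg_left, h1, neg_zero])
    rw [hχ.inner_self] at this
    exact one_ne_zero this
  have hsc := hs.rz.isChar
  obtain ⟨c, hc⟩ := key (P := fun f => ∃ c : ℤ, ∀ ψ, IsIrrCharacter G ψ → classInner s ψ ≠ 0 →
      classInner f ψ = c * classInner s ψ) ⟨0, fun ψ _ _ => by simp [CfsgH3.inner_zero_left]⟩
    (fun t ht => by
      by_cases e : s = t
      · exact ⟨1, fun ψ _ _ => by simp [e]⟩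
      refine ⟨0, fun ψ hψ h1 => ?_⟩
      rw [Int.cast_zero, zero_mul]
      by_contra h2
      refine e (hs.eq_of_ip ht ?_)
      have := ip_comp_ne_zero_of_constituent (MonoidHom.id G) hsc hψ h1 ht.rz.isChar
        (by rwa [Ne, CfsgH3.inner_eq_zero_symm])
      exact this)
    (fun a b ⟨c, h1⟩ ⟨d, h2⟩ => ⟨c + d, fun ψ hψ h => by
      rw [CfsgH3.inner_add_left, h1 ψ hψ h, h2 ψ hψ h]; push_cast; ring⟩)
    (fun a ⟨c, h1⟩ => ⟨-c, fun ψ hψ h => by rw [CfsgH3.inner_neg_left, h1 ψ hψ h]; push_cast; ring⟩)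
  obtain ⟨m, hm⟩ := hsc.inner_nat hχ.isChar
  have e1 := hc χ hχ hne
  rw [hχ.inner_self, hm] at e1
  have e2 : (1 : ℤ) = c * m := by exact_mod_cast e1
  have e3 : c = 1 := Int.eq_one_of_mul_eq_one_right (by by_contra; nlinarith) e2.symm
  have : s = χ := hsc.classFun.ext_inner hχ.classFun fun ψ hψ => by
    by_cases h0 : classInner s ψ = 0
    · rw [h0, hχ.inner_of_ne hψ fun e => hne (e ▸ h0)]
    · rw [hc ψ hψ h0, e3]; simp
  exact this ▸ hs.rz

theorem rz_of_roots [Finite G] (hι : ∀ z : ℂ, z ^ Monoid.exponent G = 1 → z ∈ ι.range) {χ : G → ℂ}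
    (hχ : IsCharacter G χ) : Rz ι χ := by
  have := Fintype.ofFinite G
  refine hχ.induction Rz.zero (fun χ hχ => rz_of_mem_closure hχ ?_) fun _ _ _ _ => Rz.add
  refine AddSubgroup.closure_mono ?_ (mem_closure_monomial_elementary hχ.isGen)
  rintro _ ⟨E, lam, -, rfl⟩
  refine (Rz.lin lam fun g => hι _ ?_).ind
  rw [← Units.val_pow_eq_pow_val, ← map_pow, show g ^ Monoid.exponent G = 1 from
    Subtype.ext (Monoid.pow_exponent_eq_one _), map_one, Units.val_one]

end Rz

/-! ### Orbits on real characters and real classes -/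

/-- Fixed points of an involution commuting with the action. -/
def fixSub (G : Type u) [Group G] {α : Type*} [MulAction G α] (c : α → α)
    (hc : ∀ (g : G) a, c (g • a) = g • c a) : SubMulAction G α where
  carrier := {a | c a = a}
  smul_mem' g a ha := by rw [Set.mem_ofPred_eq, hc, ha]

theorem card_fixedBy_fixSub {α : Type*} [MulAction G α] {c : α → α}
    (hc : ∀ (g : G) a, c (g • a) = g • c a) (hi : ∀ a, c (c a) = a) {m : ℕ} (hm : Odd m) {g : G}
    (h : ∀ a : α, g ^ m • a = a) :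
    Nat.card (MulAction.fixedBy (fixSub G c hc) g) = Nat.card {a // c (g • a) = a} := by
  have key : ∀ a, c (g • a) = a → g • a = a := fun a ha => by
    have e1 : g • a = c a := by rw [← hi (g • a), ha]
    have e2 : g ^ 2 ∈ MulAction.stabilizer G a := by
      rw [MulAction.mem_stabilizer_iff, pow_two, mul_smul, e1, ← hc, ha]
    obtain ⟨k, rfl⟩ := hm
    have e3 : g ^ (2 * k + 1) ∈ MulAction.stabilizer G a := h a
    rwa [pow_succ, pow_mul, Subgroup.mul_mem_cancel_left _ (pow_mem e2 k)] at e3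
  refine Nat.card_congr ⟨fun x => ⟨x.1.1, by
      have := congrArg Subtype.val (MulAction.mem_fixedBy.1 x.2)
      rw [SubMulAction.val_smul] at this
      rw [this]; exact x.1.2⟩,
    fun a => ⟨⟨a.1, by have := a.2; rwa [key _ a.2] at this⟩, Subtype.ext (key _ a.2)⟩,
    fun _ => rfl, fun _ => rfl⟩

/-- Conjugation action on the classes of a normal subgroup. -/
@[reducible] def clAct (K : Subgroup G) [K.Normal] : MulAction G (ConjClasses K) where
  smul g C := ConjClasses.map (MulAut.conjNormal g).toMonoidHom C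
  one_smul C := by
    obtain ⟨x, rfl⟩ := ConjClasses.mk_surjective C
    change ConjClasses.mk (MulAut.conjNormal (1 : G) x) = _
    rw [map_one]; rfl
  mul_smul a b C := by
    obtain ⟨x, rfl⟩ := ConjClasses.mk_surjective C
    change ConjClasses.mk (MulAut.conjNormal (a * b) x) = _
    rw [map_mul]; rfl

/-- Inversion of classes. -/
def clInv (K : Type*) [Group K] : ConjClasses K → ConjClasses K :=
  Quotient.map (·⁻¹) fun _ _ h => by
    obtain ⟨c, rfl⟩ := isConj_iff.1 h
    exact isConj_iff.2 ⟨c, by group⟩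

theorem card_real_orbits [Finite G] (K : Subgroup G) [hK : K.Normal] (hodd : Odd K.index) :
    Nat.card (Quot (fun θ η : {θ : IrrCharacter ↥K // (∀ k : ↥K, ((θ : ↥K → ℂ) k).im = 0)} =>
      ∃ g : G, ∀ k k' : ↥K, (k' : G) = g * (k : G) * g⁻¹ → (η.1 : ↥K → ℂ) k' = (θ.1 : ↥K → ℂ) k)) =
    Nat.card (Quot (fun x y : {x : ↥K // IsConj x x⁻¹} => ∃ g : G, (y.1 : G) = g * x.1 * g⁻¹)) := by
  have := Fintype.ofFinite G
  let _ := irrAct K
  let _ := clAct K
  let c : IrrCharacter K → IrrCharacter K := fun θ => ⟨fun k => conj (θ.1 k), θ.2.conj_char⟩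
  have hc : ∀ (g : G) a, c (g • a) = g • c a := fun _ _ => rfl
  have sm : ∀ (g : G) (x : K), g • ConjClasses.mk x = ConjClasses.mk (MulAut.conjNormal g x) :=
    fun _ _ => rfl
  have iv : ∀ x : K, clInv K (ConjClasses.mk x) = ConjClasses.mk x⁻¹ := fun _ => rfl
  have hd : ∀ (g : G) a, clInv K (g • a) = g • clInv K a := fun g a => by
    obtain ⟨x, rfl⟩ := ConjClasses.mk_surjective a
    rw [sm, iv, iv, sm, map_inv]
  have hdi : ∀ a, clInv K (clInv K a) = a := fun a => by
    obtain ⟨x, rfl⟩ := ConjClasses.mk_surjective a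
    rw [iv, iv, inv_inv]
  have e1 : permChar (G := G) (fixSub G c hc) = permChar (G := G) (fixSub G _ hd) := by
    funext g
    have hg : g ^ K.index ∈ K := K.pow_index_mem g
    rw [permChar, permChar, card_fixedBy_fixSub hc (fun a => Subtype.ext (by simp [c])) hodd
      (fun a => Subtype.ext (cj_of_mem a.2.classFun (inv_mem hg))),
      card_fixedBy_fixSub hd hdi hodd (fun a => by
        obtain ⟨x, rfl⟩ := ConjClasses.mk_surjective a
        rw [sm, ConjClasses.mk_eq_mk_iff_isConj]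
        exact (isConj_iff.2 ⟨(⟨_, hg⟩ : K), rfl⟩).symm)]
    congr 1
    refine card_fixed_irr_eq (fun a => c (g • a)) ((MulAction.toPerm g).trans
      (Involutive.toPerm _ hdi)) fun χ x x' h => ?_
    change ConjClasses.mk x' = ConjClasses.mk (MulAut.conjNormal g x)⁻¹ at h
    rw [(c (g • χ)).2.classFun.of_isConj (ConjClasses.mk_eq_mk_iff_isConj.1 h)]
    change conj (χ.1 _) = _
    rw [← χ.2.isChar.apply_inv]
    refine congrArg χ.1 (Subtype.ext ?_)
    simp only [InvMemClass.coe_inv, MulAut.conjNormal_apply]; group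
  have e2 := congrArg (classInner · fun _ => 1) e1
  simp only [ip_permChar_one, Nat.cast_inj] at e2
  refine Eq.trans (Nat.card_congr (Quot.congr (Equiv.subtypeEquivRight fun θ => ?_)
    fun θ η => ?_)) (e2.trans (Nat.card_congr (Equiv.ofBijective
      (Quot.lift (fun x => Quotient.mk'' ⟨ConjClasses.mk x.1,
        ConjClasses.mk_eq_mk_iff_isConj.2 x.2.symm⟩) ?_) ⟨?_, ?_⟩)).symm)
  · rw [← conj_eq_iff_im]
    exact ⟨fun h => Subtype.ext h, fun h => congrArg Subtype.val h⟩
  · refine ⟨fun ⟨g, h⟩ => ⟨g⁻¹, Subtype.ext (Subtype.ext (funext fun k => h k _ ?_))⟩,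
      fun ⟨g, h⟩ => ⟨g⁻¹, fun k k' e => ?_⟩⟩
    · simp
    · have := congrFun (congrArg (fun x => x.1.1) h) k
      refine Eq.trans ?_ this
      exact congrArg η.1.1 (Subtype.ext e)
  · rintro x y ⟨g, h⟩
    refine (Quotient.sound' (MulAction.orbitRel_apply.2 ⟨g, Subtype.ext ?_⟩)).symm
    exact congrArg ConjClasses.mk (Subtype.ext h.symm)
  · rintro ⟨x⟩ ⟨y⟩ h
    obtain ⟨g, hg⟩ := Quotient.exact' h
    have h1 : ConjClasses.mk (MulAut.conjNormal g y.1) = ConjClasses.mk x.1 :=
      congrArg Subtype.val hg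
    obtain ⟨k, hk⟩ := isConj_iff.1 (ConjClasses.mk_eq_mk_iff_isConj.1 h1)
    refine (Quot.sound ⟨k * g, ?_⟩).symm
    rw [← hk]; simp only [Subgroup.coe_mul, InvMemClass.coe_inv, MulAut.conjNormal_apply]; group
  · rintro ⟨⟨C, hC⟩⟩
    obtain ⟨x, rfl⟩ := ConjClasses.mk_surjective C
    exact ⟨Quot.mk _ ⟨x, (ConjClasses.mk_eq_mk_iff_isConj.1 hC).symm⟩, rfl⟩

end CfsgH4
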