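import Cfsg.Agent.H4.Coh

/-! Exceptional characters for a T.I. subgroup with Frobenius normalizer. -/

set_option autoImplicit false
set_option linter.unusedSectionVars false

open Subgroup Function Cfsg CfsgH3
open scoped ComplexConjugate commutatorElement

namespace CfsgH4

universe u v

section TIF

variable {L : Type u} [Group L] [Fintype L] {K : Subgroup L} [hK : K.Normal]

/-- Irreducible characters not containing `K` in the kernel. -/
def ntS (K : Subgroup L) : Set (L → ℂ) := {χ | IsIrrCharacter L χ ∧ ∃ k ∈ K, χ k ≠ χ 1}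

theorem ntS_const {f : L → ℂ} (hf : IsClassFunction L f) {ξ : L → ℂ} (hξ : ξ ∈ ntS K)
    (h : ∀ χ ∈ ntS K, classInner f (ξ 1 • χ - χ 1 • ξ) = 0) {a b : L} (ha : a ∈ K) (hb : b ∈ K)
    (a1 : a ≠ 1) (b1 : b ≠ 1) : f a = f b := by
  classical
  obtain ⟨n, hn, hξn⟩ := hξ.1.exists_deg
  have hn0 : (n : ℂ) ≠ 0 := by exact_mod_cast hn.ne'
  set c : ℂ := classInner f ξ / n with hc
  have key : ∀ χ : IrrCharacter L, χ.1 ∈ ntS K → classInner f χ.1 = c * χ.1 1 := by
    intro χ hχ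
    have h1 := h χ.1 hχ
    obtain ⟨m, -, hm⟩ := hχ.1.exists_deg
    rw [CfsgH3.inner_sub_right, CfsgH3.inner_smul_right, CfsgH3.inner_smul_right, hξn, hm,
      Complex.conj_natCast, Complex.conj_natCast] at h1
    rw [hm, hc]
    field_simp
    linear_combination h1
  have val : ∀ x ∈ K, x ≠ 1 → f x = ∑ χ : IrrCharacter L,
      (if χ.1 ∈ ntS K then 0 else (classInner f χ.1 - c * χ.1 1) * χ.1 1) := by
    intro x hx x1
    have h0 := sum_irr_deg_mul (G := L) x1
    rw [hf.apply_eq_sum x]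
    have : ∑ χ : IrrCharacter L, classInner f χ.1 * χ.1 x =
        ∑ χ : IrrCharacter L, (if χ.1 ∈ ntS K then 0 else (classInner f χ.1 - c * χ.1 1) * χ.1 1)
          + c * ∑ χ : IrrCharacter L, χ.1 1 * χ.1 x := by
      rw [Finset.mul_sum, ← Finset.sum_add_distrib]
      refine Finset.sum_congr rfl fun χ _ => ?_
      split_ifs with hχ
      · rw [key χ hχ]; ring
      · have : χ.1 x = χ.1 1 := by
          by_contra hne
          exact hχ ⟨χ.2, x, hx, hne⟩
        rw [this]; ring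
    rw [this, h0, mul_zero, add_zero]
  rw [val a ha a1, val b hb b1]

theorem ntS_ip_one {χ : L → ℂ} (hχ : χ ∈ ntS K) : classInner (fun _ => 1) χ = 0 := by
  refine isIrr_one.inner_of_ne hχ.1 fun e => ?_
  obtain ⟨k, -, hk⟩ := hχ.2
  exact hk (by rw [← e])

theorem ntS_out (hf : FrobQ K K ⊥) {χ : L → ℂ} (hχ : χ ∈ ntS K) {x : L} (hx : x ∉ K) :
    χ x = 0 := by
  have : χ ∈ (indD K K ⊥ : Set (L → ℂ)) := by rw [← frob_indD hf]; exact hχ
  exact indD_out this hx

theorem ntS_ip_of_const (hf : FrobQ K K ⊥) {f : L → ℂ}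
    (h : ∀ a ∈ K, ∀ b ∈ K, a ≠ 1 → b ≠ 1 → f a = f b) {χ ξ : L → ℂ} (hχ : χ ∈ ntS K)
    (hξ : ξ ∈ ntS K) : classInner f (ξ 1 • χ - χ 1 • ξ) = 0 := by
  obtain ⟨k, hk, hk'⟩ := hχ.2
  have k1 : k ≠ 1 := by rintro rfl; exact hk' rfl
  have : classInner f (ξ 1 • χ - χ 1 • ξ) =
      classInner (f k • fun _ : L => (1 : ℂ)) (ξ 1 • χ - χ 1 • ξ) := by
    refine ip_congr_left fun x hx => ?_
    have hxK : x ∈ K := by
      by_contra hn
      apply hx
      simp [ntS_out hf hχ hn, ntS_out hf hξ hn]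
    have x1 : x ≠ 1 := by
      rintro rfl
      apply hx
      simp [mul_comm]
    simp [h x hxK k hk x1 k1]
  rw [this, CfsgH3.inner_smul_left, CfsgH3.inner_sub_right, CfsgH3.inner_smul_right,
    CfsgH3.inner_smul_right, ntS_ip_one hχ, ntS_ip_one hξ]
  simp

theorem ntS_comb {χ ξ : L → ℂ} (hχ : χ ∈ ntS K) (hξ : ξ ∈ ntS K) :
    ∃ m n : ℤ, χ 1 = m ∧ ξ 1 = n ∧ ξ 1 • χ - χ 1 • ξ = n • χ + (-m) • ξ := by
  obtain ⟨m, -, hm⟩ := hχ.1.exists_deg
  obtain ⟨n, -, hn⟩ := hξ.1.exists_deg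
  refine ⟨m, n, by simpa using hm, by simpa using hn, ?_⟩
  ext x
  simp [hm, hn, sub_eq_add_neg]

theorem ntS_mem_zspan {χ : L → ℂ} (hχ : χ ∈ ntS K) : χ ∈ zspan (ntS K) :=
  Submodule.subset_span hχ

theorem ntS_mem_zspanOn {χ ξ : L → ℂ} (hχ : χ ∈ ntS K) (hξ : ξ ∈ ntS K) :
    ξ 1 • χ - χ 1 • ξ ∈ zspanOn (ntS K) ({1}ᶜ : Set L) := by
  obtain ⟨m, n, -, -, h⟩ := ntS_comb hχ hξ
  refine ⟨?_, fun x hx => ?_⟩
  · rw [h]
    exact Submodule.add_mem _ (Submodule.smul_mem _ _ (Submodule.subset_span hχ))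
      (Submodule.smul_mem _ _ (Submodule.subset_span hξ))
  · have : x = 1 := by simpa using hx
    subst this
    simp [mul_comm]

variable {G : Type v} [Group G] [Fintype G] {star : (L → ℂ) → (G → ℂ)}

theorem ntS_star (hs : IsLinearIsometryOn (zspan (ntS K)) star) {χ ξ : L → ℂ} (hχ : χ ∈ ntS K)
    (hξ : ξ ∈ ntS K) : star (ξ 1 • χ - χ 1 • ξ) = ξ 1 • star χ - χ 1 • star ξ := by
  obtain ⟨m, n, hm, hn, h⟩ := ntS_comb hχ hξ
  have h1 : n • χ ∈ zspan (ntS K) := Submodule.smul_mem _ _ (Submodule.subset_span hχ)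
  have h2 : (-m) • ξ ∈ zspan (ntS K) := Submodule.smul_mem _ _ (Submodule.subset_span hξ)
  rw [h, hs.1 _ h1 _ h2, hs.2.1 _ (ntS_mem_zspan hχ), hs.2.1 _ (ntS_mem_zspan hξ), hm, hn]
  ext x
  simp [sub_eq_add_neg]

theorem ntS_star_dirr (hs : IsLinearIsometryOn (zspan (ntS K)) star) {χ : L → ℂ}
    (hχ : χ ∈ ntS K) : IsDirr (star χ) :=
  (hs.2.2.2 _ (ntS_mem_zspan hχ)).isDirr
    (by rw [hs.2.2.1 _ (ntS_mem_zspan hχ) _ (ntS_mem_zspan hχ), hχ.1.inner_self])

end TIF

section TIG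

variable {G : Type v} [Group G] [Fintype G] {K : Subgroup G}
  [Fintype (normalizer (K : Set G))]

theorem ti_frob (hC : ∀ k ∈ K, k ≠ 1 → centralizer ({k} : Set G) ≤ K) :
    FrobQ (K.subgroupOf (normalizer (K : Set G))) (K.subgroupOf (normalizer (K : Set G))) ⊥ := by
  refine frobQ_of_hC fun h hh h1 x hx => ?_
  rw [mem_subgroupOf] at hh ⊢
  refine hC h hh (fun e => h1 (Subtype.ext e)) ?_
  rw [mem_centralizer_singleton_iff] at hx ⊢
  exact congrArg Subtype.val hx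

theorem ti_S_eq : {χ : ↥(normalizer (K : Set G)) → ℂ |
    IsIrrCharacter ↥(normalizer (K : Set G)) χ ∧
      ∃ k : ↥(normalizer (K : Set G)), (k : G) ∈ K ∧ χ k ≠ χ 1} =
    ntS (K.subgroupOf (normalizer (K : Set G))) := rfl

variable {star : (normalizer (K : Set G) → ℂ) → (G → ℂ)}

theorem ti_excep (hC : ∀ k ∈ K, k ≠ 1 → centralizer ({k} : Set G) ≤ K)
    (htwo : ∃ χ ∈ ntS (K.subgroupOf (normalizer (K : Set G))),
      ∃ ξ ∈ ntS (K.subgroupOf (normalizer (K : Set G))), χ ≠ ξ)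
    (hs : IsLinearIsometryOn (zspan (ntS (K.subgroupOf (normalizer (K : Set G))))) star)
    (hext : ∀ α ∈ zspanOn (ntS (K.subgroupOf (normalizer (K : Set G))))
      ({1}ᶜ : Set (normalizer (K : Set G))), star α = indFun (normalizer (K : Set G)) α)
    {ψ : G → ℂ} (hψ : IsIrrCharacter G ψ) :
    (∃ χ ∈ ntS (K.subgroupOf (normalizer (K : Set G))), ψ = star χ ∨ ψ = -star χ) ↔
      ∃ a ∈ K, ∃ b ∈ K, a ≠ 1 ∧ b ≠ 1 ∧ ψ a ≠ ψ b := by
  have hf := ti_frob hC
  constructor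
  · rintro ⟨χ, hχ, hψχ⟩
    obtain ⟨ξ, hξ, hne⟩ : ∃ ξ ∈ ntS (K.subgroupOf (normalizer (K : Set G))), χ ≠ ξ := by
      obtain ⟨a, ha, b, hb, hab⟩ := htwo
      by_cases h : χ = a
      · exact ⟨b, hb, h ▸ hab⟩
      · exact ⟨a, ha, h⟩
    by_contra hn
    push Not at hn
    have h0 : classInner (fun h : normalizer (K : Set G) => ψ h) (ξ 1 • χ - χ 1 • ξ) = 0 := by
      refine ntS_ip_of_const hf (fun a ha b hb a1 b1 => ?_) hχ hξ
      exact hn a ha b hb (fun e => a1 (Subtype.ext e)) (fun e => b1 (Subtype.ext e))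
    rw [← inner_indFun_right _ _ hψ.classFun, ← hext _ (ntS_mem_zspanOn hχ hξ)] at h0
    have h1 : classInner (star χ) (star (ξ 1 • χ - χ 1 • ξ)) ≠ 0 := by
      rw [hs.2.2.1 _ (ntS_mem_zspan hχ) _ (ntS_mem_zspanOn hχ hξ).1, CfsgH3.inner_sub_right,
        CfsgH3.inner_smul_right, CfsgH3.inner_smul_right, hχ.1.inner_self,
        hχ.1.inner_of_ne hξ.1 hne]
      simpa using hξ.1.one_ne_zero
    rcases hψχ with e | e
    · exact h1 (e ▸ h0)
    · rw [e, CfsgH3.inner_neg_left, neg_eq_zero] at h0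
      exact h1 h0
  · rintro ⟨a, ha, b, hb, a1, b1, hab⟩
    by_contra hn
    push Not at hn
    obtain ⟨ξ, hξ, -⟩ := htwo
    have hz : ∀ χ ∈ ntS (K.subgroupOf (normalizer (K : Set G))), classInner ψ (star χ) = 0 := by
      intro χ hχ
      rcases hψ.isDirr.ip_cases (ntS_star_dirr hs hχ) with h | h | h
      · exact h
      · exact absurd h (hn χ hχ).1
      · exact absurd h (hn χ hχ).2
    apply hab
    refine ntS_const (K := K.subgroupOf (normalizer (K : Set G)))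
      (f := fun h : normalizer (K : Set G) => ψ h) (isClassFunction_restrict hψ.classFun _) hξ
      (fun χ hχ => ?_) (a := ⟨a, le_normalizer ha⟩) (b := ⟨b, le_normalizer hb⟩) ha hb
      (fun e => a1 (congrArg Subtype.val e)) (fun e => b1 (congrArg Subtype.val e))
    rw [← inner_indFun_right _ _ hψ.classFun, ← hext _ (ntS_mem_zspanOn hχ hξ), ntS_star hs hχ hξ,
      CfsgH3.inner_sub_right, CfsgH3.inner_smul_right, CfsgH3.inner_smul_right, hz χ hχ, hz ξ hξ]
    simp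

theorem ti_diff (hTI : ∀ g : G, g ∉ normalizer (K : Set G) → ∀ k ∈ K, g * k * g⁻¹ ∈ K → k = 1)
    (hlt : K < normalizer (K : Set G)) (hC : ∀ k ∈ K, k ≠ 1 → centralizer ({k} : Set G) ≤ K)
    (htwo : ∃ χ ∈ ntS (K.subgroupOf (normalizer (K : Set G))),
      ∃ ξ ∈ ntS (K.subgroupOf (normalizer (K : Set G))), χ ≠ ξ)
    (hs : IsLinearIsometryOn (zspan (ntS (K.subgroupOf (normalizer (K : Set G))))) star)
    (hext : ∀ α ∈ zspanOn (ntS (K.subgroupOf (normalizer (K : Set G))))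
      ({1}ᶜ : Set (normalizer (K : Set G))), star α = indFun (normalizer (K : Set G)) α) :
    ∃ m : ℤ, ∀ χ ∈ ntS (K.subgroupOf (normalizer (K : Set G))), ∀ k : normalizer (K : Set G),
      (k : G) ∈ K → k ≠ 1 →
      star χ k - χ k = (m : ℂ) * χ 1 / ((K.subgroupOf (normalizer (K : Set G))).index : ℂ) := by
  classical
  have hf := ti_frob hC
  have hne : K.subgroupOf (normalizer (K : Set G)) ≠ ⊤ := by
    intro e
    rw [subgroupOf_eq_top] at e
    exact hlt.not_ge e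
  have hnil := frob_nilpotent hf hne
  obtain ⟨ξ₁, hξ₁, -⟩ := htwo
  obtain ⟨k₀, hk₀, hk₀'⟩ := hξ₁.2
  have k01 : k₀ ≠ 1 := by rintro rfl; exact hk₀' rfl
  have hbot : (⊥ : Subgroup (normalizer (K : Set G))) < K.subgroupOf (normalizer (K : Set G)) :=
    bot_lt_iff_ne_bot.2 fun e => k01 (by rw [e] at hk₀; exact hk₀)
  obtain ⟨ξ, hξ', hξe⟩ := exists_indD_deg (K := K.subgroupOf (normalizer (K : Set G))) (A := ⊥)
    inferInstance hbot
  have hξ : ξ ∈ ntS (K.subgroupOf (normalizer (K : Set G))) := by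
    have := frob_indD hf
    change ntS _ = _ at this
    rw [this]; exact hξ'
  -- the differences
  have hΔ : ∀ χ ∈ ntS (K.subgroupOf (normalizer (K : Set G))),
      IsGeneralizedCharacter _ ((fun h : normalizer (K : Set G) => star χ h) - χ) :=
    fun χ hχ => ((hs.2.2.2 _ (ntS_mem_zspan hχ)).restrict _).sub hχ.1.isGen
  have hconst : ∀ a ∈ K.subgroupOf (normalizer (K : Set G)),
      ∀ b ∈ K.subgroupOf (normalizer (K : Set G)), a ≠ 1 → b ≠ 1 →
      star ξ a - ξ a = star ξ b - ξ b := by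
    intro a ha b hb a1 b1
    refine ntS_const (f := (fun h : normalizer (K : Set G) => star ξ h) - ξ) (hΔ ξ hξ).classFun hξ
      (fun χ hχ => ?_) ha hb a1 b1
    rw [CfsgH3.inner_sub_left, ← inner_indFun_right _ _ (hs.2.2.2 _ (ntS_mem_zspan hξ)).classFun,
      ← hext _ (ntS_mem_zspanOn hχ hξ), hs.2.2.1 _ (ntS_mem_zspan hξ) _ (ntS_mem_zspanOn hχ hξ).1,
      sub_self]
  -- integrality
  have hint : ∃ m : ℤ, star ξ k₀ - ξ k₀ = m := by
    have := Fintype.ofFinite (K.subgroupOf (normalizer (K : Set G)))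
    have hnt : Nontrivial (K.subgroupOf (normalizer (K : Set G))) :=
      (nontrivial_iff_ne_bot _).2 hbot.ne'
    have hcomm : _root_.commutator (K.subgroupOf (normalizer (K : Set G))) ≠ ⊤ :=
      (Group.IsSolvable.commutator_lt_top_of_nontrivial _).ne
    obtain ⟨g, hg⟩ : ∃ g, g ∉ _root_.commutator (K.subgroupOf (normalizer (K : Set G))) := by
      by_contra h
      push Not at h
      exact hcomm (eq_top_iff.2 fun x _ => h x)
    obtain ⟨μ, hμ⟩ := exists_lin_ne_one hg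
    obtain ⟨m, hm⟩ := ((hΔ ξ hξ).restrict (K.subgroupOf (normalizer (K : Set G)))).inner_int
      (isGen_one.sub (isIrr_unitsHom μ).isGen)
    refine ⟨m, ?_⟩
    rw [← hm, ip_congr_left (γ := (star ξ k₀ - ξ k₀) • fun _ => (1 : ℂ)), CfsgH3.inner_smul_left,
      CfsgH3.inner_sub_right, isIrr_one.inner_self, isIrr_one.inner_of_ne (isIrr_unitsHom μ)]
    · ring
    · intro e
      apply hμ
      have := congrFun e g
      exact Units.ext this.symm
    · intro x hx
      have x1 : x ≠ 1 := by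
        rintro rfl
        apply hx
        simp
      simp only [Pi.sub_apply, Pi.smul_apply, smul_eq_mul, mul_one]
      exact hconst x x.2 k₀ hk₀ (fun e => x1 (Subtype.ext e)) k01
  obtain ⟨m, hm⟩ := hint
  refine ⟨m, fun χ hχ k hk k1 => ?_⟩
  have h1 := congrFun (hext _ (ntS_mem_zspanOn hχ hξ)) k
  rw [ntS_star hs hχ hξ, ← ind_subtype] at h1
  have h2 := ind_apply_of_TI (f := (normalizer (K : Set G)).subtype) (subtype_injective _)
    (θ := ξ 1 • χ - χ 1 • ξ)
    (isClassFunction_sub (isClassFunction_smul _ hχ.1.classFun)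
      (isClassFunction_smul _ hξ.1.classFun)) k (fun g b hb hg => by
      rw [range_subtype]
      by_contra hn
      have hbK : b ∈ K.subgroupOf (normalizer (K : Set G)) := by
        by_contra hn'
        apply hb
        simp [ntS_out hf hχ hn', ntS_out hf hξ hn']
      refine k1 (Subtype.ext (hTI g hn k hk ?_))
      have : g * (k : G) * g⁻¹ = b := hg
      rw [this]; exact hbK)
  have h3 : ξ 1 * star χ k - χ 1 * star ξ k = ξ 1 * χ k - χ 1 * ξ k := by
    have := h1.trans h2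
    simpa using this
  have h4 := hconst k hk k₀ hk₀ k1 k01
  rw [hm] at h4
  rw [← hξe, eq_div_iff hξ.1.one_ne_zero]
  linear_combination h3 + χ 1 * h4

end TIG

end CfsgH4
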