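import Cfsg.Agent.H4.Ext3
import Cfsg.Agent.H3.Brauer2
import Cfsg.Agent.H3.Dade

/-! Applications of Brauer's characterization of characters: the Brauer–Suzuki normal
complement theorem. -/

set_option autoImplicit false
set_option linter.unusedSectionVars false

open Subgroup Function Cfsg CfsgH3
open scoped ComplexConjugate commutatorElement

namespace CfsgH4

universe u v

variable {G : Type u} [Group G]

theorem exists_hall_exp {m n : ℕ} (hcop : Nat.Coprime m n) :
    ∃ t : ℕ, t ≡ 0 [MOD m] ∧ t ≡ 1 [MOD n] :=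
  ⟨Nat.chineseRemainder hcop 0 1, (Nat.chineseRemainder hcop 0 1).2.1,
    (Nat.chineseRemainder hcop 0 1).2.2⟩

/-- The power map on a nilpotent subgroup. -/
def hallPow [Finite G] {m n t : ℕ} (hG : Nat.card G = m * n) (hcop : Nat.Coprime m n)
    (h0 : t ≡ 0 [MOD m]) (h1 : t ≡ 1 [MOD n]) (E : Subgroup G) [Group.IsNilpotent E] : E →* E :=
  MonoidHom.mk' (fun x => x ^ t) fun x y =>
    mul_pow_of_nilpotent hcop.symm (by
      rw [mul_comm, ← hG]; exact card_subgroup_dvd_card E) h1 h0 x y

theorem pow_hall_pow [Finite G] {m n t : ℕ} (hG : Nat.card G = m * n) (h0 : t ≡ 0 [MOD m])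
    (x : G) : (x ^ t) ^ n = 1 := by
  obtain ⟨c, rfl⟩ := (Nat.modEq_zero_iff_dvd).1 h0
  rw [← pow_mul, show m * c * n = (m * n) * c by ring, pow_mul, ← hG, pow_card_eq_one', one_pow]

theorem card_range_hallPow [Finite G] {m n t : ℕ} (hG : Nat.card G = m * n)
    (hcop : Nat.Coprime m n) (h0 : t ≡ 0 [MOD m]) (h1 : t ≡ 1 [MOD n]) (E : Subgroup G)
    [Group.IsNilpotent E] : Nat.card (hallPow hG hcop h0 h1 E).range ∣ n := by
  have hd : Nat.card (hallPow hG hcop h0 h1 E).range ∣ m * n :=
    (card_subgroup_dvd_card _).trans (hG ▸ card_subgroup_dvd_card E)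
  refine Nat.Coprime.dvd_of_dvd_mul_left ?_ hd
  refine Nat.coprime_of_dvd fun r hr hr1 hr2 => ?_
  have := Fact.mk hr
  obtain ⟨⟨y, x, rfl⟩, hy⟩ := exists_prime_orderOf_dvd_card' r hr1
  have h2 : ((x : G) ^ t) ^ n = 1 := pow_hall_pow hG h0 x
  have h3 : orderOf ((x : G) ^ t) = r := by
    rw [← hy, ← orderOf_coe, ← orderOf_coe]; rfl
  have h4 : r ∣ n := h3 ▸ orderOf_dvd_of_pow_eq_one h2
  exact hr.one_lt.ne' (Nat.eq_one_of_dvd_coprimes hcop hr2 h4)

theorem pow_of_decomp [Finite G] {m n t : ℕ} (hG : Nat.card G = m * n)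
    (h0 : t ≡ 0 [MOD m]) (h1 : t ≡ 1 [MOD n]) {u v : G} (hc : Commute u v)
    (hu : Nat.Coprime (orderOf u) n) (hv : Nat.Coprime (orderOf v) m) : (u * v) ^ t = v := by
  have hu' : orderOf u ∣ m := hu.dvd_of_dvd_mul_right (hG ▸ orderOf_dvd_natCard u)
  have hv' : orderOf v ∣ n := hv.dvd_of_dvd_mul_left (hG ▸ orderOf_dvd_natCard v)
  rw [hc.mul_pow, pow_eq_one_of_modEq hu' h0, pow_eq_self_of_modEq hv' h1, one_mul]

theorem exists_decomp [Finite G] {m n t : ℕ} (hG : Nat.card G = m * n) (hcop : Nat.Coprime m n)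
    (h0 : t ≡ 0 [MOD m]) (h1 : t ≡ 1 [MOD n]) (x : G) :
    ∃ u : G, x = u * x ^ t ∧ Commute u (x ^ t) ∧ Nat.Coprime (orderOf u) n ∧
      Nat.Coprime (orderOf (x ^ t)) m := by
  have hc : Commute x (x ^ t)⁻¹ := ((Commute.refl x).pow_right t).inv_right
  refine ⟨x * (x ^ t)⁻¹, by group, ?_, ?_, ?_⟩
  · exact Commute.mul_left ((Commute.refl x).pow_right t) (Commute.refl _).inv_left
  · refine Nat.Coprime.coprime_dvd_left (orderOf_dvd_of_pow_eq_one (n := m) ?_) hcop
    rw [hc.mul_pow, inv_pow, ← pow_mul, mul_comm t m, pow_mul,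
      pow_eq_self_of_modEq (a := n) ?_ h1, mul_inv_cancel]
    refine orderOf_dvd_of_pow_eq_one ?_
    rw [← pow_mul, ← hG, pow_card_eq_one']
  · exact Nat.Coprime.coprime_dvd_left (orderOf_dvd_of_pow_eq_one (pow_hall_pow hG h0 x)) hcop.symm

open Classical in
theorem hall_ind_integral [Fintype G] {m n t : ℕ} (hG : Nat.card G = m * n)
    (hcop : Nat.Coprime m n) (h0 : t ≡ 0 [MOD m]) (h1 : t ≡ 1 [MOD n]) (g : G)
    {χ : G → ℂ} (hχ : IsIrrCharacter G χ) :
    IsIntegral ℤ (classInner (fun x => if IsConj (x ^ t) g then (n : ℂ) else 0) χ) := by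
  set ϑ : G → ℂ := fun x => if IsConj (x ^ t) g then (n : ℂ) else 0 with hϑ
  have hcl : IsClassFunction G ϑ := by
    intro a b
    simp only [hϑ, conj_pow]
    congr 1
    apply propext
    exact ⟨fun h => (isConj_iff.2 ⟨b, rfl⟩).trans h, fun h => (isConj_iff.2 ⟨b, rfl⟩).symm.trans h⟩
  have hreal : ∀ x, conj (ϑ x) = ϑ x := by
    intro x
    simp only [hϑ]
    split_ifs <;> simp
  have key : ∀ f ∈ indSpan G (fun E => ∃ p : ℕ, p.Prime ∧ IsElementary p E),
      IsIntegral ℤ (classInner (f * ϑ) χ) := by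
    intro f hf
    induction hf using AddSubgroup.closure_induction with
    | mem f hf =>
      obtain ⟨E, ψ, ⟨p, hp, hE⟩, hψ, rfl⟩ := hf
      have := isNilpotent_of_isElementary hp hE
      have := Fintype.ofFinite E
      set π := hallPow hG hcop h0 h1 E with hπ
      have := Fintype.ofFinite π.ker
      have := Fintype.ofFinite (E ⧸ π.ker)
      have hη : IsCharacter E (ψ * fun e : E => conj (χ e)) :=
        hψ.mul (hχ.isChar.restrict E).conj_char
      have hinv : ∀ a ∈ π.ker, ∀ e : E, ϑ ((a * e : E) : G) = ϑ e := by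
        intro a ha e
        have h2 : π (a * e) = π e := by rw [map_mul, (MonoidHom.mem_ker).1 ha, one_mul]
        have h3 : ((a * e : E) : G) ^ t = (e : G) ^ t := congrArg Subtype.val h2
        simp only [hϑ, h3]
      have e1 : classInner (indFun E ψ * ϑ) χ =
          classInner (ψ * fun e : E => conj (χ e)) (fun e : E => ϑ e) := by
        have hc2 : IsClassFunction G (fun g => conj (ϑ g) * χ g) :=
          isClassFunction_mul (isClassFunction_conj hcl) hχ.classFun
        rw [CfsgH3.inner_mul_left, inner_indFun_left _ _ hc2, CfsgH3.inner_mul_left]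
        congr 1
        ext e
        simp [hreal, mul_comm]
      rw [e1, ← ip_navg (N := π.ker) _ hinv, classInner,
        sum_cosets π.ker (fun e => navg π.ker (ψ * fun e : E => conj (χ e)) e * conj (ϑ e))]
      have e2 : ∀ q : E ⧸ π.ker, ∑ a : π.ker,
          navg π.ker (ψ * fun e : E => conj (χ e)) (q.out * a) * conj (ϑ ((q.out * a : E) : G)) =
          Nat.card π.ker * (navg π.ker (ψ * fun e : E => conj (χ e)) q.out * ϑ q.out) := by
        intro q
        rw [Finset.sum_congr rfl (g := fun _ =>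
          navg π.ker (ψ * fun e : E => conj (χ e)) q.out * ϑ q.out)]
        · simp
        · intro a _
          have ha : q.out * a * q.out⁻¹ ∈ π.ker := (MonoidHom.normal_ker π).conj_mem _ a.2 _
          rw [show q.out * (a : E) = (q.out * a * q.out⁻¹) * q.out by group,
            navg_apply_mul _ ha, hinv _ ha, hreal]
      simp only [e2]
      obtain ⟨c, hc⟩ := card_range_hallPow hG hcop h0 h1 E
      have e3 : (Nat.card E : ℂ) = Nat.card π.ker * Nat.card π.range := by
        rw [← π.ker.card_mul_index, index_ker]; push_cast; rfl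
      rw [Finset.mul_sum]
      refine IsIntegral.sum _ fun q _ => ?_
      have hi := (isChar_navg (N := π.ker) hη).isIntegral q.out
      have hk := card_ne_zero_complex π.ker
      have hr := card_ne_zero_complex π.range
      simp only [hϑ]
      split_ifs
      · have : (Nat.card E : ℂ)⁻¹ * (Nat.card π.ker *
            (navg π.ker (ψ * fun e : E => conj (χ e)) q.out * n)) =
            navg π.ker (ψ * fun e : E => conj (χ e)) q.out * c := by
          rw [e3, hc]
          push_cast
          rw [← hπ]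
          field_simp
        rw [this]
        exact hi.mul (isIntegral_natCast _)
      · simpa using isIntegral_zero
    | zero => simpa [CfsgH3.inner_zero_left] using isIntegral_zero
    | add a b _ _ ha hb => rw [add_mul, CfsgH3.inner_add_left]; exact ha.add hb
    | neg a _ ha => rw [neg_mul, CfsgH3.inner_neg_left]; exact ha.neg
  have := key _ one_mem_indSpan_elementary
  rwa [show (fun _ : G => (1 : ℂ)) * ϑ = ϑ from one_mul ϑ] at this

open Classical in
theorem sum_mul_card_conj [Fintype G] {f : G → ℂ} (hf : IsClassFunction G f) (g : G) :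
    ∑ h, f h * (Nat.card {y : G // y * h * y⁻¹ = g} : ℂ) = Nat.card G * f g := by
  have : ∀ h, f h * (Nat.card {y : G // y * h * y⁻¹ = g} : ℂ) =
      ∑ y : G, if h = y⁻¹ * g * y then f h else 0 := by
    intro h
    rw [Nat.card_eq_fintype_card, Fintype.card_subtype, Finset.card_filter]
    push_cast
    rw [Finset.mul_sum]
    refine Finset.sum_congr rfl fun y _ => ?_
    by_cases e : h = y⁻¹ * g * y
    · rw [if_pos e, if_pos (by rw [e]; group), mul_one]
    · rw [if_neg e, if_neg (fun e' => e (by rw [← e']; group)), mul_zero]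
  simp only [this]
  rw [Finset.sum_comm]
  simp [hf.conj']

theorem isElementary_zpowers [Finite G] (x : G) : ∃ p : ℕ, p.Prime ∧ IsElementary p (zpowers x) := by
  obtain ⟨p, hp, hp'⟩ := Nat.exists_infinite_primes (orderOf x + 1)
  refine ⟨p, hp', ⟨x, mem_zpowers x⟩, ?_, ?_, 0, ?_⟩
  · rw [mem_center_iff]
    rintro ⟨y, k, rfl⟩
    exact Subtype.ext ((Commute.refl x).zpow_left k)
  · rw [orderOf_mk]
    exact ((Nat.Prime.coprime_iff_not_dvd hp').2 fun h =>
      absurd (Nat.le_of_dvd (orderOf_pos x) h) (by omega)).symm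
  · rw [pow_zero, index_eq_one, eq_top_iff]
    rintro ⟨y, k, rfl⟩ -
    exact ⟨k, rfl⟩

theorem brauer_suzuki_compl [Finite G] (H : Subgroup G) (hHall : Nat.Coprime (Nat.card H) H.index)
    (hfus : ∀ x ∈ H, ∀ y ∈ H, IsConj x y → ∃ h ∈ H, h * x * h⁻¹ = y)
    (helem : ∀ (E : Subgroup G) (p : ℕ), p.Prime → IsElementary p E → Nat.card E ∣ Nat.card H →
      ∃ g : G, E.map (MulAut.conj g).toMonoidHom ≤ H) :
    ∃ K : Subgroup G, K.Normal ∧ K ⊔ H = ⊤ ∧ K ⊓ H = ⊥ := by
  classical
  have := Fintype.ofFinite G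
  have := Fintype.ofFinite H
  have hG : Nat.card G = H.index * Nat.card H := H.index_mul_card.symm
  obtain ⟨t, h0, h1⟩ := exists_hall_exp hHall.symm
  have hr : ∀ x : G, ∃ r : H, IsConj (x ^ t) r := by
    intro x
    obtain ⟨p, hp, hE⟩ := isElementary_zpowers (x ^ t)
    obtain ⟨g, hg⟩ := helem _ p hp hE (by
      rw [Nat.card_zpowers]; exact orderOf_dvd_of_pow_eq_one (pow_hall_pow hG h0 x))
    exact ⟨⟨g * x ^ t * g⁻¹, hg ⟨x ^ t, mem_zpowers _, rfl⟩⟩, isConj_iff.2 ⟨g, rfl⟩⟩
  choose r hr using hr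
  have hfus' : ∀ a b : H, IsConj (a : G) b → IsConj a b := by
    intro a b h
    obtain ⟨c, hc, e⟩ := hfus a a.2 b b.2 h
    exact isConj_iff.2 ⟨⟨c, hc⟩, Subtype.ext e⟩
  have hr' : ∀ (x : G) (a : H), IsConj (x ^ t) a → IsConj (r x) a :=
    fun x a h => hfus' _ _ ((hr x).symm.trans h)
  have hpowH : ∀ a : H, (a : G) ^ t = a := fun a =>
    pow_eq_self_of_modEq (orderOf_dvd_card_of_mem a.2) h1
  have hr1 : ∀ x, r x = 1 ↔ x ^ t = 1 := by
    intro x
    constructor
    · intro h
      have := hr x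
      rw [h] at this
      exact isConj_one_left.1 this
    · intro h
      have := hr x
      rw [h] at this
      exact Subtype.ext (isConj_one_right.1 this)
  have hcl : ∀ {θ : H → ℂ}, IsClassFunction H θ → IsClassFunction G (fun x => θ (r x)) := by
    intro θ hθ a b
    refine hθ.of_isConj (hr' _ _ ?_)
    rw [conj_pow]
    exact (isConj_iff.2 ⟨b, rfl⟩).symm.trans (hr a)
  have hgen : ∀ {θ : H → ℂ}, IsGeneralizedCharacter H θ →
      IsGeneralizedCharacter G (fun x => θ (r x)) := by
    intro θ hθ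
    refine isGen_of_elementary (hcl hθ.classFun) fun E p hp hE => ?_
    have := isNilpotent_of_isElementary hp hE
    set π := hallPow hG hHall.symm h0 h1 E with hπ
    have hB : IsElementary p (π.range.map E.subtype) := by
      refine isElementary_of_injective hp hE
        (π.range.subtype.comp (π.range.equivMapOfInjective E.subtype E.subtype_injective).symm)
        ((subtype_injective _).comp (MulEquiv.injective _))
    obtain ⟨g, hg⟩ := helem _ p hp hB (by
      rw [card_map_of_injective E.subtype_injective]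
      exact card_range_hallPow hG hHall.symm h0 h1 E)
    let φ : E →* H := ((MulAut.conj g).toMonoidHom.comp (E.subtype.comp π)).codRestrict H
      fun e => hg ⟨π e, ⟨π e, ⟨e, rfl⟩, rfl⟩, rfl⟩
    have : (fun e : E => θ (r e)) = fun e => θ (φ e) := by
      ext e
      exact hθ.classFun.of_isConj (hr' _ _ (isConj_iff.2 ⟨g, rfl⟩))
    rw [this]
    exact hθ.comp φ
  -- counting
  set N : H → ℕ := fun h => ∑ x : G, Nat.card {y : H // y * h * y⁻¹ = r x} with hN
  have hsum : ∀ {f : H → ℂ}, IsClassFunction H f →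
      ∑ h, f h * N h = Nat.card H * ∑ x, f (r x) := by
    intro f hf
    simp only [hN]
    push_cast
    simp only [Finset.mul_sum]
    rw [Finset.sum_comm]
    exact Finset.sum_congr rfl fun x _ => sum_mul_card_conj hf _
  have hge : ∀ h, Nat.card G ≤ N h := by
    intro h
    have hpos : 0 < N h := by
      obtain ⟨y, hy⟩ := isConj_iff.1 (hr' h h (by rw [hpowH])).symm
      refine Finset.sum_pos' (fun _ _ => Nat.zero_le _) ⟨h, Finset.mem_univ _, ?_⟩
      have : Nonempty {y : H // y * h * y⁻¹ = r h} := ⟨⟨y, hy⟩⟩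
      exact Nat.card_pos
    refine Nat.le_of_dvd hpos (nat_dvd_of_isIntegral_div Nat.card_pos.ne' ?_)
    have : (N h : ℂ) / Nat.card G = ∑ θ : IrrCharacter H,
        classInner (fun x => θ.1 (r x)) (fun _ => 1) * conj (θ.1 h) := by
      simp only [hN, CfsgH3.inner_one_right]
      push_cast
      simp only [← sum_irr_mul_conj_eq_card]
      rw [Finset.sum_comm, div_eq_inv_mul, Finset.mul_sum]
      refine Finset.sum_congr rfl fun θ _ => ?_
      rw [← Finset.sum_mul, mul_assoc]
    rw [this]
    refine IsIntegral.sum _ fun θ _ => ?_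
    obtain ⟨k, hk⟩ := (hgen θ.2.isGen).inner_int isGen_one
    rw [hk]
    exact (isIntegral_intCast _).mul (θ.2.conj_char.isChar.isIntegral h)
  have heq : ∀ h, N h = Nat.card G := by
    have h2 : ∑ h, N h = ∑ _h : H, Nat.card G := by
      have := hsum (isClassFunction_const (G := H) 1)
      simp only [one_mul, Finset.sum_const, Finset.card_univ, nsmul_eq_mul, mul_one] at this
      rw [Finset.sum_const, Finset.card_univ, smul_eq_mul, ← Nat.card_eq_fintype_card]
      rw [← Nat.card_eq_fintype_card (α := G)] at this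
      exact_mod_cast this
    intro h
    exact ((Finset.sum_eq_sum_iff_of_le fun h _ => hge h).1 h2.symm h (Finset.mem_univ _)).symm
  have havg : ∀ {f : H → ℂ}, IsClassFunction H f →
      (Nat.card G : ℂ)⁻¹ * ∑ x, f (r x) = (Nat.card H : ℂ)⁻¹ * ∑ h, f h := by
    intro f hf
    have h2 := hsum hf
    simp only [heq] at h2
    rw [← Finset.sum_mul] at h2
    have := card_ne_zero_complex G
    have := card_ne_zero_complex H
    field_simp
    linear_combination -h2
  have r1 : r 1 = 1 := (hr1 1).2 (one_pow t)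
  have hirr : ∀ θ : IrrCharacter H, IsIrrCharacter G (fun x => θ.1 (r x)) := by
    intro θ
    refine (hgen θ.2.isGen).irr_of_inner_eq_one ?_ ?_
    · rw [← θ.2.inner_self]
      exact havg (f := fun h => θ.1 h * conj (θ.1 h))
        (isClassFunction_mul θ.2.classFun (isClassFunction_conj θ.2.classFun))
    · obtain ⟨d, -, hd⟩ := θ.2.exists_deg
      simp [r1, hd]
  set K : Subgroup G := ⨅ θ : IrrCharacter H, (hirr θ).isChar.ker with hK
  have hmem : ∀ x, x ∈ K ↔ r x = 1 := by
    intro x
    simp only [hK, mem_iInf, CfsgH3.Cfsg.IsCharacter.mem_ker, r1]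
    exact ⟨fun h => isConj_one_left.1 (isConj_of_forall_irr fun χ hχ => h ⟨χ, hχ⟩),
      fun h θ => by rw [h]⟩
  have hdisj : K ⊓ H = ⊥ := by
    rw [eq_bot_iff]
    rintro x ⟨hx, hx'⟩
    have := (hr1 x).1 ((hmem x).1 hx)
    rw [hpowH ⟨x, hx'⟩] at this
    exact this
  refine ⟨K, ⟨fun x hx g => ?_⟩, ?_, hdisj⟩
  · rw [hmem, hr1] at hx ⊢
    rw [conj_pow, hx]; group
  · have h2 := havg (f := fun h => if h = 1 then 1 else 0) (by
      intro a b
      simp only [conj_eq_one_iff])
    have h3 : ∑ x : G, (if r x = 1 then (1 : ℂ) else 0) = Nat.card K := by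
      rw [Finset.sum_boole, Nat.card_eq_fintype_card, Fintype.card_subtype]
      congr 2
      ext x
      simp [hmem]
    simp only [h3, Finset.sum_ite_eq', Finset.mem_univ, if_true] at h2
    have hG0 := card_ne_zero_complex G
    have hH0 := card_ne_zero_complex H
    have h4 : Nat.card K * Nat.card H = Nat.card G := by
      have : (Nat.card K : ℂ) * Nat.card H = Nat.card G := by
        field_simp at h2
        linear_combination h2
      exact_mod_cast this
    exact (isComplement'_of_card_mul_and_disjoint h4 (disjoint_iff.2 hdisj)).sup_eq_top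

end CfsgH4
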