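import Cfsg.Agent.H4.Ext2
import Cfsg.Agent.H4.Ord4
import Cfsg.Agent.H4.Pairs3
import Cfsg.Agent.H3.PF1
import Cfsg.Agent.H2.Focal
import Cfsg.Agent.H2.PGroup
import Cfsg.Agent.S0081

/-! Extension of `p'`-degree characters of Sylow normalizers; `p`-groups whose nonlinear
characters of equal degree are Galois conjugate. -/

set_option autoImplicit false
set_option linter.unusedSectionVars false

open Subgroup Function Cfsg CfsgH3 CfsgH2
open scoped ComplexConjugate commutatorElement

namespace CfsgH4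

universe u v

variable {G : Type u} [Group G]

section NavExt

theorem normalClosure_inf_of_ext [Finite G] {N D : Subgroup G} (hD : D ≤ N)
    [(D.subgroupOf N).Normal]
    (h : ∀ θ, IsIrrCharacter N θ → (∀ d ∈ D.subgroupOf N, θ d = θ 1) →
      ∃ χ, IsIrrCharacter G χ ∧ ∀ x : N, χ x = θ x) {x : G}
    (hx : x ∈ normalClosure (D : Set G)) (hxN : x ∈ N) : x ∈ D := by
  refine mem_of_forall_irr (N := D.subgroupOf N) (x := ⟨x, hxN⟩) fun θ hθ hk => ?_
  obtain ⟨χ, hχ, e⟩ := h θ hθ hk
  have : normalClosure (D : Set G) ≤ hχ.isChar.ker := by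
    refine normalClosure_le_normal fun d hd => ?_
    change χ d = χ 1
    rw [e ⟨d, hD hd⟩, hk ⟨d, hD hd⟩ hd, ← e 1]
    rfl
  rw [← e, ← e]
  exact this hx

theorem not_dvd_deg_of_ker [Finite G] {p : ℕ} [hp : Fact p.Prime] {Q : Subgroup G} [Q.Normal]
    (hQ : ¬ p ∣ Q.index) {θ : G → ℂ} (hθ : IsIrrCharacter G θ) (hk : ∀ d ∈ ⁅Q, Q⁆, θ d = θ 1) :
    ¬ p ∣ charDegree θ := by
  have := Fintype.ofFinite Q
  obtain ⟨lam, hl, hc⟩ := (hθ.isChar.restrict Q).classFun.exists_constituent (fun e => by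
    exact hθ.one_ne_zero (congrFun e 1))
  have h1 : lam 1 = 1 := hl.deg_one_of_commutator fun n hn =>
    (hθ.isChar.restrict Q).ker_of_constituent hl hc (hk n (by
      have : (n : G) ∈ (_root_.commutator Q).map Q.subtype := ⟨n, hn, rfl⟩
      rwa [_root_.commutator_def, map_commutator, ← MonoidHom.range_eq_map, range_subtype] at this))
  obtain ⟨e, he, hd⟩ := exists_deg_mul hl hθ hc
  rw [h1, mul_one] at he
  rw [charDegree_eq he]
  exact fun h => hQ (h.trans hd)

theorem compl_of_ext [Finite G] {p : ℕ} [hp : Fact p.Prime] (P : Sylow p G)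
    (h : ∀ θ, IsIrrCharacter (normalizer ((P : Subgroup G) : Set G)) θ → ¬ p ∣ charDegree θ →
      ∃ χ, IsIrrCharacter G χ ∧ ∀ x : normalizer ((P : Subgroup G) : Set G), χ x = θ x) :
    ∃ K : Subgroup G, K.Normal ∧ K ⊔ normalizer ((P : Subgroup G) : Set G) = ⊤ ∧
      K ⊓ normalizer ((P : Subgroup G) : Set G) = ⊥ := by
  have hPN : (P : Subgroup G) ≤ normalizer ((P : Subgroup G) : Set G) := le_normalizer
  have hDP : ⁅(P : Subgroup G), (P : Subgroup G)⁆ ≤ P := commutator_le_of_le le_rfl le_rfl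
  have : (⁅(P : Subgroup G), (P : Subgroup G)⁆.subgroupOf
      (normalizer ((P : Subgroup G) : Set G))).Normal :=
    (normal_subgroupOf_iff_le_normalizer (hDP.trans hPN)).2 (le_normalizer_commutator' le_rfl le_rfl)
  have hdeg : ∀ θ, IsIrrCharacter (normalizer ((P : Subgroup G) : Set G)) θ →
      (∀ d ∈ ⁅(P : Subgroup G), (P : Subgroup G)⁆.subgroupOf
        (normalizer ((P : Subgroup G) : Set G)), θ d = θ 1) → ¬ p ∣ charDegree θ := by
    intro θ hθ hk
    refine not_dvd_deg_of_ker
      (Q := (P : Subgroup G).subgroupOf (normalizer ((P : Subgroup G) : Set G)))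
      (IsSylowIn.of_sylow P hPN).not_dvd hθ fun d hd => hk d ?_
    rw [mem_subgroupOf, ← map_subtype_commutator_subgroupOf hPN hPN]
    exact ⟨d, hd, rfl⟩
  have hL : ∀ x ∈ normalClosure ((P : Subgroup G) : Set G),
      x ∈ normalizer ((P : Subgroup G) : Set G) → x ∈ (P : Subgroup G) := fun x hx hx' =>
    normalClosure_inf_of_ext hPN (fun θ hθ hk => h θ hθ (hdeg θ hθ fun d hd => hk d (hDP hd))) hx hx'
  have hK : ∀ x ∈ normalClosure ((⁅(P : Subgroup G), (P : Subgroup G)⁆ : Subgroup G) : Set G),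
      x ∈ normalizer ((P : Subgroup G) : Set G) → x ∈ ⁅(P : Subgroup G), (P : Subgroup G)⁆ :=
    fun x hx hx' => normalClosure_inf_of_ext (hDP.trans hPN)
      (fun θ hθ hk => h θ hθ (hdeg θ hθ hk)) hx hx'
  generalize hLd : normalClosure ((P : Subgroup G) : Set G) = L at hL
  generalize hKd : normalClosure ((⁅(P : Subgroup G), (P : Subgroup G)⁆ : Subgroup G) : Set G) = K₀
    at hK
  have : L.Normal := hLd ▸ inferInstance
  have : K₀.Normal := hKd ▸ inferInstance
  have hPL : (P : Subgroup G) ≤ L := hLd ▸ le_normalClosure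
  have hDK : ⁅(P : Subgroup G), (P : Subgroup G)⁆ ≤ K₀ := hKd ▸ le_normalClosure
  have hKL : K₀ ≤ L := by
    rw [← hKd, ← hLd]; exact normalClosure_mono hDP
  have hS : IsSylowIn p (P : Subgroup G) L := IsSylowIn.of_sylow P hPL
  have hS' := hS.map (QuotientGroup.mk' K₀)
  have hcm : ∀ y, QuotientGroup.mk' K₀ y ∈ (P : Subgroup G).map (QuotientGroup.mk' K₀) ↔
      y ∈ (P : Subgroup G) ⊔ K₀ := by
    intro y
    rw [← mem_comap, comap_map_eq, QuotientGroup.ker_mk']
  have hnpc : HasNormalPComplement p (L.map (QuotientGroup.mk' K₀)) := by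
    refine burnside_hasNPC hS' ?_
    rintro _ ⟨⟨x, hx, rfl⟩, hxn⟩
    have h1 : x ∈ normalizer (((P : Subgroup G) ⊔ K₀ : Subgroup G) : Set G) := by
      refine mem_normalizer_of_conj_mem fun y hy => ?_
      rw [← hcm] at hy ⊢
      rw [map_mul, map_mul, map_inv]
      exact conj_mem_of_mem_normalizer hxn hy
    obtain ⟨n, hn, hn'⟩ := (IsSylowIn.of_sylow P (le_sup_left (b := K₀))).frattini h1
    have h2 : n * x ∈ (P : Subgroup G) := hL _ (L.mul_mem (sup_le hPL hKL hn) hx) hn'
    have h3 : x ∈ (P : Subgroup G) ⊔ K₀ := by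
      have := mul_mem (inv_mem hn) (le_sup_left (b := K₀) h2)
      rwa [inv_mul_cancel_left] at this
    obtain ⟨a, ha, e⟩ := (hcm x).2 h3
    rw [mem_centralizer_iff, ← e]
    rintro _ ⟨b, hb, rfl⟩
    rw [← map_mul, ← map_mul, QuotientGroup.mk'_apply, QuotientGroup.mk'_apply, QuotientGroup.eq]
    refine hDK ?_
    have := commutator_mem_commutator (inv_mem ha) (inv_mem hb)
    rw [commutatorElement_def] at this
    convert this using 1
    group
  have hR : (resIn p L).Normal := resIn_normal L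
  have hRP : resIn p L ⊓ (P : Subgroup G) ≤ (frattini P).map (P : Subgroup G).subtype := by
    rintro y ⟨hy, hy'⟩
    have h1 : QuotientGroup.mk' K₀ y ∈ (P : Subgroup G).map (QuotientGroup.mk' K₀) ⊓
        resIn p (L.map (QuotientGroup.mk' K₀)) :=
      mem_inf.2 ⟨⟨y, hy', rfl⟩, by rw [← map_resIn]; exact ⟨y, hy, rfl⟩⟩
    rw [hS'.hasNPC_iff.1 hnpc, mem_bot, QuotientGroup.mk'_apply, QuotientGroup.eq_one_iff] at h1
    have h2 := hK y h1 (hPN hy')
    have h3 : ⁅(P : Subgroup G), (P : Subgroup G)⁆ =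
        (_root_.commutator P).map (P : Subgroup G).subtype := by
      rw [_root_.commutator_def, map_commutator, ← MonoidHom.range_eq_map, range_subtype]
    rw [h3] at h2
    exact map_mono (commutator_le_frattini P.2) h2
  have hn : HasNormalPComplement p L :=
    hasNPC_of_resIn_le le_rfl (Cfsg.Agent.S0081.result P (resIn p L) hRP)
  have hbot := hS.hasNPC_iff.1 hn
  refine ⟨resIn p L, hR, eq_top_iff.2 fun g _ => ?_, eq_bot_iff.2 fun x hx => ?_⟩
  · obtain ⟨n, hn, hn'⟩ := hS.frattini (g := g) (by rw [normalizer_eq_top]; trivial)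
    have h1 : L ≤ resIn p L ⊔ normalizer ((P : Subgroup G) : Set G) := by
      conv_lhs => rw [← hS.sup_resIn]
      exact sup_le (hPN.trans le_sup_right) le_sup_left
    have := mul_mem (inv_mem (h1 hn)) (le_sup_right (a := resIn p L) hn')
    rwa [inv_mul_cancel_left] at this
  · rw [← hbot]
    exact mem_inf.2 ⟨hL x (resIn_le L hx.1) hx.2, hx.1⟩

theorem ext_of_compl [Finite G] {N K : Subgroup G} [K.Normal] (h1 : K ⊔ N = ⊤) (h2 : K ⊓ N = ⊥)
    {θ : N → ℂ} (hθ : IsIrrCharacter N θ) : ∃ χ, IsIrrCharacter G χ ∧ ∀ x : N, χ x = θ x := by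
  have hc : N.IsComplement' K := by
    refine isComplement'_of_disjoint_and_mul_eq_univ (disjoint_iff.2 (by rw [inf_comm, h2])) ?_
    rw [← mul_normal, sup_comm, h1]; rfl
  let f : G →* N := hc.QuotientMulEquiv.toMonoidHom.comp (QuotientGroup.mk' K)
  have hf : ∀ x : N, f x = x := fun x => hc.QuotientMulEquiv.apply_symm_apply x
  exact ⟨fun g => θ (f g), hθ.comp_surjective f fun x => ⟨x, hf x⟩, fun x => congrArg θ (hf x)⟩

end NavExt

section GalP

theorem pow_conj_of_comm {a b c : G} (h : a * b * a⁻¹ = c * b) (hc : Commute a c) (n : ℕ) :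
    a ^ n * b * (a ^ n)⁻¹ = c ^ n * b := by
  induction n with
  | zero => simp
  | succ n ih =>
    have h1 : a ^ (n + 1) * b * (a ^ (n + 1))⁻¹ = a * (a ^ n * b * (a ^ n)⁻¹) * a⁻¹ := by
      rw [pow_succ']; group
    rw [h1, ih, ← mul_assoc, (hc.pow_right n).eq, pow_succ, mul_assoc, mul_assoc, mul_assoc,
      ← h, mul_assoc]

theorem pow_mem_center_of_comm [Finite G] {N : Subgroup G} (hN : N ≤ center G) {a : G}
    (h : ∀ x, a * x * a⁻¹ * x⁻¹ ∈ N) : a ^ Nat.card N ∈ center G := by
  rw [mem_center_iff]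
  intro x
  have h1 := pow_conj_of_comm (a := a) (b := x) (c := a * x * a⁻¹ * x⁻¹) (by group)
    (mem_center_iff.1 (hN (h x)) a) (Nat.card N)
  have h2 : (a * x * a⁻¹ * x⁻¹) ^ Nat.card N = 1 :=
    congrArg Subtype.val (pow_card_eq_one' (x := (⟨_, h x⟩ : N)))
  rw [h2, one_mul] at h1
  rw [← h1]
  conv_rhs => rw [h1]
  group

/-- Nonlinear characters of the same degree are Galois conjugate. -/
def GalSame (p : ℕ) (G : Type u) [Group G] : Prop :=
  ∀ χ ψ : G → ℂ, IsIrrCharacter G χ → IsIrrCharacter G ψ → χ 1 ≠ 1 → χ 1 = ψ 1 →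
    ∃ k : ℕ, Nat.Coprime k p ∧ ∀ g, ψ g = χ (g ^ k)

variable [Finite G] {p : ℕ} [hp : Fact p.Prime]

theorem commutator_le_center_of_card (hG : IsPGroup p G) (h : Nat.card (_root_.commutator G) = p) :
    _root_.commutator G ≤ center G := by
  obtain ⟨x, hx, x1, -, hc⟩ := exists_central_of_ne_bot (V := ⊤) (N := _root_.commutator G)
    (hG.to_subgroup ⊤) le_top (by rw [normalizer_eq_top]) (fun e => by
      rw [e, card_bot] at h; exact hp.out.one_lt.ne h)
  have h1 : zpowers x = _root_.commutator G := by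
    refine eq_of_le_of_card_le (zpowers_le.2 hx) ?_
    have h2 : Nat.card (zpowers x) ∣ p := h ▸ card_dvd_of_le (zpowers_le.2 hx)
    rcases (Nat.dvd_prime hp.out).1 h2 with h3 | h3
    · rw [Nat.card_zpowers, orderOf_eq_one_iff] at h3
      exact absurd h3 x1
    · rw [h, h3]
  rw [← h1, zpowers_le, mem_center_iff]
  exact fun g => hc g trivial

theorem GalSame.cyclic (h : GalSame p G) (hG : IsPGroup p G)
    (hc : Nat.card (_root_.commutator G) = p) : IsCyclic (center G) := by
  have hpr : (Nat.card (_root_.commutator G)).Prime := hc ▸ hp.out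
  have hZ := commutator_le_center_of_card hG hc
  obtain ⟨χ, hχ, h1⟩ := exists_nonlin (G := G) (fun e => by
      rw [e, card_bot] at hc; exact hp.out.one_lt.ne hc)
  have hf : ∀ g, χ g = χ 1 → g = 1 := by
    intro g hg
    by_cases hgc : g ∈ _root_.commutator G
    · exact eq_one_of_prime_comm hpr hχ h1 hgc hg
    · obtain ⟨μ, hμ⟩ := exists_lin_ne_one hgc
      obtain ⟨k, -, hk⟩ := h χ _ hχ (hχ.mul_linear μ) h1 (by simp)
      have h2 := hk g
      have h3 : χ (g ^ k) = χ 1 := hχ.isChar.ker.pow_mem (x := g) hg k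
      rw [h3, hg] at h2
      exact absurd (Units.ext (mul_left_cancel₀ hχ.one_ne_zero (h2.trans (mul_one _).symm))) hμ
  obtain ⟨lam, hl⟩ := hχ.isChar.exists_hom_of_le_cent hχ.one_ne_zero _ hχ.center_le_cent
  refine isCyclic_of_injective_ringHom ((Units.coeHom ℂ).comp lam) ?_
  rw [injective_iff_map_eq_one]
  intro z hz
  refine Subtype.ext (hf z ?_)
  have h2 := hl z 1
  have h3 : (lam z : ℂ) = 1 := hz
  rwa [mul_one, h3, one_mul] at h2

theorem galSame_of_cyclic (hG : IsPGroup p G) (hcy : IsCyclic (center G))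
    (hc : Nat.card (_root_.commutator G) = p) : GalSame p G := by
  have hpr : (Nat.card (_root_.commutator G)).Prime := hc ▸ hp.out
  have hZ := commutator_le_center_of_card hG hc
  obtain ⟨z, hz⟩ := IsCyclic.exists_generator (α := center G)
  have hoz : orderOf z = Nat.card (center G) := orderOf_eq_card_of_forall_mem_zpowers hz
  have key : ∀ χ : G → ℂ, IsIrrCharacter G χ → χ 1 ≠ 1 → ∃ lam : center G →* ℂˣ,
      (∀ w : center G, χ w = lam w * χ 1) ∧ IsPrimitiveRoot (lam z : ℂ) (Nat.card (center G)) := by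
    intro χ hχ h1
    obtain ⟨lam, hl⟩ := hχ.isChar.exists_hom_of_le_cent hχ.one_ne_zero _ hχ.center_le_cent
    have hl' : ∀ w : center G, χ w = lam w * χ 1 := fun w => by simpa using hl w 1
    refine ⟨lam, hl', ?_⟩
    have hinj : Injective lam := by
      rw [← MonoidHom.ker_eq_bot_iff]
      by_contra hne
      have h2 : p ∣ Nat.card (lam.ker.map (center G).subtype) := by
        obtain ⟨k, hk⟩ := IsPGroup.iff_card.1 (hG.to_subgroup (lam.ker.map (center G).subtype))
        rw [hk]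
        refine dvd_pow_self p fun e => hne ?_
        rw [e, pow_zero, card_map_of_injective (subtype_injective _)] at hk
        exact card_eq_one.1 hk
      obtain ⟨⟨x, w, hw, rfl⟩, hx⟩ := exists_prime_orderOf_dvd_card' p h2
      rw [← orderOf_coe] at hx
      have h3 : zpowers (w : G) = _root_.commutator G :=
        eq_of_card_eq_cyc hcy (zpowers_le.2 w.2) hZ (by rw [Nat.card_zpowers, hc]; exact hx)
      have h4 : (w : G) = 1 := eq_one_of_prime_comm hpr hχ h1 (h3 ▸ mem_zpowers _) (by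
        rw [hl', (MonoidHom.mem_ker).1 hw]; simp)
      have h5 : orderOf (w : G) = p := hx
      rw [h4, orderOf_one] at h5
      exact hp.out.one_lt.ne h5
    rw [IsPrimitiveRoot.coe_units_iff, ← hoz, ← orderOf_injective lam hinj z]
    exact IsPrimitiveRoot.orderOf _
  intro χ ψ hχ hψ h1 he
  obtain ⟨lam, hl, hl'⟩ := key χ hχ h1
  obtain ⟨mu, hm, hm'⟩ := key ψ hψ (he ▸ h1)
  have : NeZero (Nat.card (center G)) := ⟨Nat.card_pos.ne'⟩
  obtain ⟨k, -, hk, e⟩ := hl'.isPrimitiveRoot_iff.1 hm'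
  have hkp : Nat.Coprime k p := hk.coprime_dvd_right (hc ▸ card_dvd_of_le hZ)
  refine ⟨k, hkp, fun g => ?_⟩
  by_cases hg : g ∈ center G
  · obtain ⟨i, hi⟩ := hz ⟨g, hg⟩
    have h2 := hm ⟨g, hg⟩
    have h3 := hl (⟨g, hg⟩ ^ k)
    have e' : lam z ^ k = mu z := Units.ext (by simpa using e)
    change ψ g = _ at h2
    change χ (g ^ k) = _ at h3
    rw [h2, h3, he, ← hi, map_pow, map_zpow, map_zpow, ← e', ← zpow_natCast, ← zpow_natCast,
      ← zpow_mul, ← zpow_mul, mul_comm i]
  · obtain ⟨n, hn⟩ := IsPGroup.iff_card.1 hG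
    rw [vanish_of_prime_comm hpr hZ hψ (he ▸ h1) hg, vanish_of_prime_comm hpr hZ hχ h1]
    rwa [pow_mem_iff_of_coprime (hn ▸ hkp.pow_right n)]

omit [Finite G] hp in
theorem GalSame.quot (h : GalSame p G) (N : Subgroup G) [N.Normal] : GalSame p (G ⧸ N) := by
  intro χ ψ hχ hψ h1 he
  obtain ⟨k, hk, e⟩ := h _ _ hχ.inflate hψ.inflate h1 he
  refine ⟨k, hk, fun g => ?_⟩
  obtain ⟨g, rfl⟩ := QuotientGroup.mk_surjective g
  exact e g

theorem geom_lt (m : ℕ) : p * ∑ a ∈ Finset.range m, p ^ (2 * a) < p ^ (2 * m) := by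
  have h2 := hp.out.two_le
  induction m with
  | zero => simp
  | succ m ih =>
    rw [Finset.sum_range_succ, mul_add, show 2 * (m + 1) = 2 * m + 2 by ring, pow_add]
    have : p + 1 ≤ p ^ 2 := by nlinarith
    nlinarith [Nat.mul_le_mul_left (p ^ (2 * m)) this]

theorem GalSame.card_aux (n : ℕ) : ∀ (G : Type u) [Group G] [Finite G], Nat.card G ≤ n →
    IsPGroup p G → GalSame p G → _root_.commutator G ≠ ⊥ →
    Nat.card (_root_.commutator G) = p := by
  induction n with
  | zero => intro G _ _ h; exact absurd h (Nat.card_pos (α := G)).not_ge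
  | succ n ih =>
    intro G _ _ hn hG h hne
    classical
    obtain ⟨x, hx, x1, hxp, hc⟩ := exists_central_of_ne_bot (V := ⊤) (N := _root_.commutator G)
      (hG.to_subgroup ⊤) le_top (by rw [normalizer_eq_top]) hne
    have hNZ : zpowers x ≤ center G := by
      rw [zpowers_le, mem_center_iff]
      exact fun g => hc g trivial
    have hNc : Nat.card (zpowers x) = p := by
      rw [Nat.card_zpowers]; exact orderOf_eq_prime hxp x1
    have hND : zpowers x ≤ _root_.commutator G := zpowers_le.2 hx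
    generalize zpowers x = N at hNZ hNc hND
    have : N.Normal := normal_of_le_center' hNZ
    by_contra hcon
    have hq : Nat.card G = Nat.card (G ⧸ N) * p := by
      rw [← hNc]; exact card_eq_card_quotient_mul_card_subgroup N
    have hq0 : 0 < Nat.card (G ⧸ N) := Nat.card_pos
    have h2 := hp.out.two_le
    have hGq := hG.to_quotient N
    have hne' : _root_.commutator (G ⧸ N) ≠ ⊥ := by
      intro e
      rw [commutator_quot, Subgroup.map_eq_bot_iff, QuotientGroup.ker_mk'] at e
      exact hcon (by rw [le_antisymm e hND, hNc])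
    have hc' := ih (G ⧸ N) (by nlinarith) hGq (h.quot N) hne'
    have hcy := (h.quot N).cyclic hGq hc'
    have hpr : (Nat.card (_root_.commutator (G ⧸ N))).Prime := hc' ▸ hp.out
    have hZ := commutator_le_center_of_card hGq hc'
    obtain ⟨β, hβ, hβ1⟩ := exists_nonlin hne'
    obtain ⟨m, hm⟩ := charDegree_pgroup hp.out hGq hβ
    have hi : (center (G ⧸ N)).index = p ^ (2 * m) := by
      rw [← deg_sq_of_prime_comm hpr hZ hβ hβ1, hm, ← pow_mul, mul_comm]
    obtain ⟨c, hzc⟩ := IsPGroup.iff_card.1 (hGq.to_subgroup (center (G ⧸ N)))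
    have hqc : Nat.card (G ⧸ N) = p ^ c * p ^ (2 * m) := by
      rw [← hzc, ← hi, card_mul_index]
    -- exponent
    have hexp : ∀ g : G, g ^ p ^ (c + 2) = 1 := by
      intro g
      have h3 := pow_mem_center_of_comm hZ (a := (g : G ⧸ N))
        (fun y => commutator_mem_commutator (mem_top _) (mem_top _))
      rw [hc'] at h3
      have h4 : ((g : G ⧸ N) ^ p) ^ p ^ c = 1 := by
        rw [← hzc]; exact congrArg Subtype.val (pow_card_eq_one' (x := (⟨_, h3⟩ : center (G ⧸ N))))
      rw [← QuotientGroup.mk_pow, ← QuotientGroup.mk_pow, QuotientGroup.eq_one_iff] at h4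
      have h5 : ((g ^ p) ^ p ^ c) ^ p = 1 := by
        conv_lhs => rw [← hNc]
        rw [hNc]
        have := congrArg Subtype.val (pow_card_eq_one' (x := (⟨_, h4⟩ : N)))
        rwa [hNc] at this
      rw [← h5, ← pow_mul, ← pow_mul]
      congr 1
      ring
    -- the centre is large
    have hZl : p ^ c ≤ Nat.card (center G) := by
      obtain ⟨⟨z, hz⟩, hz'⟩ := IsCyclic.exists_generator (α := center (G ⧸ N))
      have hoz := orderOf_eq_card_of_forall_mem_zpowers hz'
      obtain ⟨z, rfl⟩ := QuotientGroup.mk_surjective z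
      have h3 := pow_mem_center_of_comm hNZ (a := z) (fun y => by
        rw [← QuotientGroup.eq_one_iff]
        simp only [QuotientGroup.mk_mul, QuotientGroup.mk_inv]
        rw [← mem_center_iff.1 hz]
        group)
      rw [hNc] at h3
      have h4 : zpowers ((z : G ⧸ N) ^ p) ≤ (center G).map (QuotientGroup.mk' N) :=
        zpowers_le.2 ⟨z ^ p, h3, rfl⟩
      have h5 := Nat.le_of_dvd Nat.card_pos (card_dvd_of_le h4)
      rw [← relIndex_ker, QuotientGroup.ker_mk', Nat.card_zpowers] at h5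
      have h6 : p ^ c ∣ p * orderOf ((z : G ⧸ N) ^ p) := by
        rw [← hzc, ← hoz, orderOf_mk]
        exact orderOf_dvd_of_pow_eq_one (by rw [pow_mul, pow_orderOf_eq_one])
      have h7 := Nat.le_of_dvd (Nat.mul_pos hp.out.pos (orderOf_pos _)) h6
      rw [← card_mul_relIndex hNZ, hNc]
      exact h7.trans (Nat.mul_le_mul_left _ h5)
    -- the characters not containing `N` in the kernel
    have hT : ∀ χ : IrrCharacter G, ¬ (∀ y ∈ N, χ.1 y = χ.1 1) →
        χ.1 1 ≠ 1 ∧ ∃ a < m, charDegree χ.1 = p ^ a := by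
      intro χ hχ
      refine ⟨fun e => hχ fun y hy => apply_commutator_of_deg_one χ.2.isChar e (hND hy), ?_⟩
      obtain ⟨a, ha⟩ := charDegree_pgroup hp.out hG χ.2
      refine ⟨a, ?_, ha⟩
      have h3 := χ.2.deg_sq_mul_le (coe_charDegree χ.2.isChar).symm _ χ.2.center_le_cent
      rw [ha, hq, hqc] at h3
      have h4 : p ^ (2 * a) ≤ p ^ (2 * m + 1) := by
        have h5 : p ^ c * p ^ (2 * a) ≤ p ^ c * p ^ (2 * m + 1) := by
          calc p ^ c * p ^ (2 * a) = (p ^ a) ^ 2 * p ^ c := by ring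
            _ ≤ (p ^ a) ^ 2 * Nat.card (center G) := Nat.mul_le_mul_left _ hZl
            _ ≤ _ := h3
            _ = _ := by ring
        exact Nat.le_of_mul_le_mul_left h5 (pow_pos hp.out.pos _)
      have h5 := (Nat.pow_le_pow_iff_right hp.out.one_lt).1 h4
      have h6 : a ≠ m := by
        rintro rfl
        obtain ⟨k, -, hk⟩ := h _ χ.1 hβ.inflate χ.2 hβ1 (by
          rw [← coe_charDegree χ.2.isChar, ha, ← hm, coe_charDegree hβ.isChar]; rfl)
        refine hχ fun y hy => ?_
        rw [hk, hk, one_pow, (QuotientGroup.eq_one_iff _).2 (N.pow_mem hy k)]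
        rfl
      omega
    set T := Finset.univ.filter fun χ : IrrCharacter G => ¬ (∀ y ∈ N, χ.1 y = χ.1 1) with hTd
    have hsum : Nat.card (G ⧸ N) + ∑ χ ∈ T, charDegree χ.1 ^ 2 = Nat.card G := by
      rw [← sum_charDegree_sq (G := G), ← sum_charDegree_sq (G := G ⧸ N),
        ← Finset.sum_filter_add_sum_filter_not Finset.univ
          (fun χ : IrrCharacter G => ∀ y ∈ N, χ.1 y = χ.1 1),
        ← sum_irr_quot N (fun f => charDegree f ^ 2)]
      rfl
    have hfib : ∀ a, (T.filter fun χ => charDegree χ.1 = p ^ a).card ≤ p ^ (c + 1) * (p - 1) := by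
      intro a
      rcases (T.filter fun χ => charDegree χ.1 = p ^ a).eq_empty_or_nonempty with e | ⟨χ₀, h₀⟩
      · rw [e]; simp
      simp only [hTd, Finset.mem_filter, Finset.mem_univ, true_and] at h₀
      rw [← Nat.totient_prime_pow_succ hp.out, Nat.totient_eq_card_coprime]
      refine Finset.card_le_card_of_surjOn (fun k => if hk : IsIrrCharacter G (fun g => χ₀.1 (g ^ k))
        then (⟨_, hk⟩ : IrrCharacter G) else χ₀) fun ψ hψ => ?_
      simp only [hTd, Finset.coe_filter, Finset.mem_filter, Finset.mem_univ, true_and,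
        Set.mem_ofPred_eq] at hψ
      obtain ⟨k, hk, e⟩ := h _ _ χ₀.2 ψ.2 (hT χ₀ h₀.1).1 (by
        rw [← coe_charDegree χ₀.2.isChar, ← coe_charDegree ψ.2.isChar, h₀.2, hψ.2])
      have e' : (fun g => χ₀.1 (g ^ (k % p ^ (c + 2)))) = ψ.1 := by
        ext g
        rw [e, ← pow_eq_pow_mod k (hexp g)]
      refine ⟨k % p ^ (c + 2), ?_, ?_⟩
      · simp only [Finset.coe_filter, Finset.mem_range, Set.mem_ofPred_eq]
        refine ⟨Nat.mod_lt _ (pow_pos hp.out.pos _), ?_⟩
        rw [Nat.Coprime, Nat.gcd_comm]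
        exact (Nat.gcd_rec _ _).symm.trans (hk.pow_right _).symm
      · simp only
        rw [dif_pos (e' ▸ ψ.2)]
        exact Subtype.ext e'
    have hle : ∑ χ ∈ T, charDegree χ.1 ^ 2 ≤
        ∑ a ∈ Finset.range m, p ^ (c + 1) * (p - 1) * p ^ (2 * a) := by
      rw [← Finset.sum_fiberwise_of_maps_to (s := T) (t := Finset.range m)
        (g := fun χ => Nat.log p (charDegree χ.1)) (fun χ hχ => by
          obtain ⟨a, ha, e⟩ := (hT χ (Finset.mem_filter.1 hχ).2).2
          rw [e, Nat.log_pow hp.out.one_lt]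
          exact Finset.mem_range.2 ha)]
      refine Finset.sum_le_sum fun a _ => ?_
      have : (T.filter fun χ => Nat.log p (charDegree χ.1) = a) =
          T.filter fun χ => charDegree χ.1 = p ^ a := by
        refine Finset.filter_congr fun χ hχ => ?_
        obtain ⟨b, -, e⟩ := (hT χ (Finset.mem_filter.1 hχ).2).2
        rw [e, Nat.log_pow hp.out.one_lt, Nat.pow_right_inj hp.out.one_lt]
      rw [this, Finset.sum_congr rfl (g := fun _ => p ^ (2 * a))
        (fun χ hχ => by rw [(Finset.mem_filter.1 hχ).2]; ring), Finset.sum_const, smul_eq_mul]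
      exact Nat.mul_le_mul_right _ (hfib a)
    rw [← Finset.mul_sum] at hle
    have hlt := geom_lt (p := p) m
    rw [hq, hqc] at hsum
    obtain ⟨r, rfl⟩ : ∃ r, p = r + 1 := ⟨p - 1, by omega⟩
    simp only [Nat.add_sub_cancel] at hle
    have h3 : 0 < (r + 1) ^ c * r := Nat.mul_pos (pow_pos (by omega) _) (by omega)
    have h4 := Nat.mul_lt_mul_of_pos_left hlt h3
    rw [pow_succ] at hle
    nlinarith

end GalP

end CfsgH4
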