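import Cfsg.Agent.H2.Dih

/-! Groups whose `p`-by-cyclic subgroups are cyclic or dihedral. -/

open Subgroup
open scoped Pointwise

namespace CfsgH4.PByC

variable {p : ℕ} [Fact p.Prime]

theorem eq_one_of_odd {G : Type*} [Group G] (hp : p ≠ 2) {q : G} {k : ℕ} (hq : q ^ p ^ k = 1)
    (h2 : q * q = 1) : q = 1 := by
  have hodd : Odd (p ^ k) := ((Fact.out : p.Prime).odd_of_ne_two hp).pow
  obtain ⟨m, hm⟩ := hodd
  rw [hm, pow_succ, pow_mul, pow_two, h2, one_pow, one_mul] at hq
  exact hq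

theorem sylow_normal_cyc {K : Type*} [Group K] [Finite K] (A : Subgroup K) [A.Normal]
    (hA : IsPGroup p A) (x : K) (hx : ∀ k : K, ∃ i : ℤ, ∃ a ∈ A, k = a * x ^ i) (S : Sylow p K) :
    (S : Subgroup K).Normal ∧ ∀ [(S : Subgroup K).Normal], IsCyclic (K ⧸ (S : Subgroup K)) := by
  have hAS : A ≤ S := by
    have h := hA.inf_normalizer_sylow S
    obtain ⟨T, hT⟩ := hA.exists_le_sylow
    obtain ⟨g, hg⟩ := MulAction.exists_smul_eq K T S
    intro a ha
    rw [← hg, Sylow.coe_subgroup_smul, mem_pointwise_smul_iff_inv_smul_mem]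
    apply hT
    have := (inferInstance : A.Normal).conj_mem a ha g⁻¹
    simpa using this
  refine ⟨⟨fun s hs k => ?_⟩, fun {_} => ?_⟩
  · obtain ⟨i, a, ha, rfl⟩ := hx k
    obtain ⟨j, b, hb, hsb⟩ := hx s
    have h1 : (a * x ^ i) * s * (a * x ^ i)⁻¹ * s⁻¹ ∈ A := by
      rw [← QuotientGroup.eq_one_iff, hsb]
      have ea : (a : K ⧸ A) = 1 := (QuotientGroup.eq_one_iff a).2 ha
      have eb : (b : K ⧸ A) = 1 := (QuotientGroup.eq_one_iff b).2 hb
      simp only [QuotientGroup.mk_mul, QuotientGroup.mk_inv, QuotientGroup.mk_zpow, ea, eb, one_mul]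
      group
    have := mul_mem (hAS h1) hs
    simpa using this
  · refine ⟨⟨(x : K ⧸ (S : Subgroup K)), fun z => ?_⟩⟩
    obtain ⟨k, rfl⟩ := QuotientGroup.mk_surjective z
    obtain ⟨i, a, ha, rfl⟩ := hx k
    refine ⟨i, ?_⟩
    have ea : (a : K ⧸ (S : Subgroup K)) = 1 := (QuotientGroup.eq_one_iff a).2 (hAS ha)
    simp only [QuotientGroup.mk_mul, QuotientGroup.mk_zpow, ea, one_mul]

/-- the restriction on `p`-by-cyclic subgroups -/
def Restr (p : ℕ) (G : Type*) [Group G] : Prop :=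
  ∀ H : Subgroup G, (∀ S : Sylow p ↥H, (S : Subgroup ↥H).Normal) →
    (∀ (S : Sylow p ↥H) [(S : Subgroup ↥H).Normal], IsCyclic (↥H ⧸ (S : Subgroup ↥H))) →
    IsCyclic H ∨ (∃ n : ℕ, Nonempty (H ≃* DihedralGroup (p ^ n)))

theorem Restr.act {G : Type*} [Group G] [Finite G] (hp : p ≠ 2) (hR : Restr p G) (Q : Subgroup G)
    (hQ : IsPGroup p Q) {x : G} (hx : x ∈ normalizer (Q : Set G)) :
    IsCyclic Q ∧ ((∀ q ∈ Q, q * x = x * q) ∨ (x * x = 1 ∧ ∀ q ∈ Q, x * q * x⁻¹ = q⁻¹)) := by
  set H : Subgroup G := Q ⊔ zpowers x with hH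
  have hQH : Q ≤ H := le_sup_left
  have hxH : x ∈ H := (le_sup_right : zpowers x ≤ H) (mem_zpowers x)
  have hHN : H ≤ normalizer (Q : Set G) := sup_le le_normalizer ((zpowers_le).2 hx)
  haveI hn : (Q.subgroupOf H).Normal := (normal_subgroupOf_iff_le_normalizer hQH).2 hHN
  have hA : IsPGroup p (Q.subgroupOf H) := hQ.comap_subtype
  have hgen : ∀ k : H, ∃ i : ℤ, ∃ a ∈ Q.subgroupOf H, k = a * (⟨x, hxH⟩ : H) ^ i := by
    have key : ∀ g ∈ H, ∃ i : ℤ, ∃ a ∈ Q, g = a * x ^ i := by
      intro g hg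
      have hg' : g ∈ ((Q ⊔ zpowers x : Subgroup G) : Set G) := hg
      rw [coe_mul_of_right_le_normalizer_left Q (zpowers x) ((zpowers_le).2 hx)] at hg'
      obtain ⟨a, ha, b, ⟨i, rfl⟩, rfl⟩ := hg'
      exact ⟨i, a, ha, rfl⟩
    rintro ⟨g, hg⟩
    obtain ⟨i, a, ha, e⟩ := key g hg
    exact ⟨i, ⟨a, hQH ha⟩, ha, Subtype.ext (by simpa using e)⟩
  rcases hR H (fun S => (sylow_normal_cyc _ hA _ hgen S).1)
    (fun S _ => (sylow_normal_cyc _ hA _ hgen S).2) with hc | ⟨n, ⟨e⟩⟩
  · refine ⟨isCyclic_of_le hQH, Or.inl fun q hq => ?_⟩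
    obtain ⟨c, hc⟩ := hc.exists_generator
    obtain ⟨i, hi⟩ := hc ⟨q, hQH hq⟩
    obtain ⟨j, hj⟩ := hc ⟨x, hxH⟩
    have hi' : (c : G) ^ i = q := by simpa using congrArg Subtype.val hi
    have hj' : (c : G) ^ j = x := by simpa using congrArg Subtype.val hj
    rw [← hi', ← hj']
    exact (Commute.zpow_zpow_self _ i j).eq
  · obtain ⟨a, b, hI, -⟩ := CfsgH2.exists_idx2_of_dihedral e
    have hb : b * b = 1 := by simpa using hI.sq
    have hc : b * a * b⁻¹ = a⁻¹ := by simpa using hI.conj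
    have hsq : ∀ i : ℤ, a ^ i * b * (a ^ i * b) = 1 := by
      intro i
      calc a ^ i * b * (a ^ i * b) = a ^ i * (b * a ^ i * b⁻¹) * (b * b) := by group
        _ = 1 := by rw [CfsgH2.conj_zpow_of_inv hc, hb]; group
    have hQa : ∀ q ∈ Q, ∃ i : ℤ, q = a ^ i := by
      intro q hq
      obtain ⟨i, h | h⟩ := (hI.mem q).1 (hQH hq)
      · exact ⟨i, h⟩
      · obtain ⟨k, hk⟩ := hQ ⟨q, hq⟩
        have hk' : q ^ p ^ k = 1 := by simpa using congrArg Subtype.val hk
        exact ⟨0, by rw [zpow_zero]; exact eq_one_of_odd hp hk' (by rw [h]; exact hsq i)⟩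
    have hle : Q ≤ zpowers a := fun q hq => by
      obtain ⟨i, rfl⟩ := hQa q hq
      exact ⟨i, rfl⟩
    refine ⟨isCyclic_of_le hle, ?_⟩
    obtain ⟨j, h | h⟩ := (hI.mem x).1 hxH
    · left
      intro q hq
      obtain ⟨i, rfl⟩ := hQa q hq
      rw [h]
      exact (Commute.zpow_zpow_self _ i j).eq
    · right
      refine ⟨by rw [h]; exact hsq j, fun q hq => ?_⟩
      obtain ⟨i, rfl⟩ := hQa q hq
      rw [h]
      calc a ^ j * b * a ^ i * (a ^ j * b)⁻¹ = a ^ j * (b * a ^ i * b⁻¹) * (a ^ j)⁻¹ := by group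
        _ = (a ^ i)⁻¹ := by rw [CfsgH2.conj_zpow_of_inv hc]; group

theorem forward {G : Type*} [Group G] [Finite G] (hp : p ≠ 2) (P : Sylow p G) (hR : Restr p G) :
    IsCyclic P ∧
      (normalizer ((P : Subgroup G) : Set G) = centralizer ((P : Subgroup G) : Set G) ∨
       ((centralizer ((P : Subgroup G) : Set G)).relIndex (normalizer ((P : Subgroup G) : Set G)) = 2 ∧
        ∀ Q : Subgroup G, Q ≤ P → Nat.card Q = p →
          IsMulCommutative ↥(centralizer (Q : Set G)) ∧
          ∀ x : G, x ∈ normalizer (Q : Set G) → x ∉ centralizer (Q : Set G) →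
            orderOf x = 2 ∧ ∀ c : G, c ∈ centralizer (Q : Set G) → x * c * x⁻¹ = c⁻¹)) := by
  refine ⟨(hR.act hp (P : Subgroup G) P.2 (one_mem _)).1, ?_⟩
  by_cases hNC : normalizer ((P : Subgroup G) : Set G) ≤ centralizer ((P : Subgroup G) : Set G)
  · exact Or.inl (le_antisymm hNC (centralizer_le_normalizer _))
  right
  obtain ⟨y, hyN, hyC⟩ := SetLike.not_le_iff_exists.1 hNC
  have hy : ∀ q ∈ (P : Subgroup G), y * q * y⁻¹ = q⁻¹ := by
    rcases (hR.act hp (P : Subgroup G) P.2 hyN).2 with h | h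
    · exact absurd (fun q hq => h q hq) hyC
    · exact h.2
  refine ⟨?_, fun Q hQP hQ => ?_⟩
  · rw [relIndex, index_eq_two_iff_exists_notMem_and]
    refine ⟨⟨y, hyN⟩, hyC, fun b => ?_⟩
    rcases (hR.act hp (P : Subgroup G) P.2 b.2).2 with h | h
    · exact Or.inr fun q hq => h q hq
    · left
      intro q hq
      have h1 := hy q hq
      have h2 := h.2 q⁻¹ (inv_mem hq)
      rw [← h1] at h2
      show q * (b * y) = (b * y) * q
      have h3 : (b : G) * (y * q * y⁻¹) * (b : G)⁻¹ = q := by rw [h2, h1, inv_inv]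
      calc q * ((b : G) * y) = ((b : G) * (y * q * y⁻¹) * (b : G)⁻¹) * (b * y) := by rw [h3]
        _ = (b * y) * q := by group
  · have hQp : IsPGroup p Q := P.2.to_le hQP
    have hsq : ∀ x ∈ normalizer (Q : Set G), x ∉ centralizer (Q : Set G) → x * x = 1 := by
      intro x hxN hxC
      rcases (hR.act hp Q hQp hxN).2 with h | h
      · exact absurd (fun q hq => h q hq) hxC
      · exact h.1
    have main : ∀ x : G, x ∈ normalizer (Q : Set G) → x ∉ centralizer (Q : Set G) →
        orderOf x = 2 ∧ ∀ c : G, c ∈ centralizer (Q : Set G) → x * c * x⁻¹ = c⁻¹ := by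
      intro x hxN hxC
      have hx2 := hsq x hxN hxC
      refine ⟨CfsgH2.orderOf_two_of hx2 (fun h => hxC (h ▸ one_mem _)), fun c hc => ?_⟩
      have h1 := hsq (x * c) (mul_mem hxN (centralizer_le_normalizer _ hc))
        (fun h => hxC (by simpa using mul_mem h (inv_mem hc)))
      rw [CfsgH2.inv_eq_of_mul_self hx2]
      calc x * c * x = (x * c * (x * c)) * c⁻¹ := by group
        _ = c⁻¹ := by rw [h1, one_mul]
    refine ⟨?_, main⟩
    have hyQ : y ∈ normalizer (Q : Set G) :=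
      mem_normalizer_fintype fun n hn => by rw [hy n (hQP hn)]; exact inv_mem hn
    have hyQC : y ∉ centralizer (Q : Set G) := by
      intro h
      have hbot : Q = ⊥ := by
        rw [eq_bot_iff]
        intro q hq
        obtain ⟨k, hk⟩ := hQp ⟨q, hq⟩
        have hk' : q ^ p ^ k = 1 := by simpa using congrArg Subtype.val hk
        have h1 := hy q (hQP hq)
        rw [← h q hq, mul_inv_cancel_right] at h1
        exact mem_bot.2 (eq_one_of_odd hp hk' (by nth_rewrite 2 [h1]; exact mul_inv_cancel q))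
      rw [hbot, card_bot] at hQ
      exact (Fact.out : p.Prime).one_lt.ne hQ
    have hinv := (main y hyQ hyQC).2
    refine ⟨⟨fun c d => Subtype.ext ?_⟩⟩
    have h1 := hinv _ (mul_mem c.2 d.2)
    have h2 : y * ((c : G) * d) * y⁻¹ = (y * c * y⁻¹) * (y * d * y⁻¹) := by group
    rw [h2, hinv _ c.2, hinv _ d.2, ← mul_inv_rev, inv_inj] at h1
    exact h1.symm

theorem cyc_of_central {K : Type*} [Group K] [Finite K] (S : Sylow p K) [(S : Subgroup K).Normal]
    [IsCyclic (S : Subgroup K)] [IsCyclic (K ⧸ (S : Subgroup K))]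
    (h : (S : Subgroup K) ≤ center K) : IsCyclic K := by
  have hk : (QuotientGroup.mk' (S : Subgroup K)).ker = S := QuotientGroup.ker_mk' _
  have hcomm := commutative_of_cyclic_center_quotient (QuotientGroup.mk' (S : Subgroup K))
    (by rw [hk]; exact h)
  have hc : (Nat.card (QuotientGroup.mk' (S : Subgroup K)).ker).Coprime
      (Nat.card (K ⧸ (S : Subgroup K))) := by
    rw [hk]; exact S.card_coprime_index
  haveI : IsCyclic (QuotientGroup.mk' (S : Subgroup K)).ker := by rw [hk]; infer_instance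
  letI : CommGroup K := { (inferInstance : Group K) with mul_comm := hcomm }
  exact Group.isCyclic_of_coprime_card_ker (QuotientGroup.mk' (S : Subgroup K)) hc
    (QuotientGroup.mk'_surjective _)

theorem mem_of_coprime {G : Type*} [Group G] {C : Subgroup G} {y : G} {a b : ℕ} (h : a.Coprime b)
    (ha : y ^ a ∈ C) (hb : y ^ b ∈ C) : y ∈ C := by
  obtain ⟨u, v, huv⟩ := Nat.isCoprime_iff_coprime.2 h
  have : y = (y ^ a) ^ u * (y ^ b) ^ v := by
    rw [← zpow_natCast, ← zpow_natCast, ← zpow_mul, ← zpow_mul, ← zpow_add, mul_comm (a : ℤ),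
      mul_comm (b : ℤ), huv, zpow_one]
  rw [this]
  exact mul_mem (zpow_mem ha u) (zpow_mem hb v)

theorem backward {G : Type*} [Group G] [Finite G] (P : Sylow p G) (hP : IsCyclic P)
    (h : normalizer ((P : Subgroup G) : Set G) = centralizer ((P : Subgroup G) : Set G) ∨
        ∀ Q : Subgroup G, Q ≤ P → Nat.card Q = p →
          IsMulCommutative ↥(centralizer (Q : Set G)) ∧
          ∀ x : G, x ∈ normalizer (Q : Set G) → x ∉ centralizer (Q : Set G) →
            orderOf x = 2 ∧ ∀ c : G, c ∈ centralizer (Q : Set G) → x * c * x⁻¹ = c⁻¹) :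
    Restr p G := by
  intro H hN hC
  obtain ⟨S⟩ : Nonempty (Sylow p H) := inferInstance
  haveI := hN S
  haveI := hC S
  have hS' : IsPGroup p ((S : Subgroup H).map H.subtype) := S.2.map _
  obtain ⟨T, hT⟩ := hS'.exists_le_sylow
  obtain ⟨g, hg⟩ := MulAction.exists_smul_eq G P T
  have hgT : ∀ z ∈ (S : Subgroup H), g⁻¹ * (z : G) * g ∈ (P : Subgroup G) := by
    intro z hz
    have h1 : (z : G) ∈ (T : Subgroup G) := hT ⟨z, hz, rfl⟩
    rw [← hg, Sylow.coe_subgroup_smul, mem_pointwise_smul_iff_inv_smul_mem] at h1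
    simpa using h1
  haveI hTc : IsCyclic T := (P.equiv T).isCyclic.1 hP
  haveI hSc : IsCyclic (S : Subgroup H) := by
    have h1 : IsCyclic ((S : Subgroup H).map H.subtype) := isCyclic_of_le hT
    exact ((S : Subgroup H).equivMapOfInjective H.subtype H.subtype_injective).isCyclic.2 h1
  obtain ⟨s, hs⟩ := hSc.exists_generator
  have hsS : ∀ z ∈ (S : Subgroup H), ∃ i : ℤ, z = (s : H) ^ i := by
    intro z hz
    obtain ⟨i, hi⟩ := hs ⟨z, hz⟩
    exact ⟨i, by simpa using (congrArg Subtype.val hi).symm⟩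
  obtain ⟨y', hy'⟩ := (hC S).exists_generator
  obtain ⟨y, rfl⟩ := QuotientGroup.mk_surjective y'
  have hy : ∀ k : H, ∃ i j : ℤ, k = (s : H) ^ j * y ^ i := by
    intro k
    obtain ⟨i, hi⟩ := hy' (k : H ⧸ (S : Subgroup H))
    have h1 : k * (y ^ i)⁻¹ ∈ (S : Subgroup H) := by
      rw [← QuotientGroup.eq_one_iff, QuotientGroup.mk_mul, QuotientGroup.mk_inv,
        QuotientGroup.mk_zpow, ← hi]
      simp
    obtain ⟨j, hj⟩ := hsS _ h1
    exact ⟨i, j, by rw [← hj]; group⟩
  have fin1 : Commute y (s : H) → IsCyclic H := by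
    intro hc
    refine cyc_of_central S fun z hz => mem_center_iff.2 fun k => ?_
    obtain ⟨l, rfl⟩ := hsS z hz
    obtain ⟨i, j, rfl⟩ := hy k
    exact (((Commute.refl (s : H)).zpow_zpow j l).mul_left (hc.zpow_zpow i l)).eq
  obtain ⟨n, hn⟩ : ∃ n, orderOf (s : H) = p ^ n := by
    obtain ⟨n, hn⟩ := (IsPGroup.iff_orderOf.1 S.2) s
    exact ⟨n, by rw [← hn, orderOf_coe]⟩
  rcases h with h | h
  · left
    apply fin1
    have hB := MonoidHom.ker_transferSylow_isComplement' P h.le
    set K := (MonoidHom.transferSylow P h.le).ker with hK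
    have hKi : K.index = Nat.card P := hB.symm.index_eq_card
    obtain ⟨m, hm⟩ := P.2.exists_card_eq
    have hC1 : y ^ (S : Subgroup H).index ∈ centralizer ({(s : H)} : Set H) := by
      obtain ⟨i, hi⟩ := hsS _ (pow_index_mem (H := (S : Subgroup H)) y)
      rw [hi, mem_centralizer_singleton_iff]
      exact ((Commute.refl (s : H)).zpow_left i).eq
    have hC2 : y ^ (p ^ m) ∈ centralizer ({(s : H)} : Set H) := by
      set w : H := y ^ (p ^ m) with hw
      have hwK : (w : G) ∈ K := by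
        have := pow_index_mem (H := K) (y : G)
        rw [hKi, hm] at this
        simpa [hw] using this
      have c1 : w * s * w⁻¹ * (s : H)⁻¹ ∈ (S : Subgroup H) :=
        mul_mem ((hN S).conj_mem _ s.2 w) (inv_mem s.2)
      have c2 : ((w * s * w⁻¹ * (s : H)⁻¹ : H) : G) ∈ K := by
        have h1 := (inferInstance : K.Normal).conj_mem _ (inv_mem hwK) ((s : H) : G)
        have := mul_mem hwK h1
        simpa [mul_assoc] using this
      have c3 := hgT _ c1
      have c4 : g⁻¹ * ((w * s * w⁻¹ * (s : H)⁻¹ : H) : G) * g ∈ K := by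
        simpa using (inferInstance : K.Normal).conj_mem _ c2 g⁻¹
      have c5 := hB.disjoint
      rw [disjoint_def] at c5
      have c6 := c5 c4 c3
      have c7 : ((w * s * w⁻¹ * (s : H)⁻¹ : H) : G) = 1 := by
        have : ((w * s * w⁻¹ * (s : H)⁻¹ : H) : G) =
            g * (g⁻¹ * ((w * s * w⁻¹ * (s : H)⁻¹ : H) : G) * g) * g⁻¹ := by group
        rw [this, c6]; group
      have c8 : w * s * w⁻¹ * (s : H)⁻¹ = 1 := Subtype.ext c7
      rw [mem_centralizer_singleton_iff]
      calc w * s = (w * s * w⁻¹ * (s : H)⁻¹) * (s * w) := by group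
        _ = s * w := by rw [c8, one_mul]
    have hcop : (S : Subgroup H).index.Coprime (p ^ m) :=
      (((Nat.Prime.coprime_iff_not_dvd Fact.out).2 S.not_dvd_index).symm).pow_right m
    exact mem_centralizer_singleton_iff.1 (mem_of_coprime hcop hC1 hC2)
  · rcases n with _ | n
    · left
      apply fin1
      rw [pow_zero, orderOf_eq_one_iff] at hn
      rw [hn]
      exact Commute.one_right y
    set q : H := (s : H) ^ (p ^ n) with hq
    have hpp : p.Prime := Fact.out
    have hqo : orderOf q = p := by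
      rw [hq, orderOf_pow_of_dvd (pow_pos hpp.pos n).ne' (hn ▸ pow_dvd_pow p (Nat.le_succ n)), hn,
        pow_succ, Nat.mul_div_cancel_left _ (pow_pos hpp.pos n)]
    let φ : H →* G := (MulAut.conj g⁻¹).toMonoidHom.comp H.subtype
    have hφ : Function.Injective φ := (MulAut.conj g⁻¹).injective.comp H.subtype_injective
    have hQP : zpowers (φ q) ≤ P := by
      rw [zpowers_le]
      have := hgT q (pow_mem s.2 _)
      simpa [φ] using this
    have hQc : Nat.card (zpowers (φ q)) = p := by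
      rw [Nat.card_zpowers, orderOf_injective φ hφ, hqo]
    obtain ⟨hab, hinv⟩ := h _ hQP hQc
    have hcen : ∀ z : H, Commute z q → φ z ∈ centralizer ((zpowers (φ q) : Subgroup G) : Set G) := by
      rintro z hz _ ⟨i, rfl⟩
      exact ((hz.map φ).zpow_right i).eq.symm
    have hsC := hcen s ((Commute.refl (s : H)).pow_right _)
    obtain ⟨k, hk⟩ := hsS _ ((hN S).conj_mem _ s.2 y)
    have hyN : φ y ∈ normalizer ((zpowers (φ q) : Subgroup G) : Set G) := by
      refine mem_normalizer_fintype ?_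
      rintro _ ⟨i, rfl⟩
      have e1 : y * q * y⁻¹ = q ^ k := by
        rw [hq, ← conj_pow, hk, ← zpow_natCast, ← zpow_natCast, ← zpow_mul, ← zpow_mul, mul_comm]
      have e2 : φ y * φ q * (φ y)⁻¹ = φ q ^ k := by rw [← map_inv, ← map_mul, ← map_mul, e1, map_zpow]
      show φ y * φ q ^ i * (φ y)⁻¹ ∈ zpowers (φ q)
      rw [← conj_zpow, e2]
      exact zpow_mem (zpow_mem (mem_zpowers _) k) i
    by_cases hyC : φ y ∈ centralizer ((zpowers (φ q) : Subgroup G) : Set G)
    · left
      apply fin1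
      have h1 := congrArg Subtype.val (hab.is_comm.comm ⟨_, hyC⟩ ⟨_, hsC⟩)
      apply hφ
      simpa only [map_mul, coe_mul] using h1
    · right
      obtain ⟨ho, hi⟩ := hinv _ hyN hyC
      rw [orderOf_injective φ hφ] at ho
      have h1 : y * s * y⁻¹ = (s : H) ^ (-1 : ℤ) := by
        apply hφ
        rw [zpow_neg_one, map_mul, map_mul, map_inv, map_inv]
        exact hi _ hsC
      have h2 : y * y = (s : H) ^ (0 : ℤ) := by
        rw [zpow_zero]; exact CfsgH2.mul_self_of_orderOf_two ho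
      have h3 : y ∉ zpowers (s : H) := by
        rintro ⟨i, rfl⟩
        exact hyC (hcen _ (((Commute.refl (s : H)).pow_right _).zpow_left i))
      have hI := CfsgH2.idx2_closure h1 h2 h3
      have htop : closure ({(s : H), y} : Set H) = ⊤ := by
        rw [eq_top_iff]
        intro z _
        obtain ⟨i, j, rfl⟩ := hy z
        exact mul_mem (zpow_mem (subset_closure (by simp)) j) (zpow_mem (subset_closure (by simp)) i)
      rw [htop] at hI
      obtain ⟨e⟩ := hI.dihedral hn
      exact ⟨n + 1, ⟨topEquiv.symm.trans e⟩⟩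

end CfsgH4.PByC
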