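import Mathlib

/-! Covering the p-elements by proper subgroups. -/

set_option autoImplicit false
open Function Subgroup
open scoped Pointwise

namespace CfsgH4
universe u

theorem pgroup_cover {G : Type*} [Group G] [Finite G] {p : ℕ} [hp : Fact p.Prime] (hG : IsPGroup p G)
    {ι : Type*} [Fintype ι] (K : ι → Subgroup G) (hK : ∀ i, K i ≠ ⊤) (hcov : ∀ g, ∃ i, g ∈ K i) :
    p + 1 ≤ Fintype.card ι := by
  classical
  have := Fintype.ofFinite G
  by_contra! hlt
  have h1 : ∀ i, p * Nat.card (K i) ≤ Nat.card G := fun i => by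
    rw [← (K i).index_mul_card]
    refine Nat.mul_le_mul_right _ ?_
    obtain ⟨k, hk⟩ := hG.index (K i)
    rcases k with _ | k
    · exact absurd (index_eq_one.1 (by simpa using hk)) (hK i)
    · rw [hk]; exact Nat.le_self_pow (by omega) _
  have h2 : Nat.card G - 1 ≤ ∑ i, (Nat.card (K i) - 1) := by
    have : (Finset.univ.erase (1 : G)) ⊆ Finset.univ.biUnion fun i =>
        (Finset.univ.filter fun g => g ∈ K i).erase 1 := fun g hg => by
      obtain ⟨i, hi⟩ := hcov g
      exact Finset.mem_biUnion.2 ⟨i, Finset.mem_univ _, Finset.mem_erase.2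
        ⟨(Finset.mem_erase.1 hg).1, by simpa using hi⟩⟩
    have h3 := (Finset.card_le_card this).trans Finset.card_biUnion_le
    rw [Finset.card_erase_of_mem (Finset.mem_univ _), Finset.card_univ, ← Nat.card_eq_fintype_card] at h3
    refine h3.trans (Finset.sum_le_sum fun i _ => ?_)
    rw [Finset.card_erase_of_mem (by simp), Nat.card_eq_fintype_card, Fintype.card_subtype]
  have h3 : ∀ i, p * (Nat.card (K i) - 1) ≤ Nat.card G - p := fun i => by
    rw [Nat.mul_sub_one]; exact Nat.sub_le_sub_right (h1 i) _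
  have h4 : p * (Nat.card G - 1) ≤ p * (Nat.card G - p) := by
    refine (Nat.mul_le_mul_left p h2).trans ?_
    rw [Finset.mul_sum]
    refine (Finset.sum_le_card_nsmul _ _ _ fun i _ => h3 i).trans ?_
    rw [Finset.card_univ, smul_eq_mul]
    exact Nat.mul_le_mul_right _ (by omega)
  have h5 := Nat.le_of_mul_le_mul_left h4 hp.out.pos
  obtain ⟨i, -⟩ := hcov 1
  have h6 : p ≤ Nat.card G := (Nat.le_mul_of_pos_right _ Nat.card_pos).trans (h1 i)
  have := hp.out.two_le
  omega

theorem pel_cover (p : ℕ) [hp : Fact p.Prime] {ι : Type*} [Fintype ι] (n : ℕ) :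
    ∀ (G : Type u) [Group G] [Finite G], Nat.card G = n → closure {g : G | ∃ k, orderOf g = p ^ k} = ⊤ →
    ∀ K : ι → Subgroup G, (∀ i, K i ≠ ⊤) → (∀ g : G, (∃ k, orderOf g = p ^ k) → ∃ i, g ∈ K i) →
    p + 1 ≤ Fintype.card ι := by
  induction n using Nat.strong_induction_on with
  | _ n ih =>
  intro G _ _ hn hgen K hK hcov
  by_contra! hlt
  let E : Set G := {g | ∃ k, orderOf g = p ^ k}
  let S : Set (Subgroup G) := {H | H ≠ ⊤ ∧ H ≤ closure (E ∩ H)}
  have hS : ∀ H ∈ S, ∃ i, H ≤ K i := fun H hH => by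
    by_contra! h
    refine hlt.not_ge (ih _ ?_ H rfl ?_ (fun i => (K i).subgroupOf H)
      (fun i e => h i (subgroupOf_eq_top.1 e)) fun g hg => hcov g (by simpa using hg))
    · rw [← hn, ← H.card_mul_index]
      exact (Nat.lt_mul_iff_one_lt_right Nat.card_pos).2 (one_lt_index_of_ne_top hH.1)
    · refine map_injective H.subtype_injective ?_
      rw [MonoidHom.map_closure, ← MonoidHom.range_eq_map, range_subtype]
      refine le_antisymm ((closure_le _).2 ?_) (hH.2.trans (closure_mono ?_))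
      · rintro _ ⟨x, -, rfl⟩; exact x.2
      · exact fun x hx => ⟨⟨x, hx.2⟩, by simpa [E] using hx.1, rfl⟩
  have hle : ∀ H : Subgroup G, closure (E ∩ H) ≤ H := fun H => (closure_le _).2 fun x hx => hx.2
  have hL : ∀ i, closure (E ∩ K i) ∈ S := fun i =>
    ⟨fun e => hK i (top_le_iff.1 (e.ge.trans (hle _))),
      closure_mono fun x hx => ⟨hx.1, subset_closure hx⟩⟩
  let M : Set (Subgroup G) := {H | Maximal (· ∈ S) H}
  have hM : M ⊆ Set.range fun i => closure (E ∩ K i) := fun H hH => by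
    obtain ⟨i, hi⟩ := hS H hH.1
    have := hH.1.2.trans (closure_mono (Set.inter_subset_inter_right _ hi))
    exact ⟨i, le_antisymm (hH.2 (hL i) this) this⟩
  have hMc : Nat.card M ≤ p := (Nat.card_mono (Set.toFinite _) hM).trans
    ((Finite.card_range_le _).trans (by rw [Nat.card_eq_fintype_card]; omega))
  have hSc : ∀ (g : G), ∀ H ∈ S, H.map (MulAut.conj g).toMonoidHom ∈ S := fun g H hH => by
    refine ⟨fun e => hH.1 (map_injective (f := (MulAut.conj g).toMonoidHom) (MulAut.conj g).injective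
      (e.trans (map_top_of_surjective _ (MulAut.conj g).surjective).symm)), (map_mono hH.2).trans ?_⟩
    rw [MonoidHom.map_closure]
    refine closure_mono ?_
    rintro _ ⟨x, hx, rfl⟩
    exact ⟨by simpa [E, -MulAut.conj_apply] using hx.1, x, hx.2, rfl⟩
  have hmm : ∀ (g h : G) (H : Subgroup G), (H.map (MulAut.conj h).toMonoidHom).map (MulAut.conj g).toMonoidHom =
      H.map (MulAut.conj (g * h)).toMonoidHom := fun g h H => by
    rw [map_map]; congr 1; ext; simp [mul_assoc]
  have hm1 : ∀ H : Subgroup G, H.map (MulAut.conj (1 : G)).toMonoidHom = H := fun H => by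
    ext; simp
  have hMc' : ∀ (g : G), ∀ H ∈ M, H.map (MulAut.conj g).toMonoidHom ∈ M := fun g H hH =>
    ⟨hSc g H hH.1, fun L hL' h => by
      have h1 := map_mono (f := (MulAut.conj g⁻¹).toMonoidHom) h
      rw [hmm, inv_mul_cancel, hm1] at h1
      have h2 := map_mono (f := (MulAut.conj g).toMonoidHom) (hH.2 (hSc g⁻¹ L hL') h1)
      rwa [hmm, mul_inv_cancel, hm1] at h2⟩
  let _ : MulAction G M :=
    { smul g H := ⟨_, hMc' g H.1 H.2⟩
      one_smul H := Subtype.ext (hm1 _)
      mul_smul g h H := Subtype.ext (hmm g h _).symm }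
  have hfix : ∀ x ∈ E, ∀ H : M, x • H = H := fun x hx H => by
    obtain ⟨i, hi⟩ := hcov x hx
    obtain ⟨L, h1, h2⟩ := Finite.exists_le_maximal (p := (· ∈ S)) (hL i)
    have h3 : x ∈ L := h1 (subset_closure ⟨hx, hi⟩)
    have h4 : ∀ y : zpowers x, y • (⟨L, h2⟩ : M) = ⟨L, h2⟩ := fun y =>
      Subtype.ext (mem_normalizer_iff_map_conj_eq.1 (le_normalizer (zpowers_le.2 h3 y.2)))
    obtain ⟨k, hk⟩ := hx
    have hP : IsPGroup p (zpowers x) := IsPGroup.of_card (by rw [Nat.card_zpowers, hk])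
    obtain ⟨m, hm⟩ := hP.card_orbit H
    rcases m with _ | m
    · have : Subsingleton (MulAction.orbit (zpowers x) H) := (Nat.card_eq_one_iff_unique.1 (by simpa using hm)).1
      exact congrArg Subtype.val (Subsingleton.elim (⟨_, MulAction.mem_orbit H ⟨x, mem_zpowers x⟩⟩ :
        MulAction.orbit (zpowers x) H) ⟨H, MulAction.mem_orbit_self H⟩)
    · have h5 : p ≤ p ^ (m + 1) := Nat.le_self_pow (by omega) _
      have h6 : MulAction.orbit (zpowers x) H = Set.univ := Set.eq_of_subset_of_ncard_le (Set.subset_univ _)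
        (by rw [Set.ncard_univ, ← Nat.card_coe_set_eq, hm]; omega)
      obtain ⟨y, hy⟩ := (h6 ▸ Set.mem_univ _ : (⟨L, h2⟩ : M) ∈ MulAction.orbit (zpowers x) H)
      have h7 : H = ⟨L, h2⟩ := by rw [← inv_smul_smul y H]; exact (congrArg _ hy).trans (h4 _)
      rw [h7]; exact h4 ⟨x, mem_zpowers x⟩
  obtain ⟨P⟩ : Nonempty (Sylow p G) := inferInstance
  have hPE : ∀ x ∈ (P : Subgroup G), x ∈ E := fun x hx => by
    obtain ⟨k, hk⟩ := IsPGroup.iff_orderOf.1 P.2 ⟨x, hx⟩
    exact ⟨k, by simpa using hk⟩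
  by_cases hP : (P : Subgroup G) = ⊤
  · exact hlt.not_ge (pgroup_cover (P.2.of_surjective (P : Subgroup G).subtype fun x => ⟨⟨x, hP ▸ mem_top x⟩, rfl⟩)
      K hK fun g => hcov g (hPE g (hP ▸ mem_top g)))
  obtain ⟨L, h1, h2⟩ := Finite.exists_le_maximal (p := (· ∈ S)) (a := (P : Subgroup G))
    ⟨hP, fun x hx => subset_closure ⟨hPE x hx, hx⟩⟩
  have h3 : ∀ g, g ∈ MulAction.stabilizer G (⟨L, h2⟩ : M) := fun g =>
    (hgen.ge.trans ((closure_le _).2 fun x hx => hfix x hx _)) (mem_top g)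
  refine h2.1.1 (top_le_iff.1 (hgen.ge.trans ((closure_le _).2 fun x ⟨k, hk⟩ => ?_)))
  obtain ⟨Q, hQ⟩ := (IsPGroup.of_card (G := zpowers x) (by rw [Nat.card_zpowers, hk])).exists_le_sylow
  obtain ⟨g, rfl⟩ := MulAction.exists_smul_eq G P Q
  have h4 : L.map (MulAut.conj g).toMonoidHom = L := congrArg Subtype.val (h3 g)
  obtain ⟨y, hy, rfl⟩ := hQ (mem_zpowers x)
  exact h4.le ⟨y, h1 hy, rfl⟩

end CfsgH4
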