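import Cfsg.Agent.H4.Proj

/-! The lattice of projective characters and the decomposition matrix of a block. -/

set_option autoImplicit false
set_option linter.unusedSectionVars false
open MonoidAlgebra Subgroup CfsgH2 Function Cfsg CfsgH3
open scoped ComplexConjugate

namespace CfsgH4

section pts
variable (F B : Type*) [Field F] [Ring B] [Algebra F B] [FiniteDimensional F B]
include F

theorem exists_points : ∃ s : Finset B, ((∀ j ∈ s, NPrim j) ∧ ∀ f, NPrim f → ∃ j ∈ s, Eqv f j) ∧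
    ∀ i ∈ s, ∀ j ∈ s, Eqv i j → i = j := by
  classical
  obtain ⟨s, hs, hm⟩ := (measure Finset.card).wf.has_min
    {s : Finset B | (∀ j ∈ s, NPrim j) ∧ ∀ f, NPrim f → ∃ j ∈ s, Eqv f j} (finite_points F)
  refine ⟨s, hs, fun i hi j hj h => by_contra fun hne => hm (s.erase i)
    ⟨fun k hk => hs.1 k (Finset.mem_of_mem_erase hk), fun f hf => ?_⟩ (Finset.card_erase_lt_of_mem hi)⟩
  obtain ⟨k, hk, e⟩ := hs.2 f hf
  by_cases h1 : k = i
  · exact ⟨j, Finset.mem_erase.2 ⟨Ne.symm hne, hj⟩, e.trans (h1 ▸ h) hf.idem (hs.1 j hj).idem⟩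
  · exact ⟨k, Finset.mem_erase.2 ⟨h1, hk⟩, e⟩

variable {F B} in
omit F in
theorem NPrim.mul_central {j b : B} (hj : NPrim j) (hb : b * b = b) (hc : ∀ x, b * x = x * b) :
    b * j = 0 ∨ b * j = j :=
  hj.prim _ (by rw [mul_assoc, ← mul_assoc j, ← hc j, mul_assoc, hj.idem, ← mul_assoc, hb])
    (by rw [← mul_assoc, ← hc j, mul_assoc, hj.idem]) (by rw [mul_assoc, hj.idem])

variable {F B} in
omit F in
theorem Eqv.mul_central {i j b : B} (h : Eqv i j) (hj : j * j = j) (hc : ∀ x, b * x = x * b)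
    (hi : b * i = i) : b * j = j := by
  obtain ⟨a, c, rfl, rfl⟩ := h
  calc b * (c * a) = c * (b * (a * c)) * a := by
        conv_lhs => rw [← hj]
        simp only [← mul_assoc, hc c]
    _ = c * a := by rw [hi, ← mul_assoc, mul_assoc, hj]

end pts

variable {M : Ideal AlgInt} [hM : M.IsMaximal] {G : Type*} [Group G] [Finite G]

omit [Finite G] in
theorem classFun_smul (c : ℂ) {θ : G → ℂ} (h : IsClassFunction G θ) : IsClassFunction G (c • θ) :=
  fun g x => congrArg (c * ·) (h g x)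

section PL
variable {p : ℕ} [hp : Fact p.Prime] [CharP (Res M) p] {θ : G → ℂ}

theorem PC_vanish {e : ℂ[G]} (he : e ∈ SG M G) (hee : e * e = e) {g : G} (hg : p ∣ orderOf g) :
    PC e g = 0 := by
  have := Fintype.ofFinite G
  have h := sum_coeff_eq_zero (p := p) he hee (x := 1) (y := g⁻¹) (by simp [← one_def])
    fun x n h => ?_
  · simpa [PC_apply] using h
  · rw [one_zpow, one_mul, eq_comm, mul_eq_left, ← orderOf_dvd_iff_zpow_eq_one, orderOf_inv] at h
    exact (Int.natCast_dvd_natCast.2 hg).trans h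

omit hp [CharP (Res M) p] in
variable (M G) in
/-- The lattice of virtual projective characters. -/
def PL : AddSubgroup (G → ℂ) := AddSubgroup.closure {f | ∃ e ∈ SG M G, e * e = e ∧ f = PC e}

omit hp [CharP (Res M) p] in
theorem ind_mem_PL [Fintype G] {H : Subgroup G} {f : H → ℂ} (hf : f ∈ PL M H) :
    indFun H f ∈ PL M G := by
  induction hf using AddSubgroup.closure_induction with
  | mem f hf =>
    obtain ⟨e, he, hee, rfl⟩ := hf
    exact AddSubgroup.subset_closure ⟨_, emb_mem_SG _ he, by rw [← map_mul, hee], ind_PC _ _⟩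
  | zero => rw [indFun_zero]; exact zero_mem _
  | add a b _ _ ha hb => rw [indFun_add]; exact add_mem ha hb
  | neg a _ ha => rw [indFun_neg]; exact neg_mem ha

omit hp in
theorem mem_PL_of_not_dvd (h : ¬ p ∣ Nat.card G) (hθ : IsGeneralizedCharacter G θ) :
    θ ∈ PL M G := by
  have := Fintype.ofFinite G
  refine (AddSubgroup.closure_le _).2 ?_ (mem_closure_monomial_elementary hθ)
  rintro _ ⟨E, lam, -, rfl⟩
  let χ : IrrCharacter E := ⟨_, isIrr_unitsHom lam⟩
  refine ind_mem_PL (AddSubgroup.subset_closure ⟨eChi χ.1, eChi_mem_SG ?_, ?_, ?_⟩)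
  · simp only [χ, map_one, Units.val_one, one_div]
    exact inv_natCast_mem_Loc fun h' => h (h'.trans (card_subgroup_dvd_card E))
  · rw [← eSet_singleton, eSet_idem]
  · rw [PC_eChi]; simp [χ]

theorem mem_PL_of_nilpotent [Group.IsNilpotent G] (hθ : IsGeneralizedCharacter G θ)
    (h : ∀ g, p ∣ orderOf g → θ g = 0) : θ ∈ PL M G := by
  have := Fintype.ofFinite G
  obtain ⟨φ, ψ, hφ⟩ := exists_parts_of_nilpotent p G
  have h1 : ∀ g, ¬ p ∣ orderOf g → ψ g = g := fun g hg => by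
    obtain ⟨e1, ⟨k, hk⟩, -⟩ := hφ g
    have h2 : p ^ k ∣ orderOf g := hk ▸ orderOf_map_dvd φ g
    rcases k with _ | k
    · rw [pow_zero, orderOf_eq_one_iff] at hk
      rwa [hk, one_mul] at e1
    · exact absurd ((dvd_pow_self p k.succ_ne_zero).trans h2) hg
  have h2 : ∀ g ∈ ψ.range, ¬ p ∣ orderOf g := by
    rintro _ ⟨g, rfl⟩
    exact (hφ g).2.2.1
  have hN : ψ.range.Normal := ⟨fun n hn g => ⟨_, h1 _ (by rw [orderOf_conj']; exact h2 n hn)⟩⟩
  have := Fintype.ofFinite ψ.range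
  have hi : (ψ.range.index : ℂ) ≠ 0 := Nat.cast_ne_zero.2 index_ne_zero_of_finite
  have e : indFun ψ.range ((ψ.range.index : ℂ)⁻¹ • fun x : ψ.range => θ x) = θ := by
    rw [indFun_smul, indFun_res _ hθ.classFun]
    funext g
    by_cases hg : p ∣ orderOf g
    · simp [h g hg]
    · simp [indFun_one_mem ψ.range (x := g) ⟨g, h1 g hg⟩, inv_mul_cancel_left₀ hi]
  rw [← e]
  refine ind_mem_PL (mem_PL_of_not_dvd (p := p) (fun hd => ?_) (isGen_of_inner_int
    (classFun_smul _ (classFun_res hθ.classFun _)) fun μ hμ => ?_))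
  · obtain ⟨x, hx⟩ := exists_prime_orderOf_dvd_card' p hd
    exact h2 x x.2 (by rw [orderOf_coe, hx])
  · have h3 := hμ.isGen.comp ψ.rangeRestrict
    obtain ⟨n, hn⟩ := hθ.inner_int h3
    refine ⟨n, ?_⟩
    rw [← hn]
    conv_rhs => rw [← e, inner_indFun_left _ _ h3.classFun]
    congr 1
    funext x
    exact congrArg μ (Subtype.ext (h1 _ (h2 _ x.2)).symm)

theorem mem_PL (hθ : IsGeneralizedCharacter G θ) (h : ∀ g, p ∣ orderOf g → θ g = 0) :
    θ ∈ PL M G := by
  have := Fintype.ofFinite G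
  have h2 : ∀ f ∈ indSpan G (fun E => ∃ p : ℕ, p.Prime ∧ IsElementary p E), f * θ ∈ PL M G := by
    intro f hf
    induction hf using AddSubgroup.closure_induction with
    | mem f hf =>
      obtain ⟨E, ψ, ⟨q, hq, hE⟩, hψ, rfl⟩ := hf
      rw [← indFun_mul_res E ψ hθ.classFun]
      have := isNilpotent_of_isElementary hq hE
      exact ind_mem_PL (mem_PL_of_nilpotent (p := p) (hψ.isGen.mul (hθ.restrict E)) fun g hg => by
        rw [h g (by rwa [orderOf_coe]), mul_zero])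
    | zero => rw [zero_mul]; exact zero_mem _
    | add a b _ _ ha hb => rw [add_mul]; exact add_mem ha hb
    | neg a _ ha => rw [neg_mul]; exact neg_mem ha
  have := h2 _ one_mem_indSpan_elementary
  rwa [show (fun _ => (1 : ℂ)) * θ = θ from one_mul θ] at this

end PL

section dec
variable {ε φ : (Res M)[G]} {e : ℂ[G]} {χ : IrrCharacter G} {B : Set (IrrCharacter G)}

omit [Finite G] in
theorem mem_Fix_one {R : Type*} [CommRing R] (a : R[G]) : a ∈ Fix R (zpowers (1 : G)) :=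
  mem_Fix'.2 fun n hn => by rw [zpowers_one_eq_bot, mem_bot] at hn; rw [hn, cjA_one]

theorem isLift_one (he : e ∈ SG M G) (hee : e * e = e) : IsLift M (zpowers 1) (redA M e) e :=
  ⟨he, mem_Fix_one _, hee, rfl⟩

theorem exists_lift_one (h : ε * ε = ε) : ∃ e, IsLift M (zpowers 1) ε e :=
  exists_isLift (mem_Fix_one _) h

variable (M) in
/-- The multiplicity `χ(ê)` for a lift `ê` of an idempotent. -/
noncomputable def dec (χ : IrrCharacter G) (ε : (Res M)[G]) : ℕ :=
  Classical.epsilon fun n : ℕ => TT M χ.1 1 ε = n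

theorem coe_dec (h : ε * ε = ε) : (dec M χ ε : ℂ) = TT M χ.1 1 ε := by
  obtain ⟨e, he⟩ := exists_lift_one h
  obtain ⟨n, hn⟩ := exists_nat_ev_idem χ.2.isChar he.idem
  exact (Classical.epsilon_spec (p := fun n : ℕ => TT M χ.1 1 ε = n) ⟨n, by
    rw [he.TT_eq χ.2.classFun, ← one_def, one_mul, hn]⟩).symm

theorem IsLift.idem' {Q : Subgroup G} (he : IsLift M Q ε e) : ε * ε = ε := by
  rw [← he.red, ← redA_mul he.mem he.mem, he.idem]

theorem IsLift.dec_eq (he : IsLift M (zpowers 1) ε e) (χ : IrrCharacter G) :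
    (dec M χ ε : ℂ) = ev χ.1 e := by
  rw [coe_dec he.idem', he.TT_eq χ.2.classFun, ← one_def, one_mul]

theorem dec_zero (χ : IrrCharacter G) : dec M χ 0 = 0 := by
  have := coe_dec (χ := χ) (mul_zero (0 : (Res M)[G]))
  rw [TT_zero χ.2.classFun] at this
  exact_mod_cast this

theorem dec_add (h1 : ε * ε = ε) (h2 : φ * φ = φ) (h3 : ε * φ = 0) (h4 : φ * ε = 0)
    (χ : IrrCharacter G) : dec M χ (ε + φ) = dec M χ ε + dec M χ φ := by
  have := TT_add χ.2.classFun (mem_Fix_one _) (mem_Fix_one _) h1 h2 h3 h4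
  rw [← coe_dec h1, ← coe_dec h2, ← coe_dec (by simp [mul_add, add_mul, h1, h2, h3, h4])] at this
  exact_mod_cast this

theorem dec_eqv (h1 : ε * ε = ε) (h2 : φ * φ = φ) (h : Eqv ε φ) (χ : IrrCharacter G) :
    dec M χ ε = dec M χ φ := by
  obtain ⟨a, b, rfl, rfl⟩ := h
  have := TT_eqv χ.2.classFun (mem_Fix_one a) (mem_Fix_one b) h1 h2
  rw [← coe_dec h1, ← coe_dec h2] at this
  exact_mod_cast this

theorem IsLift.eSet_mul (hB : eSet B ∈ SG M G) (he : IsLift M (zpowers 1) ε e) :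
    IsLift M (zpowers 1) (bId M B * ε) (eSet B * e) := by
  have := isLift_one (mul_mem hB he.mem) (by
    rw [mul_assoc, ← mul_assoc e, ← mul_comm_of_Fix_top (eSet_mem_Fix B), mul_assoc, he.idem,
      ← mul_assoc, eSet_idem])
  rwa [redA_mul hB he.mem, he.red] at this

theorem dec_of_notMem (hB : eSet B ∈ SG M G) (h : ε * ε = ε) (h1 : bId M B * ε = ε) (hχ : χ ∉ B) :
    dec M χ ε = 0 := by
  obtain ⟨e, he⟩ := exists_lift_one h
  have := (he.eSet_mul hB).dec_eq χ
  rw [h1, ev_eSet_mul_of_notMem hχ] at this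
  exact_mod_cast this

theorem dec_one (χ : IrrCharacter G) : dec M χ 1 = charDegree χ.1 := by
  have := (isLift_one (M := M) (G := G) (one_mem _) (mul_one 1)).dec_eq χ
  rw [redA_one, ev_one, ← coe_charDegree χ.2.isChar] at this
  exact_mod_cast this

theorem dec_bId (hB : eSet B ∈ SG M G) (hχ : χ ∈ B) : dec M χ (bId M B) = charDegree χ.1 := by
  have := (isLift_one hB (eSet_idem B)).dec_eq χ
  rw [← mul_one (eSet B), ev_eSet_mul_of_mem hχ, mul_one, ev_one,
    ← coe_charDegree χ.2.isChar] at this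
  exact_mod_cast this

theorem finrank_mulLR_res (h1 : ε * ε = ε) (h2 : φ * φ = φ) :
    Module.finrank (Res M) (LinearMap.range (LinearMap.mulLeftRight (Res M) (ε, φ))) =
      ∑ χ : IrrCharacter G, dec M χ ε * dec M χ φ := by
  obtain ⟨e, he⟩ := exists_lift_one h1
  obtain ⟨f, hf⟩ := exists_lift_one h2
  rw [finrank_range_red (T := LinearMap.mulLeftRight ℂ (e, f)) (fun a ha =>
    ⟨mul_mem (mul_mem he.mem ha) hf.mem, by
      simp only [LinearMap.mulLeftRight_apply]
      rw [redA_mul (mul_mem he.mem ha) hf.mem, redA_mul he.mem ha, he.red, hf.red]⟩)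
    (mulLR_idem he.idem hf.idem) (mulLR_idem h1 h2)]
  have := finrank_mulLR he.idem hf.idem
  simp only [← he.dec_eq, ← hf.dec_eq] at this
  exact_mod_cast this

variable (M) in
/-- The projective character attached to an idempotent. -/
noncomputable def Pr (ε : (Res M)[G]) : G → ℂ := ∑ χ : IrrCharacter G, (dec M χ ε : ℂ) • χ.1

theorem IsLift.Pr_eq (he : IsLift M (zpowers 1) ε e) : Pr M ε = PC e := by
  simp only [Pr, PC_def, he.dec_eq]

theorem Pr_zero : Pr M (0 : (Res M)[G]) = 0 := by simp [Pr, dec_zero]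

theorem Pr_add (h1 : ε * ε = ε) (h2 : φ * φ = φ) (h3 : ε * φ = 0) (h4 : φ * ε = 0) :
    Pr M (ε + φ) = Pr M ε + Pr M φ := by
  simp only [Pr, dec_add h1 h2 h3 h4, Nat.cast_add, add_smul, Finset.sum_add_distrib]

theorem Pr_eqv (h1 : ε * ε = ε) (h2 : φ * φ = φ) (h : Eqv ε φ) : Pr M ε = Pr M φ := by
  simp only [Pr, dec_eqv h1 h2 h]

theorem isGen_Pr (ε : (Res M)[G]) : IsGeneralizedCharacter G (Pr M ε) := by
  have := isGen_sum_int Finset.univ fun χ => (dec M χ ε : ℤ)
  simpa [Pr] using this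

theorem inner_Pr [Fintype G] (ε : (Res M)[G]) (χ : IrrCharacter G) :
    classInner (Pr M ε) χ.1 = dec M χ ε := by
  classical
  simp only [Pr, CfsgH3.inner_sum_left, CfsgH3.inner_smul_left, inner_irr, mul_ite, mul_one,
    mul_zero, Finset.sum_ite_eq', Finset.mem_univ, if_true]

theorem Pr_vanish {p : ℕ} [Fact p.Prime] [CharP (Res M) p] (h : ε * ε = ε) {g : G}
    (hg : p ∣ orderOf g) : Pr M ε g = 0 := by
  obtain ⟨e, he⟩ := exists_lift_one h
  rw [he.Pr_eq, PC_vanish he.mem he.idem hg]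

theorem bp_Pr (hB : eSet B ∈ SG M G) (h : ε * ε = ε) :
    blockPart B (Pr M ε) = Pr M (bId M B * ε) := by
  obtain ⟨e, he⟩ := exists_lift_one h
  rw [he.Pr_eq, (he.eSet_mul hB).Pr_eq, bp_PC]

theorem Pr_eq_sum (hB : eSet B ∈ SG M G) (h : ε * ε = ε) (h1 : bId M B * ε = ε) :
    Pr M ε = ∑ χ ∈ irrF B, (dec M χ ε : ℂ) • χ.1 :=
  (Finset.sum_subset (Finset.subset_univ _) fun χ _ hχ => by
    rw [dec_of_notMem hB h h1 (mt mem_irrF.2 hχ), Nat.cast_zero, zero_smul]).symm

instance instFinDimGA {F : Type*} [Field F] : FiniteDimensional F F[G] :=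
  Module.Finite.of_basis (MonoidAlgebra.basis G F)

variable (M G) in
/-- Representatives of the points of the group algebra. -/
noncomputable def pts : Finset (Res M)[G] := (exists_points (Res M) (Res M)[G]).choose

theorem pts_prim {j : (Res M)[G]} (h : j ∈ pts M G) : NPrim j :=
  (exists_points (Res M) (Res M)[G]).choose_spec.1.1 j h

theorem exists_pts (h : NPrim ε) : ∃ j ∈ pts M G, Eqv ε j :=
  (exists_points (Res M) (Res M)[G]).choose_spec.1.2 ε h

theorem pts_eq {i j : (Res M)[G]} (hi : i ∈ pts M G) (hj : j ∈ pts M G) (h : Eqv i j) : i = j :=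
  (exists_points (Res M) (Res M)[G]).choose_spec.2 i hi j hj h

theorem Pr_nat (h : ε * ε = ε) :
    ∃ m : (Res M)[G] → ℕ, Pr M ε = ∑ j ∈ pts M G, (m j : ℂ) • Pr M j := by
  classical
  refine idem_induction (Res M) (P := fun ε => ∃ m : (Res M)[G] → ℕ,
    Pr M ε = ∑ j ∈ pts M G, (m j : ℂ) • Pr M j) ⟨0, by simp [Pr_zero]⟩ (fun e he => ?_) ?_ h
  · obtain ⟨j, hj, h⟩ := exists_pts he
    refine ⟨Pi.single j 1, ?_⟩
    rw [Finset.sum_eq_single_of_mem j hj fun i _ hi => by simp [hi], Pr_eqv he.idem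
      (pts_prim hj).idem h]
    simp
  · rintro e f h1 h2 h3 h4 ⟨m, hm⟩ ⟨n, hn⟩
    exact ⟨m + n, by simp [Pr_add h1 h2 h3 h4, hm, hn, add_smul, Finset.sum_add_distrib]⟩

theorem Pr_indep {s : Finset (Res M)[G]} (hs : s ⊆ pts M G) {c : (Res M)[G] → ℂ}
    (h : ∑ j ∈ s, c j • Pr M j = 0) {j : (Res M)[G]} (hj : j ∈ s) : c j = 0 := by
  classical
  choose v hv using fun i : s => exists_lift_one (pts_prim (hs i.2)).idem
  choose t ht ht' using fun i : s => (pts_prim (hs i.2)).exists_isTr (Res M)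
  refine eq_zero_of_dual v (fun i => (hv i).mem) t (fun i k => ?_) (fun i => c i)
    (fun k => ev_eq_zero_of_PC ?_ (liftT_classFun (ht k).comm)) ⟨j, hj⟩
  · rw [(hv i).red]
    split_ifs with e
    · exact (ht' k _ (pts_prim (hs i.2))).1 (e ▸ Eqv.refl (pts_prim (hs i.2)).idem)
    · exact (ht' k _ (pts_prim (hs i.2))).2 fun h' => e (Subtype.ext (pts_eq (hs k.2) (hs i.2) h')).symm
  · rw [← h, map_sum, ← Finset.sum_coe_sort s]
    exact Finset.sum_congr rfl fun i _ => by rw [map_smul, (hv i).Pr_eq]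

theorem Pr_coeff_eq {s : Finset (Res M)[G]} (hs : s ⊆ pts M G) {c c' : (Res M)[G] → ℂ}
    (h : ∑ j ∈ s, c j • Pr M j = ∑ j ∈ s, c' j • Pr M j) {j : (Res M)[G]} (hj : j ∈ s) :
    c j = c' j :=
  sub_eq_zero.1 (Pr_indep hs (c := c - c') (by simp [sub_smul, h]) hj)

theorem exists_int_of_PL {θ : G → ℂ} (h : θ ∈ PL M G) :
    ∃ c : (Res M)[G] → ℤ, θ = ∑ j ∈ pts M G, (c j : ℂ) • Pr M j := by
  induction h using AddSubgroup.closure_induction with
  | mem f hf =>
    obtain ⟨e, he, hee, rfl⟩ := hf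
    obtain ⟨m, hm⟩ := Pr_nat (isLift_one he hee).idem'
    exact ⟨fun j => m j, by rw [← (isLift_one he hee).Pr_eq, hm]; simp⟩
  | zero => exact ⟨0, by simp⟩
  | add a b _ _ ha hb =>
    obtain ⟨m, rfl⟩ := ha
    obtain ⟨n, rfl⟩ := hb
    exact ⟨m + n, by simp [add_smul, Finset.sum_add_distrib]⟩
  | neg a _ ha =>
    obtain ⟨m, rfl⟩ := ha
    exact ⟨-m, by simp⟩

variable (M) in
open Classical in
/-- The points lying in a block. -/
noncomputable def ptsB (B : Set (IrrCharacter G)) : Finset (Res M)[G] :=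
  (pts M G).filter fun j => bId M B * j = j

theorem mem_ptsB {j : (Res M)[G]} : j ∈ ptsB M B ↔ j ∈ pts M G ∧ bId M B * j = j := by
  classical
  exact Finset.mem_filter

theorem ptsB_sub : ptsB M B ⊆ pts M G := fun _ h => (mem_ptsB.1 h).1

theorem ptsB_idem {j : (Res M)[G]} (h : j ∈ ptsB M B) : j * j = j := (pts_prim (ptsB_sub h)).idem

theorem bId_comm (x : (Res M)[G]) : bId M B * x = x * bId M B :=
  mul_comm_of_Fix_top (bId_mem B).2 x

theorem bId_idem' (hB : eSet B ∈ SG M G) : bId M B * bId M B = bId M B :=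
  (isLift_one hB (eSet_idem B)).idem'

theorem exists_ptsB (h : NPrim ε) (h1 : bId M B * ε = ε) : ∃ j ∈ ptsB M B, Eqv ε j := by
  obtain ⟨j, hj, e⟩ := exists_pts h
  exact ⟨j, mem_ptsB.2 ⟨hj, e.mul_central (pts_prim hj).idem bId_comm h1⟩, e⟩

theorem bp_sum_pts (hB : eSet B ∈ SG M G) (c : (Res M)[G] → ℂ) :
    blockPart B (∑ j ∈ pts M G, c j • Pr M j) = ∑ j ∈ ptsB M B, c j • Pr M j := by
  rw [bp_sum, ← Finset.sum_subset ptsB_sub]
  · exact Finset.sum_congr rfl fun j hj => by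
      rw [bp_smul, bp_Pr hB (ptsB_idem hj), (mem_ptsB.1 hj).2]
  · intro j hj h
    rw [bp_smul, bp_Pr hB (pts_prim hj).idem, ((pts_prim hj).mul_central (bId_idem' hB)
      bId_comm).resolve_right fun e => h (mem_ptsB.2 ⟨hj, e⟩), Pr_zero, smul_zero]

theorem Pr_bId (hB : eSet B ∈ SG M G) : Pr M (bId M B) = ∑ χ ∈ irrF B, χ.1 1 • χ.1 := by
  rw [Pr_eq_sum hB (bId_idem' hB) (bId_idem' hB)]
  exact Finset.sum_congr rfl fun χ hχ => by
    rw [dec_bId hB (mem_irrF.1 hχ), coe_charDegree χ.2.isChar]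

theorem exists_mult (hB : eSet B ∈ SG M G) : ∃ m : (Res M)[G] → ℕ, (∀ j ∈ ptsB M B, 0 < m j) ∧
    Pr M (bId M B) = ∑ j ∈ ptsB M B, (m j : ℂ) • Pr M j := by
  classical
  have hb := bId_idem' hB
  obtain ⟨m, hm⟩ := Pr_nat hb
  refine ⟨m, fun j hj => ?_, by rw [← bp_sum_pts hB, ← hm, bp_Pr hB hb, hb]⟩
  have h1 := (mem_ptsB.1 hj).2
  have h2 : j * bId M B = j := by rw [← bId_comm, h1]
  have h3 := ptsB_idem hj
  have h4 : (bId M B - j) * (bId M B - j) = bId M B - j := by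
    simp [mul_sub, sub_mul, h1, h2, h3, hb]
  obtain ⟨n, hn⟩ := Pr_nat h4
  have h5 := Pr_add h3 h4 (by simp [mul_sub, h2, h3]) (by simp [sub_mul, h1, h3])
  rw [add_sub_cancel, hm, hn] at h5
  have h6 := Pr_coeff_eq subset_rfl (c := fun i => m i) (c' := fun i => (Pi.single j 1 + n : _ → ℕ) i)
    (by
      rw [h5]
      simp only [Pi.add_apply, Nat.cast_add, add_smul, Finset.sum_add_distrib]
      congr 1
      rw [Finset.sum_eq_single_of_mem j (ptsB_sub hj) fun i _ hi => by simp [hi]]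
      simp) (ptsB_sub hj)
  have h7 : m j = 1 + n j := by simpa using Nat.cast_injective (R := ℂ) h6
  omega

theorem inner_sum_Pr [Fintype G] (s : Finset (Res M)[G]) (c : (Res M)[G] → ℂ)
    (χ : IrrCharacter G) :
    classInner (∑ j ∈ s, c j • Pr M j) χ.1 = ∑ j ∈ s, c j * dec M χ j := by
  simp only [CfsgH3.inner_sum_left, CfsgH3.inner_smul_left, inner_Pr]

theorem exists_dec_ne_zero {j : (Res M)[G]} (hB : eSet B ∈ SG M G) (hj : j ∈ ptsB M B) :
    ∃ χ ∈ B, dec M χ j ≠ 0 := by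
  by_contra! h
  refine one_ne_zero (Pr_indep (s := {j}) (c := fun _ => (1 : ℂ))
    (Finset.singleton_subset_iff.2 (ptsB_sub hj)) ?_ (Finset.mem_singleton_self j))
  rw [Finset.sum_singleton, one_smul, Pr_eq_sum hB (ptsB_idem hj) (mem_ptsB.1 hj).2]
  exact Finset.sum_eq_zero fun χ hχ => by rw [h χ (mem_irrF.1 hχ), Nat.cast_zero, zero_smul]

variable {p : ℕ} [hp : Fact p.Prime] [CharP (Res M) p] {θ : G → ℂ}

theorem exists_int_Pr (hB : eSet B ∈ SG M G) (hθ : IsGeneralizedCharacter G θ)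
    (h : ∀ g, p ∣ orderOf g → θ g = 0) (h1 : blockPart B θ = θ) :
    ∃ c : (Res M)[G] → ℤ, θ = ∑ j ∈ ptsB M B, (c j : ℂ) • Pr M j := by
  obtain ⟨c, hc⟩ := exists_int_of_PL (mem_PL (M := M) hθ h)
  exact ⟨c, by rw [← bp_sum_pts hB, ← hc, h1]⟩

variable (p) in
include hp in
/-- The decomposition matrix has trivial elementary divisors. -/
theorem dvd_of_dvd_dec {s : Finset (Res M)[G]} (hs : s ⊆ pts M G) {n : ℤ} (hn : n ≠ 0)
    {c : (Res M)[G] → ℤ} (h : ∀ χ, n ∣ ∑ j ∈ s, c j * dec M χ j) {j : (Res M)[G]} (hj : j ∈ s) :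
    n ∣ c j := by
  classical
  have := Fintype.ofFinite G
  have hn' : (n : ℂ) ≠ 0 := Int.cast_ne_zero.2 hn
  have H := exists_int_of_PL (mem_PL (M := M) (p := p)
    (θ := (n : ℂ)⁻¹ • ∑ j ∈ s, (c j : ℂ) • Pr M j) (isGen_of_inner_int
      (classFun_smul _ (isGen_sum s fun j _ => by
        simpa [Int.cast_smul_eq_zsmul] using (isGen_Pr j).zsmul (c j)).classFun)
      fun χ hχ => ?_) fun g hg => ?_)
  · obtain ⟨a, ha⟩ := H
    refine ⟨a j, Int.cast_injective (α := ℂ) ?_⟩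
    have h1 := Pr_coeff_eq subset_rfl (c := fun i => if i ∈ s then (n : ℂ)⁻¹ * c i else 0)
      (c' := fun i => a i) (by
        rw [← ha, Finset.smul_sum, ← Finset.sum_subset hs fun i _ hi => by simp [hi]]
        exact Finset.sum_congr rfl fun i hi => by simp [hi, mul_smul]) (hs hj)
    simp only [hj, if_true] at h1
    push_cast
    rw [← h1, mul_inv_cancel_left₀ hn']
  · obtain ⟨k, hk⟩ := h ⟨χ, hχ⟩
    refine ⟨k, ?_⟩
    rw [CfsgH3.inner_smul_left, inner_sum_Pr s _ ⟨χ, hχ⟩, inv_mul_eq_iff_eq_mul₀ hn']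
    exact_mod_cast hk
  · simp only [Pi.smul_apply, Finset.sum_apply, smul_eq_mul]
    rw [Finset.sum_eq_zero fun i hi => by rw [Pr_vanish (pts_prim (hs hi)).idem hg, mul_zero],
      mul_zero]

theorem exists_int_regPart (hB : eSet B ∈ SG M G) (hχ : χ ∈ B) : ∃ c : (Res M)[G] → ℤ,
    ((p : ℂ) ^ (Nat.card G).factorization p) • regPart p χ.1 =
      ∑ j ∈ ptsB M B, (c j : ℂ) • Pr M j :=
  exists_int_Pr hB (isGen_regPart χ.2.isGen) (fun g hg => by simp [regPart_of_dvd _ hg])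
    (by rw [bp_smul, bp_regPart hB, bp_irr_of_mem hχ])

theorem card_ptsB (hB : eSet B ∈ SG M G) : (ptsB M B).card = blockRank p B := by
  have h1 : LinearIndependent ℂ fun j : ptsB M B => Pr M j.1 := by
    classical
    refine Fintype.linearIndependent_iff.2 fun c hc j => ?_
    have := Pr_indep ptsB_sub (c := fun i => if h : i ∈ ptsB M B then c ⟨i, h⟩ else 0)
      (by rw [← hc, ← Finset.sum_coe_sort]; simp) j.2
    simpa using this
  rw [blockRank_eq, ← Fintype.card_coe, ← finrank_span_eq_card h1]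
  refine congrArg (fun S : Submodule ℂ (G → ℂ) => Module.finrank ℂ S)
    (le_antisymm (Submodule.span_le.2 ?_) (Submodule.span_le.2 ?_))
  · rintro _ ⟨j, rfl⟩
    have e : Pr M j.1 = regPart p (Pr M j.1) :=
      (regPart_eq_self fun g hg => Pr_vanish (ptsB_idem j.2) hg).symm
    simp only
    rw [e, Pr_eq_sum hB (ptsB_idem j.2) (mem_ptsB.1 j.2).2, regPart_sum]
    exact Submodule.sum_mem _ fun χ hχ => by
      rw [regPart_smul]
      exact Submodule.smul_mem _ _ (Submodule.subset_span ⟨χ, mem_irrF.1 hχ, rfl⟩)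
  · rintro _ ⟨χ, hχ, rfl⟩
    obtain ⟨c, hc⟩ := exists_int_regPart (p := p) hB hχ
    rw [SetLike.mem_coe, ← Submodule.smul_mem_iff _ (p_pow_ne_zero (p := p) _), hc]
    exact Submodule.sum_mem _ fun j hj =>
      Submodule.smul_mem _ _ (Submodule.subset_span ⟨⟨j, hj⟩, rfl⟩)

omit hp [CharP (Res M) p] in
theorem deg_eq_sum (hB : eSet B ∈ SG M G) {m : (Res M)[G] → ℕ}
    (hm : Pr M (bId M B) = ∑ j ∈ ptsB M B, (m j : ℂ) • Pr M j) (hχ : χ ∈ B) :
    charDegree χ.1 = ∑ j ∈ ptsB M B, m j * dec M χ j := by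
  have := Fintype.ofFinite G
  have h := congrArg (classInner · χ.1) hm
  simp only [inner_sum_Pr, inner_Pr, dec_bId hB hχ] at h
  exact_mod_cast h

omit hp [CharP (Res M) p] in
/-- If a block has a single point `j`, its identity lies in the ideal generated by `j`. -/
theorem exists_gen [Fintype G] {j : (Res M)[G]} (hB : eSet B ∈ SG M G) (h : ptsB M B = {j}) :
    ∃ c : G → (Res M)[G], bId M B = ∑ g, single g 1 * j * c g := by
  refine idem_induction (Res M) (P := fun ε => bId M B * ε = ε →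
    ∃ c : G → (Res M)[G], ε = ∑ g, single g 1 * j * c g) (fun _ => ⟨0, by simp⟩)
    (fun e he h1 => ?_) ?_ (bId_idem' hB) (bId_idem' hB)
  · obtain ⟨i, hi, a, b, h2, h3⟩ := exists_ptsB he h1
    rw [h, Finset.mem_singleton] at hi
    refine ⟨fun g => a.coeff g • b, ?_⟩
    have : e = a * j * b := by rw [← hi, ← h3, ← mul_assoc, h2, mul_assoc, h2, he.idem]
    rw [this]
    conv_lhs => rw [eq_sum_single a]
    simp only [Finset.sum_mul, smul_mul_assoc, mul_smul_comm]
  · intro e f h1 h2 h3 h4 he hf h5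
    obtain ⟨c, hc⟩ := he (by
      have := congrArg (· * e) h5
      simpa only [mul_assoc, add_mul, h1, h4, add_zero] using this)
    obtain ⟨d, hd⟩ := hf (by
      have := congrArg (· * f) h5
      simpa only [mul_assoc, add_mul, h2, h3, zero_add] using this)
    exact ⟨c + d, by simp only [Pi.add_apply, mul_add, Finset.sum_add_distrib, ← hc, ← hd]⟩

end dec

end CfsgH4
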