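import Mathlib
import Cfsg.Agent.H4.Proj2
import Cfsg.Agent.H4.Sub
import Cfsg.Agent.H4.Ord1

/-! Counting `p`-rational characters in a block by a trace argument. -/

set_option autoImplicit false
set_option linter.unusedSectionVars false
open MonoidAlgebra Subgroup CfsgH2 Function Cfsg CfsgH3 Finset
open scoped ComplexConjugate

namespace CfsgH4
variable {G : Type*} [Group G] [Fintype G] {p : ℕ} [hp : Fact p.Prime]

theorem exists_pclass_reps (p : ℕ) (G : Type*) [Group G] [Finite G] : ∃ X : Finset G, (∀ x ∈ X, ∃ k : ℕ, orderOf x = p ^ k) ∧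
    ∀ g : G, (∃ k : ℕ, orderOf g = p ^ k) → ∃! x, x ∈ X ∧ IsConj g x := by
  classical
  have := Fintype.ofFinite G
  refine ⟨univ.filter fun x => (∃ k : ℕ, orderOf x = p ^ k) ∧ Quotient.out (ConjClasses.mk x) = x, fun x hx => (mem_filter.1 hx).2.1,
    fun g ⟨k, hk⟩ => ?_⟩
  have h1 : ConjClasses.mk (Quotient.out (ConjClasses.mk g)) = ConjClasses.mk g := Quotient.out_eq _
  have h2 := ConjClasses.mk_eq_mk_iff_isConj.1 h1.symm
  refine ⟨Quotient.out (ConjClasses.mk g), ⟨mem_filter.2 ⟨mem_univ _, ⟨k, ?_⟩, by rw [h1]⟩, h2⟩, fun y hy => ?_⟩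
  · obtain ⟨c, hc⟩ := isConj_iff.1 h2
    rw [← hc, orderOf_conj', hk]
  · rw [ConjClasses.mk_eq_mk_iff_isConj.2 hy.2, (mem_filter.1 hy.1).2.2]

variable {M : Ideal AlgInt} [hM : M.IsMaximal] [CharP (Res M) p] {B : Set (IrrCharacter G)}

omit hp [CharP (Res M) p] in
theorem Pr_comp {j : (Res M)[G]} (h : j * j = j) (α : G ≃* G) :
    ∃ m : (Res M)[G] → ℕ, (fun g => Pr M j (α g)) = ∑ i ∈ pts M G, (m i : ℂ) • Pr M i := by
  obtain ⟨e, he⟩ := exists_lift_one h
  have h1 := isLift_one (emb_mem_SG α.symm.toMonoidHom he.mem) (by rw [← map_mul, he.idem])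
  obtain ⟨m, hm⟩ := Pr_nat h1.idem'
  refine ⟨m, ?_⟩
  rw [← hm, h1.Pr_eq, he.Pr_eq]
  funext g
  rw [PC_apply, PC_apply, ← α.toEquiv.sum_comp]
  refine sum_congr rfl fun x _ => ?_
  rw [← coeff_emb (φ := α.symm.toMonoidHom) α.symm.injective]
  simp

theorem trace_aut_nonneg (hB : eSet B ∈ SG M G) (α : G ≃* G) :
    0 ≤ (∑ ξ ∈ irrF B, classInner (regPart p fun g => ξ.1 (α g)) ξ.1).re := by
  classical
  have H1 := fun (ξ : IrrCharacter G) (h : ξ ∈ B) => exists_int_regPart (p := p) hB h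
  choose! c hc using H1
  have H2 := fun (j : (Res M)[G]) (h : j * j = j) => Pr_comp h α
  choose! m hm using H2
  set q : ℂ := (p : ℂ) ^ (Nat.card G).factorization p with hq
  have d : ∀ i ∈ ptsB M B, ∀ j ∈ ptsB M B, ∑ ξ ∈ irrF B, (dec M ξ i : ℂ) * c ξ j = if j = i then q else 0 := fun i hi j hj => by
    refine Pr_coeff_eq (c := fun j => ∑ ξ ∈ irrF B, (dec M ξ i : ℂ) * c ξ j) (c' := fun j => if j = i then q else 0)
      ptsB_sub ?_ hj
    simp only [sum_smul, mul_smul, ite_smul, zero_smul, sum_ite_eq', if_pos hi]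
    rw [sum_comm, sum_congr rfl fun ξ hξ => by rw [← smul_sum, ← hc ξ (mem_irrF.1 hξ)]]
    funext g
    by_cases hg : p ∣ orderOf g
    · simp [regPart, hg, Pr_vanish (ptsB_idem hi) hg]
    · rw [Pr_eq_sum hB (ptsB_idem hi) (mem_ptsB.1 hi).2]
      simp [regPart, hg, mul_sum, mul_left_comm]
  have e : ∀ ξ ∈ irrF B, q * classInner (regPart p fun g => ξ.1 (α g)) ξ.1 =
      ∑ j ∈ ptsB M B, ∑ i ∈ ptsB M B, m j i * ((dec M ξ i : ℂ) * c ξ j) := fun ξ hξ => by
    have : q • (regPart p fun g => ξ.1 (α g)) = ∑ j ∈ ptsB M B, (c ξ j : ℂ) • fun g => Pr M j (α g) := by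
      funext g
      simpa [regPart] using congrFun (hc ξ (mem_irrF.1 hξ)) (α g)
    rw [← CfsgH3.inner_smul_left, this, CfsgH3.inner_sum_left]
    refine sum_congr rfl fun j hj => ?_
    rw [CfsgH3.inner_smul_left, hm j (ptsB_idem hj)]
    conv_lhs => rw [← bp_irr_of_mem (mem_irrF.1 hξ), ← inner_bp_comm, bp_sum_pts hB, inner_sum_Pr, mul_sum]
    exact sum_congr rfl fun i _ => by ring
  have q0 : q ≠ 0 := pow_ne_zero _ (by exact_mod_cast hp.out.ne_zero)
  have : ∑ ξ ∈ irrF B, classInner (regPart p fun g => ξ.1 (α g)) ξ.1 = ((∑ j ∈ ptsB M B, m j j : ℕ) : ℂ) := by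
    refine mul_left_cancel₀ q0 ?_
    rw [mul_sum, sum_congr rfl e, sum_comm, Nat.cast_sum, mul_sum]
    refine sum_congr rfl fun j hj => ?_
    rw [sum_comm, sum_congr rfl fun i hi => by rw [← mul_sum, d i hi j hj]]
    simp [hj, mul_comm]
  rw [this, Complex.natCast_re]
  exact Nat.cast_nonneg _

theorem trace_cmp_pow {H : Subgroup G} {z : H} (h : SubEl p H z) {b : Set (IrrCharacter H)} (hb : eSet b ∈ SG M H)
    {k : ℕ} (hk : Nat.Coprime k (Nat.card G)) (hk' : ∀ s : G, ¬ p ∣ orderOf s → s ^ k = s) :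
    0 ≤ (∑ χ : IrrCharacter G, classInner (cmp p H b z fun g => χ.1 (g ^ k)) χ.1).re := by
  have := Fintype.ofFinite H
  have hc : ∀ θ : H → ℂ, IsClassFunction H (secP p z (blockPart b θ)) := fun θ =>
    secP_classFun h.central (blockPart_classFun _ _)
  have q : ∀ θ η : H → ℂ, classInner (secP p z (blockPart b θ)) η =
      classInner θ (secP p z (blockPart b η)) := fun θ η => by
    rw [inner_secP_comm, inner_bp_comm, bp_secP hb h.central]
  have cT : ∀ {τ : G → ℂ}, IsClassFunction G τ → IsClassFunction G fun g => τ (g ^ k) := fun h g x => by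
    simp only [conj_pow, h _ x]
  have h1 : ∀ χ : IrrCharacter G, classInner (cmp p H b z fun g => χ.1 (g ^ k)) χ.1 =
      ∑ ξ : IrrCharacter H, classInner (indFun H (secP p z (blockPart b ξ.1))) χ.1 *
        classInner (fun g => χ.1 (g ^ k)) (indFun H (secP p z (blockPart b ξ.1))) := fun χ => by
    rw [inner_cmp' h hb _ χ.2.classFun, ← secP_secP, inner_secP_comm, (hc _).inner_eq_sum]
    refine sum_congr rfl fun ξ _ => ?_
    rw [inner_indFun_left _ _ χ.2.classFun, inner_indFun_right _ _ (cT χ.2.classFun), q, q, mul_comm]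
  have h2 : ∀ {Θ : G → ℂ}, IsClassFunction G Θ → ∑ χ : IrrCharacter G, classInner Θ χ.1 *
      classInner (fun g => χ.1 (g ^ k)) Θ = classInner (fun g => Θ (g ^ k)) Θ := fun {Θ} hΘ => by
    simp only [← CfsgH3.inner_smul_left, ← CfsgH3.inner_sum_left]
    congr 1
    funext g
    simpa using (congrFun hΘ.eq_sum (g ^ k)).symm
  have h3 : ∑ χ : IrrCharacter G, classInner (cmp p H b z fun g => χ.1 (g ^ k)) χ.1 = ∑ ξ ∈ irrF b,
      classInner (fun c : H => indFun H (secP p z ξ.1) (c ^ k)) (secP p z ξ.1) := by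
    simp only [h1]
    rw [sum_comm, ← sum_subset (subset_univ (irrF b))]
    · refine sum_congr rfl fun ξ hξ => ?_
      rw [h2 (indFun_classFun _ _), inner_indFun_right _ _ (cT (indFun_classFun _ _)), bp_irr_of_mem (mem_irrF.1 hξ)]
    · intro ξ _ hξ
      simp [bp_irr_of_notMem fun e => hξ (mem_irrF.2 e), indFun_zero, CfsgH3.inner_zero_left]
  have h4 : ∀ s : H, ¬ p ∣ orderOf s → ((z * s : H) : G) ^ k = z ^ k * s := fun s hs => by
    have : Commute (z : G) s := congrArg Subtype.val (mem_center_iff.1 h.central s).symm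
    rw [Subgroup.coe_mul, this.mul_pow, hk' s (by simpa using hs)]
  have zk : ∃ j, orderOf ((z : G) ^ k) = p ^ j := by
    rw [(hk.coprime_dvd_right (orderOf_dvd_natCard _)).symm.orderOf_pow]; exact h.ord
  have h5 : ∀ s : H, Commute ((z : G) ^ k) s := fun s =>
    (show Commute (z : G) s from congrArg Subtype.val (mem_center_iff.1 h.central s).symm).pow_left k
  rw [h3]
  by_cases e : IsConj ((z : G) ^ k) z
  · obtain ⟨n, hn⟩ := isConj_iff.1 e
    have nH : n ∈ normalizer (H : Set G) := mem_normalizer_of_conj_mem fun x hx => by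
      rw [← h.cent, mem_centralizer_singleton_iff, ← hn]
      simpa only [MulAut.conj_apply] using ((h5 ⟨x, hx⟩).symm.map (MulAut.conj n)).eq
    refine le_of_le_of_eq (trace_aut_nonneg (p := p) hb (H.normalizerMonoidHom ⟨n, nH⟩)) (congrArg _ (sum_congr rfl fun ξ _ => ?_))
    obtain ⟨ω, h6, h7, -⟩ := exists_shf_irr ξ h.central
    symm
    rw [← inner_secP_comm, ← inner_shf z, shf_secP h.central h.ord', h7, CfsgH3.inner_smul_right]
    have : regPart p (shf z fun c : H => indFun H (secP p z ξ.1) (c ^ k)) =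
        ω • regPart p fun g => ξ.1 (H.normalizerMonoidHom ⟨n, nH⟩ g) := by
      funext s
      simp only [regPart, Pi.smul_apply, shf_apply]
      split_ifs with hs
      · simp
      · rw [h4 s hs, ← indFun_classFun _ _ _ n, show n * ((z : G) ^ k * s) * n⁻¹ =
          (z * H.normalizerMonoidHom ⟨n, nH⟩ s : H) by
            rw [Subgroup.coe_mul, normalizerMonoidHom_apply_apply_coe]; conv_rhs => rw [← hn]
            simp [mul_assoc],
          ind_secP_apply h ξ.2.classFun ((isPPart_mul_iff h.central h.ord' _).2 (by simpa using hs))]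
        exact congrFun h7 _
    rw [this, CfsgH3.inner_smul_left, ← mul_assoc, ← inv_eq_conj_of_pow_eq_one (orderOf_pos z).ne' h6, inv_mul_cancel₀
      (fun c => by simp [c, (orderOf_pos z).ne'] at h6), one_mul]
  · rw [sum_eq_zero fun ξ _ => ?_]
    · simp
    rw [ip_congr_left (γ := 0) fun c hc => ?_, CfsgH3.inner_zero_left]
    obtain ⟨s, rfl, -, -, hs⟩ := isPPart_of_secP hc
    rw [h4 s hs]
    exact ind_secP_eq_zero _ (isPPart_mul (h5 s) zk (by simpa using hs)) e

open Classical in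
theorem rank_le_fixed (hB : IsPBlock M B) {k : ℕ} (hk : Nat.Coprime k (Nat.card G))
    (hk' : ∀ s : G, ¬ p ∣ orderOf s → s ^ k = s) : blockRank p B ≤ #{χ ∈ irrF B | ∀ g, χ.1 (g ^ k) = χ.1 g} := by
  obtain ⟨X, hX, hXrep⟩ := exists_pclass_reps p G
  obtain ⟨σ, hσ⟩ := exists_ringEquiv_apply_pow hk
  have irr : ∀ χ : IrrCharacter G, IsIrrCharacter G fun g => χ.1 (g ^ k) := fun χ => by
    simp only [← hσ _ χ.2.isGen]; exact χ.2.map_ringHom (σ : ℂ →+* ℂ)
  have h1 : (#{χ ∈ irrF B | ∀ g, χ.1 (g ^ k) = χ.1 g} : ℂ) = ∑ x ∈ X, ∑ χ ∈ irrF B, classInner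
      (indFun _ (secP p (zc x) fun c : centralizer ({x} : Set G) => χ.1 (c ^ k))) χ.1 := by
    rw [sum_comm, card_filter]; push_cast
    refine sum_congr rfl fun χ _ => ?_
    rw [← CfsgH3.inner_sum_left, sum_sections X hX hXrep (irr χ).classFun, (irr χ).inner_eq χ.2]
    simp only [funext_iff]
  obtain ⟨x, ⟨x1, h2⟩, -⟩ := hXrep 1 ⟨0, by simp⟩
  obtain rfl := isConj_one_right.1 h2
  have h3 : (blockRank p B : ℂ) = ∑ χ ∈ irrF B, classInner
      (indFun _ (secP p (zc 1) fun c : centralizer ({1} : Set G) => χ.1 (c ^ k))) χ.1 := by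
    rw [blockRank_eq_trace (eSet_mem_SG hB)]
    refine sum_congr rfl fun χ _ => ?_
    rw [mR_eq_inner']
    congr 1
    · funext g
      rw [regPart]
      split_ifs with hg
      · obtain ⟨y, hy⟩ := exists_isPPart p g
        exact (ind_secP_eq_zero _ hy fun c => (isPPart_ne_one_iff hy).2 hg (isConj_one_left.1 c)).symm
      · rw [ind_secP_res (subEl_zc ⟨0, by simp⟩) (irr χ).classFun (isPPart_one_iff.2 hg) (IsConj.refl _), hk' g hg]
    · funext g; rw [χ.2.isGen.apply_inv, Complex.conj_conj]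
  have h4 := single_le_sum (f := fun x => (∑ χ ∈ irrF B, classInner
      (indFun _ (secP p (zc x) fun c : centralizer ({x} : Set G) => χ.1 (c ^ k))) χ.1).re) (fun x hx => by
    have hs := subEl_zc (hX x hx)
    simp only [← sum_cmp_blocks (M := M) (irr _).classFun, CfsgH3.inner_sum_left]
    rw [sum_comm, Complex.re_sum]
    refine sum_nonneg fun b hb => ?_
    have hb := mem_blocksF.1 hb
    by_cases hi : IsInducedBlock M _ b B
    · rw [sum_subset (subset_univ _) fun χ _ a => inner_cmp_of_notMem hs hi (irr χ).classFun fun e => a (mem_irrF.2 e)]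
      exact trace_cmp_pow hs (eSet_mem_SG hb) hk hk'
    · rw [sum_eq_zero fun χ hχ => by
        rw [inner_cmp_comm hs (eSet_mem_SG hb) (irr χ).classFun χ.2.classFun,
          cmp_irr_of_not_induced hs hb hB (mem_irrF.1 hχ) hi, CfsgH3.inner_zero_right]]
      simp) x1
  rw [← Complex.re_sum, ← h1, ← h3] at h4
  exact_mod_cast h4

omit hM [CharP (Res M) p] in
theorem exists_gal_gen (hodd : p ≠ 2) {n : ℕ} (hn : n ≠ 0) : ∃ k₀, Nat.Coprime k₀ n ∧ k₀ ≡ 1 [MOD n / p ^ n.factorization p] ∧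
    ∀ k, Nat.Coprime k n → k ≡ 1 [MOD n / p ^ n.factorization p] → ∃ i, k ≡ k₀ ^ i [MOD n] := by
  have hc : Nat.Coprime (p ^ n.factorization p) (n / p ^ n.factorization p) :=
    (Nat.coprime_ordCompl hp.out hn).pow_left _
  have e := Nat.ordProj_mul_ordCompl_eq_self n p
  set q := p ^ n.factorization p
  have : NeZero q := ⟨pow_ne_zero _ hp.out.ne_zero⟩
  have := ZMod.isCyclic_units_of_prime_pow p hp.out hodd (n.factorization p)
  obtain ⟨u, hu⟩ := IsCyclic.exists_monoid_generator (α := (ZMod q)ˣ)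
  obtain ⟨k₀, h1, h2⟩ := Nat.chineseRemainder hc (u : ZMod q).val 1
  refine ⟨k₀, ?_, h2, fun k hk hk' => ?_⟩
  · rw [← e]
    refine Nat.Coprime.mul_right ?_ ?_
    · rw [Nat.Coprime, h1.gcd_eq]; exact ZMod.val_coe_unit_coprime u
    · rw [Nat.Coprime, h2.gcd_eq]; simp
  · obtain ⟨i, hi⟩ := hu (ZMod.unitOfCoprime k (hk.coprime_dvd_right (Dvd.intro _ e)))
    refine ⟨i, ?_⟩
    rw [← e, ← Nat.modEq_and_modEq_iff_modEq_mul hc]
    refine ⟨?_, hk'.trans (by simpa using (h2.pow i).symm)⟩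
    rw [← ZMod.natCast_eq_natCast_iff, Nat.cast_pow, (ZMod.natCast_eq_natCast_iff _ _ _).2 h1, ZMod.natCast_zmod_val,
      ← Units.val_pow_eq_pow_val, show u ^ i = _ from hi, ZMod.coe_unitOfCoprime]

theorem rank_le_prat (hodd : p ≠ 2) (hB : IsPBlock M B) : blockRank p B ≤ Nat.card {χ : IrrCharacter G // χ ∈ B ∧ ∀ k : ℕ,
    Nat.Coprime k (Nat.card G) → k ≡ 1 [MOD Nat.card G / p ^ (Nat.card G).factorization p] → ∀ g : G, χ.1 (g ^ k) = χ.1 g} := by
  classical
  obtain ⟨k₀, h1, h2, h3⟩ := exists_gal_gen hodd (Nat.card_pos (α := G)).ne'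
  refine (rank_le_fixed hB h1 fun s hs => ?_).trans ?_
  · have : orderOf s ∣ Nat.card G / p ^ (Nat.card G).factorization p :=
      (((Nat.Prime.coprime_iff_not_dvd hp.out).2 hs).symm.pow_right _).dvd_of_dvd_mul_left
        (by rw [Nat.ordProj_mul_ordCompl_eq_self]; exact orderOf_dvd_natCard s)
    simpa using pow_eq_pow_iff_modEq.2 (h2.of_dvd this)
  · rw [Nat.card_eq_fintype_card, Fintype.card_subtype]
    refine card_le_card fun χ hχ => ?_
    obtain ⟨h4, h5⟩ := mem_filter.1 hχ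
    refine mem_filter.2 ⟨mem_univ _, mem_irrF.1 h4, fun k hk hk' g => ?_⟩
    obtain ⟨i, hi⟩ := h3 k hk hk'
    rw [pow_eq_pow_iff_modEq.2 (hi.of_dvd (orderOf_dvd_natCard g))]
    clear hi
    induction i with
    | zero => simp
    | succ i ih => rw [pow_succ, pow_mul, h5, ih]

end CfsgH4
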