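import Cfsg.Agent.H4.Glaub4
import Cfsg.Agent.H4.Prin
import Cfsg.Agent.H4.Ord4
import Cfsg.Agent.H1.Solv
import Cfsg.Agent.H1.Coprime
import Cfsg.Agent.H1.PLength
import Cfsg.Agent.S4435
import Cfsg.Agent.S4436
import Cfsg.Agent.S4492

/-! Characters of `p'`-degree; blocks of `p`-solvable groups. -/

set_option autoImplicit false
set_option linter.unusedSectionVars false
open MonoidAlgebra Subgroup CfsgH2 Function Cfsg CfsgH3
open scoped ComplexConjugate commutatorElement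

universe u v

namespace CfsgH4

variable {G : Type u} [Group G] {p : ℕ}

section PPrime

theorem exists_pprime_constituent [Fintype G] {χ : G → ℂ} (hχ : IsCharacter G χ)
    (h : ¬ p ∣ charDegree χ) :
    ∃ ψ, IsIrrCharacter G ψ ∧ classInner χ ψ ≠ 0 ∧ ¬ p ∣ charDegree ψ := by
  by_contra hc
  push Not at hc
  refine h (Int.natCast_dvd_natCast.1 ?_)
  rw [deg_eq_sum_mlt hχ]
  refine Finset.dvd_sum fun η _ => ?_
  by_cases h0 : mlt χ η.1 = 0
  · rw [h0, zero_mul]; exact dvd_zero _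
  · exact Dvd.dvd.mul_left (Int.natCast_dvd_natCast.2 (hc _ η.2 (mlt_ne_zero h0))) _

theorem charDegree_ind [Fintype G] {H : Subgroup G} {ψ : H → ℂ} (hψ : IsCharacter H ψ) :
    charDegree (indFun H ψ) = H.index * charDegree ψ :=
  charDegree_eq (by rw [indFun_one, Nat.cast_mul, coe_charDegree hψ])

theorem charDegree_comp {H : Type v} [Group H] (χ : G → ℂ) (f : H →* G) :
    charDegree (fun x => χ (f x)) = charDegree χ := by
  simp only [charDegree, map_one]

theorem charDegree_res (χ : G → ℂ) (H : Subgroup G) :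
    charDegree (fun x : H => χ x) = charDegree χ := rfl

theorem exists_pprime_over [Finite G] (hp : p.Prime) {H : Subgroup G} [Fintype H]
    (hH : ¬ p ∣ H.index) {ψ : H → ℂ} (hψ : IsIrrCharacter H ψ) (h : ¬ p ∣ charDegree ψ) :
    ∃ χ, IsIrrCharacter G χ ∧ classInner (fun x : H => χ x) ψ ≠ 0 ∧ ¬ p ∣ charDegree χ := by
  have := Fintype.ofFinite G
  obtain ⟨χ, h1, h2, h3⟩ := exists_pprime_constituent (p := p) hψ.isChar.ind (by
    rw [charDegree_ind hψ.isChar]; exact fun e => (hp.dvd_mul.1 e).elim hH h)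
  refine ⟨χ, h1, ?_, h3⟩
  rwa [inner_indFun_left _ _ h1.classFun, Ne, CfsgH3.inner_eq_zero_symm] at h2

theorem eq_one_of_const [Finite G] {θ : G → ℂ} (hθ : IsIrrCharacter G θ) (h : ∀ g, θ g = θ 1) :
    θ = fun _ => 1 := by
  have := Fintype.ofFinite G
  refine hθ.eq_of_inner_ne_zero isIrr_one ?_
  have : θ = θ 1 • fun _ => (1 : ℂ) := funext fun g => by simp [h g]
  rw [this, CfsgH3.inner_smul_left, isIrr_one.inner_self, mul_one]
  exact hθ.one_ne_zero

theorem inv_eq_one_iff [Finite G] [hp : Fact p.Prime] {N P : Subgroup G} [N.Normal]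
    (hP : IsPGroup p P) (hN : ¬ p ∣ Nat.card N) :
    (∀ θ : N → ℂ, IsIrrCharacter N θ → (∀ s ∈ P, CfsgH3.cj s θ = θ) → θ = fun _ => 1) ↔
      N ⊓ centralizer (P : Set G) = ⊥ := by
  have := hP.isNilpotent
  have hc : (Nat.card N).Coprime (Nat.card P) := by
    obtain ⟨k, hk⟩ := hP.exists_card_eq
    rw [hk]; exact ((hp.out.coprime_iff_not_dvd.2 hN).symm).pow_right k
  have h1 := card_sInv_eq (G := N) (S := P) le_normalizer_of_normal hc
  constructor
  · intro h
    have h2 : Nat.card {χ : IrrCharacter N // SInv P χ.1} ≤ 1 := by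
      rw [Finite.card_le_one_iff_subsingleton]
      exact ⟨fun a b => Subtype.ext (Subtype.ext ((h _ a.1.2 (sInv_iff_cj.1 a.2)).trans
        (h _ b.1.2 (sInv_iff_cj.1 b.2)).symm))⟩
    rw [h1, Finite.card_le_one_iff_subsingleton] at h2
    rw [eq_bot_iff]
    intro x hx
    have := eq_one_of_forall_irr (g := (⟨x, hx⟩ : (N ⊓ centralizer (P : Set G) : Subgroup G)))
      fun χ hχ => by
        rw [show χ = fun _ => 1 from congrArg Subtype.val
          (h2.elim (⟨χ, hχ⟩ : IrrCharacter _) ⟨_, isIrr_one⟩)]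
    exact congrArg Subtype.val this
  · intro h θ hθ hi
    have h2 : Nat.card (IrrCharacter (N ⊓ centralizer (P : Set G) : Subgroup G)) ≤ 1 := by
      rw [Finite.card_le_one_iff_subsingleton]
      have key : ∀ a : IrrCharacter (N ⊓ centralizer (P : Set G) : Subgroup G),
          a.1 = fun _ => 1 := fun a => eq_one_of_const a.2 fun g => by
        rw [show g = 1 from Subtype.ext (mem_bot.1 (h ▸ g.2))]
      exact ⟨fun a b => Subtype.ext ((key a).trans (key b).symm)⟩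
    rw [← h1, Finite.card_le_one_iff_subsingleton] at h2
    exact congrArg (fun x => x.1.1) (h2.elim ⟨⟨θ, hθ⟩, sInv_iff_cj.2 hi⟩
      ⟨⟨_, isIrr_one⟩, sInv_iff_cj.2 fun s _ => cj_const s 1⟩)

theorem not_dvd_card_of_cent [Finite G] [Fact p.Prime] {N P : Subgroup G} [N.Normal]
    (hP : IsPGroup p P) (h : N ⊓ centralizer (P : Set G) = ⊥) : ¬ p ∣ Nat.card N := fun hd => by
  obtain ⟨k, h1, h2, h3⟩ := exists_ne_one_fixed N P hP hd
  exact h2 (mem_bot.1 (h ▸ (⟨h1, fun m hm => mul_inv_eq_iff_eq_mul.1 (h3 m hm)⟩ :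
    k ∈ N ⊓ centralizer (P : Set G))))

theorem commutator_sup_le_sup (N P : Subgroup G) [N.Normal] : ⁅N ⊔ P, N ⊔ P⁆ ≤ N ⊔ ⁅P, P⁆ := by
  have h : (N ⊔ P).map (QuotientGroup.mk' N) = P.map (QuotientGroup.mk' N) := by
    rw [Subgroup.map_sup, (map_eq_bot_iff N).2 (by rw [QuotientGroup.ker_mk']), bot_sup_eq]
  have h2 : (⁅N ⊔ P, N ⊔ P⁆ : Subgroup G).map (QuotientGroup.mk' N) ≤
      (⁅P, P⁆ : Subgroup G).map (QuotientGroup.mk' N) := by
    rw [map_commutator, map_commutator, h]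
  rwa [Subgroup.map_le_map_iff, QuotientGroup.ker_mk', sup_comm _ N] at h2

theorem exists_relIndex_sup [Finite G] [Fact p.Prime] (N : Subgroup G) [N.Normal] {P : Subgroup G}
    (hP : IsPGroup p P) : ∃ k, N.relIndex (N ⊔ P) = p ^ k := by
  rw [Subgroup.relIndex_sup_left]
  exact hP.index (N.subgroupOf P)

theorem coprime_of_index_pow [hp : Fact p.Prime] {d n k : ℕ} (hd : ¬ p ∣ d) (hn : n = p ^ k) :
    d.Coprime n := hn ▸ ((hp.out.coprime_iff_not_dvd.2 hd).symm).pow_right k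

/-- a `p'`-degree character of `NP` restricts irreducibly to `N` -/
theorem irr_resLe_sup [Finite G] [Fact p.Prime] {N P : Subgroup G} [N.Normal] (hP : IsPGroup p P)
    {ψ : (N ⊔ P : Subgroup G) → ℂ} (hψ : IsIrrCharacter _ ψ) (h : ¬ p ∣ charDegree ψ) :
    IsIrrCharacter N (resLe le_sup_left ψ) := by
  obtain ⟨k, hk⟩ := exists_relIndex_sup N hP
  exact (isIrr_resLe_iff _ _).2 (irr_res_of_coprime_deg hψ (coprime_of_index_pow h hk))

theorem cj_resLe {N T : Subgroup G} [N.Normal] (h : N ≤ T) {ψ : T → ℂ}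
    (hψ : IsClassFunction T ψ) {s : G} (hs : s ∈ T) : CfsgH3.cj s (resLe h ψ) = resLe h ψ :=
  funext fun n => hψ ⟨n, h n.2⟩ ⟨s, hs⟩

theorem inv_toSubOf {N T : Subgroup G} [N.Normal] {θ : N → ℂ} (h : T ≤ inertia θ) (t : T) :
    CfsgH3.cj t (toSubOf T θ) = toSubOf T θ := by
  rw [cj_toSubOf, h t.2]

/-- the intersection of the kernels of the characters of `p'`-degree -/
def pKer (p : ℕ) (G : Type u) [Group G] [Finite G] : Subgroup G :=
  kerSub {χ : IrrCharacter G | ¬ p ∣ charDegree χ.1}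

instance [Finite G] : (pKer p G).Normal := kerSub_normal _

theorem mem_pKer [Finite G] {g : G} :
    g ∈ pKer p G ↔ ∀ χ : IrrCharacter G, ¬ p ∣ charDegree χ.1 → χ.1 g = χ.1 1 := by
  simp only [pKer, kerSub, mem_iInf]; rfl

theorem le_pKer [Finite G] [hp : Fact p.Prime] {N P L : Subgroup G} [N.Normal] [L.Normal]
    (hP : IsPGroup p P) (h : N ⊓ centralizer (P : Set G) = ⊥) (hL : L ≤ N ⊔ ⁅P, P⁆) :
    L ≤ pKer p G := fun g hg => mem_pKer.2 fun χ hχ => by
  have := Fintype.ofFinite (N ⊔ P : Subgroup G)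
  have := Fintype.ofFinite L
  obtain ⟨ψ, h1, h2, h3⟩ := exists_pprime_constituent (p := p) (χ.2.isChar.restrict (N ⊔ P)) hχ
  have h4 := (inv_eq_one_iff hP (not_dvd_card_of_cent hP h)).2 h _ (irr_resLe_sup hP h1 h3)
    fun s hs => cj_resLe _ h1.classFun (mem_sup_right hs)
  have h5 : ψ 1 = 1 := congrFun h4 1
  have h6 : N ⊔ ⁅P, P⁆ ≤ h1.isChar.ker.map (N ⊔ P).subtype := by
    refine sup_le (fun n hn => ⟨⟨n, mem_sup_left hn⟩, (congrFun h4 ⟨n, hn⟩).trans h5.symm, rfl⟩) ?_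
    refine (commutator_mono le_sup_right le_sup_right : _ ≤ ⁅N ⊔ P, N ⊔ P⁆).trans ?_
    rw [← map_subtype_commutator]
    exact map_mono fun c hc => apply_commutator_of_deg_one h1.isChar h5 hc
  have hLH : L ≤ N ⊔ P := hL.trans (sup_le_sup_left (commutator_le_left_of_normalizer le_normalizer) _)
  refine ker_of_ip_res_one χ.2 (ip_comp_ne_zero_of_constituent (inclusion hLH)
    (χ.2.isChar.restrict (N ⊔ P)) h1 h2 isChar_one ?_) g hg
  have : (fun x => ψ (inclusion hLH x)) = fun _ => 1 := funext fun x => by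
    obtain ⟨y, hy, e⟩ := h6 (hL x.2)
    rw [show inclusion hLH x = y from Subtype.ext e.symm, ← h5]; exact hy
  rw [this, isIrr_one.inner_self]; exact one_ne_zero

theorem exists_pKer_le [Finite G] [hp : Fact p.Prime] {P : Subgroup G} (hP : IsSylowIn p P ⊤) :
    ∃ N : Subgroup G, N.Normal ∧ N ⊓ centralizer (P : Set G) = ⊥ ∧ pKer p G ≤ N ⊔ ⁅P, P⁆ := by
  set K := pKer p G with hK
  have := Fintype.ofFinite (K ⊔ P : Subgroup G)
  have hH : ¬ p ∣ (K ⊔ P).index := not_dvd_index_of_sylow hP le_sup_right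
  have key : ∀ ψ : (K ⊔ P : Subgroup G) → ℂ, IsIrrCharacter _ ψ → ¬ p ∣ charDegree ψ →
      ∀ x : (K ⊔ P : Subgroup G), (x : G) ∈ K → ψ x = ψ 1 := fun ψ hψ h x hx => by
    obtain ⟨χ, h1, h2, h3⟩ := exists_pprime_over hp.out hH hψ h
    exact (h1.isChar.restrict _).ker_of_constituent hψ h2 (mem_pKer.1 hx ⟨χ, h1⟩ h3)
  obtain ⟨M, hM, h1, k, hk⟩ := thompson_npc (G := (K ⊔ P : Subgroup G)) hp.out fun ψ hψ d hd => by
    refine or_iff_not_imp_right.2 fun h => ?_
    have h2 : ¬ p ∣ charDegree ψ := by rwa [charDegree_eq hd]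
    have h3 := congrFun (eq_one_of_const (irr_resLe_sup hP.pgroup hψ h2)
      fun g => key ψ hψ h2 _ g.2) 1
    exact_mod_cast hd.symm.trans h3
  obtain ⟨l, hl⟩ := exists_relIndex_sup K hP.pgroup
  set N := M.map (K ⊔ P).subtype with hN
  have hmem : ∀ x, x ∈ N ↔ x ∈ K ∧ ¬ p ∣ orderOf x := fun x => by
    constructor
    · rintro ⟨y, hy, rfl⟩
      have h3 := not_dvd_orderOf_of_mem h1 hy
      exact ⟨mem_of_not_dvd_orderOf (K := K.subgroupOf (K ⊔ P)) hl h3, by
        rwa [coe_subtype, orderOf_coe]⟩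
    · rintro ⟨h3, h4⟩
      exact ⟨⟨x, mem_sup_left h3⟩, mem_of_not_dvd_orderOf hk (by rwa [← orderOf_coe]), rfl⟩
  have hNn : N.Normal := ⟨fun x hx g => (hmem _).2 ⟨Normal.conj_mem inferInstance x ((hmem _).1 hx).1 g,
    by rw [orderOf_conj']; exact ((hmem _).1 hx).2⟩⟩
  have hNc : ¬ p ∣ Nat.card N := by rwa [CfsgH1.card_map_subtype]
  have hNH : N ≤ K ⊔ P := map_subtype_le _
  have hMN : N.subgroupOf (K ⊔ P) = M := comap_map_eq_self_of_injective (subtype_injective _) _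
  have hr : N.relIndex (K ⊔ P) = p ^ k := by rw [relIndex, hMN, hk]
  have hsup : N ⊔ P = K ⊔ P := by
    rw [sup_comm]; exact (hP.mono le_sup_right le_top).sup_eq_of_pow hNH hr
  refine ⟨N, hNn, (inv_eq_one_iff hP.pgroup hNc).1 fun θ hθ hi => ?_, fun x hx => ?_⟩
  · obtain ⟨η, ⟨h3, h4, -⟩, -⟩ := ext_of_hall (hθ.toSubOf hNH) (inv_toSubOf (hsup.ge.trans
      (sup_le (le_inertia hθ.classFun) hi))) (by
        rw [CfsgH1.card_subgroupOf_of_le hNH]; exact (coprime_of_index_pow hNc hr).symm)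
    have h5 : ¬ p ∣ charDegree η := fun e => hNc (e.trans (by
      rw [show charDegree η = charDegree θ from congrArg (fun z : ℂ => ⌊z.re⌋₊) (h4 1)]
      exact charDegree_dvd_card hθ))
    refine eq_one_of_const hθ fun n => ?_
    exact (h4 ⟨⟨n, hNH n.2⟩, n.2⟩).symm.trans ((key η h3 h5 _ ((hmem _).1 n.2).1).trans (h4 1))
  · refine commutator_sup_le_sup N P ?_
    rw [hsup, ← map_subtype_commutator]
    refine ⟨⟨x, mem_sup_left hx⟩, by_contra fun h => ?_, rfl⟩
    obtain ⟨μ, hμ⟩ := exists_lin_ne_one h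
    refine hμ (Units.ext ?_)
    have := key _ (isIrr_unitsHom μ) (by
      rw [charDegree_eq (n := 1) (by simp)]; exact hp.out.not_dvd_one) ⟨x, mem_sup_left hx⟩ hx
    simpa using this

end PPrime

section Fong
variable [hp : Fact p.Prime] {M : Ideal AlgInt} {B : Set (IrrCharacter G)}

theorem mem_principal_iff_psolv [Finite G] (hM : IsPModular p M) (hs : IsPSolvable p G)
    {χ : IrrCharacter G} : χ ∈ principalBlock M G ↔ ∀ n ∈ pPrimeCore p G, χ.1 n = χ.1 1 := by
  have := hM.2.1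
  have := charP_of_isPModular hM
  have := Fintype.ofFinite G
  have := Fintype.ofFinite (pPrimeCore p G)
  refine ⟨fun h => ker_of_mem_principal h (CfsgH1.not_dvd_card_pPrimeCore p G), fun h => ?_⟩
  obtain ⟨B, h1, h2, -⟩ := Cfsg.Agent.S4492.result p M hM hs _ rfl ⟨_, isIrr_one⟩ fun _ _ => rfl
  rw [← (eq_principal_iff h1).2 ((h2 _).2 (by rw [isIrr_one.inner_self]; exact one_ne_zero)), h2]
  rw [show (fun n : pPrimeCore p G => χ.1 n) = χ.1 1 • fun _ => (1 : ℂ) from
    funext fun n => by simp [h n n.2], CfsgH3.inner_smul_left, isIrr_one.inner_self, mul_one]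
  exact χ.2.one_ne_zero

theorem fong_red [Fintype G] [Fintype (pPrimeCore p G)] (hM : IsPModular p M)
    (hs : IsPSolvable p G) (hB : IsPBlock M B) :
    (∃ θ : IrrCharacter (pPrimeCore p G), (∀ g : G, CfsgH3.cj g θ.1 = θ.1) ∧
      (∀ χ : IrrCharacter G, χ ∈ B ↔ classInner (fun n : pPrimeCore p G => χ.1 n) θ.1 ≠ 0) ∧
      ∀ D, IsDefectGroup p M B D ↔ IsSylowIn p D ⊤) ∨
    ∃ (T : Subgroup G) (c : Set (IrrCharacter T)), T ≠ ⊤ ∧ pPrimeCore p G ≤ T ∧ IsPBlock M c ∧
      IsInducedBlock M T c B ∧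
      (∀ D : Subgroup T, IsDefectGroup p M c D → IsDefectGroup p M B (D.map T.subtype)) ∧
      (∀ χ, χ ∈ B ↔ ∃ ψ ∈ c, χ.1 = indFun T ψ.1) ∧
      (∀ ψ ∈ c, ∃ χ ∈ B, χ.1 = indFun T ψ.1 ∧ blockHeight p B χ.1 = blockHeight p c ψ.1) ∧
      ∀ ψ ∈ c, ∀ ψ' ∈ c, indFun T ψ.1 = indFun T ψ'.1 → ψ = ψ' := by
  have := hM.2.1
  have := charP_of_isPModular hM
  obtain ⟨χ, hχ⟩ := block_nonempty hB
  obtain ⟨θ, h1, h2⟩ := χ.2.exists_res_constituent (pPrimeCore p G)
  by_cases hT : inertia θ = ⊤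
  · have hi : ∀ g : G, CfsgH3.cj g θ = θ := fun g => mem_inertia.1 (hT ▸ mem_top g)
    obtain ⟨B', h3, h4, h5, h6⟩ := Cfsg.Agent.S4492.result p M hM hs _ rfl ⟨_, h1⟩
      fun g n => congrFun (hi g) n
    obtain rfl := block_eq_of_mem hB h3 hχ ((h4 _).2 h2)
    refine Or.inl ⟨⟨θ, h1⟩, hi, h4, fun D => ⟨fun h => ?_, fun h => ?_⟩⟩
    · obtain ⟨P, rfl⟩ := h6 D h; exact IsSylowIn.of_sylow_top P
    · obtain ⟨P, rfl⟩ := h.of_top; exact h5 P
  have := Fintype.ofFinite (inertia θ)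
  have hb := isPBlock_singleton (M := M) (CfsgH1.not_dvd_card_pPrimeCore p G) ⟨θ, h1⟩
  have hT' : ∀ g : G, g ∈ inertia θ ↔ ∀ θ₁ ∈ ({⟨θ, h1⟩} : Set (IrrCharacter (pPrimeCore p G))),
      ∀ θ' : IrrCharacter (pPrimeCore p G), (∀ n : pPrimeCore p G, θ'.1 n = θ₁.1 ⟨g * n * g⁻¹,
        Normal.conj_mem inferInstance _ n.2 g⟩) →
          θ' ∈ ({⟨θ, h1⟩} : Set (IrrCharacter (pPrimeCore p G))) := fun g => by
    constructor
    · rintro hg _ rfl θ' h
      exact Subtype.ext ((funext h).trans hg)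
    · intro h
      exact congrArg Subtype.val (h _ rfl ⟨_, h1.cj g⟩ fun _ => rfl)
  have hNT := le_inertia h1.classFun
  obtain ⟨a1, -, a3⟩ := Cfsg.Agent.S4435.result p M hM _ _ hb _ hT' hNT
  obtain ⟨c, b1, b2, b3⟩ := a3 B hB ⟨χ, hχ, _, rfl, h2⟩
  obtain ⟨B', c1, -, -, c4⟩ := a1 c b1 b2
  obtain rfl := isInducedBlock_unique b3 c1
  obtain ⟨d1, d2⟩ := Cfsg.Agent.S4436.result p M hM _ _ hb _ hT' hNT c b1 b2 B b3
  refine Or.inr ⟨_, c, hT, hNT, b1, b3, d1, c4, d2, fun ψ hψ ψ' hψ' e => ?_⟩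
  obtain ⟨ξ, e1, _, rfl, e2⟩ := b2
  have key : ∀ ψ ∈ c, classInner (resLe hNT ψ.1) θ ≠ 0 := fun ψ hψ => by
    have := Fintype.ofFinite ((pPrimeCore p G).subgroupOf (inertia θ))
    rw [← ip_res_toSubOf hNT]
    refine over_of_sameBlock (M := M) (p := p) (θ := ⟨_, h1.toSubOf hNT⟩) (by
      rw [CfsgH1.card_subgroupOf_of_le hNT]; exact CfsgH1.not_dvd_card_pPrimeCore p G)
      (sameBlock_of_mem b1 e1 hψ) ?_
    rw [ip_res_toSubOf hNT]; exact e2
  exact Subtype.ext (clifford_corr_inj h1 rfl hNT ψ.2 (key ψ hψ) ψ'.2 (key ψ' hψ') e)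

theorem exists_cj_of_defectGroup [Finite G] (hM : IsPModular p M) (hB : IsPBlock M B)
    {D E : Subgroup G} (hD : IsDefectGroup p M B D) (hE : IsDefectGroup p M B E) :
    ∃ g, CfsgH2.cj g D = E := by
  have := hM.2.1
  have := charP_of_isPModular hM
  obtain ⟨g, -, h⟩ := ((isDefectGroup_iff hB).1 hD).exists_cj_eq ((isDefectGroup_iff hB).1 hE)
  exact ⟨g, h⟩

omit hp in
theorem exists_mid [Finite G] {N A : Subgroup G} [Fintype N] [Fintype A] (h : N ≤ A) {χ : G → ℂ}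
    (hχ : IsCharacter G χ) {θ : N → ℂ} (hc : classInner (fun n : N => χ n) θ ≠ 0) :
    ∃ φ, IsIrrCharacter A φ ∧ classInner (fun n : A => χ n) φ ≠ 0 ∧ classInner (resLe h φ) θ ≠ 0 := by
  have h1 : classInner (fun n : A => χ n) (indFun (N.subgroupOf A) (toSubOf A θ)) ≠ 0 := by
    rw [Ne, CfsgH3.inner_eq_zero_symm, ip_ind_toSubOf h _ (hχ.restrict A).classFun,
      CfsgH3.inner_eq_zero_symm]
    exact hc
  obtain ⟨φ, h2, h3, h4⟩ := (hχ.restrict A).exists_constituent_of_ip h1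
  refine ⟨φ, h2, h3, ?_⟩
  rwa [Ne, CfsgH3.inner_eq_zero_symm, ip_ind_toSubOf h _ h2.classFun,
    CfsgH3.inner_eq_zero_symm] at h4

omit hp in
/-- over an invariant character with coprime abelian quotient, degrees do not grow -/
theorem deg_eq_of_coprime_comm [Finite G] {N : Subgroup G} [N.Normal] [Fintype N] {θ : N → ℂ}
    (hθ : IsIrrCharacter N θ) (hi : ∀ g : G, CfsgH3.cj g θ = θ)
    (hc : Nat.Coprime N.index (Nat.card N)) (hab : ∀ a b : G ⧸ N, a * b = b * a) {φ : G → ℂ}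
    (hφ : IsIrrCharacter G φ) (h : classInner (fun n : N => φ n) θ ≠ 0) : φ 1 = θ 1 := by
  have := Fintype.ofFinite G
  obtain ⟨η, ⟨h1, h2, -⟩, -⟩ := ext_of_hall hθ hi hc
  have h3 : (fun n : N => η n) = θ := funext h2
  obtain ⟨β, h4, rfl⟩ := gallagher_surj h1.isChar (h3 ▸ hθ) hφ (h3 ▸ h)
  simp only [Pi.mul_apply, QuotientGroup.mk_one, h4.deg_one_of_comm hab, one_mul]
  exact h2 1

theorem nu_le_of_inv [Finite G] [Fintype (pPrimeCore p G)] (hs : IsPSolvable p G)
    {θ : pPrimeCore p G → ℂ} (hθ : IsIrrCharacter _ θ) (hi : ∀ g : G, CfsgH3.cj g θ = θ)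
    {χ : G → ℂ} (hχ : IsIrrCharacter G χ) (hc : classInner (fun n : pPrimeCore p G => χ n) θ ≠ 0)
    {P : Subgroup G} (hP : IsSylowIn p P ⊤) : nu p χ ≤ (center P).index.factorization p := by
  let N := pPrimeCore p G
  let π := QuotientGroup.mk' N
  let Q := pCore p (G ⧸ N)
  let A := (Q ⊓ centralizer (Q : Set (G ⧸ N))).comap π
  have : A.Normal := Normal.comap inferInstance _
  have := Fintype.ofFinite A
  have := Fintype.ofFinite (N.subgroupOf A)
  have hNA : N ≤ A := fun n hn => by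
    rw [mem_comap, show π n = 1 from (QuotientGroup.eq_one_iff n).2 hn]; exact one_mem _
  have hN := CfsgH1.not_dvd_card_pPrimeCore p G
  obtain ⟨φ, h1, h2, h3⟩ := exists_mid hNA hχ.isChar hc
  obtain ⟨k, hk⟩ : ∃ k, N.relIndex A = p ^ k := by
    rw [← CfsgH1.card_map_mk', map_comap_eq_self_of_surjective (QuotientGroup.mk'_surjective _)]
    exact ((CfsgH1.isPGroup_pCore p _).to_le inf_le_left).exists_card_eq
  have h4 : φ 1 = θ 1 := deg_eq_of_coprime_comm (hθ.toSubOf hNA) (inv_toSubOf fun g _ => hi g)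
    (by rw [CfsgH1.card_subgroupOf_of_le hNA]; exact (coprime_of_index_pow hN hk).symm)
    (fun a b => by
      obtain ⟨a, rfl⟩ := QuotientGroup.mk_surjective a
      obtain ⟨b, rfl⟩ := QuotientGroup.mk_surjective b
      rw [← QuotientGroup.mk_mul, ← QuotientGroup.mk_mul, QuotientGroup.eq, mem_subgroupOf,
        ← QuotientGroup.eq_one_iff]
      have := b.2.2 _ a.2.1
      change π (((a : G) * b)⁻¹ * (b * a)) = 1
      rw [map_mul, map_inv, map_mul, map_mul, this, inv_mul_cancel]) h1 (by rwa [ip_res_toSubOf hNA])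
  obtain ⟨e, h5, h6⟩ := exists_deg_mul h1 hχ h2
  have h7 : charDegree χ = e * charDegree θ := charDegree_eq (by
    rw [h5, h4, Nat.cast_mul, coe_charDegree hθ.isChar])
  have he : e ≠ 0 := by rintro rfl; exact (charDegree_pos hχ).ne' (by simpa using h7)
  have h8 : nu p χ ≤ A.index.factorization p := by
    rw [nu, h7, Nat.factorization_mul he (charDegree_pos hθ).ne', Finsupp.add_apply,
      Nat.factorization_eq_zero_of_not_dvd fun h => hN (h.trans (charDegree_dvd_card hθ)), add_zero]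
    exact (Nat.factorization_le_iff_dvd he index_ne_zero_of_finite).2 h6 p
  have h9 : (center P).map P.subtype ≤ A := by
    rintro _ ⟨z, hz, rfl⟩
    have hQ : Q ≤ P.map π := by
      have := hP.map π
      rw [map_top_of_surjective _ (QuotientGroup.mk'_surjective _)] at this
      exact this.le_of_normalizer (CfsgH1.isPGroup_pCore p _) le_top le_normalizer_of_normal'
    have : π z ∈ centralizer (Q : Set (G ⧸ N)) := fun q hq => by
      obtain ⟨y, hy, rfl⟩ := hQ hq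
      rw [← map_mul, ← map_mul]
      exact congrArg (fun x : P => π x) (mem_center_iff.1 hz ⟨y, hy⟩)
    exact ⟨CfsgH1.IsPSolvable.centralizer_pCore_le (CfsgH1.IsPSolvable.quotient hs N)
      (CfsgH1.pPrimeCore_quotient_pPrimeCore p G) this, this⟩
  have h10 := (Nat.factorization_le_iff_dvd Nat.card_pos.ne' Nat.card_pos.ne').2
    (card_dvd_of_le h9) p
  rw [CfsgH1.card_map_subtype] at h10
  have h11 := factorization_card_add_index (p := p) A
  have h12 := factorization_card_add_index (p := p) (center P)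
  have h13 : (Nat.card P).factorization p = (Nat.card G).factorization p := by
    rw [hP.card_eq, card_top, Nat.Prime.factorization_pow hp.out, Finsupp.single_eq_same]
  omega

omit hp in
theorem index_center_congr {H : Type v} [Group H] (e : G ≃* H) :
    (center G).index = (center H).index := by
  rw [← index_comap_of_surjective (f := (e : G →* H)) _ e.surjective]
  congr 1
  ext x
  simp only [mem_comap, mem_center_iff, MonoidHom.coe_coe]
  refine ⟨fun h g => ?_, fun h g => e.injective (by rw [map_mul, map_mul, h])⟩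
  obtain ⟨g, rfl⟩ := e.surjective g
  rw [← map_mul, ← map_mul, h]

theorem fong_height (hM : IsPModular p M) (n : ℕ) : ∀ (G : Type u) [Group G] [Finite G],
    Nat.card G ≤ n → IsPSolvable p G → ∀ B : Set (IrrCharacter G), IsPBlock M B →
    ∀ P : Subgroup G, IsDefectGroup p M B P → ∀ χ ∈ B,
      blockHeight p B χ.1 ≤ (center P).index.factorization p := by
  induction n with
  | zero => intro G _ _ h; exact absurd (Nat.card_pos (α := G)) (by omega)
  | succ n ih =>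
  intro G _ _ hn hs B hB P hP χ hχ
  have := hM.2.1
  have := charP_of_isPModular hM
  have := Fintype.ofFinite G
  have := Fintype.ofFinite (pPrimeCore p G)
  rcases fong_red hM hs hB with ⟨θ, h1, h2, h3⟩ | ⟨T, c, h1, -, h2, -, h3, h4, h5, -⟩
  · exact (Nat.sub_le _ _).trans (nu_le_of_inv hs θ.2 h1 χ.2 ((h2 χ).1 hχ) ((h3 P).1 hP))
  · obtain ⟨ψ, h6, h7⟩ := (h4 χ).1 hχ
    obtain ⟨χ', -, h8, h9⟩ := h5 ψ h6
    obtain ⟨D, hD⟩ := exists_isDefectGroup p h2
    obtain ⟨g, rfl⟩ := exists_cj_of_defectGroup hM hB (h3 D hD) hP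
    rw [h7, ← h8, h9, ← index_center_congr (cjEquiv g _),
      ← index_center_congr (D.equivMapOfInjective _ T.subtype_injective)]
    refine ih T ?_ (CfsgH1.IsPSolvable.subgroup hs T) c h2 D hD ψ h6
    have := card_lt_of_lt (lt_top_iff_ne_top.2 h1)
    rw [card_top] at this; omega

end Fong

end CfsgH4
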