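import Cfsg.Agent.H4.PSol

/-! The theorem of Kiyota and Okuyama. -/

set_option autoImplicit false
set_option linter.unusedSectionVars false
open MonoidAlgebra Subgroup CfsgH2 Function Cfsg CfsgH3
open scoped ComplexConjugate commutatorElement

universe u v

namespace CfsgH4

variable {G : Type u} [Group G] {p : ℕ}

section KO
variable [Finite G] [hp : Fact p.Prime]

theorem exists_conj_of_pregular {Q : Subgroup G} [Q.Normal] (hQ : IsPGroup p Q) {a b : G}
    (ha : ¬ p ∣ orderOf a) (hb : ¬ p ∣ orderOf b) (h : a⁻¹ * b ∈ Q) :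
    ∃ z ∈ Q, z * a * z⁻¹ = b := by
  obtain ⟨k, hk⟩ := hQ.exists_card_eq
  have hd : Disjoint Q (zpowers b) :=
    CfsgH1.disjoint_of_isPGroup_of_coprime hQ (coprime_card_zpowers hb)
  have := hQ.isNilpotent
  have h0 : b * a⁻¹ ∈ Q := by
    have := Normal.conj_mem inferInstance _ h a
    simpa [mul_assoc] using this
  obtain ⟨z, hz, h1⟩ := CfsgH1.sz_le (N := Q) (A := zpowers b) (B := zpowers a)
    le_normalizer_of_normal' hd (zpowers_le.2 (by
      have := mul_mem (mem_sup_left (T := zpowers b) (inv_mem h0)) (mem_sup_right (mem_zpowers b))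
      simpa using this)) (hk ▸ (coprime_card_zpowers ha).pow_right k) (Or.inr inferInstance)
  have h2 : z * a * z⁻¹ ∈ zpowers b := h1 (smul_mem_pointwise_smul _ _ _ (mem_zpowers a))
  refine ⟨z, hz, ?_⟩
  have h3 : z * a * z⁻¹ * b⁻¹ ∈ Q := by
    have := mul_mem (mul_mem hz (Normal.conj_mem inferInstance _ (inv_mem hz) a)) (inv_mem h0)
    simpa [mul_assoc] using this
  exact mul_inv_eq_one.1 (disjoint_def.1 hd h3 (mul_mem h2 (inv_mem (mem_zpowers b))))

theorem dvd_orderOf_mk {N : Subgroup G} [N.Normal] (hN : ¬ p ∣ Nat.card N) {g : G} :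
    p ∣ orderOf (g : G ⧸ N) ↔ p ∣ orderOf g := by
  refine ⟨fun h => h.trans (orderOf_map_dvd (QuotientGroup.mk' N) g), fun h => by_contra fun h' => ?_⟩
  have h1 : g ^ orderOf (g : G ⧸ N) ∈ N := by
    rw [← QuotientGroup.eq_one_iff, QuotientGroup.mk_pow, pow_orderOf_eq_one]
  have h2 : orderOf g ∣ orderOf (g : G ⧸ N) * Nat.card N := by
    rw [orderOf_dvd_iff_pow_eq_one, pow_mul, ← orderOf_dvd_iff_pow_eq_one]
    exact Subgroup.orderOf_dvd_natCard _ h1
  exact (hp.out.dvd_mul.1 (h.trans h2)).elim h' hN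

omit hp

/-- component of `f` in a coset -/
noncomputable def cmp (N : Subgroup G) (f : ℂ[G]) (q : G ⧸ N) : ℂ[G] := tr {k : G | (k : G ⧸ N) = q} f

open Classical in
theorem coeff_cmp (N : Subgroup G) (f : ℂ[G]) (q : G ⧸ N) (k : G) :
    (cmp N f q).coeff k = if (k : G ⧸ N) = q then f.coeff k else 0 := by
  rw [cmp, coeff_tr]; congr

theorem cmp_mul (N : Subgroup G) [N.Normal] [Fintype (G ⧸ N)] (a b : ℂ[G]) (s : G ⧸ N) :
    cmp N (a * b) s = ∑ q, cmp N a q * cmp N b (q⁻¹ * s) := by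
  classical
  have := Fintype.ofFinite G
  refine ga_ext fun g => ?_
  simp only [coeff_sum_apply, coeff_cmp, coeff_mul_left, ite_mul, zero_mul]
  rw [Finset.sum_comm]
  simp only [Finset.sum_ite_eq, Finset.mem_univ, if_true, QuotientGroup.mk_mul,
    QuotientGroup.mk_inv, mul_right_inj]
  split_ifs <;> simp

theorem cjA_cmp (N : Subgroup G) [N.Normal] {f : ℂ[G]} (hf : f ∈ Fix ℂ ⊤) (z : G) (q : G ⧸ N) :
    cjA ℂ z (cmp N f q) = cmp N f (z * q * (z : G ⧸ N)⁻¹) := by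
  classical
  refine ga_ext fun g => ?_
  rw [coeff_cjA, coeff_cmp, coeff_cmp, (classFun_coeff hf).conj']
  congr 1
  simp only [QuotientGroup.mk_mul, QuotientGroup.mk_inv, eq_iff_iff]
  constructor
  · rintro rfl; group
  · intro h; rw [h]; group

theorem res_mul' (K : Subgroup G) {a b : ℂ[G]} (ha : a ∈ Supp ℂ K) (hb : b ∈ Supp ℂ K) :
    res K (a * b) = res K a * res K b := by
  apply emb_injective K.subtype_injective
  rw [map_mul, emb_res, emb_res, emb_res, tr_of_mem_Supp ha, tr_of_mem_Supp hb,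
    tr_of_mem_Supp (mul_mem ha hb)]

theorem ev_ext0 (K : Subgroup G) (ψ : K → ℂ) (a : ℂ[G]) :
    ev (extendByZero K ψ) a = ev ψ (res K a) := by
  have := Fintype.ofFinite G
  have := Fintype.ofFinite K
  rw [ev_apply, ev_apply]
  simp only [mul_comm (a.coeff _), coeff_res]
  rw [sum_ext0_mul]

theorem ev_congr_of_Supp {K : Subgroup G} {a : ℂ[G]} (ha : a ∈ Supp ℂ K) {φ ψ : G → ℂ}
    (h : ∀ k ∈ K, φ k = ψ k) : ev φ a = ev ψ a := by
  have := Fintype.ofFinite G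
  rw [ev_apply, ev_apply]
  refine Finset.sum_congr rfl fun g _ => ?_
  by_cases hg : g ∈ K
  · rw [h g hg]
  · rw [ha g hg, zero_mul, zero_mul]

theorem coeff_one_mul_eSetS {N : Subgroup G} (θ : IrrCharacter N) {b : ℂ[G]} :
    (b * eSetS N {θ}).coeff 1 = (Nat.card N : ℂ)⁻¹ * θ.1 1 * ev (extendByZero N θ.1) b := by
  have := Fintype.ofFinite G
  have := Fintype.ofFinite N
  rw [coeff_mul_left, ev_apply, Finset.mul_sum]
  refine Finset.sum_congr rfl fun g _ => ?_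
  by_cases hg : g ∈ N
  · rw [mul_one, ext0_of_mem _ _ hg, show g⁻¹ = ((⟨g, hg⟩⁻¹ : N) : G) from rfl, coeff_eSetS_coe,
      ← coeff_eSet, eSet_singleton, eChi, coeff_ofFun, θ.2.isChar.apply_inv, Complex.conj_conj]
    ring
  · rw [ext0_of_not_mem _ _ hg, (eSetS_mem_Z N {θ}).1 _ (by simpa using hg)]; simp

theorem ko_term {N H : Subgroup G} [N.Normal] (hNH : N ≤ H) {θ : IrrCharacter N} {ψ : H → ℂ}
    (hψ : IsCharacter H ψ) (he : ∀ n : N, ψ ⟨n, hNH n.2⟩ = θ.1 n) {f : ℂ[G]} (hf : f ∈ Fix ℂ ⊤)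
    (hfe : f * eSetS N {θ} = f) (hs : ∀ g, f.coeff g⁻¹ = conj (f.coeff g)) {h z : G} (hh : h ∈ H)
    (hz : z ∈ H) (h0 : f.coeff h ≠ 0) :
    0 < (ev (extendByZero H ψ) (cmp N f h * cjA ℂ z (cmp N f (h : G ⧸ N)⁻¹))).re := by
  classical
  have := Fintype.ofFinite G
  have hS : ∀ k ∈ H, cmp N f k ∈ Supp ℂ H := fun k hk x hx => by
    rw [coeff_cmp, if_neg]
    exact fun e => hx (by simpa using mul_mem hk (hNH (QuotientGroup.eq.1 e.symm)))
  have hS1 := hS h hh
  have hS2 : cmp N f (h : G ⧸ N)⁻¹ ∈ Supp ℂ H := hS h⁻¹ (inv_mem hh)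
  have hirr : IsIrrCharacter (N.subgroupOf H) fun x => ψ x :=
    (isIrr_resLe_iff hNH ψ).1 (by rw [show resLe hNH ψ = θ.1 from funext he]; exact θ.2)
  have hF : res H (cmp N f h) ∈ Fix ℂ (N.subgroupOf H) := mem_Fix.2 fun n hn x => by
    have := congrArg (fun a => a.coeff ((n : G) * x * (n : G)⁻¹)) (cjA_cmp N hf n h)
    simp only [coeff_cjA, (QuotientGroup.eq_one_iff (n : G)).2 hn, one_mul, inv_one, mul_one] at this
    simp only [coeff_res, coe_mul, coe_inv]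
    rw [← this]; congr 1; group
  have key : ∀ b ∈ Supp ℂ H, ev (extendByZero H ψ) (cmp N f h * b) =
      ev (extendByZero H ψ) (cmp N f h) / ψ 1 * ev (extendByZero H ψ) b := fun b hb => by
    rw [ev_ext0, res_mul' H hS1 hb, ev_mul_of_res_irr hψ hirr hF, om_apply, ev_ext0, ev_ext0]
  have h1 : ev (extendByZero H ψ) (cjA ℂ z (cmp N f (h : G ⧸ N)⁻¹)) =
      conj (ev (extendByZero H ψ) (cmp N f h)) := by
    rw [ev_apply, ev_apply, map_sum,
      ← Equiv.sum_comp ((Equiv.inv G).trans (MulAut.conj z).toEquiv)]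
    refine Finset.sum_congr rfl fun g _ => ?_
    simp only [Equiv.trans_apply, Equiv.inv_apply, MulEquiv.toEquiv_eq_coe, EquivLike.coe_coe,
      MulAut.conj_apply, coeff_cjA, map_mul]
    rw [ext0_conj_mem hψ.classFun _ hz, show z⁻¹ * (z * g⁻¹ * z⁻¹) * z = g⁻¹ by group, coeff_cmp,
      coeff_cmp, hs]
    congr 1
    · simp only [QuotientGroup.mk_inv, inv_inj]; split_ifs <;> simp
    · by_cases hg : g ∈ H
      · rw [ext0_of_mem _ _ hg, ext0_of_mem _ _ (inv_mem hg), ← hψ.apply_inv]; rfl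
      · rw [ext0_of_not_mem _ _ hg, ext0_of_not_mem _ _ (by simpa using hg), map_zero]
  have h2 : ev (extendByZero H ψ) (cmp N f h) ≠ 0 := fun e => h0 (by
    have hb : cmp N f h * single h⁻¹ 1 ∈ Supp ℂ N := fun x hx => by
      rw [coeff_mul_single_apply, coeff_cmp, if_neg, zero_mul]
      intro e'
      rw [inv_inv, QuotientGroup.mk_mul, mul_eq_right] at e'
      exact hx ((QuotientGroup.eq_one_iff x).1 e')
    have h3 := key _ (single_mem_Supp (inv_mem hh) 1)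
    rw [e, zero_div, zero_mul, ev_congr_of_Supp hb (ψ := extendByZero N θ.1) fun k hk => by
      rw [ext0_of_mem _ _ hk, ext0_of_mem _ _ (hNH hk), ← he]] at h3
    have h4 := coeff_one_mul_eSetS θ (b := cmp N f h * single h⁻¹ 1)
    have h5 := coeff_one_mul_eSetS θ (b := f * single h⁻¹ 1)
    have h6 : ev (extendByZero N θ.1) (f * single h⁻¹ 1) =
        ev (extendByZero N θ.1) (cmp N f h * single h⁻¹ 1) := by
      rw [ev_apply, ev_apply]
      refine Finset.sum_congr rfl fun g _ => ?_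
      by_cases hg : g ∈ N
      · rw [coeff_mul_single_apply, coeff_mul_single_apply, coeff_cmp, if_pos]
        rw [inv_inv, QuotientGroup.mk_mul, (QuotientGroup.eq_one_iff g).2 hg, one_mul]
      · rw [ext0_of_not_mem _ _ hg, mul_zero, mul_zero]
    rw [h6, h3, mul_zero, mul_comm_of_Fix_top hf, mul_assoc, hfe, coeff_single_mul_apply] at h5
    simpa using h5)
  have hz' : cjA ℂ z (cmp N f (h : G ⧸ N)⁻¹) ∈ Supp ℂ H := by
    have := cjA_mem_Supp hS2 z
    rwa [cj_eq_of_mem hz] at this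
  obtain ⟨d, hd, hd'⟩ := θ.2.exists_deg
  rw [key _ hz', h1, show ψ 1 = d from (he 1).trans hd', div_mul_eq_mul_div, Complex.mul_conj,
    ← Complex.ofReal_natCast, ← Complex.ofReal_div, Complex.ofReal_re]
  exact div_pos (Complex.normSq_pos.2 h2) (by exact_mod_cast hd)

theorem exists_inv_ext {N L : Subgroup G} [N.Normal] [hL : L.Normal] (hNL : N ≤ L) {θ : N → ℂ}
    (hθ : IsIrrCharacter N θ) (hi : ∀ g : G, CfsgH3.cj g θ = θ)
    (hc : Nat.Coprime (N.relIndex L) (Nat.card N)) : ∃ η : L → ℂ, IsIrrCharacter L η ∧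
      (∀ n : N, η ⟨n, hNL n.2⟩ = θ n) ∧ ∀ g : G, CfsgH3.cj g η = η := by
  obtain ⟨η, ⟨h1, h2, h3⟩, h4⟩ := ext_of_hall (hθ.toSubOf hNL) (inv_toSubOf fun g _ => hi g)
    (by rwa [CfsgH1.card_subgroupOf_of_le hNL])
  have h5 : ∀ n : N, η ⟨n, hNL n.2⟩ = θ n := fun n => h2 ⟨⟨n, hNL n.2⟩, n.2⟩
  refine ⟨η, h1, h5, fun g => h4 _ (h1.cj g) (fun n => ?_) ?_⟩
  · exact (h5 ⟨_, Normal.conj_mem inferInstance _ (mem_subgroupOf.1 n.2) g⟩).trans
      (congrFun (hi g) ⟨_, mem_subgroupOf.1 n.2⟩)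
  · have h6 := detOrder_comp_dvd h1.isChar (MulAut.conjNormal (H := L) g).toMonoidHom
    have h7 := detOrder_dvd_card (hθ.toSubOf hNL).isChar
    rw [CfsgH1.card_subgroupOf_of_le hNL, ← h3] at h7
    exact hc.coprime_dvd_right (h6.trans h7)

include hp in
theorem ko_inv (hs : IsPSolvable p G) {θ : IrrCharacter (pPrimeCore p G)}
    (hi : ∀ g : G, CfsgH3.cj g θ.1 = θ.1) {f : ℂ[G]} (hf : f ∈ Fix ℂ ⊤) (hff : f * f = f)
    (hfe : f * eSetS _ {θ} = f) (hs' : ∀ g, f.coeff g⁻¹ = conj (f.coeff g))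
    (h0 : ∀ g, p ∣ orderOf g → f.coeff g = 0) : f ∈ Supp ℂ (pPrimeCore p G) := by
  classical
  let N := pPrimeCore p G
  let L := pPrimePCore p G
  let Q := pCore p (G ⧸ N)
  have hN := CfsgH1.not_dvd_card_pPrimeCore p G
  have hNL : N ≤ L := CfsgH1.pPrimeCore_le_pPrimePCore
  have hL : ∀ x, x ∈ L ↔ (x : G ⧸ N) ∈ Q := fun x => Iff.rfl
  have hQ := CfsgH1.isPGroup_pCore p (G ⧸ N)
  obtain ⟨k, hk⟩ := CfsgH1.exists_relIndex_pPrimePCore (p := p) (G := G)
  have := Fintype.ofFinite (G ⧸ N)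
  obtain ⟨η, h1, h2, hη⟩ := exists_inv_ext hNL θ.2 hi (coprime_of_index_pow hN hk).symm
  have hreg : ∀ g, f.coeff g ≠ 0 → ¬ p ∣ orderOf (g : G ⧸ N) := fun g hg h =>
    hg (h0 g ((dvd_orderOf_mk hN).1 h))
  have term : ∀ (h : G) (r : G ⧸ N), h * r ∈ Q → f.coeff h ≠ 0 → cmp N f r ≠ 0 →
      0 < (ev (extendByZero L η) (cmp N f h * cmp N f r)).re := fun h r hr hh hr0 => by
    obtain ⟨x, hx⟩ := ga_ne_zero_iff.1 hr0
    obtain ⟨rfl, hx'⟩ : (x : G ⧸ N) = r ∧ f.coeff x ≠ 0 := coeff_tr_ne_zero.1 hx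
    obtain ⟨z, hz, e⟩ := exists_conj_of_pregular hQ (a := (h : G ⧸ N)⁻¹)
      (by rw [orderOf_inv]; exact hreg h hh) (hreg x hx') (by rwa [inv_inv])
    obtain ⟨z, rfl⟩ := QuotientGroup.mk_surjective z
    have hLH : L ≤ L ⊔ zpowers h := le_sup_left
    obtain ⟨ψ, a1, a2⟩ := ext_of_cyclic (h1.toSubOf hLH) (inv_toSubOf fun g _ => hη g)
      (isCyclic_quot_of_sup (s := ⟨h, mem_sup_right (mem_zpowers h)⟩) (by
        apply map_injective (subtype_injective _)
        rw [Subgroup.map_sup, map_subgroupOf_eq_of_le hLH, MonoidHom.map_zpowers, map_top_subtype]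
        rfl))
    have a3 := ko_term (hNL.trans hLH) a1.isChar (fun n => (a2 ⟨⟨n, _⟩, hNL n.2⟩).trans (h2 n)) hf hfe hs' (mem_sup_right (mem_zpowers h)) (hLH hz) hh
    rw [cjA_cmp N hf, e] at a3
    rwa [ev_congr_of_Supp (K := L) (ψ := extendByZero _ ψ)]
    · intro y hy
      by_contra hc
      obtain ⟨a, b, c1, c2, rfl⟩ := exists_of_coeff_mul_ne_zero hc
      refine hy ((hL _).2 ?_)
      rw [QuotientGroup.mk_mul, (coeff_tr_ne_zero.1 c1).1, (coeff_tr_ne_zero.1 c2).1]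
      exact hr
    · intro y hy
      rw [ext0_of_mem _ _ hy, ext0_of_mem _ _ (hLH hy)]
      exact (a2 ⟨⟨y, _⟩, hy⟩).symm
  intro g hg
  by_contra hg0
  have hgL : g ∉ L := fun h => hg (mem_of_pregular_of_relIndex le_normalizer_of_normal' hk h
    fun e => hg0 (h0 g e))
  obtain ⟨y, hy, hc⟩ : ∃ y ∈ Q, y * g ≠ g * y := by
    by_contra hc
    push Not at hc
    exact hgL (CfsgH1.IsPSolvable.centralizer_pCore_le (CfsgH1.IsPSolvable.quotient hs N)
      (CfsgH1.pPrimeCore_quotient_pPrimeCore p G) hc)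
  obtain ⟨y, rfl⟩ := QuotientGroup.mk_surjective y
  set s : G ⧸ N := (g : G ⧸ N)⁻¹ * y * g * (y : G ⧸ N)⁻¹ with hsd
  have hsQ : s ∈ Q := mul_mem (Normal.conj_mem' inferInstance _ hy (g : G ⧸ N))
    (inv_mem hy)
  have hs1 : s ≠ 1 := fun e => hc (by
    rw [hsd, mul_inv_eq_one, mul_assoc, inv_mul_eq_iff_eq_mul] at e; exact e)
  have h5 : cmp N f s = 0 := ga_ext fun x => by
    rw [coeff_cmp]
    split_ifs with e
    · by_contra hx
      exact hs1 (eq_one_of_mem_pgroup_of_coprime hQ hsQ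
        ((hp.out.coprime_iff_not_dvd.2 (e ▸ hreg x hx)).symm))
    · rfl
  have h6 := congrArg (ev (extendByZero L η)) (cmp_mul N f f s)
  rw [hff, h5, map_zero, map_sum] at h6
  refine sum_ne_zero_of_re (fun q => ?_) (g : G ⧸ N)⁻¹ ?_ h6.symm
  · by_cases e1 : cmp N f q = 0
    · simp [e1]
    by_cases e2 : cmp N f (q⁻¹ * s) = 0
    · simp [e2]
    obtain ⟨x, hx⟩ := ga_ne_zero_iff.1 e1
    obtain ⟨rfl, hx'⟩ : (x : G ⧸ N) = q ∧ f.coeff x ≠ 0 := coeff_tr_ne_zero.1 hx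
    exact (term x _ (by simpa using hsQ) hx' e2).le
  · refine term g⁻¹ _ (by simpa using hsQ) (by rw [hs']; simpa using hg0)
      (ga_ne_zero_iff.2 ⟨y * g * y⁻¹, coeff_tr_ne_zero.2 ⟨?_, ?_⟩⟩)
    · simp [hsd, mul_assoc]
    · rwa [classFun_coeff hf]

theorem coeff_inv_of_idem {a : ℂ[G]} (ha : a ∈ Fix ℂ ⊤) (haa : a * a = a) (g : G) :
    a.coeff g⁻¹ = conj (a.coeff g) := by
  obtain ⟨U, rfl⟩ := exists_eSet_of_idem ha haa
  simp only [coeff_eSet, blockCoeff_eq, map_mul, map_sum, map_inv₀, map_natCast]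
  congr 1
  refine Finset.sum_congr rfl fun χ _ => ?_
  rw [χ.2.isChar.apply_inv, χ.2.isChar.conj_one]

theorem coeff_one_mul_comm' (a b : ℂ[G]) : (a * b).coeff 1 = (b * a).coeff 1 := by
  have := Fintype.ofFinite G
  rw [coeff_mul_left, coeff_mul_right]
  simp [mul_comm]

theorem cjA_eSetS_singleton {N : Subgroup G} [N.Normal] (g : G) (θ : IrrCharacter N) :
    cjA ℂ g⁻¹ (eSetS N {θ}) = eSetS N {⟨_, θ.2.cj g⟩} := ga_ext fun x => by
  rw [coeff_cjA, inv_inv]
  by_cases hx : x ∈ N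
  · refine (coeff_eSetS_coe N _ ⟨_, Normal.conj_mem inferInstance _ hx g⟩).trans
      (Eq.trans ?_ (coeff_eSetS_coe N _ ⟨x, hx⟩).symm)
    rw [← coeff_eSet, ← coeff_eSet, eSet_singleton, eSet_singleton, eChi, eChi, coeff_ofFun, coeff_ofFun]
    simp only [cj_apply_one]
    rfl
  · rw [(eSetS_mem_Z N _).1 x hx, (eSetS_mem_Z N _).1 _ fun h => hx (by
      simpa [mul_assoc] using Normal.conj_mem inferInstance _ h g⁻¹)]

include hp in
theorem kiyota_okuyama {M : Ideal AlgInt} [M.IsMaximal] [CharP (Res M) p] (n : ℕ) :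
    ∀ (G : Type u) [Group G] [Finite G], Nat.card G ≤ n → IsPSolvable p G → ∀ a ∈ Fix ℂ (⊤ : Subgroup G),
    a * a = a → (∀ g, p ∣ orderOf g → a.coeff g = 0) → a ∈ SG M G := by
  induction n with
  | zero => intro G _ _ h; exact absurd (Nat.card_pos (α := G)) (by omega)
  | succ n ih =>
  intro G _ _ hn hs a ha haa h0
  let N := pPrimeCore p G
  have hN := CfsgH1.not_dvd_card_pPrimeCore p G
  have h1 : a = ∑ θ ∈ irrF (Set.univ : Set (IrrCharacter N)), a * eSetS N {θ} := by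
    rw [← Finset.mul_sum, ← eSetS_eq_sum, eSetS, eSet_univ, map_one, mul_one]
  rw [h1]
  refine Subring.sum_mem _ fun θ _ => ?_
  set e := eSetS N {θ} with he
  have hee : e * e = e := eSetS_idem _ _
  have h2 : a * e * (a * e) = a * e := by
    rw [mul_assoc, ← mul_assoc e, ← mul_comm_of_Fix_top ha, mul_assoc, hee, ← mul_assoc, haa]
  have h3 : ∀ g, p ∣ orderOf g → (a * e).coeff g = 0 := fun g hg => by
    by_contra hc
    obtain ⟨x, y, c1, c2, rfl⟩ := exists_of_coeff_mul_ne_zero hc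
    refine c1 (h0 x ?_)
    rwa [← dvd_orderOf_mk hN, QuotientGroup.mk_mul, (QuotientGroup.eq_one_iff y).2
      (mem_of_coeff_ne_zero (eSetS_mem_Z N _).1 c2), mul_one, dvd_orderOf_mk hN] at hg
  have h4 : e ∈ Fix ℂ (inertia θ.1) := fun g hg => by
    have := cjA_eSetS_singleton g⁻¹ θ
    rw [inv_inv] at this
    rw [he, this]; congr 2
    exact Subtype.ext (inv_mem hg)
  have h5 : a * e ∈ Fix ℂ (inertia θ.1) := mul_mem (Fix_anti le_top ha) h4
  by_cases hT : inertia θ.1 = ⊤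
  · rw [hT] at h5
    have h6 := ko_inv hs (fun g => mem_inertia.1 (hT ▸ mem_top g)) h5 h2 (by rw [mul_assoc, hee])
      (coeff_inv_of_idem h5 h2) h3
    have h7 : e * (a * e) = a * e := by
      rw [← mul_assoc, ← mul_comm_of_Fix_top ha, mul_assoc, hee]
    rcases (isPrim_eSetS_singleton θ).prim _ ⟨h6, Fix_anti le_top h5⟩ h2 with h | h
    · rw [← h7, h]; exact zero_mem _
    · rw [← h7, h]; exact eSetS_mem_SG (isPBlock_singleton hN θ)
  have h6 : a * e ∈ Supp ℂ (inertia θ.1) := fun g hg => by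
    have h7 : (a * e * single g⁻¹ 1 * eSetS N {⟨_, θ.2.cj g⁻¹⟩}) = a * e * single g⁻¹ 1 := by
      rw [← cjA_eSetS_singleton, cjA_eq, inv_inv]
      simp only [mul_assoc]
      rw [← mul_assoc (single g⁻¹ 1), single_mul_single, inv_mul_cancel, one_mul, ← one_def, one_mul,
        ← mul_assoc e, hee]
    have h8 : e * (a * e * single g⁻¹ 1) = a * e * single g⁻¹ 1 := by
      rw [← mul_assoc, ← mul_assoc, ← mul_comm_of_Fix_top ha, mul_assoc a, hee]
    have h9 : eSetS N {⟨_, θ.2.cj g⁻¹⟩} * e = 0 := by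
      rw [he, eSetS_mul_eSetS, Set.singleton_inter_eq_empty.2 fun h => hg
        (inv_mem_iff.1 (mem_inertia.2 (congrArg Subtype.val (Set.mem_singleton_iff.1 h)))), eSetS,
        eSet_eq_sum]
      simp [irrF]
    have h10 : (a * e * single g⁻¹ 1).coeff 1 = 0 := by
      rw [← h8, ← h7, ← mul_assoc, coeff_one_mul_comm', ← mul_assoc, h9, zero_mul]; rfl
    simpa [coeff_mul_single_apply] using h10
  rw [← tr_of_mem_Supp h6, ← emb_res]
  refine emb_mem_SG _ (ih _ ?_ (CfsgH1.IsPSolvable.subgroup hs _) _ (res_mem_Ztop h5).2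
    (by rw [← res_mul' _ h6 h6, h2]) fun g hg => h3 g (by rwa [orderOf_coe]))
  have := card_lt_of_lt (lt_top_iff_ne_top.2 hT)
  rw [card_top] at this; omega

end KO

end CfsgH4
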