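import Cfsg.Agent.H4.PSol2

/-! Canonical extensions in principal blocks. -/

set_option autoImplicit false
set_option linter.unusedSectionVars false
open MonoidAlgebra Subgroup CfsgH2 Function Cfsg CfsgH3
open scoped ComplexConjugate commutatorElement

universe u v

namespace CfsgH4

section Gal

theorem mem_adjoin_of_fixed {ζ a : ℂ} (hζ : IsIntegral ℚ ζ) (ha : IsIntegral ℚ a)
    (h : ∀ σ : ℂ ≃+* ℂ, σ ζ = ζ → σ a = a) : a ∈ IntermediateField.adjoin ℚ ({ζ} : Set ℂ) := by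
  let K := algebraicClosure ℚ ℂ
  let a' : K := ⟨a, mem_algebraicClosure_iff'.mpr ha⟩
  let ζ' : K := ⟨ζ, mem_algebraicClosure_iff'.mpr hζ⟩
  have : IsAlgClosure ℚ K := algebraicClosure.isAlgClosure ℚ ℂ
  have : IsGalois ℚ K := IsAlgClosure.isGalois ℚ K
  have h1 : a' ∈ IntermediateField.adjoin ℚ ({ζ'} : Set K) := by
    rw [← InfiniteGalois.fixedField_fixingSubgroup (IntermediateField.adjoin ℚ ({ζ'} : Set K)),
      IntermediateField.mem_fixedField_iff]
    intro τ hτ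
    obtain ⟨σ, hσ⟩ := exists_ringEquiv_extends K τ.toRingEquiv
    have h2 : τ ζ' = ζ' := (IntermediateField.mem_fixingSubgroup_iff _ _).1 hτ ζ'
      (IntermediateField.mem_adjoin_simple_self ℚ ζ')
    exact Subtype.ext ((hσ a').symm.trans (h σ ((hσ ζ').trans (congrArg Subtype.val h2))))
  have h3 := IntermediateField.adjoin_map ℚ ({ζ'} : Set K) K.val
  rw [Set.image_singleton] at h3
  exact h3.le ⟨a', h1, rfl⟩

theorem fixed_of_mem_adjoin {ζ a : ℂ} (σ : ℂ →+* ℂ) (h : σ ζ = ζ)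
    (ha : a ∈ IntermediateField.adjoin ℚ ({ζ} : Set ℂ)) : σ a = a := by
  let F : IntermediateField ℚ ℂ := (σ.eqLocusField (RingHom.id ℂ)).toIntermediateField
    fun q => by change σ (q : ℂ) = (q : ℂ); exact map_ratCast σ q
  have : IntermediateField.adjoin ℚ ({ζ} : Set ℂ) ≤ F :=
    IntermediateField.adjoin_simple_le_iff.2 h
  exact this ha

theorem exp_pow_eq_one {m : ℕ} (hm : m ≠ 0) :
    Complex.exp (2 * Real.pi * Complex.I / m) ^ m = 1 := (Complex.isPrimitiveRoot_exp m hm).pow_eq_one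

theorem isIntegral_exp {m : ℕ} (hm : m ≠ 0) :
    IsIntegral ℚ (Complex.exp (2 * Real.pi * Complex.I / m)) :=
  ((Complex.isPrimitiveRoot_exp m hm).isIntegral (Nat.pos_of_ne_zero hm)).tower_top

end Gal

variable {G : Type u} [Group G] [Finite G] {p : ℕ} [hp : Fact p.Prime]

/-- A `p`-rational character has determinantal order prime to `p`, for odd `p`. -/
theorem not_dvd_detOrder_of_rat (hp2 : p ≠ 2) {θ : G → ℂ} (hθ : IsCharacter G θ) {m : ℕ}
    (hm : ¬ p ∣ m) (h : ∀ g, θ g ∈ IntermediateField.adjoin ℚ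
      ({Complex.exp (2 * Real.pi * Complex.I / m)} : Set ℂ)) : ¬ p ∣ detOrder θ := by
  have hm0 : m ≠ 0 := by rintro rfl; exact hm (dvd_zero p)
  obtain ⟨σ, h1, h2⟩ := exists_ringEquiv_pow_fix hp.out.ne_zero hm0
    (hp.out.coprime_iff_not_dvd.2 hm) ((Nat.coprime_primes Nat.prime_two hp.out).2 hp2.symm)
  have h3 : (fun g => (σ : ℂ →+* ℂ) (θ g)) = θ :=
    funext fun g => fixed_of_mem_adjoin _ (h2 _ (exp_pow_eq_one hm0)) (h g)
  obtain ⟨δ, hδ⟩ := exists_detHom hθ
  have h4 : ∀ g, σ (δ g) = δ g := fun g => by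
    have := detChar_gal hθ (σ : ℂ →+* ℂ) g
    rw [h3, hδ] at this
    exact this.symm
  rw [detOrder_eq hδ]
  rintro ⟨t, ht⟩
  have h0 : 0 < orderOf δ := orderOf_pos δ
  have h5 : orderOf δ ∣ t := orderOf_lin_dvd_iff.2 fun g => by
    have a : ((δ g : ℂ) ^ t) ^ p = 1 := by
      rw [← pow_mul, mul_comm, ← ht, ← Units.val_pow_eq_pow_val, lin_pow_orderOf, Units.val_one]
    have b := h1 _ a
    rw [map_pow, h4, sq, left_eq_mul₀ (pow_ne_zero _ (δ g).ne_zero)] at b
    exact Units.ext (by rw [Units.val_pow_eq_pow_val, b, Units.val_one])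
  have h6 : 0 < t := Nat.pos_of_ne_zero (by rintro rfl; simp [ht] at h0)
  have := Nat.le_of_dvd h6 h5
  have := hp.out.two_le
  nlinarith

variable {M : Ideal AlgInt} [hM : M.IsMaximal] [CharP (Res M) p]

omit hp [CharP (Res M) p] in
theorem principal_comp_equiv {H : Type v} [Group H] [Finite H] (e : H ≃* G) {ξ : IrrCharacter G}
    (h : ξ ∈ principalBlock M G) :
    (⟨fun x => ξ.1 (e x), ξ.2.comp_equiv e⟩ : IrrCharacter H) ∈ principalBlock M H := by
  rw [← trSet_principal e.symm]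
  exact (irrEquiv_mem_trSet e.symm).2 h

omit hp [CharP (Res M) p] in
theorem toSubOf_mem_principal {N T : Subgroup G} (h : N ≤ T) {θ : IrrCharacter N}
    (hθ : θ ∈ principalBlock M N) :
    (⟨toSubOf T θ.1, θ.2.toSubOf h⟩ : IrrCharacter (N.subgroupOf T)) ∈ principalBlock M _ :=
  principal_comp_equiv (subgroupOfEquivOfLe h) hθ

theorem mem_principal_of_pquot {N : Subgroup G} [N.Normal] [Fintype N] {k : ℕ}
    (hk : N.index = p ^ k) {θ : IrrCharacter N} (hθ : θ ∈ principalBlock M N) {χ : IrrCharacter G}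
    (h : classInner (fun n : N => χ.1 n) θ.1 ≠ 0) : χ ∈ principalBlock M G := by
  have h3 := cover_unique_of_pquot le_top le_normalizer_top (mem_of_pregular_of_index hk)
    (isPrim_bIdS (isPBlock_principal (M := M))) (isPrim_bId (isPBlock_blockOf χ))
    (isPrim_bId isPBlock_principal)
    ((cover_iff (isPBlock_blockOf χ) isPBlock_principal).1 ⟨χ, mem_blockOf_self χ, θ, hθ, h⟩)
    (principal_cover N)
  rw [← bId_injective (isPBlock_blockOf χ) isPBlock_principal h3]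
  exact mem_blockOf_self χ

theorem mem_principal_of_pquot_ext {N : Subgroup G} [N.Normal] {k : ℕ}
    (hk : N.index = p ^ k) {θ : IrrCharacter N} (hθ : θ ∈ principalBlock M N) {χ : IrrCharacter G}
    (h : ∀ n : N, χ.1 n = θ.1 n) : χ ∈ principalBlock M G := by
  have := Fintype.ofFinite N
  refine mem_principal_of_pquot hk hθ ?_
  rw [funext h, θ.2.inner_self]; exact one_ne_zero

variable (M p) in
/-- The normalised character is `1` modulo `M` where `N` acts with a `p'`-orbit. -/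
def PP (N : Subgroup G) (η : G → ℂ) : Prop :=
  ∀ x, ¬ p ∣ (centralizer {x}).relIndex N → red M (η x / η 1) = 1

omit hp [CharP (Res M) p] [Finite G] in
theorem PP.comp {N : Subgroup G} {η : G → ℂ} (h : PP p M N η) (φ : G ≃* G)
    (hφ : N.map φ.toMonoidHom = N) : PP p M N (fun x => η (φ x)) := by
  intro x hx
  have e : centralizer {x} = (centralizer {φ x}).comap φ.toMonoidHom := by
    ext y
    simp only [mem_comap, mem_centralizer_singleton_iff, MulEquiv.coe_toMonoidHom, ← map_mul,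
      EmbeddingLike.apply_eq_iff_eq]
  rw [e, relIndex_comap, hφ] at hx
  simpa using h _ hx

omit hp [CharP (Res M) p] in
theorem PP.gal {N : Subgroup G} {η : G → ℂ} (h : PP p M N η) (hη : IsCharacter G η)
    (σ : ℂ →+* ℂ) : PP p M N (fun x => σ (η x)) := by
  obtain ⟨k, -, hk⟩ := exists_pow_of_ringHom σ (Nat.card_pos (α := G)).ne'
  have h1 : ∀ g, σ (η g) = η (g ^ k) := fun g => hη.isGen.map_eq_apply_pow fun z hz =>
    hk z (pow_eq_one_of_dvd hz (orderOf_dvd_natCard g))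
  intro x hx
  simp only [h1, one_pow]
  refine h _ fun hd => hx (hd.trans (relIndex_dvd_of_le_left _ fun y hy => ?_))
  rw [mem_centralizer_singleton_iff] at hy ⊢
  exact ((show Commute y x from hy).pow_right k).eq

theorem PP.unique {N : Subgroup G} [N.Normal]
    (hx : ∀ g : G, ∃ x, x⁻¹ * g ∈ N ∧ ¬ p ∣ (centralizer {x}).relIndex N) {θ : N → ℂ}
    (hθ : IsIrrCharacter N θ) (hd : ¬ p ∣ charDegree θ) {η η' : G → ℂ} (hη : IsCharacter G η)
    (hη' : IsCharacter G η') (he : ∀ n : N, η n = θ n) (he' : ∀ n : N, η' n = θ n)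
    (h : PP p M N η) (h' : PP p M N η') (ho : ¬ p ∣ detOrder η) (ho' : ¬ p ∣ detOrder η') :
    η' = η := by
  obtain ⟨ν, h1, h2⟩ := exists_lin_of_ext' hη hη' hθ he he'
  have hd1 : η 1 = charDegree θ := by rw [coe_charDegree hθ.isChar]; exact he 1
  have h3 : ∀ g, ν g = 1 := fun g => by
    obtain ⟨x, a, b⟩ := hx g
    have c : ν g = ν x := by
      have := h1 _ a
      rw [map_mul, map_inv, inv_mul_eq_one] at this; exact this.symm
    have hν : (ν g : ℂ) ^ Nat.card G = 1 := by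
      rw [← Units.val_pow_eq_pow_val, ← map_pow, pow_card_eq_one', map_one, Units.val_one]
    have e := h' x b
    have f := h x b
    rw [h2, h2, map_one, Units.val_one, one_mul, mul_div_assoc, ← c,
      red_mul (mem_Loc_of_isIntegral _ (IsIntegral.of_pow Nat.card_pos (hν ▸ isIntegral_one)))
        (mem_Loc_of_red_ne_zero (f ▸ one_ne_zero)), f, mul_one] at e
    have i := detChar_twist hη ν hd1 g
    rw [← funext h2] at i
    have j : ∀ {χ : G → ℂ}, detChar χ g ^ detOrder χ = 1 := fun {χ} =>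
      congrFun (pow_orderOf_eq_one (detChar χ)) g
    have k : (ν g : ℂ) ^ (charDegree θ * (detOrder η * detOrder η')) = 1 := by
      have := congrArg (· ^ (detOrder η * detOrder η')) i
      simp only [mul_pow] at this
      rw [pow_mul', j, one_pow, pow_mul (detChar η g), j, one_pow, mul_one, ← pow_mul] at this
      exact this.symm
    exact Units.ext (eq_one_of_red_eq_one (p := p) (fun hh => (hp.out.dvd_mul.1 hh).elim hd
      fun hh => (hp.out.dvd_mul.1 hh).elim ho ho') k e)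
  funext g; rw [h2, h3, Units.val_one, one_mul]

theorem exists_PP_of_ext {N : Subgroup G} [N.Normal]
    (hx : ∀ g : G, ∃ x, x⁻¹ * g ∈ N ∧ ¬ p ∣ (centralizer {x}).relIndex N) {θ : IrrCharacter N}
    (hθ : θ ∈ principalBlock M N) (hd : ¬ p ∣ charDegree θ.1) (ho : ¬ p ∣ detOrder θ.1)
    {ψ : G → ℂ} (hψ : IsIrrCharacter G ψ) (he : ∀ n : N, ψ n = θ.1 n) :
    ∃ η : IrrCharacter G, η ∈ principalBlock M G ∧ (∀ n : N, η.1 n = θ.1 n) ∧ PP p M N η.1 ∧
      ¬ p ∣ detOrder η.1 := by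
  obtain ⟨lam, h1, h2⟩ := ad_twist hx hθ hψ.isChar he
  have htw : ∀ (μ : G →* ℂˣ) {χ : G → ℂ}, IsIrrCharacter G χ →
      IsIrrCharacter G (fun g => (μ g : ℂ) * χ g) := fun μ χ hχ => by
    simpa only [mul_comm] using hχ.mul_linear μ
  let η₀ : IrrCharacter G := ⟨_, htw lam hψ⟩
  have he₀ : ∀ n : N, η₀.1 n = θ.1 n := fun n => by
    change (lam n : ℂ) * ψ n = _; rw [h1 _ n.2, he, Units.val_one, one_mul]
  have hirr : IsIrrCharacter N (fun n : N => η₀.1 n) := by rw [funext he₀]; exact θ.2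
  have hB₀ : η₀ ∈ principalBlock M G := mem_principal_of_red_om fun g =>
    h2 _ (cs_mem_SG _ _) (Fix_anti le_top (cs_mem_Fix _ _))
  have hP₀ : PP p M N η₀.1 := fun x hx => by
    have a := h2 _ (cs_mem_SG N x) (cs_mem_Fix N x)
    have b := om_mem_Loc_of_res_irr (M := M) η₀.2.isChar hirr (cs_mem_Fix N x) (cs_mem_SG N x)
    change red M (om η₀.1 _) = _ at a
    rw [ev_cs _ _ (fun _ _ => rfl), mul_one] at a
    have c := red_natCast_ne_zero (M := M) hx
    have d := red_div' b c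
    rw [a, div_self c, om_apply, ev_cs _ _ (fun n _ => η₀.2.classFun _ _), mul_div_assoc,
      mul_div_cancel_left₀ _ (ne_zero_of_red_ne_zero c)] at d
    exact d
  obtain ⟨δ, hδ⟩ := exists_detHom η₀.2.isChar
  obtain ⟨s, t, hst, -, ⟨k, hk⟩, ht, ⟨j, hj⟩, -⟩ := exists_ppart_decomp p δ
  have hsk : ∀ g, s g ^ p ^ k = 1 := fun g => hk ▸ lin_pow_orderOf s g
  have hsN : ∀ n ∈ N, s n = 1 := fun n hn => by
    have a : (δ n : ℂ) = detChar θ.1 ⟨n, hn⟩ := by
      rw [← detChar_res η₀.2.isChar he₀, hδ]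
    have b : δ n ^ detOrder θ.1 = 1 := Units.ext (by
      rw [Units.val_pow_eq_pow_val, a]; exact congrFun (pow_orderOf_eq_one (detChar θ.1)) _)
    have c : s n ^ detOrder θ.1 = 1 := by
      rw [← hj]; change (δ n ^ j) ^ _ = 1
      rw [← zpow_natCast, ← zpow_mul, mul_comm, zpow_mul, zpow_natCast, b, one_zpow]
    have := pow_gcd_eq_one.2 ⟨c, hsk n⟩
    rwa [(Nat.Coprime.pow_right k (hp.out.coprime_iff_not_dvd.2 ho).symm).gcd_eq_one, pow_one] at this
  obtain ⟨m, hm⟩ := exists_pow_eq_self_of_coprime (x := s⁻¹) (n := charDegree θ.1) (by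
    rw [show orderOf s⁻¹ = p ^ k from (orderOf_inv s).trans hk]
    exact Nat.Coprime.pow_right k (hp.out.coprime_iff_not_dvd.2 hd).symm)
  let ν := s⁻¹ ^ m
  have hνd : ν ^ charDegree θ.1 = s⁻¹ := (pow_right_comm s⁻¹ m _).trans hm
  have hνN : ∀ n ∈ N, ν n = 1 := fun n hn => by
    change (s n)⁻¹ ^ m = 1; rw [hsN n hn, inv_one, one_pow]
  have hνp : ∀ g, (ν g : ℂ) ^ p ^ k = 1 := fun g => by
    change (((s g)⁻¹ ^ m : ℂˣ) : ℂ) ^ _ = 1
    rw [← Units.val_pow_eq_pow_val, ← pow_mul, mul_comm, pow_mul, inv_pow, hsk, inv_one, one_pow,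
      Units.val_one]
  have hνr : ∀ g, red M (ν g) = 1 := fun g => red_eq_one_of_pow_eq_one (hνp g)
  have hνL : ∀ g, (ν g : ℂ) ∈ Loc M := fun g => mem_Loc_of_red_ne_zero (hνr g ▸ one_ne_zero)
  have hd1 : η₀.1 1 = charDegree θ.1 := by rw [coe_charDegree θ.2.isChar]; exact he₀ 1
  refine ⟨⟨_, htw ν η₀.2⟩, mem_principal_iff_cent.2 fun g => ?_, fun n => ?_, fun x hx => ?_, ?_⟩
  · have a : centralChar (fun g => (ν g : ℂ) * η₀.1 g) g = ν g * centralChar η₀.1 g := by
      simp only [centralChar, map_one, Units.val_one, one_mul]; ring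
    change red M (centralChar (fun g => (ν g : ℂ) * η₀.1 g) g) = _
    rw [a, red_mul (hνL g) (mem_Loc_of_isIntegral _ (isIntegral_centralChar η₀.2 g)), hνr, one_mul]
    exact mem_principal_iff_cent.1 hB₀ g
  · change (ν n : ℂ) * η₀.1 n = _; rw [hνN _ n.2, he₀, Units.val_one, one_mul]
  · have a := hP₀ x hx
    change red M ((ν x : ℂ) * η₀.1 x / ((ν 1 : ℂ) * η₀.1 1)) = 1
    rw [map_one, Units.val_one, one_mul, mul_div_assoc,
      red_mul (hνL x) (mem_Loc_of_red_ne_zero (a ▸ one_ne_zero)), a, hνr, one_mul]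
  · have a : detChar (fun g => (ν g : ℂ) * η₀.1 g) = fun g => (t g : ℂ) := funext fun g => by
      rw [detChar_twist η₀.2.isChar ν hd1, hδ, hst, ← Units.val_pow_eq_pow_val,
        show ν g ^ charDegree θ.1 = (s g)⁻¹ from DFunLike.congr_fun hνd g, ← Units.val_mul]
      simp
    change ¬ p ∣ detOrder (fun g => (ν g : ℂ) * η₀.1 g)
    rwa [detOrder_eq a]

omit hp [CharP (Res M) p] hM in
theorem detOrder_comp_equiv {H : Type v} [Group H] [Finite H] {χ : G → ℂ} (hχ : IsCharacter G χ)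
    (e : H ≃* G) : detOrder (fun x => χ (e x)) = detOrder χ := by
  have a : detChar (fun x => χ (e x)) = fun x => detChar χ (e x) :=
    funext fun x => detChar_comp hχ e.toMonoidHom x
  unfold detOrder
  rw [a]
  refine orderOf_eq_orderOf_iff.2 fun n => ⟨fun h => funext fun g => ?_, fun h => funext fun x => ?_⟩
  · simpa using congrFun h (e.symm g)
  · simpa using congrFun h (e x)

theorem exists_PP {N : Subgroup G} [N.Normal]
    (hx : ∀ g : G, ∃ x, x⁻¹ * g ∈ N ∧ ∃ P ≤ N, ¬ p ∣ P.relIndex N ∧ P ≤ centralizer {x})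
    {θ : IrrCharacter N}
    (hθ : θ ∈ principalBlock M N) (hd : ¬ p ∣ charDegree θ.1) (ho : ¬ p ∣ detOrder θ.1) :
    ∃ η : IrrCharacter G, η ∈ principalBlock M G ∧ (∀ n : N, η.1 n = θ.1 n) ∧ PP p M N η.1 ∧
      ¬ p ∣ detOrder η.1 := by
  have hx' : ∀ g : G, ∃ x, x⁻¹ * g ∈ N ∧ ¬ p ∣ (centralizer {x}).relIndex N := fun g => by
    obtain ⟨x, h1, P, -, h3, h4⟩ := hx g
    exact ⟨x, h1, fun h => h3 (h.trans (relIndex_dvd_of_le_left _ h4))⟩
  have hinv := inv_of_principal hx' hθ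
  obtain ⟨ψ, h1, h2⟩ := ext_of_sylow θ.2 hinv fun q hq => by
    have := Fact.mk hq
    obtain ⟨S⟩ : Nonempty (Sylow q G) := inferInstance
    have hNH : N ≤ N ⊔ (S : Subgroup G) := le_sup_left
    obtain ⟨k, hk⟩ := exists_relIndex_sup N S.isPGroup'
    suffices h : ∃ χ : (N ⊔ (S : Subgroup G) : Subgroup G) → ℂ, IsIrrCharacter _ χ ∧
        ∀ n : N.subgroupOf (N ⊔ (S : Subgroup G)), χ n = toSubOf _ θ.1 n by
      obtain ⟨χ, a, b⟩ := h
      exact ⟨_, hNH, χ, (hq.coprime_iff_not_dvd.2 fun h => S.not_dvd_index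
        (h.trans (index_dvd_of_le le_sup_right))).symm, a.isChar, fun n => b ⟨⟨n, hNH n.2⟩, n.2⟩⟩
    by_cases e : q = p
    · subst e
      obtain ⟨χ, ⟨a, b, -⟩, -⟩ := ext_coprime (θ.2.toSubOf hNH)
        (inv_toSubOf fun g _ => hinv g) (d := charDegree θ.1) (coe_charDegree θ.2.isChar).symm (by
          change Nat.Coprime (N.relIndex _) _
          rw [hk, toSubOf_eq_comp hNH, detOrder_comp_equiv θ.2.isChar]
          exact Nat.Coprime.pow_left k (hq.coprime_iff_not_dvd.2 fun h =>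
            (hq.dvd_mul.1 h).elim ho hd))
      exact ⟨χ, a, b⟩
    · refine ad_ext (p := p) (M := M) (θ := ⟨_, θ.2.toSubOf hNH⟩) ?_ (fun g => ?_)
        (toSubOf_mem_principal hNH hθ)
      · change ¬ p ∣ N.relIndex _
        rw [hk]
        exact fun h => e ((Nat.prime_dvd_prime_iff_eq hp.out hq).1 (hp.out.dvd_of_dvd_pow h)).symm
      · obtain ⟨x, a, P, b, c, d⟩ := hx g
        have hx : x ∈ N ⊔ (S : Subgroup G) := by
          have := mul_mem g.2 (inv_mem (hNH a))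
          simpa using this
        refine ⟨⟨x, hx⟩, a, P.subgroupOf _, fun y hy => b hy, by rwa [relIndex_subgroupOf hNH],
          fun y hy => ?_⟩
        rw [mem_centralizer_singleton_iff]
        exact Subtype.ext (mem_centralizer_singleton_iff.1 (d hy))
  exact exists_PP_of_ext hx' hθ hd ho h1 h2

omit hM [CharP (Res M) p] in
theorem normal_sup_cent (N : Subgroup G) [hN : N.Normal] (Q : Sylow p N) :
    (N ⊔ centralizer (((Q : Subgroup N).map N.subtype : Subgroup G) : Set G)).Normal := by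
  refine normal_of_sup (fun k hk a ha => ?_) (fun k hk a ha => ?_) (Sylow.normalizer_sup_eq_top Q)
  · obtain ⟨y, hy, z, hz, rfl⟩ := mem_sup_of_normal_left.1 ha
    rw [show k * (y * z) * k⁻¹ = k * y * k⁻¹ * (k * z * k⁻¹) by group]
    exact mul_mem (mem_sup_left (hN.conj_mem y hy k)) (mem_sup_right
      ((mem_normalizer_iff.1 (CfsgH2.normalizer_le_normalizer_centralizer _ hk) z).1 hz))
  · exact mul_mem (mul_mem (mem_sup_left hk) ha) (inv_mem (mem_sup_left hk))

/-- The canonical extension. -/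
theorem exists_canonical_ext {N : Subgroup G} [hN : N.Normal] {θ : IrrCharacter N}
    (hinv : ∀ g : G, CfsgH3.cj g θ.1 = θ.1) (hθ : θ ∈ principalBlock M N)
    (hd : ¬ p ∣ charDegree θ.1) (ho : ¬ p ∣ detOrder θ.1) (Q : Sylow p N) {a : ℕ}
    (ha : (N ⊔ centralizer (((Q : Subgroup N).map N.subtype : Subgroup G) : Set G)).index = p ^ a) :
    ∃ χ : IrrCharacter G, χ ∈ principalBlock M G ∧ (∀ n : N, χ.1 n = θ.1 n) ∧
      ∀ σ : ℂ →+* ℂ, (∀ n, σ (θ.1 n) = θ.1 n) → ∀ g, σ (χ.1 g) = χ.1 g := by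
  have hL := normal_sup_cent N Q
  set Q' := (Q : Subgroup N).map N.subtype with hQ'
  set L := N ⊔ centralizer (Q' : Set G)
  have hNL : N ≤ L := le_sup_left
  have hx : ∀ g : L, ∃ x, x⁻¹ * g ∈ N.subgroupOf L ∧ ∃ P ≤ N.subgroupOf L,
      ¬ p ∣ P.relIndex (N.subgroupOf L) ∧ P ≤ centralizer {x} := fun g => by
    obtain ⟨y, hy, z, hz, e⟩ := mem_sup_of_normal_left.1 g.2
    refine ⟨⟨z, mem_sup_right hz⟩, ?_, Q'.subgroupOf L, fun w hw => map_subtype_le (Q : Subgroup N) hw, ?_,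
      fun w hw => ?_⟩
    · change z⁻¹ * g ∈ N
      rw [← e, ← mul_assoc]; exact hN.conj_mem' y hy z
    · rw [relIndex_subgroupOf hNL, hQ', relIndex, ← comap_subtype, comap_map_eq_self_of_injective
        N.subtype_injective]
      exact Q.not_dvd_index
    · rw [mem_centralizer_singleton_iff]
      exact Subtype.ext (hz _ hw)
  have hx' : ∀ g : L, ∃ x, x⁻¹ * g ∈ N.subgroupOf L ∧
      ¬ p ∣ (centralizer {x}).relIndex (N.subgroupOf L) := fun g => by
    obtain ⟨x, h1, P, -, h3, h4⟩ := hx g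
    exact ⟨x, h1, fun h => h3 (h.trans (relIndex_dvd_of_le_left _ h4))⟩
  have hd' : ¬ p ∣ charDegree (toSubOf L θ.1) := hd
  obtain ⟨η, h1, h2, h3, h4⟩ := exists_PP hx (toSubOf_mem_principal hNL hθ) hd' (by
    change ¬ p ∣ detOrder (toSubOf L θ.1)
    rwa [toSubOf_eq_comp hNL, detOrder_comp_equiv θ.2.isChar])
  have hηi : ∀ g : G, CfsgH3.cj g η.1 = η.1 := fun g => by
    refine PP.unique hx' (θ.2.toSubOf hNL) hd' η.2.isChar (η.2.cj g).isChar h2 (fun n => ?_) h3
      (h3.comp (MulAut.conjNormal g) ?_) h4 ?_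
    · exact (h2 ⟨⟨g * n * g⁻¹, hL.conj_mem _ n.1.2 g⟩, hN.conj_mem _ n.2 g⟩).trans
        (congrFun (hinv g) ⟨n, n.2⟩)
    · refine eq_of_le_of_card_ge ?_ (card_map_of_injective (MulEquiv.injective _)).ge
      rintro _ ⟨n, hn, rfl⟩
      exact hN.conj_mem _ hn g
    · rwa [cj_eq_comp, detOrder_comp_equiv η.2.isChar]
  have hdη : η.1 1 = charDegree θ.1 := by rw [coe_charDegree θ.2.isChar]; exact h2 1
  have hc : Nat.Coprime L.index (detOrder η.1) :=
    ha ▸ Nat.Coprime.pow_left a (hp.out.coprime_iff_not_dvd.2 h4)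
  obtain ⟨χ, ⟨a1, a2, a3⟩, a4⟩ := ext_coprime η.2 hηi hdη (Nat.Coprime.mul_right hc
    (ha ▸ Nat.Coprime.pow_left a (hp.out.coprime_iff_not_dvd.2 hd)))
  refine ⟨⟨χ, a1⟩, mem_principal_of_pquot_ext ha h1 a2, fun n => (a2 ⟨n, hNL n.2⟩).trans
    (h2 ⟨⟨n, hNL n.2⟩, n.2⟩), fun σ hσ => ?_⟩
  have b1 : (fun x => σ (η.1 x)) = η.1 :=
    PP.unique hx' (θ.2.toSubOf hNL) hd' η.2.isChar (η.2.isChar.map_ringHom σ) h2
      (fun n => by rw [h2]; exact hσ _) h3 (h3.gal η.2.isChar σ) h4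
      (by rwa [detOrder_gal η.2.isChar])
  exact congrFun (a4 _ (a1.map_ringHom σ) (fun n => (congrArg σ (a2 n)).trans (congrFun b1 n))
    (by rwa [detOrder_gal a1.isChar, a3]))

end CfsgH4
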