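import Cfsg.Agent.H4.Star3
import Cfsg.Agent.H2.Q8a

/-! Projective characters, points and decomposition numbers. -/

set_option autoImplicit false
set_option linter.unusedSectionVars false
open MonoidAlgebra Subgroup CfsgH2 Function Cfsg CfsgH3
open scoped ComplexConjugate

namespace CfsgH4

section PC
variable {G : Type*} [Group G] [Finite G] {a b y : ℂ[G]} {τ : G → ℂ}

/-- The class function `∑ χ(y) χ`. -/
noncomputable def PC : ℂ[G] →ₗ[ℂ] (G → ℂ) where
  toFun y := ∑ χ : IrrCharacter G, ev χ.1 y • χ.1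
  map_add' a b := by simp only [map_add, add_smul, Finset.sum_add_distrib]
  map_smul' c a := by
    simp only [map_smul, smul_eq_mul, mul_smul, Finset.smul_sum, RingHom.id_apply]

theorem PC_def (y : ℂ[G]) : PC y = ∑ χ : IrrCharacter G, ev χ.1 y • χ.1 := rfl

theorem PC_classFun (y : ℂ[G]) : IsClassFunction G (PC y) := fun g h => by
  simp only [PC_def, Finset.sum_apply, Pi.smul_apply, fun χ : IrrCharacter G => χ.2.classFun g h]

theorem inner_PC [Fintype G] (y : ℂ[G]) (χ : IrrCharacter G) :
    classInner (PC y) χ.1 = ev χ.1 y := by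
  classical
  simp only [PC_def, CfsgH3.inner_sum_left, CfsgH3.inner_smul_left, inner_irr, mul_ite, mul_one,
    mul_zero, Finset.sum_ite_eq', Finset.mem_univ, if_true]

theorem inner_PC' [Fintype G] (y : ℂ[G]) (hτ : IsGeneralizedCharacter G τ) :
    classInner (PC y) τ = ev τ y := by
  rw [ev_eq_sum_inner hτ.classFun, PC_def, CfsgH3.inner_sum_left]
  exact Finset.sum_congr rfl fun χ _ => by
    rw [CfsgH3.inner_smul_left, χ.2.isGen.inner_comm hτ, mul_comm]

theorem ev_PC (y b : ℂ[G]) : ev (PC y) b = ∑ χ : IrrCharacter G, ev χ.1 y * ev χ.1 b := by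
  simp only [PC_def, ev_sum_left, ev_smul_left]

theorem ev_eq_zero_of_PC (h : PC y = 0) (hτ : IsClassFunction G τ) : ev τ y = 0 := by
  have := Fintype.ofFinite G
  rw [ev_eq_sum_inner hτ]
  exact Finset.sum_eq_zero fun χ _ => by rw [← inner_PC, h, CfsgH3.inner_zero_left, mul_zero]

theorem PC_apply [Fintype G] (y : ℂ[G]) (g : G) : PC y g = ∑ x, y.coeff (x * g⁻¹ * x⁻¹) := by
  classical
  simp only [PC_def, Finset.sum_apply, Pi.smul_apply, smul_eq_mul, ev_apply, Finset.sum_mul]
  rw [Finset.sum_comm, ← Finset.sum_fiberwise Finset.univ (fun x => x * g⁻¹ * x⁻¹)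
    fun x => y.coeff (x * g⁻¹ * x⁻¹)]
  refine Finset.sum_congr rfl fun h _ => ?_
  have := sum_irr_mul_conj_eq_card h g⁻¹
  have e : ∀ χ : IrrCharacter G, conj ((χ : G → ℂ) g⁻¹) = χ.1 g := fun χ => by
    rw [← χ.2.isChar.apply_inv, inv_inv]
  rw [Finset.sum_congr rfl fun χ _ => by rw [e]] at this
  simp only [mul_assoc (y.coeff h)]
  rw [← Finset.mul_sum, this, Finset.sum_congr rfl (g := fun _ => y.coeff h) fun x hx => by
    rw [(Finset.mem_filter.1 hx).2], Finset.sum_const, Nat.card_eq_fintype_card,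
    Fintype.card_subtype, nsmul_eq_mul, mul_comm]

theorem ind_PC [Fintype G] (H : Subgroup G) (y : ℂ[H]) :
    indFun H (PC y) = PC (emb ℂ H.subtype y) := by
  have := Fintype.ofFinite H
  refine (indFun_classFun _ _).ext_inner (PC_classFun _) fun χ hχ => ?_
  rw [inner_indFun_left _ _ hχ.classFun, inner_PC' _ (hχ.isGen.restrict H), inner_PC' _ hχ.isGen,
    ev_emb]
  rfl

theorem PC_single_mul {z : G} (hz : z ∈ center G) (a : ℂ[G]) :
    PC (single z⁻¹ 1 * a) = shf z⁻¹ (PC a) := by
  have := Fintype.ofFinite G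
  funext g
  simp only [shf_apply, PC_apply, coeff_single_mul_apply, one_mul, inv_inv, mul_inv_rev]
  refine Finset.sum_congr rfl fun x _ => congrArg _ ?_
  rw [← mem_center_iff.1 hz, mul_assoc x (g⁻¹ * z), mul_assoc g⁻¹, ← mem_center_iff.1 hz x⁻¹]
  group

theorem PC_eChi (χ : IrrCharacter G) : PC (eChi χ.1) = χ.1 1 • χ.1 := by
  classical
  have := Fintype.ofFinite G
  simp only [PC_def, ev_eChi, inner_irr, mul_ite, mul_one, mul_zero, ite_smul, zero_smul,
    Finset.sum_ite_eq', Finset.mem_univ, if_true]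

theorem bp_PC (B : Set (IrrCharacter G)) (y : ℂ[G]) : blockPart B (PC y) = PC (eSet B * y) := by
  have := Fintype.ofFinite G
  rw [blockPart_eq_sum, PC_def (eSet B * y), ← Finset.sum_subset (Finset.subset_univ (irrF B))]
  · exact Finset.sum_congr rfl fun χ hχ => by rw [inner_PC, ev_eSet_mul_of_mem (mem_irrF.1 hχ)]
  · intro χ _ hχ
    rw [ev_eSet_mul_of_notMem (mt mem_irrF.2 hχ), zero_smul]

theorem trace_mulLR (a b : ℂ[G]) : LinearMap.trace ℂ ℂ[G] (LinearMap.mulLeftRight ℂ (a, b)) =
    ∑ χ : IrrCharacter G, ev χ.1 a * ev χ.1 b := by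
  classical
  have := Fintype.ofFinite G
  rw [← ev_PC, LinearMap.trace_eq_matrix_trace ℂ (MonoidAlgebra.basis G ℂ), ev_apply, Matrix.trace]
  simp only [Matrix.diag_apply, LinearMap.toMatrix_apply, PC_apply, Finset.mul_sum]
  rw [Finset.sum_comm]
  refine Finset.sum_congr rfl fun g _ => ?_
  change (a * single g 1 * b).coeff g = _
  rw [coeff_mul_right]
  exact Finset.sum_congr rfl fun x _ => by rw [coeff_mul_single_apply, mul_one, mul_comm]

theorem mulLR_idem {F A : Type*} [Field F] [Ring A] [Algebra F A] {a b : A} (ha : a * a = a)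
    (hb : b * b = b) : IsIdempotentElem (LinearMap.mulLeftRight F (a, b)) :=
  LinearMap.ext fun x => by
    simp only [Module.End.mul_apply, LinearMap.mulLeftRight_apply]
    rw [← mul_assoc, ← mul_assoc, ha, mul_assoc, hb]

theorem finrank_mulLR (ha : a * a = a) (hb : b * b = b) :
    (Module.finrank ℂ (LinearMap.range (LinearMap.mulLeftRight ℂ (a, b))) : ℂ) =
      ∑ χ : IrrCharacter G, ev χ.1 a * ev χ.1 b := by
  have : FiniteDimensional ℂ ℂ[G] := Module.Finite.of_basis (MonoidAlgebra.basis G ℂ)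
  rw [← trace_mulLR, (LinearMap.IsIdempotentElem.isProj_range _ (mulLR_idem ha hb)).trace]

end PC

section dual
variable {M : Ideal AlgInt} [hM : M.IsMaximal] {G : Type*} [Group G] [Finite G]

/-- Lift of a linear functional to a function on the group. -/
noncomputable def liftT (t : (Res M)[G] →ₗ[Res M] Res M) (g : G) : ℂ := lift M (t (single g 1))

theorem liftT_mem (t : (Res M)[G] →ₗ[Res M] Res M) (g : G) : liftT t g ∈ Loc M := lift_mem _

theorem red_ev_liftT (t : (Res M)[G] →ₗ[Res M] Res M) {c : ℂ[G]} (hc : c ∈ SG M G) :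
    red M (ev (liftT t) c) = t (redA M c) := by
  have := Fintype.ofFinite G
  rw [ev_apply, red_sum _ _ fun g _ => mul_mem (hc g) (liftT_mem t g), eq_sum_single (redA M c),
    map_sum]
  exact Finset.sum_congr rfl fun g _ => by
    rw [liftT, red_mul (hc g) (lift_mem _), map_smul]; simp

theorem liftT_classFun {t : (Res M)[G] →ₗ[Res M] Res M} (h : ∀ a b, t (a * b) = t (b * a)) :
    IsClassFunction G (liftT t) := fun g x => by
  simp only [liftT]
  rw [← mul_one (1 : Res M), ← single_mul_single, h, single_mul_single]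
  simp

theorem eq_zero_of_dual {ι : Type*} [Fintype ι] [DecidableEq ι] (v : ι → ℂ[G])
    (hv : ∀ i, v i ∈ SG M G) (t : ι → (Res M)[G] →ₗ[Res M] Res M)
    (h : ∀ i j, t j (redA M (v i)) = if i = j then 1 else 0) (c : ι → ℂ)
    (hc : ∀ j, ev (liftT (t j)) (∑ i, c i • v i) = 0) (i : ι) : c i = 0 := by
  let N : Matrix ι ι ℂ := fun i j => ev (liftT (t j)) (v i)
  have N2 : N.det ≠ 0 := by
    refine ne_zero_of_red_ne_zero (M := M) ?_
    rw [(red_det (N := N) fun i j => ev_mem_Loc (liftT_mem _) (hv i)).2,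
      show N.map (red M) = 1 from Matrix.ext fun i j => ?_]
    · simp
    · rw [Matrix.map_apply, red_ev_liftT _ (hv i), h, Matrix.one_apply]
  refine congrFun (Matrix.eq_zero_of_vecMul_eq_zero N2 (funext fun j => ?_)) i
  simpa [Matrix.vecMul, dotProduct] using hc j

theorem exists_dual_family {F V ι : Type*} [Field F] [AddCommGroup V] [Module F V]
    [DecidableEq ι] {w : ι → V} (h : LinearIndependent F w) :
    ∃ t : ι → V →ₗ[F] F, ∀ i j, t j (w i) = if i = j then 1 else 0 := by
  obtain ⟨g, hg⟩ := (Finsupp.linearCombination F w).exists_leftInverse_of_injective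
    (LinearMap.ker_eq_bot.2 h)
  refine ⟨fun j => Finsupp.lapply j ∘ₗ g, fun i j => ?_⟩
  have := LinearMap.congr_fun hg (Finsupp.single i 1)
  simp only [LinearMap.comp_apply, Finsupp.linearCombination_single, one_smul,
    LinearMap.id_apply] at this
  simp [this, Finsupp.single_apply]

theorem linInd_of_red {ι : Type*} [Fintype ι] {v : ι → ℂ[G]} (hv : ∀ i, v i ∈ SG M G)
    (h : LinearIndependent (Res M) fun i => redA M (v i)) : LinearIndependent ℂ v := by
  classical
  obtain ⟨t, ht⟩ := exists_dual_family h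
  exact Fintype.linearIndependent_iff.2 fun c hc =>
    eq_zero_of_dual v hv t ht c fun j => by rw [hc, map_zero]

theorem card_le_finrank_of_mem {F V ι : Type*} [Field F] [AddCommGroup V] [Module F V]
    [FiniteDimensional F V] [Fintype ι] {v : ι → V} (h : LinearIndependent F v)
    {S : Submodule F V} (hS : ∀ i, v i ∈ S) : Fintype.card ι ≤ Module.finrank F S :=
  (LinearIndependent.of_comp S.subtype (v := fun i => (⟨v i, hS i⟩ : S))
    (by exact h)).fintype_card_le_finrank

theorem finrank_range_red_le {T : Module.End ℂ ℂ[G]} {T' : Module.End (Res M) (Res M)[G]}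
    (h : ∀ a ∈ SG M G, T a ∈ SG M G ∧ redA M (T a) = T' (redA M a)) :
    Module.finrank (Res M) (LinearMap.range T') ≤ Module.finrank ℂ (LinearMap.range T) := by
  have : FiniteDimensional ℂ ℂ[G] := Module.Finite.of_basis (MonoidAlgebra.basis G ℂ)
  have : FiniteDimensional (Res M) (Res M)[G] := Module.Finite.of_basis (MonoidAlgebra.basis G _)
  let w := Module.finBasis (Res M) (LinearMap.range T')
  choose x hx using fun i => (w i).2
  have h1 : LinearIndependent ℂ fun i => T (liftA M (x i)) :=
    linInd_of_red (fun i => (h _ (liftA_mem_SG _)).1) (by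
      simp only [fun i => (h _ (liftA_mem_SG (x i))).2, redA_liftA, hx]
      exact w.linearIndependent.map' (Submodule.subtype _) (Submodule.ker_subtype _))
  have h2 := card_le_finrank_of_mem h1 (S := LinearMap.range T) fun i => ⟨_, rfl⟩
  rwa [Fintype.card_fin] at h2

theorem finrank_range_red {T : Module.End ℂ ℂ[G]} {T' : Module.End (Res M) (Res M)[G]}
    (h : ∀ a ∈ SG M G, T a ∈ SG M G ∧ redA M (T a) = T' (redA M a)) (hT : IsIdempotentElem T)
    (hT' : IsIdempotentElem T') :
    Module.finrank (Res M) (LinearMap.range T') = Module.finrank ℂ (LinearMap.range T) := by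
  have : FiniteDimensional ℂ ℂ[G] := Module.Finite.of_basis (MonoidAlgebra.basis G ℂ)
  have : FiniteDimensional (Res M) (Res M)[G] := Module.Finite.of_basis (MonoidAlgebra.basis G _)
  have := Fintype.ofFinite G
  have h1 := finrank_range_red_le h
  have h2 := finrank_range_red_le (M := M) (T := 1 - T) (T' := 1 - T') fun a ha =>
    ⟨sub_mem ha (h a ha).1, by simp [redA_sub ha (h a ha).1, (h a ha).2]⟩
  have h3 := T.finrank_range_add_finrank_ker
  have h4 := LinearMap.finrank_range_add_finrank_ker T'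
  rw [LinearMap.IsIdempotentElem.ker_eq_range_one_sub hT,
    Module.finrank_eq_card_basis (MonoidAlgebra.basis G _)] at h3
  rw [LinearMap.IsIdempotentElem.ker_eq_range_one_sub hT',
    Module.finrank_eq_card_basis (MonoidAlgebra.basis G _)] at h4
  omega

theorem exists_inv_SG {u : ℂ[G]} (hu : u ∈ SG M G) (h : IsUnit (redA M u)) :
    ∃ v ∈ SG M G, u * v = 1 ∧ v * u = 1 := by
  classical
  have := Fintype.ofFinite G
  obtain ⟨w, rfl⟩ := isUnit_of_redA hu h
  refine ⟨↑w⁻¹, fun g => ?_, w.mul_inv, w.inv_mul⟩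
  let L := Algebra.leftMulMatrix (MonoidAlgebra.basis G ℂ)
  have hL : ∀ (a : ℂ[G]) i j, L a i j = a.coeff (i * j⁻¹) := fun a i j => by
    rw [Algebra.leftMulMatrix_eq_repr_mul]
    change (a * single j 1).coeff i = _
    rw [coeff_mul_single_apply, mul_one]
  have h1 : ∀ i j, L w i j ∈ Loc M := fun i j => hL w i j ▸ hu _
  have h2 : red M (L w).det ≠ 0 := by
    rw [(red_det h1).2, show (L w).map (red M) =
      Algebra.leftMulMatrix (MonoidAlgebra.basis G _) (redA M w) from Matrix.ext fun i j => ?_]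
    · exact ((Matrix.isUnit_iff_isUnit_det _).1 (h.map _)).ne_zero
    · rw [Algebra.leftMulMatrix_eq_repr_mul, Matrix.map_apply, hL]
      change _ = (redA M w * single j 1).coeff i
      rw [coeff_mul_single_apply, mul_one, coeff_redA]
  have h3 : L ↑w⁻¹ = (L w)⁻¹ := (Matrix.inv_eq_left_inv (by rw [← map_mul, w.inv_mul, map_one])).symm
  have h4 := hL (↑w⁻¹) g 1
  rw [inv_one, mul_one, h3, Matrix.inv_def, Matrix.smul_apply, Ring.inverse_eq_inv',
    Matrix.adjugate_apply] at h4
  rw [← h4]
  refine mul_mem (inv_mem_Loc h2) (red_det fun i j => ?_).1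
  rw [Matrix.updateRow_apply]
  split_ifs
  · rw [Pi.single_apply]
    split_ifs
    exacts [one_mem _, zero_mem _]
  · exact h1 i j

/-- Linearly independent central elements of a block algebra number at most `k(B)`. -/
theorem card_le_of_central {B : Set (IrrCharacter G)} (hB : eSet B ∈ SG M G) {ι : Type*}
    [Fintype ι] {z : ι → (Res M)[G]} (hz : ∀ i, z i ∈ Fix (Res M) ⊤)
    (h1 : ∀ i, bId M B * z i = z i) (h : LinearIndependent (Res M) z) :
    Fintype.card ι ≤ Nat.card B := by
  classical
  have h2 : LinearIndependent ℂ fun i => eSet B * liftA M (z i) :=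
    linInd_of_red (fun i => mul_mem hB (liftA_mem_SG _)) (by
      simp only [redA_mul hB (liftA_mem_SG _), redA_liftA]
      exact (funext h1 : (fun i => bId M B * z i) = z).symm ▸ h)
  let S := Submodule.span ℂ ((irrF B).image (fun χ => eChi χ.1) : Set ℂ[G])
  have h3 : ∀ i, eSet B * liftA M (z i) ∈ S := fun i => by
    rw [mul_comm_of_Fix_top (eSet_mem_Fix B), eSet_eq_sum, Finset.mul_sum]
    refine Submodule.sum_mem _ fun χ hχ => ?_
    rw [mul_eChi (liftA_mem_Fix (hz i))]
    exact Submodule.smul_mem _ _ (Submodule.subset_span (Finset.mem_image_of_mem _ hχ))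
  have : FiniteDimensional ℂ ℂ[G] := Module.Finite.of_basis (MonoidAlgebra.basis G ℂ)
  exact (card_le_finrank_of_mem h2 h3).trans ((finrank_span_finset_le_card _).trans
      (Finset.card_image_le.trans (card_irrF B).le))

end dual

end CfsgH4
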