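import Cfsg.Agent.H4.Proj2

/-! Blocks all of whose characters have the same degree. -/

set_option autoImplicit false
set_option linter.unusedSectionVars false
open MonoidAlgebra Subgroup CfsgH2 Function Cfsg CfsgH3
open scoped ComplexConjugate

namespace CfsgH4

variable {M : Ideal AlgInt} [hM : M.IsMaximal] {G : Type*} [Group G] [Finite G]
  {B : Set (IrrCharacter G)} {χ ψ : IrrCharacter G} {j : (Res M)[G]}

theorem corner_eq {e : ℂ[G]} (he : e * e = e) (h1 : eSet B * e = e) (h : ∀ χ ∈ B, ev χ.1 e = 1)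
    (x : ℂ[G]) : e * x * e = (∑ χ ∈ irrF B, ev χ.1 (e * x) • eChi χ.1) * e := by
  classical
  have : FiniteDimensional ℂ ℂ[G] := instFinDimGA
  conv_lhs => rw [mul_assoc, ← h1, eSet_eq_sum, Finset.sum_mul, Finset.sum_mul]
  rw [Finset.sum_mul]
  refine Finset.sum_congr rfl fun χ hχ => ?_
  have hc := mul_comm_of_Fix_top (eChi_mem_Fix χ.2.classFun)
  have h2 : ∀ (ψ : IrrCharacter G) a, ev ψ.1 (eChi χ.1 * a) = if χ = ψ then ev ψ.1 a else 0 :=
    fun ψ a => by rw [ev_mul_of_central ψ.2 (eChi_mem_Fix χ.2.classFun), om_eChi]; simp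
  have h3 : eChi χ.1 * e * (eChi χ.1 * e) = eChi χ.1 * e := by
    rw [mul_assoc, ← mul_assoc e, ← hc e, mul_assoc, he, ← mul_assoc, ← eSet_singleton, eSet_idem]
  have h4 := finrank_mulLR h3 he
  simp only [h2, ite_mul, zero_mul, Finset.sum_ite_eq, Finset.mem_univ, if_true,
    h χ (mem_irrF.1 hχ), mul_one, Nat.cast_eq_one] at h4
  have h5 : eChi χ.1 * e ≠ 0 := fun h0 => by
    have := h2 χ e
    rw [h0, map_zero, if_pos rfl, h χ (mem_irrF.1 hχ)] at this
    exact zero_ne_one this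
  obtain ⟨c, hc'⟩ := (finrank_eq_one_iff_of_nonzero' (⟨eChi χ.1 * e, 1, by
    simp [mul_assoc, he]⟩ : LinearMap.range (LinearMap.mulLeftRight ℂ (eChi χ.1 * e, e)))
    (fun h => h5 (congrArg Subtype.val h))).1 h4 ⟨_, x, rfl⟩
  have h6 : c • (eChi χ.1 * e) = eChi χ.1 * e * x * e := congrArg Subtype.val hc'
  have h7 := congrArg (ev χ.1) h6
  rw [map_smul, mul_assoc, mul_assoc, h2, h2, if_pos rfl, if_pos rfl, h χ (mem_irrF.1 hχ),
    ev_mul_comm χ.2.classFun, mul_assoc, he, ev_mul_comm χ.2.classFun, smul_eq_mul, mul_one] at h7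
  rw [← Finset.sum_mul, ← eSet_eq_sum, h1, ← mul_assoc, ← h6, h7, smul_mul_assoc]

/-- If a block has a unique point and all decomposition numbers are one, then the values of the
characters at an integral element are the central characters of an integral element. -/
theorem sum_ev_mem_SG (hB : eSet B ∈ SG M G) (hj : ptsB M B = {j}) (h : ∀ χ ∈ B, dec M χ j = 1)
    {y : ℂ[G]} (hy : y ∈ SG M G) : ∑ χ ∈ irrF B, ev χ.1 y • eChi χ.1 ∈ SG M G := by
  have := Fintype.ofFinite G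
  have hj' : j ∈ ptsB M B := hj ▸ Finset.mem_singleton_self j
  obtain ⟨e, he, h1, -⟩ := exists_isLift_le hB (mem_Fix_one _) (eSet_idem B) (mem_Fix_one j)
    (ptsB_idem hj') (mem_ptsB.1 hj').2 ((bId_comm j).symm.trans (mem_ptsB.1 hj').2)
  obtain ⟨c, hc⟩ := exists_gen hB hj
  have h2 : ∀ g, single g 1 * e * liftA M (c g) ∈ SG M G := fun g =>
    mul_mem (mul_mem (single_mem_SG _ (one_mem _)) he.mem) (liftA_mem_SG _)
  set w := ∑ g, single g 1 * e * liftA M (c g) with hw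
  have h3 : w ∈ SG M G := Subring.sum_mem _ fun g _ => h2 g
  have h4 : redA M w = bId M B := by
    rw [hc, redA_sum _ _ fun g _ => h2 g]
    exact Finset.sum_congr rfl fun g _ => by
      rw [redA_mul (mul_mem (single_mem_SG _ (one_mem _)) he.mem) (liftA_mem_SG _),
        redA_mul (single_mem_SG _ (one_mem _)) he.mem, he.red, redA_liftA, redA_single, red_one]
  have hc' := mul_comm_of_Fix_top (eSet_mem_Fix B)
  have h5 : eSet B * w = w := by
    rw [hw, Finset.mul_sum]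
    exact Finset.sum_congr rfl fun g _ => by
      rw [← mul_assoc, ← mul_assoc, hc' (single g 1), mul_assoc _ (eSet B), h1]
  obtain ⟨v, hv, h6, -⟩ := exists_inv_SG (add_mem h3 (sub_mem (one_mem _) hB)) (by
    rw [redA_add h3 (sub_mem (one_mem _) hB), redA_sub (one_mem _) hB, h4, redA_one, bId,
      add_sub_cancel]
    exact isUnit_one)
  have h7 : w * v = eSet B := by
    have := congrArg (eSet B * ·) h6
    simpa only [← mul_assoc, mul_add, h5, mul_sub, mul_one, eSet_idem, sub_self, add_zero] using this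
  have h8 : ∀ x ∈ SG M G, ∑ χ ∈ irrF B, ev χ.1 (e * x) • eChi χ.1 ∈ SG M G := fun x hx => by
    set Z := ∑ χ ∈ irrF B, ev χ.1 (e * x) • eChi χ.1 with hZ
    have k1 : Z ∈ Fix ℂ ⊤ := Subalgebra.sum_mem _ fun χ _ =>
      Subalgebra.smul_mem _ (eChi_mem_Fix χ.2.classFun) _
    have k2 : Z * eSet B = Z := by
      rw [hZ, Finset.sum_mul]
      exact Finset.sum_congr rfl fun χ hχ => by
        rw [smul_mul_assoc, ← hc', mul_eChi (eSet_mem_Fix B), om_eSet_of_mem (mem_irrF.1 hχ),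
          one_smul]
    rw [← k2, ← h7, ← mul_assoc, hw, Finset.mul_sum]
    refine mul_mem (Subring.sum_mem _ fun g _ => ?_) hv
    rw [← mul_assoc, ← mul_assoc, mul_comm_of_Fix_top k1 (single g 1), mul_assoc _ Z, hZ,
      ← corner_eq he.idem h1 fun χ hχ => by rw [← he.dec_eq, h χ hχ, Nat.cast_one]]
    exact mul_mem (mul_mem (single_mem_SG _ (one_mem _)) (mul_mem (mul_mem he.mem hx) he.mem))
      (liftA_mem_SG _)
  have h9 : ∀ χ ∈ irrF B, ev χ.1 y • eChi χ.1 =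
      ∑ g, ev χ.1 (e * (liftA M (c g) * v * y * single g 1)) • eChi χ.1 := fun χ hχ => by
    rw [← Finset.sum_smul, ← ev_eSet_mul_of_mem (mem_irrF.1 hχ) y, ← h7, hw, Finset.sum_mul,
      Finset.sum_mul, map_sum]
    congr 1
    exact Finset.sum_congr rfl fun g _ => by
      simp only [mul_assoc]
      rw [ev_mul_comm χ.2.classFun]
      simp only [mul_assoc]
  rw [Finset.sum_congr rfl h9, Finset.sum_comm]
  exact Subring.sum_mem _ fun g _ => h8 _
    (mul_mem (mul_mem (mul_mem (liftA_mem_SG _) hv) hy) (single_mem_SG _ (one_mem _)))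

variable {p : ℕ} [hp : Fact p.Prime] [CharP (Res M) p]

theorem height_of_equal_deg {n : ℕ} (h : ∀ χ ∈ B, charDegree χ.1 = n) (hχ : χ ∈ B) :
    blockHeight p B χ.1 = 0 := by
  obtain ⟨ψ, hψ, h0⟩ := exists_height_zero (p := p) ⟨χ, hχ⟩
  rw [← h0, blockHeight_eq, blockHeight_eq, nu, nu, h χ hχ, h ψ hψ]

theorem mR_of_int (hB : eSet B ∈ SG M G) (hχ : χ ∈ B) : ∃ c : (Res M)[G] → ℤ, ∀ ψ : IrrCharacter G,
    (p : ℂ) ^ (Nat.card G).factorization p * mR p χ.1 ψ.1 =
      ∑ j ∈ ptsB M B, (c j : ℂ) * dec M ψ j := by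
  have := Fintype.ofFinite G
  obtain ⟨c, hc⟩ := exists_int_regPart (p := p) hB hχ
  exact ⟨c, fun ψ => by rw [← inner_sum_Pr, ← hc, CfsgH3.inner_smul_left, mR_eq_inner_irr]⟩

variable (p) in
include hp in
theorem exists_point_of_equal_deg (hB : IsPBlock M B) {n : ℕ}
    (h : ∀ χ ∈ B, charDegree χ.1 = n) : ∃ j, ptsB M B = {j} ∧ ∀ χ ∈ B, dec M χ j = 1 := by
  classical
  have := Fintype.ofFinite G
  have hS := eSet_mem_SG hB
  obtain ⟨m, hm0, hm⟩ := exists_mult hS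
  obtain ⟨χ₀, hχ₀⟩ := block_nonempty hB
  have hn : 0 < n := h χ₀ hχ₀ ▸ charDegree_pos χ₀.2
  have h1 : ∀ j ∈ ptsB M B, n ∣ m j := fun j hj => Int.natCast_dvd_natCast.1
    (dvd_of_dvd_dec p ptsB_sub (Nat.cast_ne_zero.2 hn.ne') (c := fun j => m j) (fun χ => by
      by_cases hχ : χ ∈ B
      · have := deg_eq_sum hS hm hχ
        rw [h χ hχ] at this
        rw [this]
        push_cast
        exact dvd_rfl
      · rw [Finset.sum_eq_zero fun i hi => by
          rw [dec_of_notMem hS (ptsB_idem hi) (mem_ptsB.1 hi).2 hχ, Nat.cast_zero, mul_zero]]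
        exact dvd_zero _) hj)
  have h2 : ∀ χ ∈ B, ∑ j ∈ ptsB M B, dec M χ j ≤ 1 := fun χ hχ => by
    refine Nat.le_of_mul_le_mul_left ?_ hn
    rw [mul_one, Finset.mul_sum]
    conv_rhs => rw [← h χ hχ, deg_eq_sum hS hm hχ]
    exact Finset.sum_le_sum fun j hj =>
      Nat.mul_le_mul_right _ (Nat.le_of_dvd (hm0 j hj) (h1 j hj))
  have h3 : ∀ χ ∈ B, ∀ j ∈ ptsB M B, dec M χ j ≠ 0 → dec M χ j = 1 ∧
      ∀ i ∈ ptsB M B, i ≠ j → dec M χ i = 0 := fun χ hχ j hj h0 => by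
    have := h2 χ hχ
    refine ⟨by have := Finset.single_le_sum (f := dec M χ) (fun _ _ => Nat.zero_le _) hj; omega,
      fun i hi hij => ?_⟩
    have := Finset.sum_le_sum_of_subset (f := dec M χ) (show {i, j} ⊆ ptsB M B by
      simp [Finset.insert_subset_iff, hi, hj])
    rw [Finset.sum_pair hij] at this
    omega
  obtain ⟨j, hj⟩ : (ptsB M B).Nonempty := by
    rw [← Finset.card_pos, card_ptsB (p := p) hS]
    exact blockRank_pos ⟨χ₀, hχ₀⟩
  obtain ⟨ξ, hξ, hξ0⟩ := exists_dec_ne_zero hS hj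
  have h4 : ∀ ψ ∈ B, dec M ψ j ≠ 0 := fun ψ hψ h0 => by
    obtain ⟨c, hc⟩ := mR_of_int (p := p) hS hψ
    have k1 : ∀ ζ ∈ B, dec M ζ j ≠ 0 →
        (p : ℂ) ^ (Nat.card G).factorization p * mR p ψ.1 ζ.1 = c j := fun ζ hζ hz => by
      rw [hc, Finset.sum_eq_single_of_mem j hj fun i hi hij => by
        rw [(h3 ζ hζ j hj hz).2 i hi hij, Nat.cast_zero, mul_zero], (h3 ζ hζ j hj hz).1,
        Nat.cast_one, mul_one]
    have k2 : mR p (Pr M j) ψ.1 = 0 := by
      rw [mR_of_vanish fun g hg => Pr_vanish (ptsB_idem hj) hg, inner_Pr, h0, Nat.cast_zero]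
    have k3 : (c j : ℂ) * (∑ ζ ∈ irrF B, dec M ζ j : ℕ) = 0 := by
      rw [← mul_zero ((p : ℂ) ^ (Nat.card G).factorization p), ← k2,
        Pr_eq_sum hS (ptsB_idem hj) (mem_ptsB.1 hj).2, mR_sum_left, Finset.mul_sum, Nat.cast_sum,
        Finset.mul_sum]
      refine Finset.sum_congr rfl fun ζ hζ => ?_
      rw [mR_smul_left, mR_comm, mul_left_comm]
      by_cases hz : dec M ζ j = 0
      · simp [hz]
      · rw [k1 ζ (mem_irrF.1 hζ) hz, mul_comm]
    rcases mul_eq_zero.1 k3 with k | k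
    · rw [← k1 ξ hξ hξ0] at k
      exact mul_ne_zero (p_pow_ne_zero _) (mR_ne_zero hB hψ (height_of_equal_deg h hψ) hξ) k
    · exact hξ0 (Finset.sum_eq_zero_iff.1 (Nat.cast_eq_zero.1 k) ξ (mem_irrF.2 hξ))
  refine ⟨j, Finset.eq_singleton_iff_unique_mem.2 ⟨hj, fun i hi => by_contra fun hij => ?_⟩,
    fun χ hχ => (h3 χ hχ j hj (h4 χ hχ)).1⟩
  obtain ⟨ζ, hζ, hz⟩ := exists_dec_ne_zero hS hi
  exact hz ((h3 ζ hζ j hj (h4 ζ hζ)).2 i hi hij)

theorem card_of_equal_deg (hB : IsPBlock M B) {n : ℕ} (h : ∀ χ ∈ B, charDegree χ.1 = n) :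
    Nat.card B = p ^ blockDefect p B := by
  have hS := eSet_mem_SG hB
  obtain ⟨j, hj, hd⟩ := exists_point_of_equal_deg p hB h
  obtain ⟨χ, hχ⟩ := block_nonempty hB
  obtain ⟨c, hc⟩ := mR_of_int (p := p) hS hχ
  have h1 : ∀ ψ ∈ B, mR p χ.1 ψ.1 = mR p χ.1 χ.1 := fun ψ hψ =>
    mul_left_cancel₀ (p_pow_ne_zero (p := p) _) (by
      rw [hc, hc, hj, Finset.sum_singleton, Finset.sum_singleton, hd ψ hψ, hd χ hχ])
  have h2 := sum_mR_apply (p := p) hS hχ 1
  rw [regPart_one, Finset.sum_congr rfl (g := fun _ => mR p χ.1 χ.1 * χ.1 1) fun ψ hψ => by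
    rw [h1 ψ (mem_irrF.1 hψ), ← coe_charDegree ψ.2.isChar, ← coe_charDegree χ.2.isChar,
      h ψ (mem_irrF.1 hψ), h χ hχ], Finset.sum_const, card_irrF, nsmul_eq_mul, ← mul_assoc,
    mul_eq_right₀ χ.2.one_ne_zero] at h2
  have h3 : aI p B χ.1 χ.1 * Nat.card B = p ^ blockDefect p B := by
    have := coe_aI (p := p) χ.2.isGen hχ
    refine Int.cast_injective (α := ℂ) ?_
    push_cast
    rw [this, mul_assoc, mul_comm (mR _ _ _), h2, mul_one]
  have h4 := (not_dvd_aI_iff hB hχ hχ).2 ⟨height_of_equal_deg h hχ, height_of_equal_deg h hχ⟩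
  have h5 := aI_self_pos (p := p) hχ
  obtain ⟨a, ha⟩ := Int.eq_ofNat_of_zero_le h5.le
  rw [ha] at h3 h4
  have h6 : a * Nat.card B = p ^ blockDefect p B := by exact_mod_cast h3
  obtain ⟨i, -, rfl⟩ := (Nat.dvd_prime_pow hp.out).1 (Dvd.intro _ h6)
  have h7 : p ^ i = 1 := by
    rcases i with _ | i
    · rfl
    · exact absurd (Int.natCast_dvd_natCast.2 (dvd_pow_self p i.succ_ne_zero)) h4
  rw [← h6, h7, one_mul]

/-- If all projective indecomposable characters are divisible by `p^d`, then `l(B) = 1`. -/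
theorem rank_one_of_div (hB : IsPBlock M B)
    (h : ∀ j ∈ ptsB M B, ∀ s, Pr M j s / (p : ℂ) ^ blockDefect p B ∈ Loc M) :
    blockRank p B = 1 := by
  classical
  have := Fintype.ofFinite G
  have hS := eSet_mem_SG hB
  obtain ⟨ξ, hξ, h0⟩ := exists_height_zero (p := p) (block_nonempty hB)
  let r : IrrCharacter G → ℂ := fun χ => (p : ℂ) ^ blockDefect p B * χ.1 1 / Nat.card G
  let z : (Res M)[G] → ℂ[G] := fun j => ((p : ℂ) ^ blockDefect p B)⁻¹ • tAll (Pr M j)
  have z1 : ∀ j, z j ∈ Fix ℂ ⊤ := fun j =>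
    Subalgebra.smul_mem _ (tAll_mem_Fix (isGen_Pr j).classFun) _
  have z2 : ∀ j ∈ ptsB M B, z j ∈ SG M G := fun j hj g => by
    simpa [z, div_eq_inv_mul] using h j hj g⁻¹
  have h1 : ∀ j ∈ ptsB M B, ∀ χ ∈ B, ((dec M χ j : ℤ) : Res M) = red M (om ξ.1 (z j)) * red M (r χ) :=
    fun j hj χ hχ => by
      rw [red_om_eq_of_sameBlock ξ.2 χ.2 (sameBlock_of_mem hB hξ hχ) (z1 j) (z2 j hj),
        ← red_mul (om_mem_Loc χ.2 (z1 j) (z2 j hj)) (pow_deg_div_mem hχ), ← red_intCast,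
        Int.cast_natCast, ← inner_Pr, inner_eq_om_tAll]
      congr 1
      have := p_pow_ne_zero (p := p) (blockDefect p B)
      simp only [z, map_smul, smul_eq_mul]
      field_simp
  have hp0 : (p : ℤ) ≠ 0 := Nat.cast_ne_zero.2 hp.out.ne_zero
  have h2 : ∀ j ∈ ptsB M B, ¬ (p : ℤ) ∣ dec M ξ j := fun j hj hd => by
    have k := h1 j hj ξ hξ
    rw [(CharP.intCast_eq_zero_iff _ p _).2 hd, eq_comm,
      mul_eq_zero_iff_right ((red_pow_deg_div_ne_zero_iff hξ).2 h0)] at k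
    refine hp.out.one_lt.ne' (Nat.dvd_one.1 (Int.natCast_dvd_natCast.1 (dvd_of_dvd_dec p
      (Finset.singleton_subset_iff.2 (ptsB_sub hj)) hp0 (c := fun _ => 1) (fun χ => ?_)
      (Finset.mem_singleton_self j))))
    rw [Finset.sum_singleton, one_mul]
    by_cases hχ : χ ∈ B
    · rw [← CharP.intCast_eq_zero_iff (Res M), h1 j hj χ hχ, k, zero_mul]
    · rw [dec_of_notMem hS (ptsB_idem hj) (mem_ptsB.1 hj).2 hχ]
      exact dvd_zero _
  refine le_antisymm ?_ (blockRank_pos ⟨ξ, hξ⟩)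
  rw [← card_ptsB hS, Finset.card_le_one]
  intro i hi k hk
  by_contra hik
  have := dvd_of_dvd_dec p (s := {i, k}) (by
    simp [Finset.insert_subset_iff, ptsB_sub hi, ptsB_sub hk]) hp0
    (c := fun x => if x = i then dec M ξ k else -dec M ξ i) (fun χ => ?_)
    (Finset.mem_insert_self i _)
  · exact h2 k hk (by simpa using this)
  rw [Finset.sum_pair hik, if_pos rfl, if_neg (Ne.symm hik)]
  by_cases hχ : χ ∈ B
  · rw [← CharP.intCast_eq_zero_iff (Res M), Int.cast_add, Int.cast_mul, Int.cast_mul, Int.cast_neg,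
      h1 i hi χ hχ, h1 k hk χ hχ, h1 i hi ξ hξ, h1 k hk ξ hξ]
    ring
  · simp [dec_of_notMem hS (ptsB_idem hi) (mem_ptsB.1 hi).2 hχ,
      dec_of_notMem hS (ptsB_idem hk) (mem_ptsB.1 hk).2 hχ]

/-- Columns of generalized decomposition numbers. -/
theorem SubEl.Pr_eq {H : Subgroup G} {z : H} (h : SubEl p H z) {b : Set (IrrCharacter H)}
    (hind : IsInducedBlock M H b B) {i : (Res M)[H]} (hi : i * i = i) (h1 : bId M b * i = i) :
    ∃ y ∈ SG M G, ∀ s : H, ¬ p ∣ orderOf s →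
      Pr M i s = ∑ χ ∈ irrF B, ev χ.1 y * χ.1 (z * s) := by
  have := Fintype.ofFinite G
  have hb := eSet_mem_SG (isInducedBlock_iff.1 hind).1
  obtain ⟨e, he⟩ := exists_lift_one hi
  have k1 : secP p z (shf z⁻¹ (Pr M i)) = shf z⁻¹ (Pr M i) := funext fun c => by
    by_cases hc : IsPPart p c z
    · exact secP_of _ hc
    · rw [secP_of_not _ hc, shf_apply, Pr_vanish hi (by_contra fun h' => hc ?_)]
      simpa using (isPPart_mul_iff h.central h.ord' _).2 h'
  have k2 := shf_classFun (inv_mem h.central) (isGen_Pr i).classFun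
  set y := emb ℂ H.subtype (single z⁻¹ 1 * e)
  have k3 : PC y = indFun H (secP p z (shf z⁻¹ (Pr M i))) := by
    rw [k1, he.Pr_eq, ← PC_single_mul h.central, ind_PC]
  have k4 : cmp p H b z (PC y) = PC y := by
    rw [cmp_eq, secP_bp_congr hb h.central (η := shf z⁻¹ (Pr M i)) fun c hc => by
      rw [k3, ind_secP_apply h k2 hc], bp_shf (inv_mem h.central) (isGen_Pr i).classFun,
      bp_Pr hb hi, h1, k3]
  refine ⟨y, emb_mem_SG _ (mul_mem (single_mem_SG _ (one_mem _)) he.mem), fun s hs => ?_⟩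
  have k5 := ind_secP_apply h k2 ((isPPart_mul_iff h.central h.ord' s).2 hs)
  rw [shf_apply, inv_mul_cancel_left, ← k3, ← k4, ← bp_cmp h hind (PC_classFun _), k4,
    blockPart_apply] at k5
  simp only [← k5, inner_PC, coe_mul]

theorem nil_of_equal_deg {P : Subgroup G} {e : (Res M)[G]} (hm : MP p ⊤ (bId M B) P e)
    (hB : IsPBlock M B) (hab : P ≤ centralizer (P : Set G)) {n : ℕ}
    (h : ∀ χ ∈ B, charDegree χ.1 = n) : Nil p ⊤ (bId M B) := by
  have := Fintype.ofFinite G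
  have := Fintype.ofFinite P
  have hS := eSet_mem_SG hB
  obtain ⟨j, hj, hd⟩ := exists_point_of_equal_deg p hB h
  obtain ⟨ξ, hξ⟩ := block_nonempty hB
  have hG := card_ne_zero_complex G
  have h1 : ∀ u : P, lU p P e u = 1 := fun u => by
    refine rank_one_of_div (isPBlock_blk (fb_mem hm.bp u.2)) fun i hi s => ?_
    by_cases hs : p ∣ orderOf s
    · rw [Pr_vanish (ptsB_idem hi) hs, zero_div]; exact zero_mem _
    obtain ⟨y, hy, k⟩ := (hm.bp.subEl u).Pr_eq (hm.induced_fb hB u) (ptsB_idem hi)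
      (mem_ptsB.1 hi).2
    have k1 := mul_mem (sum_ev_mem_SG hS hj hd hy ((u : G) * s)⁻¹) (inv_mem_Loc
      ((red_pow_deg_div_ne_zero_iff hξ).2 (height_of_equal_deg (p := p) h hξ)))
    rw [k s hs, hm.defect_fb hB (hab u.2)]
    convert k1 using 1
    rw [coeff_sum_apply, Finset.sum_div, Finset.sum_mul]
    refine Finset.sum_congr rfl fun χ hχ => ?_
    have e1 : χ.1 1 = ξ.1 1 := by
      rw [← coe_charDegree χ.2.isChar, ← coe_charDegree ξ.2.isChar, h χ (mem_irrF.1 hχ), h ξ hξ]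
    have e2 := ξ.2.one_ne_zero
    have e3 := p_pow_ne_zero (p := p) (blockDefect p B)
    simp only [coeff_smul, Finsupp.smul_apply, eChi, coeff_ofFun, smul_eq_mul, coe_zc,
      ← χ.2.isChar.apply_inv, inv_inv, e1]
    field_simp
  have h2 := hm.card_eq_sum hB
  simp only [h1, card_of_equal_deg (p := p) hB h, ← card_isDef hB hm.isDef, Nat.cast_one,
    mul_one] at h2
  have h3 : ∑ u : P, (nF p e u : ℝ)⁻¹ = ∑ u : P, (1 : ℝ) := by
    rw [Finset.sum_const, Finset.card_univ, ← Nat.card_eq_fintype_card, nsmul_one]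
    exact Complex.ofReal_injective (by push_cast; exact h2.symm)
  have h4 := (Finset.sum_eq_sum_iff_of_le fun u _ => inv_le_one_of_one_le₀
    (Nat.one_le_cast.2 (Nat.one_le_iff_ne_zero.2 (nF_ne_zero u)))).1 h3
  refine (hm.nil_iff_abelian hab).2 fun t ht u hu => ?_
  have h5 : nF p e ⟨u, hu⟩ = 1 := by simpa using h4 ⟨u, hu⟩ (Finset.mem_univ _)
  rw [hm.nF_abelian hab, relIndex_eq_one] at h5
  exact h5 ⟨ht.1.2, ht.2⟩ u rfl

theorem Nil.exists_deg {P : Subgroup G} {e : (Res M)[G]} (hn : Nil p ⊤ (bId M B))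
    (hm : MP p ⊤ (bId M B) P e) (hB : IsPBlock M B) : ∃ n : ℕ, ∀ χ ∈ B,
      (blockHeight p B χ.1 = 0 ∨ P ≤ centralizer (P : Set G)) → charDegree χ.1 = n := by
  have := Fintype.ofFinite G
  have := Fintype.ofFinite P
  obtain ⟨ξ, hξ, h0⟩ := exists_height_zero (p := p) (block_nonempty hB)
  obtain ⟨Ψ, hΨ⟩ := hm.exists_equiv hB (hn.isConj_of_fus hm) hξ h0
  refine ⟨charDegree ξ.1, fun χ hχ h => ?_⟩
  obtain ⟨μ, hμ⟩ := Ψ.surjective ⟨χ, hχ⟩
  have h1 : charDegree χ.1 = charDegree μ.1 * charDegree ξ.1 := by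
    have := congrFun (hΨ μ) 1
    rw [hμ, hm.star_deg hB _ hξ, ← coe_charDegree χ.2.isChar, ← coe_charDegree μ.2.isChar,
      ← coe_charDegree ξ.2.isChar] at this
    exact_mod_cast this
  suffices charDegree μ.1 = 1 by rw [h1, this, one_mul]
  rcases h with h | h
  · obtain ⟨k, hk⟩ := IsPGroup.iff_card.1 hm.bp.pgroup
    obtain ⟨i, -, hi⟩ := (Nat.dvd_prime_pow hp.out).1 (hk ▸ charDegree_dvd_card μ.2)
    rw [height_eq_zero_iff hχ, ← (height_eq_zero_iff hξ).1 h0, nu, nu, h1, hi,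
      Nat.factorization_mul (pow_ne_zero _ hp.out.ne_zero) (charDegree_pos ξ.2).ne',
      Finsupp.add_apply, hp.out.factorization_pow, Finsupp.single_eq_same] at h
    rw [hi, show i = 0 by omega, pow_zero]
  · exact charDegree_eq (by
      rw [Nat.cast_one]
      exact μ.2.deg_one_of_comm fun a b => Subtype.ext (h b.2 a a.2))

end CfsgH4
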