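import Cfsg.Agent.H4.Ord4

/-! A real element with centralizer of odd order forces an even character degree. -/

set_option autoImplicit false
open Cfsg CfsgH3 Function Subgroup
open scoped ComplexConjugate

namespace CfsgH4

theorem exists_even_deg_of_real {G : Type*} [Group G] [Finite G] {u : G} (hu : u ≠ 1) (hr : IsConj u u⁻¹)
    (hC : Odd (Nat.card (centralizer ({u} : Set G)))) :
    ∃ χ : IrrCharacter G, Even (charDegree χ.1) := by
  by_contra! h
  have : Fact (Nat.Prime 2) := ⟨Nat.prime_two⟩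
  obtain ⟨M, hM⟩ := exists_isPModular 2
  have := hM.2.1
  have := charP_of_isPModular hM
  let a : IrrCharacter G → AlgInt := fun χ => ⟨χ.1 u, χ.2.isChar.isIntegral u⟩
  have e1 : ∀ χ : IrrCharacter G, (charDegree χ.1 : ℂ) = χ.1 1 := fun χ => coe_charDegree χ.2.isChar
  have e2 : ∀ χ : IrrCharacter G, conj (χ.1 u) = χ.1 u := fun χ => by
    rw [← χ.2.isChar.apply_inv, ← χ.2.classFun.of_isConj hr]
  have h1 : ∑ χ : IrrCharacter G, (charDegree χ.1 : AlgInt) * a χ = 0 := Subtype.ext (by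
    simpa [a, e1] using sum_irr_deg_mul hu)
  have h2 : ∑ χ : IrrCharacter G, a χ ^ 2 = Nat.card (centralizer ({u} : Set G)) := Subtype.ext (by
    simpa [a, sq, e2] using sum_irr_mul_conj_of_isConj (IsConj.refl u))
  have odd1 : ∀ n : ℕ, Odd n → (n : Res M) = 1 := by
    rintro _ ⟨k, rfl⟩
    rw [Nat.cast_add, Nat.cast_mul, CharP.cast_eq_zero]; simp
  let π : AlgInt →+* Res M := Ideal.Quotient.mk M
  have h3 := congrArg π h1
  have h4 := congrArg π h2
  simp only [map_sum, map_mul, map_natCast, map_zero, map_pow, odd1 _ (Nat.not_even_iff_odd.1 (h _)),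
    one_mul, odd1 _ hC] at h3 h4
  have h6 := sum_pow_char (R := Res M) 2 Finset.univ fun χ : IrrCharacter G => π (a χ)
  rw [h3, h4, zero_pow two_ne_zero] at h6
  exact zero_ne_one h6

theorem exists_real_of_even_normalizer {G : Type*} [Group G] [Finite G] {P : Subgroup G} (hP : P ≠ ⊥)
    (hC : ∀ g ∈ P, g ≠ 1 → Odd (Nat.card (centralizer ({g} : Set G))))
    (hN : Even (Nat.card (normalizer (P : Set G)))) : ∃ u ∈ P, u ≠ 1 ∧ IsConj u u⁻¹ := by
  have : Fact (Nat.Prime 2) := ⟨Nat.prime_two⟩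
  obtain ⟨t, ht⟩ := exists_prime_orderOf_dvd_card' 2 hN.two_dvd
  obtain ⟨x, hx⟩ := ne_bot_iff_exists_ne_one.1 hP
  have ht2 : (t : G) * t = 1 := by
    rw [← sq, ← ht]; exact congrArg Subtype.val (pow_orderOf_eq_one t)
  have hi : (t : G)⁻¹ = t := inv_eq_of_mul_eq_one_right ht2
  refine ⟨(x : G)⁻¹ * (t * x * (t : G)⁻¹), mul_mem (inv_mem x.2) ((mem_normalizer_iff.1 t.2 x).1 x.2),
    fun e => ?_, isConj_iff.2 ⟨t, ?_⟩⟩
  · have h1 : (t : G) ∈ centralizer {(x : G)} := mem_centralizer_singleton_iff.2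
      (mul_inv_eq_iff_eq_mul.1 (inv_mul_eq_one.1 e).symm)
    have h2 := orderOf_dvd_natCard (⟨t, h1⟩ : centralizer {(x : G)})
    rw [orderOf_mk, orderOf_coe, ht] at h2
    exact (Nat.not_even_iff_odd.2 (hC x x.2 fun e => hx (Subtype.ext e))) (even_iff_two_dvd.2 h2)
  · calc (t : G) * ((x : G)⁻¹ * (t * x * (t : G)⁻¹)) * (t : G)⁻¹
        = t * (x : G)⁻¹ * t * x * ((t : G) * t)⁻¹ := by group
      _ = t * (x : G)⁻¹ * (t : G)⁻¹ * x := by rw [ht2, hi]; group
      _ = _ := by group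

end CfsgH4
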