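import Mathlib
import Cfsg.Agent.H4.PSol3
import Cfsg.Agent.H4.Ord3
import Cfsg.Agent.H4.Reg
import Cfsg.Agent.H4.Pairs2
import Cfsg.Agent.H1.Solv

/-! Schur's bound for rational characters of `p`-groups and its `p`-solvable version. -/

set_option autoImplicit false
open Subgroup Function Cfsg CfsgH3 Finset

namespace CfsgH4
universe u
variable {G : Type u} [Group G] [Finite G] {p : ℕ} [hp : Fact p.Prime]

theorem geom_re_nonneg {q : ℕ} (s : Multiset ℂ) (h : ∀ z ∈ s, z ^ q = 1) :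
    0 ≤ (∑ j ∈ range q, (s.map fun z => z ^ (j + 1)).sum).re := by
  induction s using Multiset.induction with
  | empty => simp
  | cons a s ih =>
    simp only [Multiset.map_cons, Multiset.sum_cons, sum_add_distrib, Complex.add_re]
    refine add_nonneg ?_ (ih fun z hz => h z (Multiset.mem_cons_of_mem hz))
    by_cases e : a = 1
    · simp [e]
    · have : ∑ j ∈ range q, a ^ (j + 1) = 0 := by
        simp only [pow_succ, ← sum_mul, geom_sum_eq e, h a (Multiset.mem_cons_self _ _), sub_self, zero_div, zero_mul]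
      simp [this]

theorem rat_value {ψ : G → ℂ} (hψ : IsCharacter G ψ) {n : ℕ} (hn : ψ 1 = n) {g : G} (hg : ∃ k, orderOf g = p ^ k)
    (hr : ∀ k, Nat.Coprime k p → ψ (g ^ k) = ψ g) : ∃ t ≤ n / (p - 1), ψ g = n - p * t := by
  obtain ⟨k, hk⟩ := hg
  rcases k with _ | k
  · exact ⟨0, Nat.zero_le _, by rw [orderOf_eq_one_iff.1 hk, hn]; simp⟩
  obtain ⟨m, hm⟩ := hψ.isGen.exists_int_of_pow (g := g) fun j hj =>
    hr j (hj.coprime_dvd_right (hk ▸ dvd_pow_self p k.succ_ne_zero))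
  obtain ⟨M, hM⟩ := exists_isPModular p
  have := hM.2.1
  have := charP_of_isPModular hM
  have h1 := red_apply_mul (M := M) hψ (Commute.one_right g) ⟨_, hk⟩
  rw [mul_one, hm, hn] at h1
  have h2 : (p : ℤ) ∣ n - m := (red_intCast_eq_zero_iff (M := M)).1 (by
    rw [red_intCast]; rw [red_intCast, red_natCast] at h1; push_cast; rw [h1, sub_self])
  have le : ∀ x, (ψ x).re ≤ n := fun x => (Complex.re_le_norm _).trans ((hψ.norm_le x).trans (by simp [hn]))
  have h3 : m ≤ n := by have := le g; rw [hm] at this; exact_mod_cast this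
  obtain ⟨s, hs, -, -, -, hs'⟩ := hψ.exists_eigenvalues' g
  have h4 := geom_re_nonneg s hs
  simp only [← hs', Complex.re_sum] at h4
  have h5 : ∑ j ∈ range (orderOf g), (ψ (g ^ (j + 1))).re ≤
      ∑ j ∈ range (orderOf g), ((m : ℝ) + if p ∣ j + 1 then (n - m : ℝ) else 0) := sum_le_sum fun j _ => by
    split_ifs with e
    · linarith [le (g ^ (j + 1))]
    · rw [hr _ ((Nat.Prime.coprime_iff_not_dvd hp.out).2 e).symm, hm]; simp
  rw [sum_add_distrib, ← sum_filter, sum_const, sum_const, Nat.card_multiples, card_range, hk, pow_succ,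
    Nat.mul_div_cancel _ hp.out.pos] at h5
  have h6 : (0 : ℝ) < p ^ k := by have := hp.out.pos; positivity
  have h7 : (0 : ℝ) ≤ p * m + (n - m) := by
    refine le_of_mul_le_mul_left ?_ h6
    simp only [nsmul_eq_mul] at h5; push_cast at h5
    have := (hk ▸ h4).trans h5
    rw [mul_zero]; convert this using 1; ring
  have h8 : (0 : ℤ) ≤ p * m + (n - m) := by exact_mod_cast h7
  obtain ⟨c, hc⟩ := h2
  have p2 := hp.out.two_le
  have c0 : 0 ≤ c := by by_contra! h; nlinarith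
  lift c to ℕ using c0
  refine ⟨c, (Nat.le_div_iff_mul_le (by omega)).2 ?_, ?_⟩
  · have : (c : ℤ) * (p - 1) ≤ n := by
      refine le_of_mul_le_mul_left ?_ (show (0 : ℤ) < p by omega)
      have : m = n - p * c := by linarith
      subst this; nlinarith
    zify [show 1 ≤ p by omega]; exact this
  · rw [hm, show m = n - p * c by linarith]; push_cast; ring

theorem schur_core (hG : IsPGroup p G) {ψ : G → ℂ} (hψ : IsCharacter G ψ) {n : ℕ} (hn : ψ 1 = n)
    (hr : ∀ g k, Nat.Coprime k p → ψ (g ^ k) = ψ g) :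
    hψ.ker.index ∣ p ^ (n / (p - 1)) * (n / (p - 1)).factorial := by
  classical
  have := Fintype.ofFinite G
  set r := n / (p - 1)
  let f : G → ℂ := ∏ t ∈ range r, (ψ - ((n - p * (t + 1) : ℤ) : ℂ) • fun _ => 1)
  have hf : IsGeneralizedCharacter G f := mem_genSubring.1 (Subring.prod_mem _ fun t _ =>
    mem_genSubring.2 (hψ.isGen.sub (isGen_one.intCast_smul _)))
  have e : ∀ g, f g = if g ∈ hψ.ker then ((p ^ r * r.factorial : ℕ) : ℂ) else 0 := fun g => by
    simp only [f, Finset.prod_apply, Pi.sub_apply, Pi.smul_apply, smul_eq_mul, mul_one]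
    split_ifs with h
    · rw [hψ.mem_ker.1 h, hn, ← Finset.prod_range_add_one_eq_factorial]
      push_cast
      simp only [sub_sub_cancel, prod_mul_distrib, prod_const, card_range]
    · obtain ⟨t, ht, h1⟩ := rat_value hψ hn (IsPGroup.iff_orderOf.1 hG g) (hr g)
      rcases t with _ | t
      · exact absurd (hψ.mem_ker.2 (by rw [h1, hn]; simp)) h
      · exact prod_eq_zero (mem_range.2 ht) (by rw [h1]; push_cast; ring)
  obtain ⟨c, hc⟩ := hf.inner_int isGen_one
  rw [inner_one_right, sum_congr rfl fun g _ => e g, ← sum_filter, sum_const,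
    ← hψ.ker.card_mul_index, show #{g | g ∈ hψ.ker} = Nat.card hψ.ker by
      rw [Nat.card_eq_fintype_card, Fintype.card_subtype]] at hc
  have h0 : (Nat.card hψ.ker : ℂ) ≠ 0 := card_ne_zero_complex _
  have h1 : (hψ.ker.index : ℂ) ≠ 0 := by exact_mod_cast hψ.ker.index_ne_zero_of_finite
  rw [← Int.natCast_dvd_natCast]
  refine ⟨c, ?_⟩
  have : ((p ^ r * r.factorial : ℕ) : ℂ) = hψ.ker.index * c := by
    rw [← hc, nsmul_eq_mul]; push_cast; field_simp
  exact_mod_cast this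

omit [Finite G] in
theorem schur_num {a n : ℕ} (h : p ^ a ∣ p ^ (n / (p - 1)) * (n / (p - 1)).factorial) :
    a ≤ ∑ i ∈ range (n + 1), n / ((p - 1) * p ^ i) := by
  set r := n / (p - 1) with hr
  have h0 : p ^ r * r.factorial ≠ 0 := mul_ne_zero (pow_ne_zero _ hp.out.ne_zero) r.factorial_ne_zero
  have h1 := (hp.out.pow_dvd_iff_le_factorization h0).1 h
  have h2 : Nat.log p r < n + 1 := Nat.lt_succ_of_le ((Nat.log_le_self _ _).trans (Nat.div_le_self _ _))
  rw [Nat.factorization_mul (pow_ne_zero _ hp.out.ne_zero) r.factorial_ne_zero, Finsupp.add_apply,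
    Nat.factorization_pow_self hp.out, Nat.factorization_factorial hp.out h2] at h1
  simp only [← Nat.div_div_eq_div_mul, ← hr]
  rwa [range_eq_Ico, sum_eq_sum_Ico_succ_bot (Nat.succ_pos n), pow_zero, Nat.div_one]

theorem schur_bound {χ : G → ℂ} (hχ : IsCharacter G χ) (hf : ∀ g : G, χ g = χ 1 → g = 1) {r : ℕ} (h0 : 0 < r) (hr : ¬ p ∣ r)
    (h : ∀ g : G, χ g ∈ IntermediateField.adjoin ℚ ({Complex.exp (2 * Real.pi * Complex.I / r)} : Set ℂ)) :
    (Nat.card G).factorization p ≤ ∑ i ∈ range (charDegree χ + 1), charDegree χ / ((p - 1) * p ^ i) := by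
  obtain ⟨P⟩ : Nonempty (Sylow p G) := inferInstance
  have h1 := schur_core P.isPGroup' (hχ.restrict P) (coe_charDegree hχ).symm fun g k hk => by
    obtain ⟨j, hj⟩ := IsPGroup.iff_orderOf.1 P.isPGroup' g
    obtain ⟨σ, s1, s2⟩ := exists_ringEquiv_pow_fix (a := p ^ j) (k := k) (pow_ne_zero _ hp.out.ne_zero) h0.ne'
      (((Nat.Prime.coprime_iff_not_dvd hp.out).2 hr).pow_left _) (hk.pow_right _)
    rw [← (hχ.restrict P).isGen.map_eq_apply_pow (σ := (σ : ℂ →+* ℂ)) (hj ▸ s1)]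
    exact fixed_of_mem_adjoin _ (s2 _ (exp_pow_eq_one h0.ne')) (h _)
  rw [show (hχ.restrict P).ker = ⊥ from eq_bot_iff.2 fun g hg => Subtype.ext (hf _ hg), index_bot, P.card_eq_multiplicity] at h1
  exact schur_num h1

section ext
variable {N : Subgroup G} [hN : N.Normal]
omit hp

theorem exists_rat_over (hc : Nat.Coprime N.index (Nat.card N)) [Fintype G] {θ : N → ℂ} (hθ : IsIrrCharacter N θ) :
    ∃ χ, IsCharacter G χ ∧ (fun n : N => χ n) = ∑ ψ ∈ cjOrbit θ, ψ ∧
      ∀ σ : ℂ →+* ℂ, (∀ z : ℂ, z ^ Nat.card N = 1 → σ z = z) → ∀ g, σ (χ g) = χ g := by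
  set T := inertia θ with hT
  have := Fintype.ofFinite N
  have := Fintype.ofFinite (N.subgroupOf T)
  have h : N ≤ T := le_inertia hθ.classFun
  have hd : (N.subgroupOf T).index ∣ N.index := relIndex_dvd_index_of_le h
  have hc' : Nat.Coprime (N.subgroupOf T).index (Nat.card (N.subgroupOf T)) := by
    rw [CfsgH1.card_subgroupOf_of_le h]; exact hc.coprime_dvd_left hd
  obtain ⟨ψ, ⟨hψ, he, ho⟩, hu⟩ := ext_of_hall (hθ.toSubOf h) (fun t => by rw [cj_toSubOf, mem_inertia.1 t.2]) hc'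
  have hres : resLe h ψ = θ := funext fun n => he ⟨⟨n, h n.2⟩, n.2⟩
  have h1 : classInner (resLe h ψ) θ = 1 := by rw [hres, hθ.inner_self]
  obtain ⟨h2, h3⟩ := clifford_corr_irr hθ hT h hψ (by rw [h1]; exact one_ne_zero)
  refine ⟨_, h2.isChar, ?_, fun σ hσ g => ?_⟩
  · rw [clifford h2 hθ (by rw [h3, h1]; exact one_ne_zero), h3, h1, one_smul]
  · have := hu _ (hψ.map_ringHom σ) (fun n => by
      rw [he, toSubOf, hθ.isGen.map_eq_apply_pow (k := 1) fun z hz => by
        rw [pow_one]; exact hσ z (pow_eq_one_of_dvd hz (orderOf_dvd_natCard _)), pow_one])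
      (by rw [detOrder_gal hψ.isChar, ho]; exact hc'.coprime_dvd_right (detOrder_dvd_card (hθ.toSubOf h).isChar))
    rw [← congrFun (indFun_map_ringHom σ T ψ) g, this]

theorem exists_rat_ext (hc : Nat.Coprime N.index (Nat.card N)) (d : ℕ) : ∀ φ : N → ℂ, IsCharacter N φ → φ 1 = d →
    (∀ g : G, CfsgH3.cj g φ = φ) → ∃ χ, IsCharacter G χ ∧ (∀ n : N, χ n = φ n) ∧
      ∀ σ : ℂ →+* ℂ, (∀ z : ℂ, z ^ Nat.card N = 1 → σ z = z) → ∀ g, σ (χ g) = χ g := by
  classical
  have := Fintype.ofFinite G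
  have := Fintype.ofFinite N
  induction d using Nat.strong_induction_on with
  | _ d ih =>
  intro φ hφ hd hi
  by_cases h0 : φ = 0
  · exact ⟨0, isChar_zero, by simp [h0], by simp⟩
  obtain ⟨θ, hθ, h1⟩ := hφ.classFun.exists_constituent h0
  obtain ⟨χ, hχ, e, hσ⟩ := exists_rat_over hc hθ
  have ip : ∀ ξ, IsIrrCharacter N ξ → classInner (fun n : N => χ n) ξ = if ξ ∈ cjOrbit θ then 1 else 0 := fun ξ hξ => by
    rw [e, CfsgH3.inner_sum_left, ← sum_ite_eq' (cjOrbit θ) ξ fun _ => (1 : ℂ)]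
    refine sum_congr rfl fun ψ hψ => ?_
    obtain ⟨g, rfl⟩ := mem_cjOrbit.1 hψ
    convert (hθ.cj g).inner_eq hξ
  have hφ' : IsCharacter N (φ - fun n : N => χ n) := isChar_of_inner_nat
    (isClassFunction_sub hφ.classFun (hχ.restrict N).classFun) fun ξ hξ => by
      obtain ⟨m, hm⟩ := hφ.inner_nat hξ.isChar
      rw [CfsgH3.inner_sub_left, hm, ip ξ hξ]
      split_ifs with h
      · obtain ⟨g, rfl⟩ := mem_cjOrbit.1 h
        have : m ≠ 0 := fun c => h1 (by rw [← ip_cj_cj g, hi, hm, c, Nat.cast_zero])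
        exact ⟨m - 1, by rw [Nat.cast_sub (by omega), Nat.cast_one]⟩
      · exact ⟨m, sub_zero _⟩
  obtain ⟨a, ha⟩ := hφ'.exists_deg
  obtain ⟨b, hb⟩ := (hχ.restrict N).exists_deg
  have b0 : b ≠ 0 := fun c => by
    have h2 := (hχ.restrict N).eq_zero_of_deg (by rw [hb, c, Nat.cast_zero])
    have h3 := ip θ hθ
    rw [if_pos (self_mem_cjOrbit θ), h2, CfsgH3.inner_zero_left] at h3
    exact zero_ne_one h3
  have hab : a + b = d := by
    have : (a : ℂ) + b = d := by rw [← ha, ← hb, ← hd]; simp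
    exact_mod_cast this
  obtain ⟨χ', h2, h3, h4⟩ := ih a (by omega) _ hφ' ha fun g => by rw [cj_sub, hi, cj_res hχ.classFun]
  exact ⟨χ + χ', hχ.add h2, fun n => by simp [h3], fun σ h g => by simp [hσ σ h, h4 σ h]⟩

include hp in
theorem exists_rat_res (hNp : (Nat.card N).Coprime p) {P : Subgroup G} (hP : IsPGroup p P) {χ : G → ℂ} (hχ : IsCharacter G χ)
    (hf : ∀ g, χ g = χ 1 → g = 1) : ∃ (ψ : P → ℂ) (h : IsCharacter P ψ), ψ 1 = χ 1 ∧
      (∀ g k, Nat.Coprime k p → ψ (g ^ k) = ψ g) ∧ ∀ g ∈ h.ker, (g : G) ∈ centralizer (N : Set G) := by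
  set T := N ⊔ P
  obtain ⟨a, ha⟩ := IsPGroup.iff_card.1 hP
  have hc : Nat.Coprime (N.subgroupOf T).index (Nat.card (N.subgroupOf T)) := by
    rw [CfsgH1.card_subgroupOf_of_le le_sup_left]
    refine (hNp.symm.pow_left a).coprime_dvd_left ?_
    rw [← ha]; exact (relIndex_sup_left P N).dvd.trans (relIndex_dvd_card N P)
  obtain ⟨d, hd⟩ := hχ.exists_deg
  obtain ⟨η, hη, e, hσ⟩ := exists_rat_ext hc d (fun n => χ n) ((hχ.restrict T).restrict _) hd
    (cj_res (hχ.restrict T).classFun)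
  refine ⟨_, hη.comp (inclusion (le_sup_right : P ≤ T)), ?_, fun g k hk => ?_, fun g hg n hn => ?_⟩
  · rw [map_one]; exact e 1
  · obtain ⟨j, hj⟩ := IsPGroup.iff_orderOf.1 hP g
    obtain ⟨σ, s1, s2⟩ := exists_ringEquiv_pow_fix (a := p ^ j) (k := k) (pow_ne_zero _ hp.out.ne_zero)
      (Nat.card_pos (α := N)).ne' (hNp.symm.pow_left _) (hk.pow_right _)
    rw [← (hη.comp (inclusion (le_sup_right : P ≤ T))).isGen.map_eq_apply_pow (σ := (σ : ℂ →+* ℂ)) (hj ▸ s1)]
    exact hσ _ (by rw [CfsgH1.card_subgroupOf_of_le le_sup_left]; exact s2) _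
  · have h1 : inclusion (le_sup_right : P ≤ T) g ∈ hη.ker := by
      have : η (inclusion _ g) = η (inclusion (le_sup_right : P ≤ T) 1) := hg
      rwa [map_one] at this
    let n' : T := ⟨n, mem_sup_left hn⟩
    have h2 := hη.ker.mul_mem ((normal_charKer hη).conj_mem _ h1 n') (hη.ker.inv_mem h1)
    have h3 : n * g * n⁻¹ * (g : G)⁻¹ ∈ N := by
      rw [mul_assoc, mul_assoc, ← mul_assoc (g : G)]; exact mul_mem hn (hN.conj_mem _ (inv_mem hn) _)
    have h4 := (e ⟨_, h3⟩).symm.trans (h2.trans (e 1))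
    have h5 := hf _ h4
    exact mul_inv_eq_iff_eq_mul.1 (mul_inv_eq_one.1 h5)

end ext

open CfsgH1 Pointwise in
theorem psolv_schur {χ : G → ℂ} (hχ : IsCharacter G χ) (hf : ∀ g : G, χ g = χ 1 → g = 1) (hs : IsPSolvable p G) :
    (pCore p G).index.factorization p ≤ ∑ i ∈ range (charDegree χ + 1), charDegree χ / ((p - 1) * p ^ i) := by
  set O := pCore p G
  set N := (pPrimeCore p (G ⧸ O)).comap (QuotientGroup.mk' O) with hN
  have hsN := piSep_of_isPSolvable (IsPSolvable.subgroup hs N)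
  obtain ⟨H, hH, -⟩ := hsN.exists_hallOf_ge (K := ⊥) bot_le (by simpa using IsPiNum.one) False.elim
  obtain ⟨h1, h2, h3⟩ := isPiHallOf_iff.1 hH
  have h4 : N ≤ H ⊔ O := relIndex_eq_one.1 (IsPiNum.eq_one (π := {p}ᶜ)
    (((IsPiNum.compl_singleton_iff hp.out).2 (coprime_card_pPrimeCore p (G ⧸ O))).of_dvd
      (relIndex_comap_mk' O _ ▸ relIndex_dvd_of_le_left _ le_sup_right))
    (h3.of_dvd (relIndex_dvd_of_le_left _ le_sup_left)))
  set L := normalizer (H : Set G)
  have h5 : ∀ g, g ∈ L ⊔ O := fun g => by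
    obtain ⟨m, hm, e⟩ := hsN.hallOf_conj (IsPiHallOf.conj hH (g := g) (by rw [normalizer_eq_top]; trivial)) hH False.elim
    rw [← mul_smul, ← map_mul] at e
    have : m * g ∈ L := conjAct_pointwise_smul_iff.1 e
    rw [show g = m⁻¹ * (m * g) by group]
    exact mul_mem (inv_mem (sup_le_sup_right le_normalizer _ (h4 hm))) (mem_sup_left this)
  let f : L →* G ⧸ O := (QuotientGroup.mk' O).comp L.subtype
  have hfs : Surjective f := fun q => by
    obtain ⟨g, rfl⟩ := QuotientGroup.mk_surjective q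
    have := h5 g
    rw [← SetLike.mem_coe, mul_normal] at this
    obtain ⟨l, hl, o, ho, rfl⟩ := this
    exact ⟨⟨l, hl⟩, by simp [f, (QuotientGroup.eq_one_iff o).2 ho]⟩
  obtain ⟨P⟩ : Nonempty (Sylow p L) := inferInstance
  obtain ⟨ψ, hψ, e1, e2, e3⟩ := exists_rat_res (N := H.subgroupOf L)
    (by rw [card_subgroupOf_of_le le_normalizer]; exact (IsPiNum.compl_singleton_iff hp.out).1 h2) P.isPGroup'
    (hχ.restrict L) fun g hg => Subtype.ext (hf _ hg)
  refine schur_num (dvd_trans ?_ (schur_core P.isPGroup' hψ (e1.trans (coe_charDegree hχ).symm) e2))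
  have e4 := (P.mapSurjective hfs).card_eq_multiplicity
  rw [Sylow.coe_mapSurjective, ← f.domRestrict_range, ← index_ker] at e4
  rw [index_eq_card, ← e4]
  refine index_dvd_of_le fun g hg => ?_
  have e5 : f g ∈ pPrimeCore p (G ⧸ O) := IsPSolvable.centralizer_pPrimeCore_le (IsPSolvable.quotient hs O)
    (pCore_quotient_pCore p G) fun q hq => by
      obtain ⟨x, rfl⟩ := QuotientGroup.mk_surjective q
      have := h4 (show x ∈ N from hq)
      rw [← SetLike.mem_coe, mul_normal] at this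
      obtain ⟨l, hl, o, ho, rfl⟩ := this
      have := congrArg f (e3 g hg ⟨l, le_normalizer hl⟩ hl)
      simpa [f, (QuotientGroup.eq_one_iff o).2 ho] using this
  exact disjoint_def.1 (disjoint_of_isPGroup_of_coprime (P.isPGroup'.map f) (coprime_card_pPrimeCore p _))
    ⟨g, g.2, rfl⟩ e5

end CfsgH4
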