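import Cfsg.Agent.H4.Glaub4
import Cfsg.Agent.H4.Ord2
import Cfsg.Agent.H4.Kernel
import Cfsg.Agent.H2.PResidual

/-! Galois-fixed characters of `p'`-degree in principal blocks and `O^p(G)`. -/

open Subgroup Function Cfsg CfsgH3

namespace CfsgH4.Sig1

theorem card_tors_comm {Q : Type*} [CommGroup Q] [Finite Q] [IsCyclic Q] {p : ℕ} (h : p ∣ Nat.card Q) :
    Nat.card {l : Q →* ℂˣ // l ^ p = 1} = p := by
  have : NeZero (Monoid.exponent Q) := ⟨Monoid.exponent_ne_zero_of_finite⟩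
  obtain ⟨e⟩ := CommGroup.monoidHom_mulEquiv_of_hasEnoughRootsOfUnity Q ℂ
  have h1 := IsCyclic.card_powMonoidHom_ker Q p
  rw [Nat.gcd_eq_right h] at h1
  rw [← h1]
  refine Nat.card_congr (e.toEquiv.subtypeEquiv fun l => ?_)
  rw [MonoidHom.mem_ker, powMonoidHom_apply]
  change _ ↔ e l ^ _ = 1
  rw [← map_pow, map_eq_one_iff e e.injective, h1]

theorem card_tors {Q : Type*} [Group Q] [Finite Q] [IsCyclic Q] {p : ℕ} (h : p ∣ Nat.card Q) :
    Nat.card {l : Q →* ℂˣ // l ^ p = 1} = p := by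
  letI : CommGroup Q := IsCyclic.commGroup
  exact card_tors_comm h

variable {G : Type*} [Group G] [Finite G] {p : ℕ} [hp : Fact p.Prime]

theorem principal_iff {M : Ideal AlgInt} (hM : IsPModular p M) {N : Subgroup G} [N.Normal] {j : ℕ}
    (hj : N.index = p ^ j) {χ : IrrCharacter G} {θ : IrrCharacter N} (h : ∀ n : N, χ.1 n = θ.1 n) :
    χ ∈ principalBlock M G ↔ θ ∈ principalBlock M N := by
  have := hM.2.1
  have := charP_of_isPModular hM
  rw [mem_principal_iff (p := p), mem_principal_iff (p := p), om_apply, om_apply, ev_hat, ev_hat]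
  have e : {g : G | ¬ p ∣ orderOf g} = Subtype.val '' {g : N | ¬ p ∣ orderOf g} := by
    ext g
    constructor
    · intro hg
      exact ⟨⟨g, mem_of_not_dvd_orderOf hj hg⟩, by simpa using hg, rfl⟩
    · rintro ⟨n, hn, rfl⟩
      simpa using hn
  rw [e, finsum_mem_image Subtype.val_injective.injOn]
  simp only [h]
  rw [show χ.1 1 = θ.1 1 from h 1]

theorem main (M : Ideal AlgInt) (hM : IsPModular p M) (P : Sylow p G) (N : Subgroup G) [hN : N.Normal]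
    (hNres : N = pResidual p G) (hcyc : IsCyclic (G ⧸ N)) (hnt : N ≠ ⊤) (k : ℕ)
    (hk₁ : ∀ g : G, (∃ j : ℕ, orderOf g = p ^ j) → g ^ k = g ^ (1 + p))
    (hk₂ : ∀ g : G, Nat.Coprime (orderOf g) p → g ^ k = g) :
    Nat.card {χ : IrrCharacter G // χ ∈ principalBlock M G ∧ ¬ p ∣ charDegree (χ : G → ℂ) ∧
      ∀ g : G, (χ : G → ℂ) (g ^ k) = (χ : G → ℂ) g} =
    p * Nat.card {θ : IrrCharacter ↥N // θ ∈ principalBlock M ↥N ∧ ¬ p ∣ charDegree (θ : ↥N → ℂ) ∧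
      (∀ x ∈ (P : Subgroup G), ∀ n : ↥N,
        (θ : ↥N → ℂ) ⟨x * n * x⁻¹, hN.conj_mem n n.2 x⟩ = (θ : ↥N → ℂ) n) ∧
      ∀ n : ↥N, (θ : ↥N → ℂ) (n ^ k) = (θ : ↥N → ℂ) n} := by
  have := Fintype.ofFinite G
  obtain ⟨j, hj⟩ : ∃ j, N.index = p ^ j := hNres ▸ CfsgH2.index_pResidual p G
  have hpj : p ∣ Nat.card (G ⧸ N) := by
    change p ∣ N.index
    rcases j with _ | j
    · exact absurd (index_eq_one.1 hj) hnt
    · rw [hj]; exact dvd_pow_self p (by omega)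
  have hkc : Nat.Coprime k (Nat.card G) := by
    apply Nat.coprime_of_dvd
    intro q hq h1 h2
    have := Fact.mk hq
    obtain ⟨g, hg⟩ := exists_prime_orderOf_dvd_card' q h2
    have h3 : g ^ k = g := by
      by_cases e : q = p
      · rw [hk₁ g ⟨1, by rw [hg, e, pow_one]⟩, pow_add, pow_one, ← e, ← hg, pow_orderOf_eq_one, mul_one]
      · exact hk₂ g (hg ▸ (Nat.coprime_primes hq hp.out).2 e)
    rw [orderOf_dvd_iff_pow_eq_one.1 (hg ▸ h1)] at h3
    rw [← h3, orderOf_one] at hg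
    exact hq.one_lt.ne hg
  obtain ⟨σ, hσ⟩ := exists_ringEquiv_apply_pow (G := G) hkc
  have hq : ∀ g : G, ((g ^ k : G) : G ⧸ N) = (g : G ⧸ N) ^ (1 + p) := by
    intro g
    obtain ⟨x, y, rfl, hc, hx, hy⟩ := exists_isPPart (p := p) g
    have hy1 : (y : G ⧸ N) = 1 := (QuotientGroup.eq_one_iff y).2 (mem_of_not_dvd_orderOf hj hy)
    rw [hc.mul_pow, hk₁ x hx, QuotientGroup.mk_mul, QuotientGroup.mk_mul, QuotientGroup.mk_pow,
      QuotientGroup.mk_pow, hy1, one_pow, mul_one, mul_one]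
  have hPN : (P : Subgroup G) ⊔ N = ⊤ := by
    rw [← index_eq_one]
    exact Nat.eq_one_of_dvd_coprimes
      (((hp.out.coprime_iff_not_dvd).2 P.not_dvd_index).symm.pow_right j)
      (index_dvd_of_le le_sup_left) (hj ▸ index_dvd_of_le le_sup_right)
  have hex : ∀ θ : {θ : IrrCharacter ↥N // θ ∈ principalBlock M ↥N ∧ ¬ p ∣ charDegree (θ : ↥N → ℂ) ∧
      (∀ x ∈ (P : Subgroup G), ∀ n : ↥N,
        (θ : ↥N → ℂ) ⟨x * n * x⁻¹, hN.conj_mem n n.2 x⟩ = (θ : ↥N → ℂ) n) ∧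
      ∀ n : ↥N, (θ : ↥N → ℂ) (n ^ k) = (θ : ↥N → ℂ) n}, ∃ χ : G → ℂ, IsIrrCharacter G χ ∧
      (∀ n : N, χ n = θ.1.1 n) ∧ ∀ g, χ (g ^ k) = χ g := by
    rintro ⟨θ, -, hd, hi, hf⟩
    have hinv : ∀ g : G, CfsgH3.cj g θ.1 = θ.1 := by
      intro g
      obtain ⟨x, hx, n, hn, rfl⟩ := mem_sup_of_normal_right.1 (hPN ▸ mem_top g)
      funext m
      have e1 := hi x hx (⟨n, hn⟩ * m * ⟨n, hn⟩⁻¹)
      rw [θ.2.classFun] at e1
      rw [← e1]
      exact congrArg θ.1 (Subtype.ext (by simp [mul_assoc]))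
    obtain ⟨d, -, hd1⟩ := θ.2.exists_deg
    rw [charDegree_eq hd1] at hd
    obtain ⟨δ, hδ⟩ := exists_detHom θ.2.isChar
    have ho : ¬ p ∣ detOrder θ.1 := by
      rw [detOrder_eq hδ]
      refine not_dvd_orderOf_of_residual hp.out (fun L hL hLN ⟨i, hi⟩ => le_antisymm hLN ?_)
        (linInv_det θ.2.isChar hinv hδ)
      rw [hNres]
      refine CfsgH2.pResidual_le_of_index (k := i + j) ?_
      rw [← relIndex_mul_index hLN, hi, hj, pow_add]
    have hc1 : N.index.Coprime (detOrder θ.1) := hj ▸ ((hp.out.coprime_iff_not_dvd).2 ho).pow_left j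
    have hc2 : N.index.Coprime d := hj ▸ ((hp.out.coprime_iff_not_dvd).2 hd).pow_left j
    obtain ⟨χ, ⟨h1, h2, h3⟩, hu⟩ := ext_coprime θ.2 hinv hd1 (hc1.mul_right hc2)
    refine ⟨χ, h1, h2, fun g => ?_⟩
    have e2 := hu (fun g => (σ : ℂ →+* ℂ) (χ g)) (h1.map_ringHom _)
      (fun n => by
        change σ (χ n) = _
        rw [hσ χ h1.isGen, ← hf n, ← h2]; rfl)
      (by rw [detOrder_gal h1.isChar, h3]; exact hc1)
    rw [← hσ χ h1.isGen]
    exact congrFun e2 g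
  choose E hE using hex
  have hirr : ∀ θ, IsIrrCharacter N (fun n : N => E θ n) := fun θ => by
    rw [show (fun n : N => E θ n) = θ.1.1 from funext (hE θ).2.1]; exact θ.1.2
  have hgal : ∀ θ (lam lam' : G ⧸ N →* ℂˣ),
      (∀ g, E θ g * (lam (g : G ⧸ N) : ℂ) = E θ g * (lam' (g : G ⧸ N) : ℂ)) → lam = lam' := by
    intro θ lam lam' h1
    have h3 := (gallagher (hE θ).1.isChar (hirr θ)).2
      (a₁ := ⟨_, isIrr_unitsHom lam⟩) (a₂ := ⟨_, isIrr_unitsHom lam'⟩) (by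
        funext g; simp only [Pi.mul_apply]; rw [mul_comm, h1, mul_comm])
    ext q; exact congrFun (congrArg Subtype.val h3) q
  rw [mul_comm]
  conv_rhs => enter [2]; rw [← card_tors hpj]
  rw [← Nat.card_prod]
  symm
  refine Nat.card_eq_of_bijective (fun x => ⟨⟨fun g => E x.1 g * ((x.2.1.comp (QuotientGroup.mk' N)) g : ℂ),
    (hE x.1).1.mul_linear _⟩, ?_, ?_, ?_⟩) ⟨?_, ?_⟩
  · refine (principal_iff hM hj (θ := x.1.1) fun n => ?_).2 x.1.2.1
    simp [(QuotientGroup.eq_one_iff _).2 n.2, (hE x.1).2.1]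
  · obtain ⟨d, -, hd⟩ := x.1.1.2.exists_deg
    have h1 : E x.1 1 = d := by rw [← hd, ← (hE x.1).2.1 1]; rfl
    rw [charDegree_eq (n := d) (by simp [h1]), ← charDegree_eq hd]
    exact x.1.2.2.1
  · intro g
    have h1 : x.2.1 (g : G ⧸ N) ^ p = 1 := by
      rw [← MonoidHom.pow_apply, x.2.2, MonoidHom.one_apply]
    simp only [MonoidHom.comp_apply, QuotientGroup.mk'_apply]
    rw [(hE x.1).2.2, hq, map_pow, pow_add, h1, pow_one, mul_one]
  · rintro ⟨θ, lam⟩ ⟨θ', lam'⟩ h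
    have h1 : ∀ g, E θ g * (lam.1 (g : G ⧸ N) : ℂ) = E θ' g * (lam'.1 (g : G ⧸ N) : ℂ) :=
      fun g => congrFun (congrArg (fun x => x.1.1) h) g
    have h2 : θ = θ' := Subtype.ext (Subtype.ext (funext fun n => by
      have := h1 n
      rw [(QuotientGroup.eq_one_iff _).2 n.2, (hE θ).2.1, (hE θ').2.1] at this
      simpa using this))
    subst h2
    rw [Subtype.ext (hgal θ _ _ h1)]
  · rintro ⟨χ, hχ0, hχ, hχk⟩
    have h1 := irr_res_of_coprime_deg (N := N) χ.2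
      (hj ▸ ((hp.out.coprime_iff_not_dvd).2 hχ).symm.pow_right j)
    let θ : {θ : IrrCharacter ↥N // θ ∈ principalBlock M ↥N ∧ ¬ p ∣ charDegree (θ : ↥N → ℂ) ∧
      (∀ x ∈ (P : Subgroup G), ∀ n : ↥N,
        (θ : ↥N → ℂ) ⟨x * n * x⁻¹, hN.conj_mem n n.2 x⟩ = (θ : ↥N → ℂ) n) ∧
      ∀ n : ↥N, (θ : ↥N → ℂ) (n ^ k) = (θ : ↥N → ℂ) n} :=
      ⟨⟨_, h1⟩, (principal_iff hM hj (θ := ⟨_, h1⟩) fun _ => rfl).1 hχ0, hχ,
        fun x _ n => congrFun (cj_res χ.2.classFun x) n, fun n => hχk n⟩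
    obtain ⟨ν, hν, h2⟩ := exists_lin_of_ext' (hE θ).1.isChar χ.2.isChar h1 (hE θ).2.1
      (fun _ => rfl)
    replace hν : N ≤ ν.ker := hν
    have h3 : (QuotientGroup.lift N ν hν) ^ (1 + p) = QuotientGroup.lift N ν hν := by
      refine hgal θ _ _ fun g => ?_
      have e := hχk g
      rw [h2, h2, (hE θ).2.2] at e
      rw [MonoidHom.pow_apply, ← map_pow, ← hq, mul_comm, mul_comm (E θ g)]
      exact e
    replace h3 : (QuotientGroup.lift N ν hν) ^ p = 1 := MonoidHom.ext fun q => by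
      have e := DFunLike.congr_fun h3 q
      rw [MonoidHom.pow_apply, pow_add, pow_one, mul_eq_left] at e
      rw [MonoidHom.pow_apply, e, MonoidHom.one_apply]
    refine ⟨⟨θ, QuotientGroup.lift N ν hν, h3⟩, Subtype.ext (Subtype.ext (funext fun g => ?_))⟩
    change E θ g * _ = χ.1 g
    rw [h2, mul_comm]; rfl

end CfsgH4.Sig1
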