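import Cfsg.Agent.H4.Ord4
import Cfsg.Agent.H8.PermMod

/-! Characters of small degree in groups with a TI Sylow subgroup (Feit). -/

set_option autoImplicit false
open Cfsg CfsgH3 Function Subgroup
open scoped ComplexConjugate Pointwise

namespace CfsgH4

theorem exists_near_one {p : ℕ} [hp : Fact p.Prime] (O : ValuationSubring ℂ) (hO : O.valuation (p : ℂ) < 1)
    {P : Type*} [Group P] [Finite P] (hP : IsPGroup p P) (R : Submodule ℂ (P → ℂ))
    (hR : ∀ u, ∀ c ∈ R, (fun x => c (u⁻¹ * x)) ∈ R) (h0 : R ≠ ⊥) :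
    ∃ c ∈ R, ∀ x, O.valuation (c x - 1) < 1 := by
  have hres : ∀ a : O, IsLocalRing.residue O a = 0 ↔ O.valuation a < 1 := fun a => by
    rw [IsLocalRing.residue_eq_zero_iff, O.valuation_lt_one_iff]
  have : CharP (IsLocalRing.ResidueField O) p := (CharP.charP_iff_prime_eq_zero hp.out).2 (by
    rw [← map_natCast (IsLocalRing.residue O), hres]; simpa using hO)
  let ρ : Representation (IsLocalRing.ResidueField O) P (P → IsLocalRing.ResidueField O) :=
    { toFun u := LinearMap.funLeft _ _ fun x => u⁻¹ * x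
      map_one' := by ext; simp
      map_mul' a b := by ext; simp [mul_assoc] }
  let W : Submodule (IsLocalRing.ResidueField O) (P → IsLocalRing.ResidueField O) :=
    { carrier := {f | ∃ c : P → O, (fun x => (c x : ℂ)) ∈ R ∧ f = fun x => IsLocalRing.residue O (c x)}
      add_mem' := by
        rintro _ _ ⟨a, ha, rfl⟩ ⟨b, hb, rfl⟩
        exact ⟨a + b, R.add_mem ha hb, by ext; simp⟩
      zero_mem' := ⟨0, R.zero_mem, by ext; simp⟩
      smul_mem' := by
        rintro t _ ⟨a, ha, rfl⟩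
        obtain ⟨s, rfl⟩ := IsLocalRing.residue_surjective t
        exact ⟨s • a, R.smul_mem (s : ℂ) ha, by ext; simp⟩ }
  obtain ⟨f, ⟨c, hc, rfl⟩, f1, f2⟩ := CfsgH8.exists_fixed_vec hP ρ W (by
    rintro u _ ⟨a, ha, rfl⟩
    exact ⟨fun x => a (u⁻¹ * x), hR u _ ha, rfl⟩) (by
    obtain ⟨c, hc, c0⟩ := Submodule.exists_mem_ne_zero_of_ne_bot h0
    obtain ⟨x, hx⟩ := Finite.exists_max fun x => O.valuation (c x)
    have h1 : c x ≠ 0 := fun e => c0 (funext fun y => by simpa [e] using hx y)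
    have h2 : O.valuation (c x) ≠ 0 := by simpa using h1
    refine (Submodule.ne_bot_iff _).2 ⟨_, ⟨fun y => ⟨(c x)⁻¹ * c y, O.mem_of_valuation_le_one _ ?_⟩,
      R.smul_mem (c x)⁻¹ hc, rfl⟩, fun e => ?_⟩
    · rw [map_mul, map_inv₀, inv_mul_le_iff₀ (zero_lt_iff.2 h2), mul_one]; exact hx y
    · have := (hres _).1 (congrFun e x)
      simp [h1] at this)
  have h1 : ∀ x, IsLocalRing.residue O (c x) = IsLocalRing.residue O (c 1) := fun x => by
    simpa [ρ] using (congrFun (f2 x) x).symm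
  have h2 : O.valuation (c 1) = 1 := (O.valuation_lt_one_or_eq_one _).resolve_left fun e =>
    f1 (funext fun x => (h1 x).trans ((hres _).2 e))
  have h3 : (c 1 : ℂ) ≠ 0 := fun e => by simp [e] at h2
  refine ⟨_, R.smul_mem (c 1 : ℂ)⁻¹ hc, fun x => ?_⟩
  have h4 := (hres (c x - c 1)).1 (by rw [map_sub, h1, sub_self])
  have h5 : ((c 1 : ℂ)⁻¹ • fun x => (c x : ℂ)) x - 1 = (c 1 : ℂ)⁻¹ * ((c x - c 1 : O) : ℂ) := by
    simp [mul_sub, h3]
  rwa [h5, map_mul, map_inv₀, h2, inv_one, one_mul]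

theorem sum_free_orbits {P X W : Type*} [Group P] [Fintype P] [MulAction P X] [AddCommMonoid W]
    (ρ : P → W →+ W) (f : X → W) (hf : ∀ u c, f (u • c) = ρ u (f c)) (T : AddSubmonoid W) (hT : ∀ c, f c ∈ T)
    (S : Finset X) : (∀ u : P, ∀ c ∈ S, u • c ∈ S) → (∀ u : P, ∀ c ∈ S, u • c = c → u = 1) →
    ∃ y ∈ T, ∑ c ∈ S, f c = ∑ u, ρ u y := by
  classical
  induction S using Finset.strongInduction with
  | H S ih =>
  intro h1 h2
  rcases S.eq_empty_or_nonempty with rfl | ⟨c, hc⟩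
  · exact ⟨0, T.zero_mem, by simp⟩
  have hi : Injective fun u : P => u • c := fun a b (e : a • c = b • c) =>
    (inv_mul_eq_one.1 (h2 (b⁻¹ * a) c hc (by rw [mul_smul, e, inv_smul_smul]))).symm
  have hsub : (Finset.univ.image fun u : P => u • c) ⊆ S := Finset.image_subset_iff.2 fun u _ => h1 u c hc
  obtain ⟨y, hy, e⟩ := ih (S \ Finset.univ.image fun u : P => u • c)
    (Finset.sdiff_ssubset hsub ⟨c, Finset.mem_image.2 ⟨1, Finset.mem_univ _, one_smul _ _⟩⟩)
    (fun u d hd => Finset.mem_sdiff.2 ⟨h1 u d (Finset.mem_sdiff.1 hd).1, fun h => by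
      obtain ⟨a, -, ha⟩ := Finset.mem_image.1 h
      exact (Finset.mem_sdiff.1 hd).2 (Finset.mem_image.2 ⟨u⁻¹ * a, Finset.mem_univ _, by
        rw [mul_smul, ha, inv_smul_smul]⟩)⟩) fun u d hd => h2 u d (Finset.mem_sdiff.1 hd).1
  refine ⟨y + f c, T.add_mem hy (hT c), ?_⟩
  rw [← Finset.sum_sdiff hsub, e, Finset.sum_image fun a _ b _ h => hi h]
  simp [hf, Finset.sum_add_distrib]

theorem card_le_of_fixed {G : Type*} [Group G] [Finite G] {p : ℕ} [hp : Fact p.Prime] {n : ℕ}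
    (ρ : Representation ℂ G (Fin n → ℂ)) (h0 : ∀ z, (∀ g, ρ g z = z) → z = 0) {P H : Subgroup G}
    (hP : IsPGroup p P) (hPH : P ≤ H) (hfree : ∀ g ∉ H, ∀ u ∈ P, g⁻¹ * u * g ∈ H → u = 1)
    {w : Fin n → ℂ} (hw : w ≠ 0) (hH : ∀ h ∈ H, ρ h w = w) : Nat.card P ≤ n := by
  classical
  have := Fintype.ofFinite P
  have := Fintype.ofFinite (G ⧸ H)
  obtain ⟨M, hM⟩ := exists_isPModular p
  obtain ⟨O, -, hO⟩ := Ideal.image_subset_nonunits_valuationSubring (A := AlgInt.toSubring) M hM.2.1.ne_top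
  have hO' : O.valuation (p : ℂ) < 1 := O.mem_nonunits_iff.1 (hO ⟨_, hM.2.2, rfl⟩)
  have : Nonempty (Fin n) := by
    by_contra! h; exact hw (Subsingleton.elim _ _)
  obtain ⟨⟨g0, i0⟩, hmax⟩ := Finite.exists_max fun x : G × Fin n => O.valuation (ρ x.1 w x.2)
  have hμ : O.valuation (ρ g0 w i0) ≠ 0 := fun e => hw (funext fun i => by simpa [e] using hmax (1, i))
  let T : AddSubmonoid (Fin n → ℂ) :=
    { carrier := {z | ∀ g i, O.valuation (ρ g z i) ≤ O.valuation (ρ g0 w i0)}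
      add_mem' := fun ha hb g i => by
        rw [map_add]; exact O.valuation.map_add_le (ha g i) (hb g i)
      zero_mem' := fun g i => by simp }
  let f : G ⧸ H → Fin n → ℂ := fun c => ρ c.out w
  have hf : ∀ g : G, f g = ρ g w := fun g => by
    obtain ⟨h, e⟩ := QuotientGroup.mk_out_eq_mul H g
    simp only [f, e, map_mul, Module.End.mul_apply, hH h h.2]
  have hf' : ∀ (g : G) c, f (g • c) = ρ g (f c) := fun g c => by
    obtain ⟨a, rfl⟩ := QuotientGroup.mk_surjective c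
    rw [MulAction.Quotient.smul_mk, hf, hf, smul_eq_mul, map_mul]; rfl
  have hs : ∑ c, f c = 0 := h0 _ fun g => by
    rw [map_sum, ← Equiv.sum_comp (MulAction.toPerm g) f]
    exact Finset.sum_congr rfl fun c _ => (hf' g c).symm
  have h1 : ∀ u : P, u • ((1 : G) : G ⧸ H) = (1 : G) := fun u =>
    QuotientGroup.eq.2 (by simpa using hPH u.2)
  obtain ⟨y, hy, e⟩ := sum_free_orbits (fun u : P => (ρ u).toAddMonoidHom) f (fun u c => hf' u c) T
    (fun c g i => hmax (g * c.out, i) |>.trans_eq' (by simp [f])) (Finset.univ.erase ((1 : G) : G ⧸ H))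
    (fun u c hc => Finset.mem_erase.2 ⟨fun h => (Finset.mem_erase.1 hc).1 (by
      rw [← h1 u⁻¹, ← h, inv_smul_smul]), Finset.mem_univ _⟩) fun u c hc h => by
      obtain ⟨a, rfl⟩ := QuotientGroup.mk_surjective c
      refine Subtype.ext (hfree a (fun ha => (Finset.mem_erase.1 hc).1 (QuotientGroup.eq.2 (by simpa))) u u.2 ?_)
      rw [mul_assoc]; exact QuotientGroup.eq.1 h.symm
  rw [← Finset.add_sum_erase _ _ (Finset.mem_univ ((1 : G) : G ⧸ H)), e, hf, map_one] at hs
  have hli : LinearIndependent ℂ fun u : P => ρ u y := by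
    suffices hn : LinearMap.ker (Fintype.linearCombination ℂ fun u : P => ρ u y) = ⊥ from
      Fintype.linearIndependent_iff.2 fun c hc => congrFun (LinearMap.ker_eq_bot'.1 hn c hc)
    by_contra hn
    obtain ⟨c, hc, hc'⟩ := exists_near_one O hO' hP _ (fun u c hc => by
      rw [LinearMap.mem_ker, Fintype.linearCombination_apply] at hc ⊢
      rw [← Equiv.sum_comp (Equiv.mulLeft u)]
      simpa using congrArg (ρ u) hc) hn
    rw [LinearMap.mem_ker, Fintype.linearCombination_apply] at hc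
    have h2 : w = ∑ x : P, (c x - 1) • ρ x y := by
      simp only [sub_smul, one_smul, Finset.sum_sub_distrib, hc, zero_sub]
      exact eq_neg_of_add_eq_zero_left hs
    have h3 : ρ g0 w i0 = ∑ x : P, (c x - 1) * ρ (g0 * x) y i0 := by
      conv_lhs => rw [h2]
      simp
    refine lt_irrefl _ ((congrArg O.valuation h3).trans_lt (O.valuation.map_sum_lt hμ fun x _ => ?_))
    rw [map_mul]
    calc _ ≤ O.valuation (c x - 1) * O.valuation (ρ g0 w i0) := by gcongr; exact hy _ _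
      _ < 1 * _ := mul_lt_mul_of_pos_right (hc' x) (zero_lt_iff.2 hμ)
      _ = _ := one_mul _
  simpa [Nat.card_eq_fintype_card] using hli.fintype_card_le_finrank

theorem card_le_deg_of_TI {G : Type*} [Group G] [Fintype G] {p : ℕ} [hp : Fact p.Prime] (P : Sylow p G)
    (hTI : ∀ g : G, g ∉ normalizer ((P : Subgroup G) : Set G) →
      (P : Subgroup G) ⊓ (MulAut.conj g • (P : Subgroup G)) = ⊥) (H : Subgroup G) [Fintype H]
    (hH : normalizer ((P : Subgroup G) : Set G) ≤ H) {ζ : G → ℂ} (hζ : IsIrrCharacter G ζ)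
    (h1 : ζ ≠ fun _ => 1) (h2 : classInner (fun h : H => ζ h) (fun _ => 1) ≠ 0) {d : ℕ} (hd : ζ 1 = d) :
    Nat.card P ≤ d := by
  have h3 := hζ.inner_of_ne isIrr_one h1
  obtain ⟨n, ρ, _, rfl⟩ := hζ
  obtain rfl : n = d := by simpa using hd
  have hPH : (P : Subgroup G) ≤ H := le_normalizer.trans hH
  have h4 : (∑ h : H, ρ h) ≠ 0 := fun e => h2 (by
    have := congrArg (LinearMap.trace ℂ _) e
    rw [map_sum, map_zero] at this
    rw [inner_one_right]; exact mul_eq_zero_of_right _ this)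
  obtain ⟨z, hz⟩ := DFunLike.ne_iff.1 h4
  refine card_le_of_fixed ρ (fun z hz => ?_) P.2 hPH (fun g hg u hu h => ?_) hz fun h hh => ?_
  · have := congrArg (· z) (repSum_eq_scalar ρ (isClassFunction_const 1))
    rw [inner_one_right, mul_eq_zero] at h3
    simp only [repSum_apply, hz, one_smul, one_mul, h3.resolve_left (inv_ne_zero (card_ne_zero_complex G)),
      zero_div, zero_smul, LinearMap.zero_apply, Finset.sum_const, Finset.card_univ] at this
    rw [← Nat.cast_smul_eq_nsmul ℂ] at this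
    simpa using this
  · obtain ⟨k, hk⟩ := P.2 ⟨u, hu⟩
    obtain ⟨Q, hQ⟩ := IsPGroup.exists_le_sylow (P := zpowers (⟨_, h⟩ : H)) (IsPGroup.of_card_dvd_pow (n := k) (by
      rw [Nat.card_zpowers, orderOf_dvd_iff_pow_eq_one]
      refine Subtype.ext ?_
      have : u ^ p ^ k = 1 := congrArg Subtype.val hk
      simp only [SubmonoidClass.mk_pow, OneMemClass.coe_one]
      rw [← inv_inv g, inv_inv g⁻¹, conj_pow, this]; simp))
    obtain ⟨a, ha⟩ := MulAction.exists_smul_eq H Q (P.subtype hPH)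
    have h5 : a * ⟨_, h⟩ * a⁻¹ ∈ P.subtype hPH := by
      rw [← ha]; exact smul_mem_pointwise_smul _ (MulAut.conj a) _ (hQ (mem_zpowers _))
    have h6 : (a : G) * (g⁻¹ * u * g) * (a : G)⁻¹ ∈ (P : Subgroup G) := h5
    have h7 : u ∈ (P : Subgroup G) ⊓ (MulAut.conj (g * (a : G)⁻¹) • (P : Subgroup G)) :=
      ⟨hu, ⟨_, h6, by simp [mul_assoc]⟩⟩
    rwa [hTI _ fun e => hg (by simpa using mul_mem (hH e) a.2), mem_bot] at h7
  · rw [LinearMap.sum_apply, map_sum, ← Equiv.sum_comp (Equiv.mulLeft (⟨h, hh⟩ : H)) fun k : H => ρ k z]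
    simp

theorem ip_res_of_TI {G : Type*} [Group G] [Fintype G] (p : ℕ) [hp : Fact p.Prime] (P : Sylow p G)
    (hTI : ∀ g : G, g ∉ normalizer ((P : Subgroup G) : Set G) →
      (P : Subgroup G) ⊓ (MulAut.conj g • (P : Subgroup G)) = ⊥) (χ : G → ℂ) (hχ : IsCharacter G χ)
    (hdeg : charDegree χ ^ 2 ≤ Nat.card (P : Subgroup G)) (H : Subgroup G) [Fintype H]
    (hH : normalizer ((P : Subgroup G) : Set G) ≤ H) :
    classInner χ χ = classInner (fun h : H => χ h) (fun h : H => χ h) := by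
  by_cases h0 : χ = 0
  · simp [h0, classInner]
  have hθ := hχ.mul hχ.conj_char
  have e1 : classInner χ χ = classInner (χ * fun g => conj (χ g)) fun _ => 1 := by simp [classInner]
  have e2 : classInner (fun h : H => χ h) (fun h : H => χ h) =
      classInner (fun h : H => (χ * fun g => conj (χ g)) h) fun _ => 1 := by simp [classInner]
  have h1 := hθ.sub_constituent isIrr_one (e1 ▸ fun e => h0 (CfsgH3.inner_self_eq_zero.1 e))
  have h2 : 1 ≤ charDegree χ := Nat.pos_of_ne_zero fun e => h0 (hχ.eq_zero_of_deg (by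
    rw [← coe_charDegree hχ, e, Nat.cast_zero]))
  have h3 : ((χ * fun g => conj (χ g)) - fun _ => 1 : G → ℂ) 1 = (charDegree χ ^ 2 - 1 : ℕ) := by
    rw [Nat.cast_sub (Nat.one_le_pow _ _ h2)]
    simp [← coe_charDegree hχ, sq]
  obtain ⟨m, hm, e⟩ := hθ.exists_coeff
  have e3 : (fun h : H => (χ * fun g => conj (χ g)) h) = ∑ ψ : IrrCharacter G, (m ψ : ℂ) • fun h : H => ψ.1 h := by
    funext h; rw [e]; simp [Finset.sum_apply]
  rw [e1, e2, e3]
  conv_lhs => rw [e]
  simp only [inner_sum_left, CfsgH3.inner_smul_left]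
  refine Finset.sum_congr rfl fun ζ _ => ?_
  by_cases hζ : ζ.1 = fun _ => 1
  · rw [hζ, isIrr_one.inner_self, isIrr_one.inner_self]
  rw [ζ.2.inner_of_ne isIrr_one hζ, mul_zero, eq_comm, mul_eq_zero]
  by_contra! h4
  have h5 := card_le_deg_of_TI P hTI H hH ζ.2 hζ h4.2 (deg_spec ζ)
  have h6 := h1.deg_le_of_constituent ζ.2 (by
    rw [CfsgH3.inner_sub_left, hm, isIrr_one.inner_of_ne ζ.2 (Ne.symm hζ), sub_zero]; exact h4.1) h3 (deg_spec ζ)
  have := Nat.one_le_pow 2 _ h2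
  have h7 : Nat.card P = Nat.card (P : Subgroup G) := rfl
  omega

end CfsgH4
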