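import Cfsg.Agent.H4.Cyc4
import Cfsg.Agent.H4.Dom

/-! General tools on subsections, used for blocks with defect groups of maximal class. -/

set_option autoImplicit false
set_option linter.unusedSectionVars false

open MonoidAlgebra Subgroup CfsgH2 Function Cfsg CfsgH3
open scoped ComplexConjugate

namespace CfsgH4

section fus
variable {F : Type*} [Field F] {G : Type*} [Group G] [Finite G] {p : ℕ} {P : Subgroup G}
  {E e : F[G]}

open Classical in
theorem sum_nF_T [Fintype P] {V : Type*} [AddCommGroup V] [Module ℂ V] (T : Finset P)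
    (hT : ∀ v, ∃ u ∈ T, Fus p e u v) {x : P → V} (hx : Stab p e x) :
    ∑ v, (nF p e v : ℂ)⁻¹ • x v = ∑ u ∈ T, ((T.filter (Fus p e u)).card : ℂ)⁻¹ • x u := by
  have h1 : ∀ u ∈ T, ((T.filter (Fus p e u)).card : ℂ)⁻¹ • x u =
      ∑ v, if Fus p e u v then ((T.filter (Fus p e v)).card : ℂ)⁻¹ • (nF p e v : ℂ)⁻¹ • x v
        else 0 := fun u _ => by
    rw [← Finset.sum_filter, ← sum_fus (e := e) (p := p) u (x u), Finset.smul_sum]
    refine Finset.sum_congr rfl fun v hv => ?_
    have h := (Finset.mem_filter.1 hv).2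
    rw [hx u v h, Finset.filter_congr fun w _ => (⟨h.symm.trans, h.trans⟩ : Fus p e u w ↔ _)]
  rw [Finset.sum_congr rfl h1, Finset.sum_comm]
  refine Finset.sum_congr rfl fun v _ => ?_
  obtain ⟨u, hu, h⟩ := hT v
  rw [← Finset.sum_filter, Finset.sum_const, ← Nat.cast_smul_eq_nsmul ℂ, smul_smul (_ : ℂ) (_⁻¹),
    Finset.filter_congr fun w _ => (⟨Fus.symm, Fus.symm⟩ : Fus p e w v ↔ _), mul_inv_cancel₀,
    one_smul]
  exact Nat.cast_ne_zero.2 (Finset.card_ne_zero.2 ⟨u, Finset.mem_filter.2 ⟨hu, h.symm⟩⟩)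

variable [hp : Fact p.Prime] [CharP F p]

theorem fb_mul_central (he : BP p ⊤ P e) {z u : G} (hz : z ∈ center G) (hzP : z ∈ P)
    (hu : u ∈ P) : fb p P e (z * u) = fb p P e u := by
  have hc : ∀ Q : Subgroup G, Q ≤ centralizer (zpowers z : Set G) := fun Q x _ => by
    rw [centralizer_zpowers]; exact mem_centralizer_singleton_iff.2 (mem_center_iff.1 hz x)
  obtain ⟨g, hg⟩ := he.exists_sl (Q := zpowers u ⊔ zpowers z)
    (sup_le (zpowers_le.2 hu) (zpowers_le.2 hzP))
  have key : ∀ v ∈ P, zpowers v ⊔ zpowers z = zpowers u ⊔ zpowers z → fb p P e v = g := by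
    intro v hv h
    rw [← h] at hg
    have h1 := fb_sl he hv
    have h2 := (h1.of_le hg le_sup_left).ns (sup_le le_normalizer ((show zpowers z ≤
      centralizer (zpowers v : Set G) from fun x hx y hy => (hc _ hy x hx).symm).trans
        (centralizer_le_normalizer _)))
    have h3 := h2.mul
    have h4 : centralizer ((zpowers v ⊔ zpowers z : Subgroup G) : Set G) =
        centralizer (zpowers v : Set G) := le_antisymm (centralizer_anti le_sup_left)
      (by rw [centralizer_sup']; exact le_inf le_rfl (hc _))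
    rw [Br, h4, show tr _ _ = _ from h1.left.Br_self] at h3
    have h5 := h2.right.prim
    rw [Cn_top, h4, ← Cn_top] at h5
    exact (h5.eq_of_mul_ne_zero (isComm_Z _) h1.left.prim (h3.trans_ne h2.right.ne_zero)).symm
  rw [key u hu rfl, key _ (mul_mem hzP hu) (le_antisymm (sup_le (zpowers_le.2 (mul_mem
    (mem_sup_right (mem_zpowers z)) (mem_sup_left (mem_zpowers u)))) le_sup_right)
    (sup_le (zpowers_le.2 ?_) le_sup_right))]
  simpa using mul_mem (inv_mem (mem_sup_right (S := zpowers (z * u)) (mem_zpowers z)))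
    (mem_sup_left (mem_zpowers (z * u)))

variable [IsAlgClosed F]

theorem MP.nil_fb_of (hm : MP p ⊤ E P e) (u : P)
    (h : ∀ v : P, Fus p e u v → ∀ X ≤ P, (v : G) ∈ X → X ≤ centralizer {(v : G)} →
      ∀ x ∈ normalizer (X : Set G), x ∈ centralizer {(v : G)} → ¬ p ∣ orderOf x →
        x ∈ centralizer (X : Set G)) : Nil p (centralizer {(u : G)}) (fb p P e u) := by
  have hs := fb_sl hm.bp u.2
  have hf := hs.left
  rw [← centralizer_zpowers, ← Cn_top]
  intro R g hg h2 x hx h3 h4 h5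
  have hRC : R ≤ normalizer (zpowers (u : G) : Set G) := hg.le.trans Cn_le_normalizer
  have hg' : BP p ⊤ (zpowers (u : G) ⊔ R) g := ⟨le_top,
    by rw [sup_comm]; exact IsPGroup.to_sup_of_normal_right' hg.pgroup hf.pgroup hRC,
    Cn_Cn (N := ⊤) (Q := zpowers (u : G)) (R := R) ▸ hg.prim⟩
  have hns : NS p ⊤ _ _ (zpowers (u : G) ⊔ R) g := ⟨hf, hg', le_sup_left,
    sup_le le_normalizer hRC, mem_Fix_sup hf.fixQ (Fix_anti hg.le hf.fixC),
    by rw [hf.Br_sup, h2]⟩
  obtain ⟨n, -, hn⟩ := hm.exists_cj_sl hg' ((hns.sl.mul_Br_iff' hm.prim).2 (hm.mul_of_sl hs))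
  have hu : n * u * n⁻¹ ∈ cj n (zpowers (u : G) ⊔ R) :=
    conj_mem_cj _ (mem_sup_left (mem_zpowers _))
  have h6 : zpowers (u : G) ⊔ R ≤ centralizer {(u : G)} := by
    rw [← centralizer_zpowers]
    exact sup_le (le_centralizer_of_cyclic inferInstance) (hg.le.trans inf_le_right)
  have := h ⟨_, hn.le hu⟩ (into_of_sl hns.sl hn rfl) _ hn.le hu
    (by rw [← cj_centralizer_singleton]; exact cj_mono _ h6) (n * x * n⁻¹)
    (by rw [← cj_normalizer]; exact conj_mem_cj _ (normalizer_inf_normalizer_le_normalizer_sup _ _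
      ⟨Cn_le_normalizer hx, h3⟩))
    (by rw [← cj_centralizer_singleton, ← centralizer_zpowers]; exact conj_mem_cj _ hx.2)
    (by rwa [orderOf_conj'])
  rw [← cj_centralizer, mem_cj] at this
  exact centralizer_le (SetLike.coe_subset_coe.2 le_sup_right) (by simpa [mul_assoc] using this)

theorem MP.isDef_fb (hm : MP p ⊤ E P e) (u : P)
    (h : ∀ v : P, Fus p e u v → Nat.card (P ⊓ centralizer {(v : G)} : Subgroup G) ≤
      Nat.card (P ⊓ centralizer {(u : G)} : Subgroup G)) :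
    IsDef p (centralizer {(u : G)}) (fb p P e u) (P ⊓ centralizer {(u : G)}) := by
  have hs := fb_sl hm.bp u.2
  refine (hm.isDef_iff hs (by rw [Cn_top, centralizer_zpowers]) ?_).2 fun n _ hn => ?_
  · rw [← centralizer_zpowers, ← Cn_top]; exact hs.left.Cn_le_stab
  · rw [cj_centralizer_singleton]
    exact h ⟨_, hn.le (conj_mem_cj _ (mem_zpowers _))⟩ (fus_of_sl hs hn (mem_zpowers _) rfl)

theorem MP.mp_loc (hm : MP p ⊤ E P e) {Q L : Subgroup G} {f : F[G]} (hs : SL p ⊤ Q f P e)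
    (hP : P ≤ L) (hC : centralizer (Q : Set G) ≤ L)
    (hL : L ≤ normalizer (Q : Set G) ⊓ stabA f) : MP p L f P e := by
  have h1 : Cn ⊤ Q ≤ L := by rwa [Cn_top]
  have h2 : Cn L P = Cn ⊤ P := Cn_eq_of_le h1 le_top hs.le
  refine mp_of_max (hs.left.isPrim_loc (hs.le.trans hP) h1 (by rwa [top_inf_eq]))
    (hm.bp.of_Cn_eq hP h2) (hs.ns (hP.trans (hL.trans inf_le_left))).mul fun R g h => ?_
  exact hm.eq_of_sl (h.sl.ambient h1 le_top hs.le)

end fus

variable {M : Ideal AlgInt} [hM : M.IsMaximal] {G : Type*} [Group G] {p : ℕ} [Fintype G]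
  [hp : Fact p.Prime] [CharP (Res M) p] {P : Subgroup G} {e : (Res M)[G]}
  {B : Set (IrrCharacter G)} {χ ψ : IrrCharacter G} {τ σ : G → ℂ}

theorem piU_rank_one (he : BP p ⊤ P e) {u : P} (hl : lU p P e u = 1) {W : G → ℂ}
    (hW : piU p P e u W = W) (h0 : W ≠ 0) (hτ : IsClassFunction G τ) :
    piU p P e u τ = (classInner τ W / classInner W W) • W := by
  obtain ⟨ξ, hξ⟩ := block_nonempty (isPBlock_blk (fb_mem he u.2))
  have hc : IsClassFunction G W := hW ▸ cA_classFun _
  have h1 := cmp_of_rank_one (he.subEl u) hl hξ hτ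
  have h2 := cmp_of_rank_one (he.subEl u) hl hξ hc
  rw [← cA_def] at h1 h2
  have h4 := inner_piU_comm he u hτ hc
  rw [hW] at h2 h4
  obtain ⟨V, c, c', h1, h2⟩ : ∃ (V : G → ℂ) (c c' : ℂ), piU p P e u τ = c • V ∧ W = c' • V :=
    ⟨_, _, _, h1, h2⟩
  have h5 : c' ≠ 0 := by rintro rfl; exact h0 (by rw [h2, zero_smul])
  have h6 : piU p P e u τ = (c / c') • W := by
    rw [h1, h2, smul_smul, div_mul_cancel₀ _ h5]
  rw [← h4, h6, CfsgH3.inner_smul_left, mul_div_cancel_right₀ _ (mt CfsgH3.inner_self_eq_zero.1 h0)]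

theorem MP.lU_congr (hm : MP p ⊤ (bId M B) P e) (hB : IsPBlock M B) {u v : P}
    (h : Fus p e u v) : lU p P e u = lU p P e v := by
  have := hm.trace_piU hB u
  rw [Finset.sum_congr rfl fun χ _ => by rw [h.piU_eq hm.bp χ.2.classFun], hm.trace_piU hB] at this
  exact_mod_cast this.symm

theorem lU_of_nil (he : BP p ⊤ P e) {u : P} (h : Nil p (centralizer {(u : G)}) (fb p P e u)) :
    lU p P e u = 1 :=
  Nil.rank_one_S (by rwa [bIdS_blk (fb_mem he u.2)]) (isPBlock_blk (fb_mem he u.2))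

theorem pow_defect_fb (he : BP p ⊤ P e) {u : P} {D : Subgroup G}
    (h : IsDef p (centralizer {(u : G)}) (fb p P e u) D) :
    p ^ blockDefect p (blk M (centralizer {(u : G)}) (fb p P e u)) = Nat.card D :=
  (card_isDef_S (isPBlock_blk (fb_mem he u.2)) (by rwa [bIdS_blk (fb_mem he u.2)])).symm

theorem MP.exists_major (hm : MP p ⊤ (bId M B) P e) (hB : IsPBlock M B) {u : P}
    (hu : (u : G) ∈ centralizer (P : Set G))
    (h : ∀ k, Nat.Coprime k (Nat.card G) → Fus p e u (u ^ k)) (hχ : χ ∈ B)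
    (h0 : blockHeight p B χ = 0) (hψ : ψ ∈ B) : ∃ n : ℤ, ¬ (p : ℤ) ∣ n ∧
      Nat.card P * classInner (piU p P e u χ.1) ψ.1 = p ^ blockHeight p B ψ * n := by
  obtain ⟨n, hn⟩ := exists_int_of_fixed (isIntegral_inner_cmp (hm.bp.subEl u) (hm.bp.blk_SG u)
    (LC.of_gen χ.2.isGen) ψ) fun s => by
      obtain ⟨k, hk, hs⟩ := exists_pow_of_ringHom s.toRingHom (Nat.card_pos (α := G)).ne'
      rw [map_mul, map_pow, map_natCast]
      congr 1
      exact (map_inner_piU hm.bp u χ.2.isGen ψ.2.isGen hk hs).trans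
        (by rw [← (h k hk).piU_eq hm.bp χ.2.classFun]; rfl)
  refine ⟨n, fun hd => ?_, ?_⟩
  · refine (red_inner_cmp_major (hm.bp.subEl u) (hm.induced_fb hB u) (hm.defect_fb hB hu)
      (LC.of_gen χ.2.isGen) hψ).2 ((unitOn_irr hB).2 ⟨hχ, h0⟩) ?_
    rw [hn]; exact red_intCast_eq_zero_iff.2 hd
  · rw [← hn, card_isDef hB hm.isDef, defect_eq_height_add hψ, pow_add, Nat.cast_mul, mul_assoc]
    simp [cA_def]

theorem MP.sum_inner_mul (hm : MP p ⊤ (bId M B) P e) (hB : IsPBlock M B) (u : P)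
    (hτ : IsClassFunction G τ) (σ : G → ℂ) :
    ∑ ψ ∈ irrF B, classInner (piU p P e u τ) ψ.1 * classInner ψ.1 σ =
      classInner (piU p P e u τ) σ := by
  rw [← inner_bp_left, hm.bp_piU hB u hτ]

/-- Bessel's inequality for the subsection projection -/
theorem MP.card_le_lU (hm : MP p ⊤ (bId M B) P e) (hB : IsPBlock M B) (u : P) {ι : Type*}
    [Fintype ι] (v : ι → G → ℂ) (h1 : ∀ i, piU p P e u (v i) = v i) (h0 : ∀ i, v i ≠ 0)
    (h2 : ∀ i j, i ≠ j → classInner (v i) (v j) = 0) : Fintype.card ι ≤ lU p P e u := by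
  classical
  have hc : ∀ i, IsClassFunction G (v i) := fun i => h1 i ▸ cA_classFun _
  have hn : ∀ i, classInner (v i) (v i) ≠ 0 := fun i => mt CfsgH3.inner_self_eq_zero.1 (h0 i)
  have h3 : ∀ χ : IrrCharacter G, classInner (piU p P e u χ.1) χ.1 -
      ∑ i, classInner χ.1 (v i) / classInner (v i) (v i) * classInner (v i) χ.1 =
      classInner (piU p P e u χ.1 - ∑ i, (classInner χ.1 (v i) / classInner (v i) (v i)) • v i)
        (piU p P e u χ.1 - ∑ i, (classInner χ.1 (v i) / classInner (v i) (v i)) • v i) := by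
    intro χ
    have h4 : ∀ i, classInner (piU p P e u χ.1) (v i) = classInner χ.1 (v i) := fun i => by
      rw [inner_piU_comm hm.bp u χ.2.classFun (hc i), h1]
    have h5 : ∀ j, classInner (piU p P e u χ.1 -
        ∑ i, (classInner χ.1 (v i) / classInner (v i) (v i)) • v i) (v j) = 0 := fun j => by
      rw [CfsgH3.inner_sub_left, CfsgH3.inner_sum_left, h4, Finset.sum_eq_single j (fun i _ hi => by
        rw [CfsgH3.inner_smul_left, h2 i j hi, mul_zero]) (by simp), CfsgH3.inner_smul_left,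
        div_mul_cancel₀ _ (hn j), sub_self]
    rw [CfsgH3.inner_sub_right, CfsgH3.inner_sum_right]
    simp only [CfsgH3.inner_smul_right, h5, mul_zero, Finset.sum_const_zero, sub_zero]
    rw [CfsgH3.inner_sub_left, CfsgH3.inner_sum_left, ← inner_piU_comm hm.bp u (cA_classFun _)
      χ.2.classFun, piU_piU hm.bp]
    simp only [CfsgH3.inner_smul_left]
    congr 1
    exact Finset.sum_congr rfl fun i _ => by
      rw [← inner_piU_comm hm.bp u (hc i) χ.2.classFun, h1]
  have h4 := Finset.sum_congr (rfl (a := irrF B)) fun χ _ => h3 χ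
  rw [Finset.sum_sub_distrib, hm.trace_piU hB, Finset.sum_comm, Finset.sum_congr rfl fun i _ =>
    show _ = (1 : ℂ) from ?_] at h4
  · have h5 := congrArg Complex.re h4
    rw [Complex.re_sum] at h5
    have h6 := h5.ge.trans' (Finset.sum_nonneg fun χ _ => CfsgH3.inner_self_re_nonneg _)
    simp at h6
    exact_mod_cast h6
  · have := hm.sum_inner_mul hB u (hc i) (v i)
    rw [h1] at this
    rw [← div_self (hn i), eq_div_iff (hn i), Finset.sum_mul]
    refine Eq.trans (Finset.sum_congr rfl fun χ _ => ?_) this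
    field_simp [hn i]

theorem fus_rel {H : Subgroup G} {e' : (Res M)[H]} (hPH : P ≤ H)
    (he : BP p ⊤ (P.subgroupOf H) e') {u v : P} {u' v' : P.subgroupOf H}
    (hu : ((u' : H) : G) = u) (hv : ((v' : H) : G) = v) (hCu : centralizer {(u : G)} ≤ H)
    (hCv : centralizer {(v : G)} ≤ H) (hg : ∀ g : G, g * u * g⁻¹ = v → g ∈ H) :
    Fus p e' u' v' ↔ Fus p (emb _ H.subtype e') u v := by
  have := Fintype.ofFinite H
  have h1 := fb_emb hPH he hu hCu
  have h2 := fb_emb hPH he hv hCv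
  refine ⟨fun ⟨g, h3, h4⟩ => ⟨g, ?_, ?_⟩, fun ⟨g, h3, h4⟩ => ⟨⟨g, hg g h3⟩, ?_, ?_⟩⟩
  · rw [← hu, ← hv, ← h3]; rfl
  · rw [← h1, ← h2, ← h4, emb_cjA]; rfl
  · exact Subtype.ext (by simpa [hu, hv] using h3)
  · exact emb_injective H.subtype_injective (by rw [emb_cjA, h1, h2]; exact h4)

section shift
variable {z : G}

omit hp hM [CharP (Res M) p] in
theorem indFun_shf {H : Subgroup G} {z : H} (hz : (z : G) ∈ center G) (θ : H → ℂ) :
    indFun H (shf z θ) = shf (z : G) (indFun H θ) := by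
  funext g
  rw [shf_apply, indFun_apply', indFun_apply']
  congr 1
  refine Finset.sum_congr rfl fun x _ => ?_
  rw [← mul_assoc, mem_center_iff.1 hz x, mul_assoc (z : G), mul_assoc (z : G)]
  by_cases h : x * g * x⁻¹ ∈ H
  · rw [ext0_of_mem _ _ h, ext0_of_mem _ _ (H.mul_mem z.2 h)]; rfl
  · rw [ext0_of_not_mem _ _ h, ext0_of_not_mem _ _ fun e => h ((H.mul_mem_cancel_left z.2).1 e)]

omit hM [CharP (Res M) p] [Fintype G] in
theorem isPPart_central_mul (hz : z ∈ center G) (hzp : IsPGroup p (zpowers z)) {c u : G}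
    (h : IsPPart p c u) : IsPPart p (z * c) (z * u) := by
  obtain ⟨y, h1, h2, h3, h4⟩ := h
  have hc : ∀ g, Commute z g := fun g => (mem_center_iff.1 hz g).symm
  refine ⟨y, by rw [mul_assoc, h1], (hc y).mul_left h2, ?_, h4⟩
  obtain ⟨k, hk⟩ := h3
  obtain ⟨l, hl⟩ := hzp ⟨z, mem_zpowers z⟩
  have h5 : z ^ p ^ l = 1 := by simpa using congrArg Subtype.val hl
  have h6 : (z * u) ^ p ^ (k + l) = 1 := by
    rw [(hc u).mul_pow, pow_add, mul_comm, pow_mul, h5, one_pow, one_mul, mul_comm, pow_mul, ← hk,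
      pow_orderOf_eq_one, one_pow]
  obtain ⟨j, -, hj⟩ := (Nat.dvd_prime_pow hp.out).1 (orderOf_dvd_of_pow_eq_one h6)
  exact ⟨j, hj⟩

theorem piU_shf (he : BP p ⊤ P e) {z : P} (hz : (z : G) ∈ center G) (u : P)
    (hτ : IsClassFunction G τ) :
    piU p P e u (shf (z : G) τ) = shf (z : G) (piU p P e (z * u) τ) := by
  have hc : ∀ g, Commute (z : G) g := fun g => (mem_center_iff.1 hz g).symm
  let z' : centralizer {(u : G)} := ⟨z, mem_centralizer_singleton_iff.2 (hc u)⟩
  have hz' : z' ∈ center _ := mem_center_iff.2 fun g => Subtype.ext (hc g).symm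
  have hp' : ∀ y : centralizer {(u : G)}, (y : G) ∈ P → IsPGroup p (zpowers y) := fun y hy =>
    isPPart_isPGroup (isPPart_self (by simpa using he.ord ⟨y, hy⟩))
  have h1 : SubEl p (centralizer {(u : G)}) (z' * zc (u : G)) := ⟨by
    ext t
    simp only [mem_centralizer_singleton_iff, coe_mul, coe_zc, z']
    rw [← mul_assoc, ← (hc t).eq, mul_assoc, mul_assoc, mul_right_inj], he.ord (z * u)⟩
  have h2 := h1.cA_eq (M := M) (fb p P e u)
  rw [piU, piU, Subgroup.coe_mul, fb_mul_central he hz z.2 u.2, show cA M p ((z : G) * u) _ = _ from h2, cA_def,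
    cmp_eq, cmp_eq, ← indFun_shf (z := z') hz, show (fun c : centralizer {(u : G)} =>
      shf (z : G) τ c) = shf z' fun c => τ c from rfl, bp_shf hz' (classFun_res hτ _)]
  congr 1
  funext c
  rw [shf_apply]
  by_cases h : IsPPart p c (zc (u : G))
  · rw [secP_of _ h, secP_of _ (isPPart_central_mul hz' (hp' _ z.2) h), shf_apply]
  · rw [secP_of_not _ h, secP_of_not _ fun h' => h ?_]
    simpa using isPPart_central_mul (inv_mem hz') (hp' _ (inv_mem z.2)) h'

theorem MP.trace_shf_of_not (hm : MP p ⊤ (bId M B) P e) (hB : IsPBlock M B) {z : P}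
    (hz : (z : G) ∈ center G) {u : P} (h : ¬ Fus p e u (z * u)) :
    ∑ χ ∈ irrF B, classInner (piU p P e u (shf (z : G) χ.1)) χ.1 = 0 := by
  choose ω _ h2 _ using fun χ : IrrCharacter G => exists_shf_irr χ hz
  have h1 : ∀ χ ∈ irrF B, classInner (piU p P e u (shf (z : G) χ.1)) χ.1 = ∑ ψ ∈ irrF B,
      ω ψ * (classInner (piU p P e u ψ.1) χ.1 * classInner χ.1 (piU p P e (z * u) ψ.1)) := by
    intro χ _
    rw [← piU_piU hm.bp, inner_piU_comm hm.bp u (cA_classFun _) χ.2.classFun,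
      piU_shf hm.bp hz u χ.2.classFun, ← hm.bp_piU hB _ χ.2.classFun, blockPart_eq_sum, map_sum,
      CfsgH3.inner_sum_left]
    refine Finset.sum_congr rfl fun ψ _ => ?_
    rw [map_smul, h2, CfsgH3.inner_smul_left, CfsgH3.inner_smul_left,
      inner_piU_comm hm.bp _ χ.2.classFun ψ.2.classFun,
      inner_piU_comm hm.bp _ ψ.2.classFun χ.2.classFun]
    ring
  rw [Finset.sum_congr rfl h1, Finset.sum_comm]
  refine Finset.sum_eq_zero fun ψ _ => ?_
  rw [← Finset.mul_sum, hm.sum_inner_mul hB u ψ.2.classFun,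
    inner_piU_comm hm.bp _ ψ.2.classFun (cA_classFun _), piU_piU_of_not hm.bp h ψ.2.classFun]
  simp [classInner]

theorem piU_shf_of (he : BP p ⊤ P e) {z : P} (hz : (z : G) ∈ center G) {u g : P}
    (h : g * u * g⁻¹ = z * u) (hl : lU p P e u = 1) (hτ : IsClassFunction G τ) :
    piU p P e u (shf (z : G) τ) = piU p P e u τ := by
  obtain ⟨ξ, hξ⟩ := block_nonempty (isPBlock_blk (fb_mem he u.2))
  have h0 := isPPart_self (he.subEl u).ord'
  rw [piU, cA_def, cmp_of_rank_one (he.subEl u) hl hξ hτ,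
    cmp_of_rank_one (he.subEl u) hl hξ (shf_classFun hz hτ), ← cmp_apply (he.subEl u) _ h0,
    ← cmp_apply (he.subEl u) _ h0, ← cA_def, show cA M p (u : G) _ _ = _ from piU_shf he hz u hτ,
    ← h, ← (fus_conj he u g).piU_eq he hτ, shf_apply, coe_zc, ← Subgroup.coe_mul, ← h]
  congr 2
  exact cA_classFun τ _ _

end shift

/-- the family attached to a nilpotent local block with full defect -/
structure LF (p : ℕ) (P : Subgroup G) (e : (Res M)[G]) (w : G) (W : P → G → ℂ)
    (δ : (G → ℂ) → P → ℂ) : Prop where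
  gen : ∀ τ, IsGeneralizedCharacter G τ → IsGeneralizedCharacter P (δ τ)
  cls : ∀ τ, IsClassFunction G τ → IsClassFunction P (δ τ)
  self : ∀ u, piU p P e u (W u) = W u
  ip : ∀ u : P, centralizer {(u : G)} ≤ centralizer {w} → ∀ τ, IsClassFunction G τ →
    Nat.card P * classInner τ (W u) = Nat.card {v // IsConj u v} * δ τ u
  one : ∀ u : P, centralizer {(u : G)} ≤ centralizer {w} → δ (W u) u = 1
  cnj : ∀ u g : P, centralizer {(u : G)} ≤ centralizer {w} → W (g * u * g⁻¹) = W u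

theorem MP.exists_LF {E : (Res M)[G]} (hm : MP p ⊤ E P e) (w : P)
    (h1 : P ≤ normalizer (zpowers (w : G) : Set G))
    (h2 : ∀ x ∈ normalizer (zpowers (w : G) : Set G), ¬ p ∣ orderOf x → x ∈ centralizer {(w : G)})
    (hn : Nil p (centralizer {(w : G)}) (fb p P e w)) : ∃ W δ, LF p P e w W δ := by
  have hs := fb_sl hm.bp w.2
  have hC : centralizer (zpowers (w : G) : Set G) ≤ normalizer (zpowers (w : G) : Set G) ⊓
      stabA (fb p P e w) := by simpa [Cn_top] using hs.left.Cn_le_stab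
  have hP : P ≤ normalizer (zpowers (w : G) : Set G) ⊓ stabA (fb p P e w) :=
    le_inf h1 ((le_inf le_rfl h1).trans hs.inf_le_stab)
  have hm1 := hm.mp_loc hs hP hC le_rfl
  have hN : centralizer {(w : G)} ≤ _ := centralizer_zpowers (w : G) ▸ hC
  have hn1 := (nil_iff_of_pquot hN (inf_le_left.trans (centralizer_zpowers (w : G) ▸
    normalizer_le_normalizer_centralizer _)) (fun x hx => h2 x hx.1) hm1.prim).1 hn
  have hcj : ∀ u g : P, centralizer {(u : G)} ≤ centralizer {(w : G)} →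
      centralizer {((g * u * g⁻¹ : P) : G)} ≤ centralizer {(w : G)} := fun u g h => by
    rw [Subgroup.coe_mul, Subgroup.coe_mul, Subgroup.coe_inv, ← cj_centralizer_singleton, ← centralizer_zpowers (w : G),
      ← cj_eq_iff_mem_normalizer.2 (normalizer_le_normalizer_centralizer _ (h1 g.2)),
      centralizer_zpowers]
    exact cj_mono _ h
  generalize normalizer (zpowers (w : G) : Set G) ⊓ stabA (fb p P e w) = L at *
  obtain ⟨b, e', hb, h3, rfl, hm'⟩ := hm1.exists_rel
  rw [← h3] at hn1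
  have hA := ((isNilpotentBlock_iff hb).1 ((isNilpotentBlock_iff_S hb).2 hn1)).isConj_of_fus hm'
  obtain ⟨θ, hθ, h0⟩ := exists_height_zero (p := p) (block_nonempty hb)
  have := Fintype.ofFinite L
  have := Fintype.ofFinite (P.subgroupOf L)
  obtain ⟨ι, hι⟩ : ∃ ι : P ≃* P.subgroupOf L, ∀ u, ((ι u : L) : G) = u :=
    ⟨(subgroupOfEquivOfLe hP).symm, fun _ => rfl⟩
  have hcard : Nat.card (P.subgroupOf L) = Nat.card P := (Nat.card_congr ι.toEquiv).symm
  have rel := fun (u : P) (hu : centralizer {(u : G)} ≤ centralizer {(w : G)}) =>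
    rel_piU hP hm'.bp (hι u) (hu.trans hN) (ext0_coe L θ.1)
  have hnF : ∀ u : P, nF p e' (ι u) = Nat.card {v // IsConj u v} := fun u =>
    (Nat.card_congr (ι.toEquiv.subtypeEquiv fun v => ⟨fun h => by
      obtain ⟨g, rfl⟩ := isConj_iff.1 h
      simpa using fus_conj hm'.bp (ι u) (ι g), fun h => by
      simpa using ι.symm.toMonoidHom.map_isConj (hA _ _ h)⟩)).symm
  refine ⟨fun u => piU p P (emb _ L.subtype e') u (extendByZero L θ.1),
    fun τ u => xS p _ e' (fun c : L => τ c) θ.1 (ι u), fun τ hτ => ?_, fun τ hτ g x => ?_,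
    fun u => piU_piU hm.bp _ _, fun u hu τ hτ => ?_, fun u hu => ?_, fun u g hu => ?_⟩
  · exact (hm'.isGen_xS hA (hτ.comp L.subtype) θ.2.isGen).comp ι.toMonoidHom
  · simp only [map_mul, map_inv]
    exact (stab_xS hm'.bp (classFun_res hτ L) _ _ _ (fus_conj hm'.bp _ _)).symm
  · rw [← (rel u hu).1, inner_indFun_right _ _ hτ,
      ← inner_piU_comm hm'.bp _ (classFun_res hτ L) θ.2.classFun, xS, ← hnF, hcard]
    have := (Nat.cast_ne_zero (R := ℂ)).2 (nF_ne_zero (p := p) (e := e') (ι u))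
    field_simp
  · rw [← hm'.xS_eq_one hb hA hθ h0 (ι u), xS, xS, piU, cA_def,
      cmp_congr (hm'.bp.subEl _) (hm'.bp.blk_SG _) fun c hc => (rel u hu).2 c (isPPart_coe.2 hc),
      ← cA_def, piU_piU hm'.bp]
  · rw [← (rel u hu).1, ← (rel _ (hcj u g hu)).1, map_mul, map_mul, map_inv,
      ← (fus_conj hm'.bp _ _).piU_eq hm'.bp θ.2.classFun]

end CfsgH4
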