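import Cfsg.Agent.H4.Tame1
import Cfsg.Agent.H2.DihFus

/-! 2-blocks with defect groups of maximal class: groups, Fourier analysis and fusion. -/

set_option autoImplicit false
set_option linter.unusedSectionVars false

open MonoidAlgebra Subgroup CfsgH2 Function Cfsg CfsgH3
open scoped ComplexConjugate

namespace CfsgH4

abbrev ZN (r : ℕ) := ZMod (2 ^ (r + 2))

section zn
variable {r : ℕ} {i j : ZN r}

/-- the element of order two -/
def zz (r : ℕ) : ZN r := ((2 ^ (r + 1) : ℤ) : ZN r)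

theorem zn_eq_iff (i j : ℤ) : (i : ZN r) = j ↔ (2 : ℤ) ^ (r + 2) ∣ j - i := by
  rw [ZMod.intCast_eq_intCast_iff_dvd_sub]; push_cast; rfl

theorem zn_eq_zero (i : ℤ) : (i : ZN r) = 0 ↔ (2 : ℤ) ^ (r + 2) ∣ i := by
  rw [ZMod.intCast_zmod_eq_zero_iff_dvd]; push_cast; rfl

theorem zz_add : zz r + zz r = 0 := by
  rw [zz, ← Int.cast_add, zn_eq_zero]; exact ⟨1, by ring⟩

theorem two_mul_zz : 2 * zz r = 0 := by rw [two_mul, zz_add]

theorem zz_ne : zz r ≠ 0 := fun h => by
  have := Int.le_of_dvd (by positivity) ((zn_eq_zero _).1 h)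
  have h2 : (0 : ℤ) < 2 ^ (r + 1) := by positivity
  rw [pow_succ] at this; omega

theorem dvd_iff_zz (i : ℤ) : (2 : ℤ) ^ (r + 1) ∣ i ↔ (i : ZN r) = 0 ∨ (i : ZN r) = zz r := by
  rw [zz, zn_eq_zero, zn_eq_iff]
  refine ⟨fun ⟨c, hc⟩ => ?_, fun h => h.elim (fun h => (Dvd.intro 2 (by ring)).trans h) fun h => ?_⟩
  · obtain ⟨l, rfl | rfl⟩ := Int.even_or_odd' c
    exacts [Or.inl ⟨l, by rw [hc]; ring⟩, Or.inr ⟨-l, by rw [hc]; ring⟩]
  · simpa using dvd_sub dvd_rfl ((pow_dvd_pow 2 (Nat.le_succ (r + 1))).trans h)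

theorem two_mul_eq_zero : 2 * i = 0 ↔ i = 0 ∨ i = zz r := by
  obtain ⟨i, rfl⟩ := ZMod.intCast_surjective i
  rw [← dvd_iff_zz, show (2 : ZN r) * i = (2 * i : ℤ) by push_cast; rfl, zn_eq_zero, pow_succ',
    mul_dvd_mul_iff_left two_ne_zero]

theorem zz_mul (i : ZN r) : zz r * i = 0 ∨ zz r * i = zz r :=
  two_mul_eq_zero.1 (by rw [← mul_assoc, two_mul_zz, zero_mul])

theorem zz_mul_zz : zz r * zz r = 0 := by
  rw [zz, ← Int.cast_mul, zn_eq_zero]; exact ⟨2 ^ r, by ring⟩

/-- the standard character -/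
noncomputable abbrev ec (i : ZN r) : ℂ := ZMod.stdAddChar i

theorem ec_add (i j : ZN r) : ec (i + j) = ec i * ec j := AddChar.map_add_eq_mul _ _ _

@[simp] theorem ec_zero : ec (0 : ZN r) = 1 := AddChar.map_zero_eq_one _

theorem conj_ec (i : ZN r) : conj (ec i) = ec (-i) := by
  rw [ec, ec, AddChar.map_neg_eq_conj]

theorem ec_pow (i : ZN r) : ec i ^ 2 ^ (r + 2) = 1 := by
  rw [← AddChar.map_nsmul_eq_pow, nsmul_eq_mul, ZMod.natCast_self, zero_mul]
  exact ec_zero

theorem ec_zz : ec (zz r) = -1 := by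
  have h : ec (zz r) * ec (zz r) = 1 := by rw [← ec_add, zz_add, ec_zero]
  exact (mul_self_eq_one_iff.1 h).resolve_left fun e =>
    zz_ne (ZMod.injective_stdAddChar (e.trans ec_zero.symm))

theorem sum_ec (j : ZN r) : ∑ i, ec (i * j) = if j = 0 then (2 : ℂ) ^ (r + 2) else 0 := by
  rw [AddChar.sum_mulShift _ (ZMod.isPrimitive_stdAddChar _), ZMod.card]; push_cast; rfl

/-- Fourier coefficients -/
noncomputable def fc (f : ZN r → ℂ) (j : ZN r) : ℂ :=
  ((2 : ℂ) ^ (r + 2))⁻¹ * ∑ i, f i * conj (ec (i * j))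

theorem fc_ec (l j : ZN r) : fc (fun i => ec (i * l)) j = if l = j then 1 else 0 := by
  simp only [fc, conj_ec, ← ec_add, ← mul_neg, ← mul_add, sum_ec, add_neg_eq_zero]
  split_ifs <;> simp

theorem fc_inv (f : ZN r → ℂ) (i : ZN r) : ∑ j, fc f j * ec (i * j) = f i := by
  simp only [fc, Finset.mul_sum, Finset.sum_mul]
  rw [Finset.sum_comm, Finset.sum_eq_single i (fun l _ hl => ?_) (by simp)] <;>
    simp only [conj_ec, mul_assoc, ← ec_add, ← neg_mul, ← add_mul, mul_comm (_ + _),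
      ← Finset.mul_sum, sum_ec]
  · rw [if_pos (neg_add_cancel i)]; field_simp
  · rw [if_neg (by rwa [neg_add_eq_zero])]; simp

variable (r) in
/-- the indices of the non-central powers -/
def I0 : Finset (ZN r) := Finset.univ.filter fun i => i ≠ 0 ∧ i ≠ zz r

theorem mem_I0 : i ∈ I0 r ↔ i ≠ 0 ∧ i ≠ zz r := by simp [I0]

theorem sum_I0 {V : Type*} [AddCommMonoid V] (f : ZN r → V) :
    ∑ i, f i = f 0 + f (zz r) + ∑ i ∈ I0 r, f i := by
  have : Finset.univ = insert 0 (insert (zz r) (I0 r)) := by ext; simp [mem_I0]; tauto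
  rw [this, Finset.sum_insert (by simp [mem_I0, zz_ne.symm]), Finset.sum_insert (by simp [mem_I0]),
    add_assoc]

theorem card_I0 : (I0 r).card + 2 = 2 ^ (r + 2) := by
  have := sum_I0 (r := r) fun _ => 1
  simp only [Finset.sum_const, Finset.card_univ, ZMod.card, smul_eq_mul, mul_one] at this
  omega

end zn

section grp
variable {S : Type*} [Group S] {a b : S} {k m : ℤ} {r : ℕ} (h : MC ⊤ a b k m r)

/-- the powers of the generator -/
noncomputable def el (i : ZN r) : S := pw a _ (by rw [← h.ord, pow_orderOf_eq_one]) i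

theorem el_int (i : ℤ) : el h i = a ^ i := pw_intCast _ _ _ _
theorem el_add (i j : ZN r) : el h (i + j) = el h i * el h j := pw_add _ _ _ _ _
theorem el_inj : Injective (el h) := pw_injective (by rw [← h.ord, pow_orderOf_eq_one]) h.ord
@[simp] theorem el_zero : el h 0 = 1 := by simpa using el_int h 0
theorem el_one : el h 1 = a := by simpa using el_int h 1
theorem el_zz : el h (zz r) = a ^ (2 : ℤ) ^ (r + 1) := el_int h _
theorem el_eq_one {i : ZN r} : el h i = 1 ↔ i = 0 := by rw [← el_zero h, (el_inj h).eq_iff]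

/-- the powers as a homomorphism -/
noncomputable def elH : Multiplicative (ZN r) →* S :=
  MonoidHom.mk' (fun i => el h i.toAdd) fun _ _ => el_add h _ _

theorem exists_el (i : ZN r) : ∃ j : ℤ, i = j ∧ el h i = a ^ j := by
  obtain ⟨j, rfl⟩ := ZMod.intCast_surjective i; exact ⟨j, rfl, el_int h j⟩

theorem el_cases (u : S) : ∃ i, u = el h i ∨ u = el h i * b := by
  obtain ⟨i, hi⟩ := (h.mem u).1 (mem_top u); exact ⟨i, by rwa [el_int]⟩

theorem el_ne (i j : ZN r) : el h i ≠ el h j * b := by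
  obtain ⟨i, -, hi⟩ := exists_el h i
  obtain ⟨j, -, hj⟩ := exists_el h j
  rw [hi, hj]; exact h.pow_ne _ _

/-- coordinates -/
noncomputable def elE : ZN r ⊕ ZN r ≃ S :=
  Equiv.ofBijective (Sum.elim (el h) fun i => el h i * b) ⟨by
    rintro (i | i) (j | j) e
    exacts [congrArg _ (el_inj h e), (el_ne h _ _ e).elim, (el_ne h _ _ e.symm).elim,
      congrArg _ (el_inj h (mul_right_cancel e))], fun u => by
    obtain ⟨i, rfl | rfl⟩ := el_cases h u
    exacts [⟨.inl i, rfl⟩, ⟨.inr i, rfl⟩]⟩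

theorem sum_el [Fintype S] {V : Type*} [AddCommMonoid V] (f : S → V) :
    ∑ u, f u = ∑ i, f (el h i) + ∑ i, f (el h i * b) := by
  rw [← (elE h).sum_comp, Fintype.sum_sum_type]; rfl

/-- a function given in coordinates -/
noncomputable def elF (f g : ZN r → ℂ) (u : S) : ℂ := Sum.elim f g ((elE h).symm u)

theorem elF_in (f g : ZN r → ℂ) (i : ZN r) : elF h f g (el h i) = f i :=
  congrArg (Sum.elim f g) ((elE h).symm_apply_apply (.inl i))

theorem elF_out (f g : ZN r → ℂ) (i : ZN r) : elF h f g (el h i * b) = g i :=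
  congrArg (Sum.elim f g) ((elE h).symm_apply_apply (.inr i))

theorem out_mul (i j : ZN r) : el h i * b * el h j = el h (i + k * j) * b := by
  obtain ⟨i, rfl, hi⟩ := exists_el h i
  obtain ⟨j, rfl, hj⟩ := exists_el h j
  rw [hi, hj, h.mul_eq', ← Int.cast_mul, ← Int.cast_add, el_int]

theorem out_mul_out (i j : ZN r) : el h i * b * (el h j * b) = el h (i + k * j + m) := by
  obtain ⟨i, rfl, hi⟩ := exists_el h i
  obtain ⟨j, rfl, hj⟩ := exists_el h j
  rw [hi, hj, h.mul_eq, ← Int.cast_mul, ← Int.cast_add, ← Int.cast_add, el_int]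

theorem fc_int {θ : S → ℂ} (hθ : IsGeneralizedCharacter S θ) (j : ZN r) :
    ∃ n : ℤ, fc (fun i => θ (el h i)) j = n := by
  obtain ⟨n, hn⟩ := (hθ.comp (elH h)).inner_int (isIrr_hom (G := Multiplicative (ZN r))
    ⟨⟨fun i => ec (i.toAdd * j), by simp⟩, fun _ _ => by simp [add_mul, ec_add]⟩).isGen
  refine ⟨n, hn ▸ ?_⟩
  rw [fc, classInner, ← Multiplicative.ofAdd.sum_comp]
  simp [elH]

theorem conj_el (i j : ZN r) : el h j * b * el h i * (el h j * b)⁻¹ = el h (k * i) := by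
  obtain ⟨i, rfl, hi⟩ := exists_el h i
  obtain ⟨j, -, hj⟩ := exists_el h j
  rw [hi, hj, h.conj_a, ← Int.cast_mul, el_int]

theorem conj_el' (i j : ZN r) : el h j * el h i * (el h j)⁻¹ = el h i := by
  rw [← el_add, add_comm, el_add, mul_inv_cancel_right]

theorem isConj_el {i : ZN r} {v : S} : IsConj (el h i) v ↔ v = el h i ∨ v = el h (k * i) := by
  refine ⟨fun e => ?_, ?_⟩
  · obtain ⟨g, rfl⟩ := isConj_iff.1 e
    obtain ⟨j, rfl | rfl⟩ := el_cases h g
    exacts [Or.inl (conj_el' h _ _), Or.inr (conj_el h _ _)]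
  · rintro (rfl | rfl)
    exacts [IsConj.refl _, isConj_iff.2 ⟨_, conj_el h i 0⟩]

include h

theorem k_k (i : ZN r) : (k : ZN r) * (k * i) = i := by
  obtain ⟨i, rfl⟩ := ZMod.intCast_surjective i
  exact el_inj h (by rw [← Int.cast_mul, ← Int.cast_mul, el_int, el_int, ← mul_assoc, h.kk])

theorem k_fix {i : ZN r} : (k : ZN r) * i = i ↔ i = 0 ∨ i = zz r := by
  obtain ⟨i, rfl⟩ := ZMod.intCast_surjective i
  rw [← dvd_iff_zz, ← h.fix_iff, ← (el_inj h).eq_iff, ← Int.cast_mul, el_int, el_int]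

theorem k_inj {i j : ZN r} : (k : ZN r) * i = k * j ↔ i = j :=
  ⟨fun e => by rw [← k_k h i, e, k_k h], fun e => e ▸ rfl⟩

theorem k_eq_iff {i j : ZN r} : (k : ZN r) * i = j ↔ i = k * j := by rw [← k_inj h, k_k h]

theorem k_zz : (k : ZN r) * zz r = zz r := (k_fix h).2 (Or.inr rfl)

theorem k_mem {i : ZN r} : (k : ZN r) * i ∈ I0 r ↔ i ∈ I0 r := by
  simp [mem_I0, k_eq_iff h, k_zz h]

theorem k_ne {i : ZN r} (hi : i ∈ I0 r) : (k : ZN r) * i ≠ i := fun e =>
  ((k_fix h).1 e).elim (mem_I0.1 hi).1 (mem_I0.1 hi).2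

theorem zz_k (i : ZN r) : zz r * (k * i) = zz r * i := by rw [← mul_assoc, mul_comm _ (k : ZN r), k_zz h]

theorem k_cases : (k : ZN r) = -1 ∨ (k : ZN r) = zz r - 1 := by
  rcases h.hk with e | ⟨-, e⟩ <;> simp [e, zz]

theorem k_even {i : ZN r} (hi : zz r * i = 0) : (k : ZN r) * i = -i := by
  rcases k_cases h with e | e <;> simp [e, sub_mul, hi]

theorem sum_k {V : Type*} [AddCommMonoid V] (f : ZN r → V) : ∑ i, f (k * i) = ∑ i, f i :=
  Fintype.sum_bijective _ (Involutive.bijective (k_k h)) _ _ fun _ => rfl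

theorem fc_k {f : ZN r → ℂ} (hf : ∀ i, f (k * i) = f i) (j : ZN r) : fc f (k * j) = fc f j := by
  rw [fc, fc, ← sum_k h]
  simp only [hf, show ∀ i : ZN r, k * i * (k * j) = k * (k * (i * j)) from fun i => by ring, k_k h]

theorem card_isConj (i : ZN r) :
    Nat.card {v // IsConj (el h i) v} = if i ∈ I0 r then 2 else 1 := by
  classical
  rw [Nat.card_congr (Equiv.subtypeEquivRight fun v => (isConj_el h).trans
    (show _ ↔ v ∈ ({el h i, el h (k * i)} : Finset S) by simp)), Nat.card_eq_fintype_card,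
    Fintype.card_coe]
  split_ifs with hi
  · exact Finset.card_pair fun e => k_ne h hi (el_inj h e).symm
  · rw [(k_fix h).2 (by rw [mem_I0] at hi; tauto)]; simp

theorem mem_zpowers_el {i : ZN r} (s : ℕ)
    (hi : ∀ j : ℤ, i = j → ¬ (2 : ℤ) ^ (s + 1) ∣ j) : a ^ (2 : ℤ) ^ s ∈ zpowers (el h i) := by
  obtain ⟨j, e, hj⟩ := exists_el h i
  obtain ⟨t, ht, h1⟩ := exists_eq_zpowers_prime_pow (p := 2) h.ord
    (zpowers_le.2 (zpow_mem (mem_zpowers a) j))
  have h2 := (h.mem_iff ht j).1 (by simpa using h1 ▸ mem_zpowers _)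
  rw [hj, h1]
  refine (h.mem_iff ht _).2 (pow_dvd_pow _ (by_contra fun c => hi j e ?_))
  exact (pow_dvd_pow _ (by omega)).trans h2

theorem z_mem {i : ZN r} (hi : i ≠ 0) : el h (zz r) ∈ zpowers (el h i) := by
  rw [el_zz]
  exact mem_zpowers_el h _ fun j e c => hi (e.trans ((zn_eq_zero j).2 c))

theorem w_mem {i : ZN r} (hi : i ∈ I0 r) : a ^ (2 : ℤ) ^ r ∈ zpowers (el h i) :=
  mem_zpowers_el h _ fun j e c => by
    rw [dvd_iff_zz, ← e] at c; exact c.elim (mem_I0.1 hi).1 (mem_I0.1 hi).2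

theorem z_cent (g : S) : Commute (el h (zz r)) g := by
  rw [el_zz]; exact (h.z_central g (mem_top g)).symm

theorem z_sq : el h (zz r) * el h (zz r) = 1 := by rw [← el_add, zz_add, el_zero]

theorem out_sq (i : ZN r) : el h i * b * (el h i * b) = 1 ∨
    el h i * b * (el h i * b) = el h (zz r) := by
  obtain ⟨i, -, hi⟩ := exists_el h i
  rw [hi, el_zz]; exact (h.orderOf_out i).imp And.left And.left

theorem out_conj (i : ZN r) : (∃ g, g * b * g⁻¹ = el h i * b) ∨
    ∃ g, g * (a * b) * g⁻¹ = el h i * b := by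
  obtain ⟨i, -, hi⟩ := exists_el h i
  rw [hi]
  obtain ⟨l, rfl | rfl⟩ := Int.even_or_odd' i
  · obtain ⟨c, hc⟩ := h.conj_shift (i := 0) (j := 2 * l) (by simp)
    exact Or.inl ⟨_, by simpa using hc⟩
  · obtain ⟨c, hc⟩ := h.conj_shift (i := 1) (j := 2 * l + 1) (by simp)
    exact Or.inr ⟨_, by simpa using hc⟩

theorem out_conj_z (i : ZN r) : ∃ g, g * (el h i * b) * g⁻¹ = el h (zz r) * (el h i * b) := by
  obtain ⟨i, -, hi⟩ := exists_el h i
  obtain ⟨c, hc⟩ := h.conj_shift (i := i) (j := 2 ^ (r + 1) + i) ⟨2 ^ r, by ring⟩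
  exact ⟨_, by rw [hi, hc, el_zz, zpow_add, mul_assoc]⟩

theorem out_pow (i : ZN r) {n : ℕ} (hn : Odd n) : IsConj (el h i * b) ((el h i * b) ^ n) := by
  obtain ⟨n, rfl⟩ := hn
  obtain ⟨g, hg⟩ := out_conj_z h i
  rw [pow_succ, pow_mul, sq]
  rcases out_sq h i with e | e <;> rw [e]
  · rw [one_pow, one_mul]
  obtain ⟨l, rfl | rfl⟩ := Nat.even_or_odd' n
  · rw [pow_mul, sq, z_sq, one_pow, one_mul]
  · rw [pow_succ, pow_mul, sq, z_sq, one_pow, one_mul]; exact isConj_iff.2 ⟨g, hg⟩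

/-- all elements outside the cyclic subgroup are involutions -/
def Dih : Prop := ∀ i, el h i * b * (el h i * b) = 1

theorem m_cases : (m : ZN r) = 0 ∨ (m : ZN r) = zz r := by
  have := out_sq h 0
  rw [out_mul_out, el_eq_one, (el_inj h).eq_iff] at this
  simpa using this

theorem isConj_out {i : ZN r} {v : S} (e : IsConj (el h i * b) v) : ∃ j, v = el h j * b := by
  obtain ⟨j, rfl | rfl⟩ := el_cases h v
  · exact (((isConj_el h).1 e.symm).elim (el_ne h _ _ ·.symm) (el_ne h _ _ ·.symm)).elim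
  · exact ⟨j, rfl⟩

open Classical in
theorem exists_sharp [Fintype S] : ∃ (η : S → ℂ) (c : ZN r), IsGeneralizedCharacter S η ∧
    (c = 0 ∨ c = zz r) ∧ (∀ i, η (el h i) = ec (i * c) + ec i + ec ((k : ZN r) * i)) ∧
    ∀ i, η (el h i * b) = if el h i * b * (el h i * b) = 1 then -1 else 1 := by
  obtain ⟨c, t, hc, ht, h1⟩ : ∃ (c : ZN r) (t : ℂ), (c = 0 ∨ c = zz r) ∧ t * t = 1 ∧ ∀ i,
      t * ec (i * c) = if el h i * b * (el h i * b) = 1 then -1 else 1 := by
    refine ⟨k + 1, if (m : ZN r) = 0 then -1 else 1, (k_cases h).imp (fun e => by simp [e])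
      (fun e => by simp [e]), (by split_ifs <;> simp), fun i => ?_⟩
    have h2 : i * (k + 1) = 0 ∨ i * (k + 1) = zz r := by
      rcases k_cases h with e | e <;> simpa [e, mul_comm i] using zz_mul i
    simp only [out_mul_out, el_eq_one, show i + k * i = i * (k + 1) by ring]
    rcases h2 with e | e <;> rcases m_cases h with e' | e' <;>
      simp [e, e', zz_ne, ec_zz, zz_add]
  have h2 : ∀ j : ZN r, k * j * c = j * c := fun j => by
    rcases hc with rfl | rfl
    · simp
    · rw [mul_comm, zz_k h, mul_comm]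
  have h3 : (m : ZN r) * c = 0 := by
    rcases hc with rfl | rfl <;> rcases m_cases h with e | e <;> simp [e, zz_mul_zz]
  let β : S →* ℂ := ⟨⟨elF h (fun i => ec (i * c)) fun i => t * ec (i * c), by
    rw [← el_zero h, elF_in]; simp⟩, fun u v => by
      obtain ⟨i, rfl | rfl⟩ := el_cases h u <;> obtain ⟨j, rfl | rfl⟩ := el_cases h v
      · simp only [← el_add, elF_in, add_mul, ec_add]
      · simp only [← mul_assoc, ← el_add, elF_in, elF_out, add_mul, ec_add]; ring
      · simp only [out_mul, elF_in, elF_out, add_mul, ec_add, h2]; ring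
      · simp only [out_mul_out, elF_in, elF_out, add_mul, ec_add, h2, h3, ec_zero]
        linear_combination (-ec (i * c) * ec (j * c)) * ht⟩
  have h4 : IsGeneralizedCharacter S (elF h (fun i => ec i + ec ((k : ZN r) * i)) 0) := by
    refine isGen_of_inner_int (fun u g => ?_) fun ξ hξ => ?_
    · have e := isConj_iff.2 ⟨g, rfl (a := g * u * g⁻¹)⟩
      obtain ⟨i, rfl | rfl⟩ := el_cases h u
      · rcases (isConj_el h).1 e with e | e <;> simp only [e, elF_in, k_k h, add_comm]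
      · obtain ⟨j, e⟩ := isConj_out h e
        simp only [e, elF_out, Pi.zero_apply]
    · obtain ⟨n, hn⟩ := fc_int h hξ.isGen 1
      have h5 := fc_k h (f := fun i => ξ (el h i))
        (fun i => by rw [← conj_el h i 0]; exact hξ.classFun _ _) 1
      refine ⟨n, ?_⟩
      rw [← map_intCast (starRingEnd ℂ), ← CfsgH3.inner_conj_symm, classInner, sum_el h]
      congr 1
      simp only [elF_in, elF_out, map_add, mul_add, Finset.sum_add_distrib, Pi.zero_apply,
        map_zero, mul_zero, Finset.sum_const_zero, add_zero]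
      rw [hn] at h5
      simp only [fc, mul_one, mul_comm _ (k : ZN r)] at hn h5
      rw [show Nat.card S = 2 ^ (r + 3) by rw [← h.card_eq, card_top]]
      push_cast
      linear_combination (norm := skip) (hn + h5) / 2
      field_simp; ring
  exact ⟨_, c, (isIrr_hom β).isGen.add h4, hc, fun i => by simp [β, elF_in, add_assoc],
    fun i => by simp [β, elF_out, h1]⟩

end grp

end CfsgH4
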