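import Cfsg.Agent.H4.Tame2

/-! 2-blocks with defect groups of maximal class: subsections. -/

set_option autoImplicit false
set_option linter.unusedSectionVars false

open MonoidAlgebra Subgroup CfsgH2 Function Cfsg CfsgH3
open scoped ComplexConjugate

namespace CfsgH4

theorem orderOf_isConj {G : Type*} [Group G] {x y : G} (h : IsConj x y) :
    orderOf x = orderOf y := by
  obtain ⟨g, rfl⟩ := isConj_iff.1 h; rw [orderOf_conj']

section gen
variable {F : Type*} [Field F] {G : Type*} [Group G] [Finite G] {p : ℕ} {P : Subgroup G}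
  {E e : F[G]} [hp : Fact p.Prime] [CharP F p] [IsAlgClosed F]

theorem MP.isConj_of_fus_norm (hm : MP p ⊤ E P e) {u v : P}
    (h1 : P ≤ normalizer (zpowers (u : G) : Set G))
    (h2 : ∀ x ∈ normalizer (zpowers (u : G) : Set G), ¬ p ∣ orderOf x →
      x ∈ centralizer (zpowers (u : G) : Set G))
    (h3 : zpowers (u : G) = zpowers (v : G)) (h : Fus p e u v) : IsConj u v := by
  obtain ⟨g, h4, h5⟩ := h
  have hs := fb_sl hm.bp u.2
  have hC : centralizer (zpowers (u : G) : Set G) ≤ normalizer (zpowers (u : G) : Set G) ⊓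
      stabA (fb p P e u) := by simpa [Cn_top] using hs.left.Cn_le_stab
  have hm1 := hm.mp_loc hs (le_inf h1 ((le_inf le_rfl h1).trans hs.inf_le_stab)) hC le_rfl
  have h6 := hm1.isDef.sup_eq (Cn_top (zpowers (u : G)) ▸ hs.left.prim) hC
    (inf_le_left.trans (normalizer_le_normalizer_centralizer _)) (mem_Fix_inf_stabA _ _)
    fun x hx => h2 x hx.1
  have h7 : g ∈ centralizer (zpowers (u : G) : Set G) ⊔ P := h6.ge ⟨cj_eq_iff_mem_normalizer.1
    (by rw [cj_zpowers, h4, h3]), by rw [← fb_congr h3] at h5; exact h5⟩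
  rw [sup_comm] at h7
  obtain ⟨s, hs, c, hc, rfl⟩ := (mem_sup_of_normalizer'
    (h1.trans (normalizer_le_normalizer_centralizer _))).1 h7
  refine isConj_iff.2 ⟨⟨s, hs⟩, Subtype.ext ?_⟩
  rw [← h4, mul_assoc s c, ← hc _ (mem_zpowers _)]
  simp [mul_assoc]

end gen

variable {M : Ideal AlgInt} [hM : M.IsMaximal] {G : Type*} [Group G] [Fintype G]
  [CharP (Res M) 2] {P : Subgroup G} {e E : (Res M)[G]} {B : Set (IrrCharacter G)}
  {χ ψ : IrrCharacter G} {τ σ : G → ℂ} {a b : P} {k m : ℤ} {r : ℕ} (h : MC ⊤ a b k m r)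
  {i j : ZN r}

section grp
omit hM [CharP (Res M) 2]
include h

theorem mcG : MC P (a : G) (b : G) k m r := by
  simpa [map_top_subtype] using h.map_inj P.subtype P.subtype_injective

theorem card_mc : Nat.card P = 2 ^ (r + 3) := (mcG h).card_eq

theorem coe_el (i : ZN r) : ∃ j : ℤ, i = j ∧ ((el h i : P) : G) = (a : G) ^ j := by
  obtain ⟨j, h1, h2⟩ := exists_el h i; exact ⟨j, h1, by rw [h2, coe_zpow]⟩

theorem coe_z : ((el h (zz r) : P) : G) = (a : G) ^ (2 : ℤ) ^ (r + 1) := by rw [el_zz, coe_zpow]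

theorem z_centG : ((el h (zz r) : P) : G) ∈ centralizer (P : Set G) := coe_z h ▸ (mcG h).z_central

theorem le_norm_pow (j : ℤ) : P ≤ normalizer (zpowers ((a : G) ^ j) : Set G) :=
  (mcG h).le_normalizer_zpowers j

theorem cent_pow (j : ℤ) : ∀ x ∈ normalizer (zpowers ((a : G) ^ j) : Set G), ¬ 2 ∣ orderOf x →
    x ∈ centralizer (zpowers ((a : G) ^ j) : Set G) := fun _ hx h2 =>
  mem_centralizer_of_cyclic_two ((mcG h).pgroup.to_le (zpowers_le.2 ((mcG h).pow_mem j)))
    inferInstance hx (Nat.odd_iff.2 (by omega))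

theorem cent_of_odd {v : P} (hv : v ≠ 1) (hz : v = el h (zz r) → Dih h) {X : Subgroup G}
    (hX : X ≤ P) (h1 : (v : G) ∈ X) (h2 : X ≤ centralizer {(v : G)}) {x : G}
    (h3 : x ∈ normalizer (X : Set G)) (h4 : x ∈ centralizer {(v : G)}) (h5 : ¬ 2 ∣ orderOf x) :
    x ∈ centralizer (X : Set G) := by
  by_contra hc
  have hG := mcG h
  have hv' : (v : G) ≠ 1 := by simpa using hv
  have h4' : x * v * x⁻¹ = v := by rw [mem_centralizer_singleton_iff.1 h4, mul_inv_cancel_right]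
  obtain ⟨j, ⟨h6, h7, -⟩ | ⟨h6, h7, -⟩⟩ := hG.odd_act hX h3 (Nat.odd_iff.2 (by omega)) hc
  · have hK := h7 ▸ hG.klein_of h6
    refine hc (mem_centralizer_of_stabilizes (p := 2) (hG.pgroup.to_le hX) (zpowers_le.2 h1) h5
      (by rwa [centralizer_zpowers]) fun u hu => ?_)
    by_cases e1 : u = 1
    · simp [e1]
    by_cases e2 : u = v
    · rw [e2, h4']; simp
    rcases (mem_kleinFour hK hu h1 e1 hv' e2).1 (conj_mem_of_mem_normalizer h3 hu) with
      e | e | e | e
    · exact (e1 (conj_eq_one_iff.1 e)).elim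
    · simp [e]
    · exact (e2 (by simpa using e.trans h4'.symm)).elim
    · simp [e]
  · have h8 : ∀ y ∈ X, Commute (v : G) y := fun y hy => (mem_centralizer_singleton_iff.1 (h2 hy)).symm
    obtain ⟨i, rfl | rfl⟩ := el_cases h v <;> obtain ⟨l, e1, e2⟩ := coe_el h i
    · have := h8 _ (h7.ge (subset_closure (Or.inr rfl)))
      rw [e2, Commute.symm_iff, hG.commute_out_iff, dvd_iff_zz, ← e1] at this
      rcases this with rfl | rfl
      · exact hv (el_zero h)
      · have h9 := congrArg Subtype.val (hz rfl j)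
        simp only [el_int, Subgroup.coe_mul, coe_zpow, h6, Subgroup.coe_one] at h9
        exact ne_one_of_orderOf_two hG.orderOf_z h9
    · have := h8 _ (h7.ge (subset_closure (Or.inl rfl)))
      rw [Subgroup.coe_mul, e2, hG.commute_out_iff] at this
      have h9 := Int.le_of_dvd (by positivity) this
      have h2 : (0 : ℤ) < 2 ^ r := by positivity
      rw [pow_succ] at h9; omega

theorem card_cent_out (i : ZN r) :
    Nat.card (P ⊓ centralizer {((el h i * b : P) : G)} : Subgroup G) = 4 := by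
  obtain ⟨l, -, e2⟩ := coe_el h i
  rw [Subgroup.coe_mul, e2, (mcG h).inf_centralizer_out, (mcG h).card_sub le_rfl]
  norm_num [show r + 3 - (r + 1) = 2 by omega]

theorem card_cent_le {v : G} (hv : v ∈ P) (h1 : orderOf v = 2 ^ (r + 2)) :
    Nat.card (P ⊓ centralizer {v} : Subgroup G) ≤ 2 ^ (r + 2) := by
  have := mul_card_le_of_lt (mcG h).pgroup (H := P ⊓ centralizer {v})
    (lt_of_le_of_ne inf_le_left fun c => ?_)
  · rw [card_mc h, pow_succ] at this; omega
  · have h2 : v ∈ P ⊓ centralizer (P : Set G) :=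
      ⟨hv, fun y hy => mem_centralizer_singleton_iff.1 (c.ge hy).2⟩
    rw [(mcG h).inf_centralizer_eq] at h2
    have h3 := Nat.le_of_dvd two_pos ((mcG h).orderOf_z ▸ orderOf_dvd_of_mem_zpowers h2)
    rw [h1, pow_succ, pow_succ] at h3
    have := Nat.one_le_two_pow (n := r); omega

end grp

theorem MP.fus_el (hm : MP 2 ⊤ E P e) (hf : Fus 2 e (el h i) (el h j)) : j = i ∨ j = k * i := by
  obtain ⟨i', -, e1⟩ := coe_el h i
  obtain ⟨j', -, e2⟩ := coe_el h j
  have := hm.isConj_of_fus_norm (e1 ▸ le_norm_pow h i') (e1 ▸ cent_pow h i')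
    (eq_of_card_eq_cyc (P := zpowers (a : G)) inferInstance
      (e1 ▸ zpowers_le.2 (zpow_mem (mem_zpowers _) _))
      (e2 ▸ zpowers_le.2 (zpow_mem (mem_zpowers _) _))
      (by rw [Nat.card_zpowers, Nat.card_zpowers, orderOf_isConj hf.isConj])) hf
  simpa only [(el_inj h).eq_iff] using (isConj_el h).1 this

theorem fus_k (he : BP 2 ⊤ P e) (i : ZN r) : Fus 2 e (el h i) (el h (k * i)) :=
  conj_el h i 0 ▸ fus_conj he _ _

theorem fus_of_isConj (he : BP 2 ⊤ P e) {u v : P} (hc : IsConj u v) : Fus 2 e u v := by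
  obtain ⟨g, rfl⟩ := isConj_iff.1 hc; exact fus_conj he _ _

theorem MP.nil_mc (hm : MP 2 ⊤ E P e) {u : P} (hu : u ≠ 1)
    (hz : Fus 2 e u (el h (zz r)) → Dih h) : Nil 2 (centralizer {(u : G)}) (fb 2 P e u) :=
  hm.nil_fb_of u fun _ hv _ hX h1 h2 _ h3 h4 h5 => cent_of_odd h
    (fun c => hu (Fus.eq_one (c ▸ hv.symm))) (fun c => hz (c ▸ hv)) hX h1 h2 h3 h4 h5

/-- the indices where the local family is controlled -/
def UU (i : ZN r) : Prop := i ≠ 0 ∧ (i = zz r → Dih h)

theorem UU_of_mem (hi : i ∈ I0 r) : UU h i := ⟨(mem_I0.1 hi).1, fun e => ((mem_I0.1 hi).2 e).elim⟩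

theorem MP.lU_el (hm : MP 2 ⊤ E P e) (hi : UU h i) : lU 2 P e (el h i : P) = 1 :=
  lU_of_nil hm.bp (u := el h i) (hm.nil_mc h (mt (el_eq_one h).1 hi.1) fun hf => hi.2 (by
    rcases hm.fus_el h hf.symm with e | e
    exacts [e, e.trans (k_zz h)]))

theorem MP.pow_defect_a (hm : MP 2 ⊤ E P e) :
    2 ^ blockDefect 2 (blk M (centralizer {((el h 1 : P) : G)}) (fb 2 P e (el h 1 : P))) = 2 ^ (r + 2) := by
  have h0 : orderOf ((el h 1 : P) : G) = 2 ^ (r + 2) := by rw [el_one, (mcG h).ord]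
  have h1 : Nat.card (P ⊓ centralizer {((el h 1 : P) : G)} : Subgroup G) = 2 ^ (r + 2) :=
    le_antisymm (card_cent_le h (el h 1).2 h0) (by
      exact (h0.symm.trans (Nat.card_zpowers _).symm).trans_le
        (card_le_of_le (zpowers_le.2 ⟨(el h 1).2, mem_centralizer_self _⟩)))
  rw [pow_defect_fb hm.bp (hm.isDef_fb _ fun v hv => ?_), h1]
  exact (card_cent_le h v.2 (orderOf_isConj hv.isConj ▸ h0)).trans h1.ge

variable (e) in
/-- representatives of the classes not meeting the cyclic subgroup -/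
structure OS (O : Finset P) : Prop where
  ne : ∀ o ∈ O, ∀ i, ¬ Fus 2 e o (el h i)
  inj : ∀ o ∈ O, ∀ o' ∈ O, Fus 2 e o o' → o = o'
  cov : ∀ v, (∃ i, Fus 2 e (el h i) v) ∨ ∃ o ∈ O, Fus 2 e o v

open Classical in
theorem exists_OS (he : BP 2 ⊤ P e) : ∃ O, OS e h O ∧ O ⊆ {b, a * b} := by
  let T : Finset P := if Fus 2 e b (a * b) then {b} else {b, a * b}
  have hT : ∀ i, ∃ o ∈ T, Fus 2 e o (el h i * b) := fun i => by
    rcases out_conj h i with ⟨g, hg⟩ | ⟨g, hg⟩
    · exact ⟨b, by simp only [T]; split_ifs <;> simp, hg ▸ fus_conj he _ _⟩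
    · by_cases c : Fus 2 e b (a * b)
      · exact ⟨b, by simp [T, c], c.trans (hg ▸ fus_conj he _ _)⟩
      · exact ⟨a * b, by simp [T, c], hg ▸ fus_conj he _ _⟩
  refine ⟨T.filter fun o => ∀ i, ¬ Fus 2 e o (el h i), ⟨fun o ho => (Finset.mem_filter.1 ho).2,
    fun o ho o' ho' c => ?_, fun v => ?_⟩, (Finset.filter_subset _ _).trans ?_⟩
  · have h1 := (Finset.mem_filter.1 ho).1
    have h2 := (Finset.mem_filter.1 ho').1
    by_cases c' : Fus 2 e b (a * b) <;> simp only [T, c', if_true, if_false, Finset.mem_insert,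
      Finset.mem_singleton] at h1 h2
    · rw [h1, h2]
    · rcases h1 with rfl | rfl <;> rcases h2 with rfl | rfl
      exacts [rfl, (c' c).elim, (c' c.symm).elim, rfl]
  · obtain ⟨i, rfl | rfl⟩ := el_cases h v
    · exact Or.inl ⟨i, Fus.refl _⟩
    · obtain ⟨o, h1, h2⟩ := hT i
      by_cases c : ∀ i, ¬ Fus 2 e o (el h i)
      · exact Or.inr ⟨o, Finset.mem_filter.2 ⟨h1, c⟩, h2⟩
      · push Not at c
        exact Or.inl (c.imp fun _ c => c.symm.trans h2)
  · simp only [T]; split_ifs <;> simp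

variable {h} {O : Finset P}

theorem OS.out (hO : OS e h O) {o v : P} (ho : o ∈ O) (hv : Fus 2 e o v) : ∃ i, v = el h i * b := by
  obtain ⟨i, rfl | rfl⟩ := el_cases h v
  exacts [(hO.ne o ho i hv).elim, ⟨i, rfl⟩]

theorem OS.lU (hO : OS e h O) (hm : MP 2 ⊤ E P e) {o : P} (ho : o ∈ O) : lU 2 P e o = 1 :=
  lU_of_nil hm.bp (hm.nil_mc h (fun c => hO.ne o ho 0 (by rw [el_zero, c]; exact Fus.refl _))
    fun c => (hO.ne o ho _ c).elim)

theorem OS.int (hO : OS e h O) (hm : MP 2 ⊤ E P e) {o : P} (ho : o ∈ O)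
    (hτ : IsGeneralizedCharacter G τ) (hσ : IsGeneralizedCharacter G σ) :
    ∃ n : ℤ, 4 * classInner (piU 2 P e o τ) σ = n := by
  obtain ⟨i, rfl⟩ := hO.out ho (Fus.refl o)
  obtain ⟨n, hn⟩ := exists_int_piU hm.bp (fun l hl => fus_of_isConj hm.bp (out_pow h i
    (Nat.Coprime.coprime_dvd_right (Dvd.dvd.trans (by rw [card_mc h]; exact Dvd.intro_left _ rfl)
      (card_subgroup_dvd_card P)) hl).odd_of_right)) hτ hσ
  have := pow_defect_fb hm.bp (hm.isDef_fb _ fun v hv => by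
    obtain ⟨j, rfl⟩ := hO.out ho hv
    rw [card_cent_out, card_cent_out])
  rw [card_cent_out] at this
  exact ⟨n, by rw [← hn]; congr 1; exact_mod_cast this.symm⟩

theorem OS.decomp [Fintype P] (hO : OS e h O) (hm : MP 2 ⊤ E P e) {V : Type*} [AddCommGroup V]
    [Module ℂ V] {x : P → V} (hx : Stab 2 e x) : ∑ v, (nF 2 e v : ℂ)⁻¹ • x v =
      x 1 + x (el h (zz r)) + (2 : ℂ)⁻¹ • ∑ i ∈ I0 r, x (el h i) + ∑ o ∈ O, x o := by
  classical
  have hd : Disjoint (Finset.univ.image (el h)) O := Finset.disjoint_left.2 fun u h1 h2 => by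
    obtain ⟨i, -, rfl⟩ := Finset.mem_image.1 h1
    exact hO.ne _ h2 i (Fus.refl _)
  have h1 : ∀ i, ((Finset.univ.image (el h) ∪ O).filter (Fus 2 e (el h i))).card =
      if i ∈ I0 r then 2 else 1 := fun i => by
    rw [← card_isConj h, ← Fintype.card_coe, ← Nat.card_eq_fintype_card]
    refine Nat.card_congr (Equiv.subtypeEquivRight fun v => ?_)
    simp only [Finset.mem_filter, Finset.mem_union, Finset.mem_image, Finset.mem_univ, true_and]
    refine ⟨?_, fun c => ⟨?_, fus_of_isConj hm.bp c⟩⟩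
    · rintro ⟨⟨j, rfl⟩ | c, c'⟩
      · exact (isConj_el h).2 ((hm.fus_el h c').imp (congrArg _) (congrArg _))
      · exact (hO.ne _ c _ c'.symm).elim
    · exact Or.inl (((isConj_el h).1 c).elim (⟨_, ·.symm⟩) (⟨_, ·.symm⟩))
  rw [sum_nF_T (Finset.univ.image (el h) ∪ O) (fun v => (hO.cov v).elim
    (fun ⟨i, c⟩ => ⟨_, by simp, c⟩) fun ⟨o, c, c'⟩ => ⟨o, by simp [c], c'⟩) hx,
    Finset.sum_union hd, Finset.sum_image fun _ _ _ _ c => el_inj h c, sum_I0, h1, h1,
    if_neg (by simp [mem_I0]), if_neg (by simp [mem_I0]), Finset.smul_sum, el_zero]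
  simp only [Nat.cast_one, inv_one, one_smul]
  congr 1
  · congr 1
    exact Finset.sum_congr rfl fun i hi => by rw [h1, if_pos hi]; rfl
  · refine Finset.sum_congr rfl fun o ho => ?_
    rw [Finset.card_eq_one.2 ⟨o, Finset.eq_singleton_iff_unique_mem.2 ⟨Finset.mem_filter.2
      ⟨by simp [ho], Fus.refl o⟩, fun v hv => ?_⟩⟩, Nat.cast_one, inv_one, one_smul]
    obtain ⟨c, c'⟩ := Finset.mem_filter.1 hv
    rcases Finset.mem_union.1 c with c | c
    · obtain ⟨i, -, rfl⟩ := Finset.mem_image.1 c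
      exact (hO.ne o ho i c').elim
    · exact (hO.inj o ho v c c').symm

variable (h e) in
/-- the local family -/
structure TW (W : ZN r → G → ℂ) (d : (G → ℂ) → ZN r → ℂ) (n : IrrCharacter G → ZN r → ℤ) :
    Prop where
  int : ∀ χ j, fc (d χ.1) j = n χ j
  inv : ∀ τ, IsClassFunction G τ → ∀ i, d τ (k * i) = d τ i
  self : ∀ i, piU 2 P e (el h i) (W i) = W i
  ip : ∀ i, UU h i → ∀ τ, IsClassFunction G τ → classInner τ (W i) = (2 ^ (r + 2))⁻¹ * d τ i
  gram : ∀ i j, UU h i → UU h j →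
    d (W i) j = (if j = i then 1 else 0) + if j = k * i then 1 else 0

variable (h) in
theorem MP.exists_TW (hm : MP 2 ⊤ E P e) : ∃ W d n, TW e h W d n := by
  obtain ⟨s, hs, h1⟩ : ∃ s : ℤ, Nil 2 (centralizer {((a ^ s : P) : G)}) (fb 2 P e (a ^ s : P)) ∧
      ∀ i, UU h i → a ^ s ∈ zpowers (el h i) := by
    by_cases hd : Dih h
    · exact ⟨2 ^ (r + 1), hm.nil_mc h (ne_one_of_orderOf_two h.orderOf_z) fun _ => hd,
        fun i hi => el_zz h ▸ z_mem h hi.1⟩
    · refine ⟨2 ^ r, hm.nil_mc h (fun c => ?_) fun c => ?_,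
        fun i hi => w_mem h (mem_I0.2 ⟨hi.1, mt hi.2 hd⟩)⟩
      · simpa [c] using h.orderOf_c
      · have := orderOf_isConj c.isConj
        rw [coe_z, (mcG h).orderOf_z, coe_zpow, (mcG h).orderOf_c] at this
        omega
  obtain ⟨W, δ, hW⟩ := hm.exists_LF (a ^ s) (le_norm_pow h s)
    (fun x hx h2 => centralizer_zpowers ((a : G) ^ s) ▸ cent_pow h s x hx h2) hs
  have hC : ∀ i, UU h i → centralizer {((el h i : P) : G)} ≤ centralizer {((a ^ s : P) : G)} :=
    fun i hi => by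
      rw [← centralizer_zpowers, ← centralizer_zpowers]
      obtain ⟨l, hl⟩ := h1 i hi
      exact centralizer_anti (zpowers_le.2 ⟨l, congrArg Subtype.val hl⟩)
  choose n hn using fun (χ : IrrCharacter G) j => fc_int h (hW.gen _ χ.2.isGen) j
  have hc : ∀ i, IsClassFunction G (W i) := fun i => hW.self i ▸ cA_classFun _
  have hc' : ∀ i (c : ℂ), IsClassFunction G (c • W i) := fun i c g x => by
    simp only [Pi.smul_apply, hc i g x]
  have hk : ∀ τ, IsClassFunction G τ → ∀ i, δ τ (el h (k * i)) = δ τ (el h i) := fun τ hτ i => by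
    rw [← conj_el h i 0]; exact hW.cls τ hτ _ _
  have hip : ∀ i, UU h i → ∀ τ, IsClassFunction G τ → classInner τ
      ((if i ∈ I0 r then 1 else 2 : ℂ) • W (el h i)) = (2 ^ (r + 2))⁻¹ * δ τ (el h i) := by
    intro i hi τ hτ
    have := hW.ip _ (hC i hi) τ hτ
    rw [card_mc h, card_isConj] at this
    rw [CfsgH3.inner_smul_right, eq_inv_mul_iff_mul_eq₀ (pow_ne_zero _ two_ne_zero)]
    split_ifs at this ⊢ <;> push_cast at this <;> simp only [map_one, map_ofNat]
    · linear_combination this / 2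
    · linear_combination this
  have hs : ∀ i, piU 2 P e (el h i) ((if i ∈ I0 r then 1 else 2 : ℂ) • W (el h i)) =
      (if i ∈ I0 r then 1 else 2 : ℂ) • W (el h i) := fun i => by rw [map_smul, hW.self]
  refine ⟨fun i => (if i ∈ I0 r then 1 else 2 : ℂ) • W (el h i), fun τ i => δ τ (el h i), n, hn,
    hk, hs, hip, fun i j hi hj => ?_⟩
  have h2 : δ ((if i ∈ I0 r then 1 else 2 : ℂ) • W (el h i)) (el h i) =
      if i ∈ I0 r then 1 else 2 := by
    have h3 := hip i hi _ (hc' (el h i) (if i ∈ I0 r then 1 else 2 : ℂ))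
    rw [CfsgH3.inner_smul_left, hip i hi _ (hc _), hW.one _ (hC i hi), mul_one, mul_comm] at h3
    exact (mul_left_cancel₀ (inv_ne_zero (pow_ne_zero _ two_ne_zero)) h3).symm
  by_cases e1 : j = i
  · subst e1
    rw [h2, if_pos rfl]
    by_cases c : j ∈ I0 r
    · rw [if_pos c, if_neg (k_ne h c).symm, add_zero]
    · rw [if_neg c, if_pos ((k_fix h).2 (by rw [mem_I0] at c; tauto)).symm]; norm_num
  by_cases e2 : j = k * i
  · subst e2
    rw [hk _ (hc' _ _), h2, if_neg e1, if_pos rfl, if_pos, zero_add]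
    by_contra c
    exact e1 ((k_fix h).2 (by rw [mem_I0] at c; tauto))
  · have h3 := hip j hj _ (hc' (el h i) (if i ∈ I0 r then 1 else 2 : ℂ))
    rw [← hs j, ← inner_piU_comm hm.bp _ (hc' _ _) (hc' _ _), ← hs i,
      piU_piU_of_not hm.bp (fun c => (hm.fus_el h c.symm).elim e1 e2) (hc' _ _), hs i] at h3
    rw [if_neg e1, if_neg e2, add_zero]
    simpa [classInner] using h3.symm

end CfsgH4
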