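import Cfsg.Agent.H4.Tame3
import Cfsg.Agent.H3.PF1

/-! 2-blocks with defect groups of maximal class: the numerical core. -/

set_option autoImplicit false
set_option linter.unusedSectionVars false

open MonoidAlgebra Subgroup CfsgH2 Function Cfsg CfsgH3
open scoped ComplexConjugate

namespace CfsgH4

section int
variable {ι : Type*} [DecidableEq ι] {S H : Finset ι} {α v u β : ι → ℤ}

theorem exists_of_sum_sq_eq_one (h : ∑ x ∈ S, v x * v x = 1) : ∃ ρ ∈ S, ∃ ε : ℤ,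
    (ε = 1 ∨ ε = -1) ∧ ∀ x ∈ S, v x = if x = ρ then ε else 0 := by
  obtain ⟨ρ, h1, h2⟩ := Finset.exists_ne_zero_of_sum_ne_zero (h.trans_ne one_ne_zero)
  rw [← Finset.add_sum_erase _ _ h1] at h
  have h3 := Finset.sum_nonneg fun x (_ : x ∈ S.erase ρ) => mul_self_nonneg (v x)
  have h4 := mul_self_nonneg (v ρ)
  refine ⟨ρ, h1, v ρ, Int.eq_one_or_neg_one_of_mul_eq_one (v := v ρ) (by omega), fun x hx => ?_⟩
  split_ifs with c
  · rw [c]
  · exact mul_self_eq_zero.1 ((Finset.sum_eq_zero_iff_of_nonneg fun x _ => mul_self_nonneg (v x)).1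
      (by omega) x (Finset.mem_erase.2 ⟨c, hx⟩))

theorem sum_sq_four (hH : H ⊆ S) (hne : H.Nonempty) (ho : ∀ x ∈ S, x ∈ H ↔ Odd (α x))
    (h : ∑ x ∈ S, α x * α x = 4) :
    H.card = 4 ∧ (∀ x ∈ H, α x = 1 ∨ α x = -1) ∧ ∀ x ∈ S, x ∉ H → α x = 0 := by
  rw [← Finset.sum_sdiff hH] at h
  have h0 : ∀ x, 0 ≤ α x * α x := fun x => mul_self_nonneg _
  have h1 : ∀ x ∈ H, 1 ≤ α x * α x := fun x hx => by
    obtain ⟨c, hc⟩ := (ho x (hH hx)).1 hx
    exact (mul_self_pos (a := α x)).2 (by omega)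
  obtain ⟨y, hy⟩ := hne
  have h2 := (h1 y hy).trans (Finset.single_le_sum (fun x _ => h0 x) hy)
  have h3 : ∀ x ∈ S, x ∉ H → α x = 0 := fun x hx hx' => by
    obtain ⟨c, hc⟩ := Int.not_odd_iff_even.1 (mt (ho x hx).2 hx')
    have := Finset.single_le_sum (fun x _ => h0 x) (Finset.mem_sdiff.2 ⟨hx, hx'⟩)
    rw [hc] at this ⊢
    by_contra c'
    have : 1 ≤ c * c := by nlinarith [mul_self_pos.2 (show c ≠ 0 by omega)]
    nlinarith
  rw [Finset.sum_eq_zero fun x hx => by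
    rw [h3 x (Finset.mem_sdiff.1 hx).1 (Finset.mem_sdiff.1 hx).2, zero_mul], zero_add] at h
  have h4 : ∀ x ∈ H, α x = 1 ∨ α x = -1 := fun x hx => by
    obtain ⟨c, hc⟩ := (ho x (hH hx)).1 hx
    have := Finset.single_le_sum (fun x _ => h0 x) hx
    have h5 : α x ≤ 2 := by nlinarith
    have h6 : -2 ≤ α x := by nlinarith
    omega
  rw [Finset.sum_congr rfl fun x hx => show α x * α x = 1 by
    rcases h4 x hx with e | e <;> simp [e]] at h
  exact ⟨by simpa [← Int.natCast_inj] using h, h4, h3⟩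

theorem sum_sq_three (hH : H ⊆ S) (h1 : ∀ x ∈ H, α x = 1 ∨ α x = -1)
    (h0 : ∀ x ∈ S, x ∉ H → α x = 0) (h3 : ∑ x ∈ S, v x * v x = 3)
    (h2 : ∑ x ∈ S, v x * α x = 2) : (∀ x ∈ H, v x = 0 ∨ v x = α x) ∧
      ∃ ρ ∈ S \ H, ∃ ε : ℤ, (ε = 1 ∨ ε = -1) ∧ ∀ x ∈ S \ H, v x = if x = ρ then ε else 0 := by
  rw [← Finset.sum_sdiff hH] at h2 h3
  rw [Finset.sum_eq_zero fun x hx => by
    rw [h0 x (Finset.mem_sdiff.1 hx).1 (Finset.mem_sdiff.1 hx).2, mul_zero], zero_add] at h2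
  have h4 : ∀ x ∈ H, 0 ≤ v x * (v x - α x) := fun x hx => by
    rcases h1 x hx with e | e <;> rw [e] <;> rcases le_or_gt (v x) 0 with c | c <;>
      rcases le_or_gt 0 (v x) with c' | c' <;> nlinarith
  have h5 : Even (∑ x ∈ H, v x * (v x - α x)) := Finset.even_sum _ fun x hx => by
    rcases h1 x hx with e | e <;> rw [e]
    exacts [Int.even_mul_pred_self _, by simpa using Int.even_mul_succ_self _]
  have h6 := Finset.sum_nonneg h4
  have h7 := Finset.sum_nonneg fun x (_ : x ∈ S \ H) => mul_self_nonneg (v x)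
  have h8 : ∑ x ∈ H, v x * (v x - α x) = ∑ x ∈ H, v x * v x - 2 := by
    simp only [mul_sub, Finset.sum_sub_distrib, h2]
  obtain ⟨c, hc⟩ := h5
  refine ⟨fun x hx => ?_, exists_of_sum_sq_eq_one (by omega)⟩
  simpa [sub_eq_zero] using (Finset.sum_eq_zero_iff_of_nonneg h4).1 (by omega) x hx

theorem no_four (hc : H.card = 4) (h1 : ∀ x ∈ H, α x = 1 ∨ α x = -1)
    (h2 : ∀ x ∈ H, β x = 1 ∨ β x = -1) (h3 : ∀ x ∈ H, v x = 0 ∨ v x = α x)
    (e1 : ∑ x ∈ H, u x * u x = 2) (e2 : ∑ x ∈ H, u x * α x = 0) (e3 : ∑ x ∈ H, u x * β x = 0)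
    (e4 : ∑ x ∈ H, u x * v x = 0) (e5 : ∑ x ∈ H, v x * α x = 2) (e6 : ∑ x ∈ H, v x * β x = 0)
    (e7 : ∑ x ∈ H, α x * β x = 0) : False := by
  have h4 : ∀ x ∈ H, u x = 0 ∨ u x = 1 ∨ u x = -1 := fun x hx => by
    have := Finset.single_le_sum (fun x _ => mul_self_nonneg (u x)) hx
    have h5 : u x < 2 := by nlinarith
    have h6 : -2 < u x := by nlinarith
    omega
  have h5 : ∀ x ∈ H, ∃ s t w : ℤ, (u x * u x = s * s ∧ u x * α x = s ∧ u x * β x = s * t ∧
      u x * v x = s * w ∧ v x * α x = w ∧ v x * β x = w * t ∧ α x * β x = t) ∧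
      (s = 0 ∨ s = 1 ∨ s = -1) ∧ (t = 1 ∧ w * t = w ∨ t = -1 ∧ w * t = -w) ∧ (w = 0 ∨ w = 1) :=
    fun x hx => ⟨u x * α x, α x * β x, v x * α x, by
      rcases h1 x hx with e | e <;> rcases h2 x hx with e' | e' <;> rcases h3 x hx with e'' | e'' <;>
        rcases h4 x hx with c | c | c <;> simp [e, e', e'', c]⟩
  obtain ⟨a, b, c, d, n1, n2, n3, n4, n5, n6, rfl⟩ := Finset.card_eq_four.1 hc
  obtain ⟨s1, t1, w1, a1, a2, a3, a4⟩ := h5 a (by simp)
  obtain ⟨s2, t2, w2, b1, b2, b3, b4⟩ := h5 b (by simp)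
  obtain ⟨s3, t3, w3, c1, c2, c3, c4⟩ := h5 c (by simp)
  obtain ⟨s4, t4, w4, d1, d2, d3, d4⟩ := h5 d (by simp)
  simp only [Finset.sum_insert, Finset.mem_insert, Finset.mem_singleton, n1, n2, n3, n4, n5, n6,
    or_self, not_false_eq_true, Finset.sum_singleton, a1, b1, c1, d1] at e1 e2 e3 e4 e5 e6 e7
  clear a1 b1 c1 d1 h1 h2 h3 h4 h5
  rcases a2 with rfl | rfl | rfl <;> rcases b2 with rfl | rfl | rfl <;>
    rcases c2 with rfl | rfl | rfl <;> rcases d2 with rfl | rfl | rfl <;> omega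

end int

section zn
variable {r : ℕ} {i j l : ZN r}

theorem one_mem_I0 : (1 : ZN r) ∈ I0 r := by
  have h : ∀ n : ℤ, ¬ (2 : ℤ) ^ (r + 1) ∣ 1 := fun _ c => by
    have := Int.le_of_dvd one_pos c
    have h2 : (0 : ℤ) < 2 ^ r := by positivity
    rw [pow_succ] at this; omega
  simpa [mem_I0, dvd_iff_zz, not_or] using h 0

/-- the sign character -/
def sg (j : ZN r) : ℤ := if zz r * j = 0 then 1 else -1

theorem ec_zz_mul (j : ZN r) : ec (zz r * j) = sg j := by
  rcases zz_mul j with e | e <;> simp [sg, e, zz_ne, ec_zz]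

theorem sg_cases (j : ZN r) : sg j = 1 ∨ sg j = -1 := by unfold sg; split_ifs <;> simp

theorem fc_mul_ec (f : ZN r → ℂ) (l j : ZN r) : fc (fun i => ec (i * l) * f i) j = fc f (j - l) := by
  simp only [fc, conj_ec, mul_comm _ (f _), mul_assoc, ← ec_add]
  congr 1
  exact Finset.sum_congr rfl fun i _ => by congr 2; ring

theorem sum_ec_eq_zero {δ : ZN r → ℂ} (h : ∀ l l', zz r * l = zz r * l' → δ l = δ l')
    (hi : i ∈ I0 r) : ∑ l, δ l * ec (i * l) = 0 := by
  have h1 := Equiv.sum_comp (Equiv.addRight (2 : ZN r)) fun l => δ l * ec (i * l)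
  simp only [Equiv.coe_addRight, mul_add, ec_add, ← mul_assoc, ← Finset.sum_mul,
    fun l => h (l + 2) l (by rw [mul_add, mul_comm _ 2, two_mul_zz, add_zero])] at h1
  refine (mul_right_eq_self₀.1 h1).resolve_left fun c => ?_
  have := ZMod.injective_stdAddChar (c.trans ec_zero.symm)
  rw [mul_comm, two_mul_eq_zero] at this
  exact this.elim (mem_I0.1 hi).1 (mem_I0.1 hi).2

theorem card_even : (Finset.univ.filter fun i : ZN r => zz r * i = 0).card = 2 ^ (r + 1) := by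
  have h1 := Finset.card_filter_add_card_filter_not (s := Finset.univ) fun i : ZN r => zz r * i = 0
  have h2 : (Finset.univ.filter fun i : ZN r => zz r * i = 0).card =
      (Finset.univ.filter fun i : ZN r => ¬ zz r * i = 0).card :=
    Finset.card_equiv (Equiv.addRight 1) fun i => by
      rcases zz_mul i with e | e <;> simp [mul_add, e, zz_ne, zz_add]
  rw [Finset.card_univ, ZMod.card] at h1
  have : 2 ^ (r + 2) = 2 ^ (r + 1) * 2 := pow_succ 2 (r + 1)
  generalize 2 ^ (r + 1) = t at *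
  omega

/-- the Gram matrix -/
def gk (k j l : ZN r) : ℤ := (if j = l then 1 else 0) + if k * j = l then 1 else 0

variable {S : Type*} [Group S] {a b : S} {k m : ℤ} (h : MC ⊤ a b k m r)
include h

theorem even_sum_I0 {f : ZN r → ℤ} (hf : ∀ i, f (k * i) = f i) : Even (∑ i ∈ I0 r, f i) := by
  rw [← ZMod.intCast_eq_zero_iff_even, Int.cast_sum]
  exact Finset.sum_involution (fun i _ => k * i) (fun i _ => by rw [hf, CharTwo.add_self_eq_zero])
    (fun i hi _ => k_ne h hi) (fun i hi => (k_mem h).2 hi) fun i _ => k_k h i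

theorem gk_self (hj : j ∈ I0 r) : gk k j j = 1 := by simp [gk, k_ne h hj]

theorem gk_fix (hj : j = 0 ∨ j = zz r) : gk k j j = 2 := by simp [gk, (k_fix h).2 hj]

theorem gk_comm (j l : ZN r) : gk k j l = gk k l j := by
  simp only [gk, eq_comm (a := j), k_eq_iff h (i := j)]

theorem gk_of_ne (h1 : l ≠ j) (h2 : l ≠ k * j) : gk k j l = 0 := by simp [gk, h1.symm, h2.symm]

theorem gk_of_rel (hj : j ∈ I0 r) (h1 : l = j ∨ l = k * j) : gk k j l = 1 := by
  rcases h1 with rfl | rfl <;> simp [gk, k_ne h hj, (k_ne h hj).symm]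

theorem gk_zero (hj : j ≠ 0) : gk k 0 j = 0 := gk_of_ne h hj (by simpa using hj)

theorem gk_zz (hj : j ≠ zz r) : gk k (zz r) j = 0 := gk_of_ne h hj (by rwa [k_zz h])

theorem sum_gk (j : ZN r) (f : ZN r → ℂ) : ∑ l, (gk k j l : ℂ) * f l = f j + f (k * j) := by
  simp [gk, add_mul, Finset.sum_add_distrib]

variable {ι : Type*} [DecidableEq ι] {J : Finset (ZN r)} {f : ZN r → ι}

theorem two_mul_card_image_le (hJ : J ⊆ I0 r) (hk : ∀ j ∈ J, k * j ∈ J)
    (hf : ∀ j ∈ J, f (k * j) = f j) : 2 * (J.image f).card ≤ J.card :=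
  Finset.mul_card_image_le_card _ _ fun x hx => by
    obtain ⟨j, hj, rfl⟩ := Finset.mem_image.1 hx
    rw [← Finset.card_pair (k_ne h (hJ hj))]
    exact Finset.card_le_card (by simp [Finset.subset_iff, hj, hk j hj, hf j hj])

omit h in
theorem card_le_two_mul_image (hf : ∀ j ∈ J, ∀ l ∈ J, f j = f l → l = j ∨ l = k * j) :
    J.card ≤ 2 * (J.image f).card :=
  Finset.card_le_mul_card_image _ _ fun x hx => by
    obtain ⟨j, hj, rfl⟩ := Finset.mem_image.1 hx
    refine (Finset.card_le_card fun l hl => ?_).trans (Finset.card_le_two (a := j) (b := k * j))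
    simpa using hf j hj l (Finset.mem_filter.1 hl).1 (Finset.mem_filter.1 hl).2.symm

/-- allowed pairs -/
def Al (j l : ZN r) : Prop := Dih h ∨ zz r * j = zz r * l

theorem al_zz : Al h 0 (zz r) := Or.inr (by rw [zz_mul_zz, mul_zero])

theorem Al.refl (j : ZN r) : Al h j j := Or.inr rfl

variable {h}

theorem Al.symm (e : Al h j l) : Al h l j := e.imp_right Eq.symm

theorem Al.trans (e : Al h i j) (e' : Al h j l) : Al h i l :=
  e.elim Or.inl fun c => e'.imp_right c.trans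

end zn

variable {M : Ideal AlgInt} [hM : M.IsMaximal] {G : Type*} [Group G] [Fintype G]
  [CharP (Res M) 2] {P : Subgroup G} {e : (Res M)[G]} {B : Set (IrrCharacter G)}
  {χ ψ : IrrCharacter G} {τ σ : G → ℂ} {a b : P} {k m : ℤ} {r : ℕ} {h : MC ⊤ a b k m r}
  {i j l j' l' : ZN r} {O : Finset P} {W : ZN r → G → ℂ} {d : (G → ℂ) → ZN r → ℂ}
  {n : IrrCharacter G → ZN r → ℤ}

variable (B e h O W d n) in
/-- all the data -/
structure TD : Prop where
  hB : IsPBlock M B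
  hm : MP 2 ⊤ (bId M B) P e
  os : OS e h O
  tw : TW e h W d n

variable (W) in
/-- the virtual characters -/
noncomputable def VV (j l : ZN r) : G → ℂ := ∑ i, (ec (i * j) - ec (i * l)) • W i

omit hM [CharP (Res M) 2] [Fintype G] in
theorem Al.coef (ha : Al h j l) (hi : ¬ UU h i) : ec (i * j) - ec (i * l) = 0 := by
  by_cases c : i = 0
  · simp [c]
  · simp only [UU, c, ne_eq, not_false_eq_true, true_and, Classical.not_imp] at hi
    rw [hi.1, ha.resolve_left hi.2, sub_self]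

variable (p B) in
open Classical in
/-- the characters of height zero -/
noncomputable def HZ (p : ℕ) : Finset (IrrCharacter G) :=
  (irrF B).filter fun χ => blockHeight p B χ = 0

omit hM [CharP (Res M) 2] in
theorem mem_HZ {p : ℕ} : χ ∈ HZ B p ↔ χ ∈ B ∧ blockHeight p B χ = 0 := by simp [HZ]

omit hM [CharP (Res M) 2] in
theorem HZ_sub {p : ℕ} : HZ B p ⊆ irrF B := by classical exact Finset.filter_subset _ _

namespace TD
variable (T : TD e B h O W d n)
include T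

theorem W_cls (i : ZN r) : IsClassFunction G (W i) := T.tw.self i ▸ cA_classFun _

theorem V_cls (j l : ZN r) : IsClassFunction G (VV W j l) :=
  isClassFunction_sum _ fun i _ => isClassFunction_smul _ (T.W_cls i)

theorem d_eq (χ : IrrCharacter G) (i : ZN r) : d χ.1 i = ∑ j, n χ j * ec (i * j) := by
  rw [← fc_inv (d χ.1) i]; simp only [T.tw.int]

theorem n_k (χ : IrrCharacter G) (j : ZN r) : n χ (k * j) = n χ j := by
  have := fc_k h (T.tw.inv _ χ.2.classFun) j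
  rw [T.tw.int, T.tw.int] at this
  exact_mod_cast this

theorem n_rel (χ : IrrCharacter G) (c : l = j ∨ l = k * j) : n χ l = n χ j := by
  rcases c with rfl | rfl
  exacts [rfl, T.n_k χ j]

theorem inner_V (ha : Al h j l) (hτ : IsClassFunction G τ) :
    classInner τ (VV W j l) = fc (d τ) j - fc (d τ) l := by
  rw [VV, CfsgH3.inner_sum_right, fc, fc, ← mul_sub, ← Finset.sum_sub_distrib, Finset.mul_sum]
  refine Finset.sum_congr rfl fun i _ => ?_
  rw [CfsgH3.inner_smul_right]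
  by_cases c : UU h i
  · rw [T.tw.ip i c τ hτ, map_sub]; ring
  · rw [ha.coef c, sub_eq_zero.1 (ha.coef c)]; simp

theorem irr_V (ha : Al h j l) (χ : IrrCharacter G) :
    classInner χ.1 (VV W j l) = (n χ j - n χ l : ℤ) := by
  rw [T.inner_V ha χ.2.classFun, T.tw.int, T.tw.int, Int.cast_sub]

theorem V_irr (ha : Al h j l) (χ : IrrCharacter G) :
    classInner (VV W j l) χ.1 = (n χ j - n χ l : ℤ) := by
  rw [← CfsgH3.inner_conj_symm, T.irr_V ha, map_intCast]

theorem bp_W (i : ZN r) : blockPart B (W i) = W i := by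
  rw [← T.tw.self i, T.hm.bp_piU T.hB _ (T.W_cls i)]

theorem bp_V (j l : ZN r) : blockPart B (VV W j l) = VV W j l := by
  simp only [VV, bp_sum, bp_smul, T.bp_W]

theorem V_eq (ha : Al h j l) : VV W j l = ∑ χ ∈ irrF B, ((n χ j - n χ l : ℤ) : ℂ) • χ.1 := by
  rw [← T.bp_V, blockPart_eq_sum]; simp only [T.V_irr ha]

theorem V_gen (ha : Al h j l) : IsGeneralizedCharacter G (VV W j l) :=
  T.V_eq ha ▸ isGen_sum_int _ _

theorem n_notMem (ha : Al h j l) (hχ : χ ∉ B) : n χ j = n χ l := by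
  have := T.V_irr ha χ
  rw [← T.bp_V, inner_blockPart, if_neg hχ] at this
  exact sub_eq_zero.1 (by exact_mod_cast this.symm)

theorem V_W (ha : Al h j l) (hi : UU h i) : classInner (VV W j l) (W i) = (2 ^ (r + 2))⁻¹ *
    (ec (i * j) + ec (i * ((k : ZN r) * j)) - (ec (i * l) + ec (i * ((k : ZN r) * l)))) := by
  rw [VV, CfsgH3.inner_sum_left, Finset.sum_congr rfl fun i' _ => show _ = (2 ^ (r + 2))⁻¹ *
    ((gk k i i' : ℂ) * (ec (i' * j) - ec (i' * l))) from ?_, ← Finset.mul_sum, sum_gk h]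
  · simp only [mul_left_comm i, mul_assoc]; ring
  rw [CfsgH3.inner_smul_left]
  by_cases c : UU h i'
  · rw [T.tw.ip i hi _ (T.W_cls _), T.tw.gram _ _ c hi, gk_comm h]
    simp only [gk, eq_comm (a := i)]; push_cast; ring
  · simp [ha.coef c]

theorem V_V (ha : Al h j l) (ha' : Al h j' l') : classInner (VV W j l) (VV W j' l') =
    (gk k j j' - gk k l j' - (gk k j l' - gk k l l') : ℤ) := by
  have h1 : ∀ x y : ZN r, (gk k x y : ℂ) = fc (fun i => ec (i * x)) y +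
      fc (fun i => ec (i * ((k : ZN r) * x))) y := fun x y => by simp [gk, fc_ec]
  rw [show VV W j' l' = ∑ i, _ from rfl, CfsgH3.inner_sum_right]
  push_cast
  simp only [h1, fc, Finset.mul_sum, ← Finset.sum_add_distrib, ← Finset.sum_sub_distrib]
  refine Finset.sum_congr rfl fun i _ => ?_
  rw [CfsgH3.inner_smul_right]
  by_cases c : UU h i
  · rw [T.V_W ha c, map_sub]; ring
  · rw [ha'.coef c, sub_eq_zero.1 (ha'.coef c)]; simp

theorem sum_V (ha : Al h j l) (σ : G → ℂ) : ∑ χ ∈ irrF B, ((n χ j - n χ l : ℤ) : ℂ) *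
    classInner χ.1 σ = classInner (VV W j l) σ := by
  rw [T.V_eq ha, CfsgH3.inner_sum_left]; simp only [CfsgH3.inner_smul_left]

theorem gram (ha : Al h j l) (ha' : Al h j' l') : ∑ χ ∈ irrF B, (n χ j - n χ l) *
    (n χ j' - n χ l') = gk k j j' - gk k l j' - (gk k j l' - gk k l l') := by
  have := (T.sum_V ha _).trans (T.V_V ha ha')
  simp only [T.irr_V ha'] at this
  exact_mod_cast this

theorem V_one (ha : Al h j l) : VV W j l 1 = 0 := by
  rw [VV, Finset.sum_apply]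
  refine Finset.sum_eq_zero fun i _ => ?_
  by_cases c : UU h i
  · rw [Pi.smul_apply, ← T.tw.self i, piU, cA_def, cmp_eq_zero_of_not_isConj _
      (isPPart_self ⟨0, by simp⟩) fun c' => c.1 ((el_eq_one h).1 ?_), smul_zero]
    simpa [eq_comm] using c'
  · simp [ha.coef c]

theorem orth (ha : Al h j l) {u : P} (hu : ∀ i, UU h i → ¬ Fus 2 e u (el h i))
    (hσ : IsClassFunction G σ) : ∑ χ ∈ irrF B, ((n χ j - n χ l : ℤ) : ℂ) *
      classInner (piU 2 P e u χ.1) σ = 0 := by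
  simp only [fun χ : IrrCharacter G => inner_piU_comm T.hm.bp u χ.2.classFun hσ]
  rw [T.sum_V ha, ← inner_piU_comm T.hm.bp u (T.V_cls _ _) hσ, VV, map_sum,
    Finset.sum_eq_zero fun i _ => ?_, CfsgH3.inner_zero_left]
  by_cases c : UU h i
  · rw [map_smul, ← T.tw.self i, piU_piU_of_not T.hm.bp (hu i c) (T.W_cls i), smul_zero]
  · simp [ha.coef c]

theorem piU_el (hi : UU h i) (hτ : IsClassFunction G τ) (hσ : IsClassFunction G σ) :
    2 ^ (r + 2) * gk k i i * classInner (piU 2 P e (el h i) τ) σ = d τ i * conj (d σ i) := by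
  have h1 : classInner (W i) (W i) = (2 ^ (r + 2))⁻¹ * gk k i i := by
    rw [T.tw.ip i hi _ (T.W_cls i), T.tw.gram i i hi hi]; simp [gk, eq_comm]
  have h2 : (gk k i i : ℂ) ≠ 0 := by simp only [gk]; split_ifs <;> simp_all
  rw [piU_rank_one T.hm.bp (T.hm.lU_el h hi) (T.tw.self i) (fun c => h2 (by
    simpa [c, CfsgH3.inner_zero_left] using h1)) hτ, CfsgH3.inner_smul_left, h1,
    ← CfsgH3.inner_conj_symm σ, T.tw.ip i hi _ hτ, T.tw.ip i hi _ hσ]
  simp only [map_mul, map_inv₀, map_pow, map_ofNat]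
  field_simp

theorem piU_I0 (hi : i ∈ I0 r) (hτ : IsClassFunction G τ) (hσ : IsClassFunction G σ) :
    2 ^ (r + 2) * classInner (piU 2 P e (el h i) τ) σ = d τ i * conj (d σ i) := by
  simpa [gk_self h hi] using T.piU_el (UU_of_mem h hi) hτ hσ

theorem card : Nat.card B + 1 =
    blockRank 2 B + lU 2 P e (el h (zz r) : P) + 2 ^ (r + 1) + O.card := by
  have := Fintype.ofFinite P
  have h1 := T.os.decomp T.hm (x := fun u : P => (lU 2 P e u : ℂ))
    fun u v c => congrArg _ (T.hm.lU_congr T.hB c)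
  have h2 : ((I0 r).card : ℂ) + 2 = 2 ^ (r + 2) := by exact_mod_cast card_I0
  simp only [smul_eq_mul] at h1
  rw [← T.hm.card_eq_sum T.hB, Finset.sum_congr rfl fun i hi => congrArg _
    (T.hm.lU_el h (UU_of_mem h hi)), Finset.sum_congr (s₁ := O) rfl fun o ho => congrArg _
    (T.os.lU T.hm ho), Subgroup.coe_one, T.hm.lU_one T.hB] at h1
  simp only [Finset.sum_const, Nat.cast_one, nsmul_eq_mul, mul_one] at h1
  apply Nat.cast_injective (R := ℂ)
  push_cast
  linear_combination h1 + h2 / 2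

theorem red_d (χ : IrrCharacter G) (i : ZN r) : d χ.1 i ∈ Loc M ∧ conj (d χ.1 i) ∈ Loc M ∧
    red M (d χ.1 i) = (n χ 0 - n χ (zz r) : ℤ) ∧ red M (conj (d χ.1 i)) = red M (d χ.1 i) := by
  have h1 : ∀ f : ZN r → ZN r, ∑ j, n χ j * ec (f j) ∈ Loc M ∧
      red M (∑ j, n χ j * ec (f j)) = (n χ 0 - n χ (zz r) : ℤ) := fun f => by
    have h2 : ∀ j, ec (f j) ∈ Loc M := fun j =>
      mem_Loc_of_pow_eq_one (pow_ne_zero _ two_ne_zero) (ec_pow _)
    refine ⟨sum_mem fun j _ => mul_mem (intCast_mem _ _) (h2 j), ?_⟩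
    rw [red_sum _ _ fun j _ => mul_mem (intCast_mem _ _) (h2 j)]
    simp only [fun j => red_mul (intCast_mem _ (n χ j)) (h2 j), red_intCast,
      red_eq_one_of_pow_eq_one (p := 2) (ec_pow _), mul_one]
    obtain ⟨c, hc⟩ := even_sum_I0 h (T.n_k χ)
    refine (map_sum (Int.castRingHom (Res M)) (n χ) _).symm.trans ?_
    rw [sum_I0, hc, eq_intCast]
    push_cast
    rw [CharTwo.add_self_eq_zero, CharTwo.sub_eq_add, add_zero]
  have h2 : conj (d χ.1 i) = ∑ j, n χ j * ec (-(i * j)) := by simp [T.d_eq, conj_ec]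
  rw [h2, T.d_eq]
  exact ⟨(h1 _).1, (h1 _).1, (h1 _).2, (h1 _).2.trans (h1 _).2.symm⟩

theorem ht_zero (hχ : χ ∈ irrF B) : χ ∈ HZ B 2 ↔ Odd (n χ 0 - n χ (zz r)) := by
  have h1 := red_inner_cmp_irr_iff (T.hm.bp.subEl (el h 1)) (T.hm.induced_fb T.hB _)
    (mem_irrF.1 hχ) (mem_irrF.1 hχ)
  obtain ⟨h2, h3, h4, h5⟩ := T.red_d χ 1
  rw [← Nat.cast_pow, T.hm.pow_defect_a h, ← cA_def, Nat.cast_pow, Nat.cast_ofNat,
    T.piU_I0 one_mem_I0 χ.2.classFun χ.2.classFun, red_mul h2 h3, h5, h4, mul_self_ne_zero,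
    ← red_intCast, Ne, red_intCast_eq_zero_iff (p := 2), and_self] at h1
  rw [mem_HZ, ← h1, ← Int.not_even_iff_odd, even_iff_two_dvd]
  simpa using fun _ => mem_irrF.1 hχ

open Classical in
theorem HZ_spec : (HZ B 2).card = 4 ∧
    (∀ χ ∈ HZ B 2, n χ 0 - n χ (zz r) = 1 ∨ n χ 0 - n χ (zz r) = -1) ∧
    ∀ χ ∈ irrF B, χ ∉ HZ B 2 → n χ 0 - n χ (zz r) = 0 := by
  obtain ⟨χ, h1, h2⟩ := exists_height_zero (p := 2) (block_nonempty T.hB)
  refine sum_sq_four HZ_sub ⟨χ, mem_HZ.2 ⟨h1, h2⟩⟩ (fun _ => T.ht_zero) ?_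
  rw [T.gram (al_zz h) (al_zz h), gk_fix h (.inl rfl), gk_fix h (.inr rfl), gk_zero h zz_ne,
    gk_zz h zz_ne.symm]
  rfl

theorem piU_O {o : P} (ho : o ∈ O) (hψ : ψ ∈ B) (h0 : ψ ∉ HZ B 2) : piU 2 P e o ψ.1 = 0 := by
  classical
  choose t ht using fun χ : IrrCharacter G => T.os.int T.hm ho χ.2.isGen χ.2.isGen
  have h1 : ∀ χ, 0 ≤ t χ := fun χ => by
    have := ht χ
    rw [inner_piU_self_eq_norm T.hm.bp o χ.2.classFun] at this
    have h2 : (t χ : ℝ) = 4 * ‖classInner (piU 2 P e o χ.1) χ.1‖ := by exact_mod_cast this.symm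
    exact_mod_cast (by rw [h2]; positivity : (0 : ℝ) ≤ t χ)
  have h2 : ∑ χ ∈ irrF B, t χ = 4 := by
    have := T.hm.trace_piU T.hB o
    rw [T.os.lU T.hm ho] at this
    apply Int.cast_injective (α := ℂ)
    simp [← ht, ← Finset.mul_sum, this]
  have h3 := Finset.card_nsmul_le_sum (HZ B 2) t 1 fun χ hχ => (h1 χ).lt_of_ne fun c =>
    T.hm.inner_piU_ne_zero T.hB o (mem_HZ.1 hχ).1 (mem_HZ.1 hχ).1 (mem_HZ.1 hχ).2 (mem_HZ.1 hχ).2
      (by simpa [← c] using ht χ)
  rw [← Finset.sum_sdiff (HZ_sub (p := 2))] at h2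
  have h4 := Finset.single_le_sum (fun χ _ => h1 χ) (Finset.mem_sdiff.2 ⟨mem_irrF.2 hψ, h0⟩)
  rw [T.HZ_spec.1, nsmul_eq_mul] at h3
  have h5 := ht ψ
  rw [show t ψ = 0 by have := h1 ψ; change _ ≤ ∑ x ∈ _, t x at h3; omega] at h5
  exact (inner_piU_self_eq_zero T.hm.bp o ψ.2.classFun).1 (by simpa using h5)

end TD

end CfsgH4
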