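import Cfsg.Agent.H4.Tame4

/-! 2-blocks with defect groups of maximal class: families of characters. -/

set_option autoImplicit false
set_option linter.unusedSectionVars false

open MonoidAlgebra Subgroup CfsgH2 Function Cfsg CfsgH3
open scoped ComplexConjugate Classical

namespace CfsgH4

section zn
variable {r : ℕ} {i j l : ZN r} {S : Type*} [Group S] {a b : S} {k m : ℤ} (h : MC ⊤ a b k m r)

theorem al_k (j : ZN r) : Al h j (k * j) := Or.inr (zz_k h j).symm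

/-- the even class -/
noncomputable def EE : Finset (ZN r) := (I0 r).filter (Al h 0)

/-- the odd class -/
noncomputable def OO : Finset (ZN r) := Finset.univ.filter fun j => ¬ Al h 0 j

variable {h}

theorem mem_EE : j ∈ EE h ↔ j ∈ I0 r ∧ Al h 0 j := Finset.mem_filter

theorem mem_OO : j ∈ OO h ↔ ¬ Al h 0 j := by simp [OO]

theorem Al.rel (e : Al h i j) (c : l = j ∨ l = k * j) : Al h i l := by
  rcases c with rfl | rfl
  exacts [e, e.trans (al_k h j)]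

variable (h)

theorem EE_sub : EE h ⊆ I0 r := Finset.filter_subset _ _

theorem OO_sub : OO h ⊆ I0 r := fun _ hj => mem_I0.2
  ⟨fun c => mem_OO.1 hj (c ▸ Al.refl h 0), fun c => mem_OO.1 hj (c ▸ al_zz h)⟩

theorem EE_k : ∀ j ∈ EE h, k * j ∈ EE h := fun j hj =>
  mem_EE.2 ⟨(k_mem h).2 (mem_EE.1 hj).1, (mem_EE.1 hj).2.trans (al_k h j)⟩

theorem OO_k : ∀ j ∈ OO h, k * j ∈ OO h := fun j hj =>
  mem_OO.2 fun c => mem_OO.1 hj (c.trans (al_k h j).symm)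

theorem EE_al : ∀ j ∈ EE h, ∀ l ∈ EE h, Al h j l := fun _ hj _ hl =>
  (mem_EE.1 hj).2.symm.trans (mem_EE.1 hl).2

theorem OO_al : ∀ j ∈ OO h, ∀ l ∈ OO h, Al h j l := fun j hj l hl => Or.inr (by
  have h1 := fun c => mem_OO.1 hj (Or.inr c)
  have h2 := fun c => mem_OO.1 hl (Or.inr c)
  rw [mul_zero, eq_comm] at h1 h2
  rw [(zz_mul j).resolve_left h1, (zz_mul l).resolve_left h2])

include h in
theorem rel_symm (c : l = j ∨ l = k * j) : j = l ∨ j = k * l :=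
  c.imp Eq.symm fun c => by rw [c, k_k h]

theorem gk_EO (hj : Al h 0 j) (hl : ¬ Al h 0 l) : gk k j l = 0 :=
  gk_of_ne h (fun c => hl (hj.rel (.inl c))) fun c => hl (hj.rel (.inr c))

theorem card_OO (hd : ¬ Dih h) : (OO h).card = 2 ^ (r + 1) ∧ (EE h).card + 2 = 2 ^ (r + 1) := by
  have h1 := Finset.card_filter_add_card_filter_not (s := I0 r) (Al h 0)
  have h2 := Finset.card_filter_add_card_filter_not (s := Finset.univ) (Al h 0)
  have h3 : OO h = (I0 r).filter fun j => ¬ Al h 0 j := by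
    ext j; simpa [mem_OO] using fun c => OO_sub h (mem_OO.2 c)
  have h4 : (Finset.univ.filter (Al h 0)).card = 2 ^ (r + 1) := by
    refine Eq.trans ?_ card_even; congr 1; ext j; simp [Al, hd, eq_comm]
  rw [Finset.card_univ, ZMod.card, h4] at h2
  rw [← h3] at h1
  have h5 := card_I0 (r := r)
  have : 2 ^ (r + 2) = 2 ^ (r + 1) * 2 := pow_succ 2 (r + 1)
  change (EE h).card + _ = _ at h1
  change _ + (OO h).card = _ at h2
  generalize 2 ^ (r + 1) = t at *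
  omega

end zn

variable {M : Ideal AlgInt} [hM : M.IsMaximal] {G : Type*} [Group G] [Fintype G]
  [CharP (Res M) 2] {P : Subgroup G} {e : (Res M)[G]} {B : Set (IrrCharacter G)}
  {χ ψ : IrrCharacter G} {τ σ : G → ℂ} {a b : P} {k m : ℤ} {r : ℕ} {h : MC ⊤ a b k m r}
  {i j l j' l' : ZN r} {O : Finset P} {W : ZN r → G → ℂ} {d : (G → ℂ) → ZN r → ℂ}
  {n : IrrCharacter G → ZN r → ℤ} {J : Finset (ZN r)} {ε : ℤ} {μ ρ f : ZN r → IrrCharacter G}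

variable (k n J ε μ) in
/-- a coherent family -/
structure FM : Prop where
  sgn : ε = 1 ∨ ε = -1
  inj : ∀ j ∈ J, ∀ l ∈ J, μ j = μ l ↔ l = j ∨ l = k * j
  eq : ∀ j ∈ J, ∀ l ∈ J, ∀ ψ, n ψ j - n ψ l =
    ε * ((if ψ = μ j then 1 else 0) - if ψ = μ l then 1 else 0)

variable (B h n ρ) in
/-- the characters attached to the even class -/
def RH : Prop := ∀ j ∈ EE h, ρ j ∈ irrF B \ HZ B 2 ∧ ∃ ε : ℤ, (ε = 1 ∨ ε = -1) ∧
  ∀ ψ ∈ irrF B \ HZ B 2, n ψ 0 - n ψ j = if ψ = ρ j then ε else 0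

variable (h n ψ) in
/-- extra characters -/
def Ex : Prop := ∀ l l', Al h l l' → n ψ l = n ψ l'

variable (B h n f) in
/-- the standard configuration -/
structure STD : Prop where
  mem : ∀ j ∈ I0 r, f j ∈ irrF B \ HZ B 2
  inj : ∀ j ∈ I0 r, ∀ l ∈ I0 r, f j = f l ↔ l = j ∨ l = k * j
  typ : ∀ j ∈ I0 r, ∃ ε : ℤ, (ε = 1 ∨ ε = -1) ∧ ∀ l l', Al h l l' →
    n (f j) l - n (f j) l' = ε * gk k j l - ε * gk k j l'
  ext : ∀ ψ ∈ irrF B \ HZ B 2, (∀ j ∈ I0 r, ψ ≠ f j) → Ex ψ h n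

variable (B k n J) in
/-- a non-standard class -/
def NSt : Prop := (∃ ε μ, FM k n J ε μ ∧ ∀ j ∈ J, μ j ∈ HZ B 2) ∧
  ∃ j ∈ J, ∃ l ∈ J, ¬ (l = j ∨ l = k * j)

omit hM [CharP (Res M) 2] in
theorem NSt.eq (N : NSt B k n J) (hψ : ψ ∉ HZ B 2) (hj : j ∈ J) (hl : l ∈ J) : n ψ j = n ψ l := by
  obtain ⟨⟨ε, μ, h1, h2⟩, -⟩ := N
  rw [← sub_eq_zero, h1.eq j hj l hl, if_neg fun c : ψ = μ j => hψ (c ▸ h2 j hj),
    if_neg fun c : ψ = μ l => hψ (c ▸ h2 l hl), sub_self, mul_zero]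

omit hM [CharP (Res M) 2] in
theorem FM.ne (F : FM k n J ε μ) (hj : j ∈ J) (hl : l ∈ J) (c : ¬ (l = j ∨ l = k * j)) :
    n (μ j) j ≠ n (μ j) l := fun c' => by
  have := F.eq j hj l hl (μ j)
  rw [c', if_pos rfl, if_neg (mt (F.inj j hj l hl).1 c)] at this
  rcases F.sgn with rfl | rfl <;> simp at this

omit hM [CharP (Res M) 2] in
theorem RH.eq (R : RH B h n ρ) (hj : j ∈ EE h) (hψ : ψ ∈ irrF B \ HZ B 2) :
    ψ = ρ j ↔ n ψ 0 ≠ n ψ j := by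
  obtain ⟨-, ε, h1, h2⟩ := R j hj
  rw [← sub_ne_zero, h2 ψ hψ]
  rcases h1 with rfl | rfl <;> simp

namespace TD
variable (T : TD e B h O W d n)
include T

theorem gram_v (hj : j ∈ EE h) :
    ∑ χ ∈ irrF B, (n χ 0 - n χ j) * (n χ 0 - n χ (zz r)) = 2 := by
  obtain ⟨h1, h2⟩ := mem_EE.1 hj
  rw [T.gram h2 (al_zz h), gk_fix h (.inl rfl), gk_zero h zz_ne, gk_comm h j, gk_comm h j,
    gk_zero h (mem_I0.1 h1).1, gk_zz h (mem_I0.1 h1).2]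
  rfl

theorem v_spec (hj : j ∈ EE h) :
    (∀ χ ∈ HZ B 2, n χ 0 - n χ j = 0 ∨ n χ 0 - n χ j = n χ 0 - n χ (zz r)) ∧
    ∃ ρ ∈ irrF B \ HZ B 2, ∃ ε : ℤ, (ε = 1 ∨ ε = -1) ∧
      ∀ ψ ∈ irrF B \ HZ B 2, n ψ 0 - n ψ j = if ψ = ρ then ε else 0 := by
  obtain ⟨h1, h2⟩ := mem_EE.1 hj
  refine sum_sq_three HZ_sub T.HZ_spec.2.1 T.HZ_spec.2.2 ?_ (T.gram_v hj)
  rw [T.gram h2 h2, gk_fix h (.inl rfl), gk_comm h j, gk_zero h (mem_I0.1 h1).1, gk_self h h1]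
  rfl

theorem exists_RH : ∃ ρ, RH B h n ρ := by
  obtain ⟨χ, -⟩ := block_nonempty T.hB
  have : Nonempty (IrrCharacter G) := ⟨χ⟩
  choose! ρ h1 h2 using fun j (hj : j ∈ EE h) => (T.v_spec hj).2
  exact ⟨ρ, fun j hj => ⟨h1 j hj, h2 j hj⟩⟩

theorem exists_FM (hJ : J ⊆ I0 r) (hk : ∀ j ∈ J, k * j ∈ J) (hA : ∀ j ∈ J, ∀ l ∈ J, Al h j l) :
    ∃ ε μ, FM k n J ε μ := by
  obtain rfl | ⟨j₀, h0⟩ := J.eq_empty_or_nonempty
  · obtain ⟨χ, -⟩ := block_nonempty T.hB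
    exact ⟨1, fun _ => χ, .inl rfl, by simp, by simp⟩
  let s : Setoid (ZN r) := ⟨fun j l => l = j ∨ l = k * j, fun _ => .inl rfl, rel_symm h, by
    rintro x _ _ (rfl | rfl) (rfl | rfl) <;> simp [k_k h]⟩
  have h1 : ∀ j, (Quotient.mk s j).out = j ∨ (Quotient.mk s j).out = k * j := fun j =>
    s.symm (Quotient.mk_out j)
  have h2 : ∀ j ∈ J, (Quotient.mk s j).out ∈ J := fun j hj => by
    rcases h1 j with c | c <;> rw [c]
    exacts [hj, hk j hj]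
  have h3 : ∀ q q' : {q : Quotient s // q.out ∈ J}, q ≠ q' → gk k q.1.out q'.1.out = 0 :=
    fun q q' c => gk_of_ne h (fun c' => c (Subtype.ext (Quotient.out_equiv_out.1 (.inl c'))))
      fun c' => c (Subtype.ext (Quotient.out_equiv_out.1 (.inr c')))
  obtain ⟨q₀, -⟩ : ∃ q : {q : Quotient s // q.out ∈ J}, True := ⟨⟨_, h2 _ h0⟩, trivial⟩
  have hA' := fun q : {q : Quotient s // q.out ∈ J} => hA _ q.2 _ q₀.2
  obtain ⟨ε, hε, μ, h4, h5, h6⟩ := exists_irr_family q₀ (fun q => VV W q.1.out q₀.1.out)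
    (by simp [VV]) (fun q => T.V_gen (hA' q)) (fun q => T.V_one (hA' q))
    (fun q c => by
      rw [T.V_V (hA' q) (hA' q), gk_self h (hJ q.2), gk_self h (hJ q₀.2), h3 _ _ c, h3 _ _ c.symm]
      norm_num)
    fun q q' c c' c'' => by
      rw [T.V_V (hA' q) (hA' q'), gk_self h (hJ q₀.2), h3 _ _ c, h3 _ _ c'.symm, h3 _ _ c'']
      norm_num
  obtain ⟨ε, rfl, hε'⟩ : ∃ ε' : ℤ, (ε' : ℂ) = ε ∧ (ε' = 1 ∨ ε' = -1) := by
    rcases hε with rfl | rfl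
    exacts [⟨1, by simp⟩, ⟨-1, by simp⟩]
  let ν : ZN r → IrrCharacter G := fun j =>
    if hj : j ∈ J then ⟨μ ⟨_, h2 j hj⟩, h4 _⟩ else ⟨μ q₀, h4 _⟩
  have h7 : ∀ j ∈ J, ∀ ψ, n ψ j - n ψ q₀.1.out = ε * ((if ψ = ν j then 1 else 0) -
      if ψ = ⟨μ q₀, h4 _⟩ then 1 else 0) := fun j hj ψ => by
    have := T.V_irr (hA' ⟨_, h2 j hj⟩) ψ
    rw [h6, CfsgH3.inner_smul_left, CfsgH3.inner_sub_left, inner_irr ⟨_, h4 _⟩,
      inner_irr ⟨_, h4 _⟩, T.n_rel ψ (h1 j)] at this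
    simp only [ν, dif_pos hj, eq_comm (a := ψ)]
    exact_mod_cast this.symm
  refine ⟨ε, ν, hε', fun j hj l hl => ?_, fun j hj l hl ψ => ?_⟩
  · simp only [ν, dif_pos hj, dif_pos hl, Subtype.ext_iff, h5.eq_iff]
    exact Quotient.eq
  · linear_combination h7 j hj ψ - h7 l hl ψ

theorem FM_mem (F : FM k n J ε μ) (hA : ∀ j ∈ J, ∀ l ∈ J, Al h j l) (hj : j ∈ J) (hl : l ∈ J)
    (c : ¬ (l = j ∨ l = k * j)) : μ j ∈ irrF B :=
  mem_irrF.2 (by_contra fun c' => F.ne hj hl c (T.n_notMem (hA j hj l hl) c'))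

theorem FM_orth (F : FM k n J ε μ) (hA : ∀ j ∈ J, ∀ l ∈ J, Al h j l) (hj : j ∈ J) (hl : l ∈ J)
    (c : ¬ (l = j ∨ l = k * j)) {g : IrrCharacter G → ℤ}
    (hg : ∑ χ ∈ irrF B, (n χ j - n χ l) * g χ = 0) : g (μ j) = g (μ l) := by
  simp only [F.eq j hj l hl, mul_assoc, sub_mul, ite_mul, ← Finset.mul_sum, Finset.sum_sub_distrib,
    Finset.sum_ite_eq', one_mul, zero_mul, T.FM_mem F hA hj hl c,
    T.FM_mem F hA hl hj (mt (rel_symm h) c), if_true] at hg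
  rcases F.sgn with rfl | rfl <;> omega

theorem gram_al (hj : j ∈ I0 r) (hl : l ∈ I0 r) (ha : Al h j l) :
    ∑ χ ∈ irrF B, (n χ j - n χ l) * (n χ 0 - n χ (zz r)) = 0 := by
  rw [T.gram ha (al_zz h), gk_comm h j, gk_comm h j, gk_comm h l, gk_comm h l,
    gk_zero h (mem_I0.1 hj).1, gk_zero h (mem_I0.1 hl).1, gk_zz h (mem_I0.1 hj).2,
    gk_zz h (mem_I0.1 hl).2]
  rfl

theorem gram_two (hj : j ∈ I0 r) (hl : l ∈ I0 r) (ha : Al h j l) (c : ¬ (l = j ∨ l = k * j)) :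
    ∑ χ ∈ irrF B, (n χ j - n χ l) * (n χ j - n χ l) = 2 := by
  rw [T.gram ha ha, gk_self h hj, gk_self h hl, gk_comm h l,
    gk_of_ne h (fun e => c (.inl e)) fun e => c (.inr e)]
  rfl

theorem gram_third (hj : j ∈ I0 r) (hl : l ∈ I0 r) (ha : Al h j l) (hi : Al h 0 i)
    (c : gk k j i = 0) (c' : gk k l i = 0) :
    ∑ χ ∈ irrF B, (n χ j - n χ l) * (n χ 0 - n χ i) = 0 := by
  rw [T.gram ha hi, gk_comm h j, gk_comm h l, gk_zero h (mem_I0.1 hj).1,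
    gk_zero h (mem_I0.1 hl).1, c, c']
  rfl

theorem nst_of (F : FM k n J ε μ) (hJ : J ⊆ I0 r) (hA : ∀ j ∈ J, ∀ l ∈ J, Al h j l) (hj : j ∈ J)
    (hl : l ∈ J) (c : ¬ (l = j ∨ l = k * j)) (h0 : μ j ∈ HZ B 2) : NSt B k n J := by
  refine ⟨⟨ε, μ, F, fun i hi => ?_⟩, j, hj, l, hl, c⟩
  by_cases c' : i = j ∨ i = k * j
  · rwa [← (F.inj j hj i hi).2 c']
  by_contra c''
  have h1 := T.FM_orth F hA hj hi c' (T.gram_al (hJ hj) (hJ hi) (hA j hj i hi))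
  have h2 := T.HZ_spec.2.2 _ (T.FM_mem F hA hi hj (mt (rel_symm h) c')) c''
  have h3 := T.HZ_spec.2.1 _ h0
  omega

theorem n_al (R : RH B h n ρ) (hψ : ψ ∈ irrF B \ HZ B 2) (hl : Al h 0 l)
    (c : l ∈ EE h → ψ ≠ ρ l) : n ψ l = n ψ 0 := by
  by_cases c' : l ∈ I0 r
  · exact (not_not.1 (mt (R.eq (mem_EE.2 ⟨c', hl⟩) hψ).2 (c (mem_EE.2 ⟨c', hl⟩)))).symm
  rw [mem_I0, not_and_or, not_not, not_not] at c'
  rcases c' with rfl | rfl
  exacts [rfl, (sub_eq_zero.1 (T.HZ_spec.2.2 ψ (Finset.mem_sdiff.1 hψ).1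
    (Finset.mem_sdiff.1 hψ).2)).symm]

theorem ex_of (R : RH B h n ρ) (F : FM k n (OO h) ε μ) (hψ : ψ ∈ irrF B \ HZ B 2)
    (h1 : ∀ j ∈ EE h, ψ ≠ ρ j) (h2 : ∀ j ∈ OO h, ψ ≠ μ j) : Ex ψ h n := fun l l' ha => by
  by_cases c : Al h 0 l
  · rw [T.n_al R hψ c (h1 _), T.n_al R hψ (c.trans ha) (h1 _)]
  · have c' := mem_OO.2 (mt (Al.trans · ha.symm) c)
    rw [← sub_eq_zero, F.eq _ (mem_OO.2 c) _ c', if_neg (h2 _ (mem_OO.2 c)), if_neg (h2 _ c')]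
    simp

theorem rho_rel (R : RH B h n ρ) (hj : j ∈ EE h) (c : l = j ∨ l = k * j) : ρ j = ρ l := by
  have hl : l ∈ EE h := c.elim (· ▸ hj) (· ▸ EE_k h j hj)
  rw [R.eq hl (R j hj).1, T.n_rel _ c, ← R.eq hj (R j hj).1]

theorem tri (hO : ∀ j ∈ OO h, ∃ l ∈ OO h, ¬ (l = j ∨ l = k * j)) :
    (∃ f, STD B h n f) ∨ NSt B k n (EE h) ∨ NSt B k n (OO h) := by
  obtain ⟨ρ, R⟩ := T.exists_RH
  obtain ⟨ε, μ, F⟩ := T.exists_FM (OO_sub h) (OO_k h) (OO_al h)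
  by_cases c1 : ∃ j ∈ EE h, ∃ l ∈ EE h, ρ j = ρ l ∧ ¬ (l = j ∨ l = k * j)
  · obtain ⟨j, hj, l, hl, h1, h2⟩ := c1
    obtain ⟨ε, μ, F⟩ := T.exists_FM (EE_sub h) (EE_k h) (EE_al h)
    refine .inr (.inl (T.nst_of F (EE_sub h) (EE_al h) hj hl h2 (by_contra fun c => ?_)))
    have h3 := Finset.mem_sdiff.2 ⟨T.FM_mem F (EE_al h) hj hl h2, c⟩
    obtain ⟨-, ε₁, e1, e2⟩ := R j hj
    obtain ⟨-, ε₂, e3, e4⟩ := R l hl
    have h4 := F.eq j hj l hl (μ j)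
    have h5 := e2 _ h3
    have h6 := e4 _ h3
    rw [if_pos rfl, if_neg (mt (F.inj j hj l hl).1 h2)] at h4
    rw [← h1] at h6
    have := F.sgn
    split_ifs at h5 h6 <;> omega
  by_cases c2 : ∃ j ∈ OO h, μ j ∈ HZ B 2
  · obtain ⟨j, hj, h1⟩ := c2
    obtain ⟨l, hl, h2⟩ := hO j hj
    exact .inr (.inr (T.nst_of F (OO_sub h) (OO_al h) hj hl h2 h1))
  have h1 : ∀ j ∈ OO h, μ j ∈ irrF B \ HZ B 2 := fun j hj => by
    obtain ⟨l, hl, h2⟩ := hO j hj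
    exact Finset.mem_sdiff.2 ⟨T.FM_mem F (OO_al h) hj hl h2, fun c => c2 ⟨j, hj, c⟩⟩
  have h2 : ∀ j ∈ EE h, ∀ l ∈ OO h, μ l ≠ ρ j := fun j hj l hl c => by
    obtain ⟨l', hl', h2⟩ := hO l hl
    have h3 := (mem_EE.1 hj).2
    have h4 := T.FM_orth F (OO_al h) hl hl' h2 (T.gram_third (OO_sub h hl) (OO_sub h hl')
      (OO_al h l hl l' hl') h3 (by rw [gk_comm h, gk_EO h h3 (mem_OO.1 hl)])
      (by rw [gk_comm h, gk_EO h h3 (mem_OO.1 hl')]))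
    refine h2 ((F.inj l hl l' hl').1 (c.trans ((R.eq hj (h1 _ hl')).2 ?_).symm))
    rw [← sub_ne_zero, ← h4, sub_ne_zero, ← R.eq hj (h1 _ hl)]
    exact c
  have h3 : ∀ j ∈ EE h, ∀ l ∈ EE h, ρ j = ρ l ↔ l = j ∨ l = k * j := fun j hj l hl =>
    ⟨fun c => by_contra fun c' => c1 ⟨j, hj, l, hl, c, c'⟩, T.rho_rel R hj⟩
  refine .inl ⟨fun j => if Al h 0 j then ρ j else μ j, fun j hj => ?_, fun j hj l hl => ?_,
    fun j hj => ?_, fun ψ hψ c => T.ex_of R F hψ (fun j hj => ?_) fun j hj => ?_⟩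
  · split_ifs with c
    exacts [(R j (mem_EE.2 ⟨hj, c⟩)).1, h1 j (mem_OO.2 c)]
  · split_ifs with c c' c'
    · exact h3 _ (mem_EE.2 ⟨hj, c⟩) _ (mem_EE.2 ⟨hl, c'⟩)
    · exact iff_of_false (h2 _ (mem_EE.2 ⟨hj, c⟩) _ (mem_OO.2 c')).symm (mt c.rel c')
    · exact iff_of_false (h2 _ (mem_EE.2 ⟨hl, c'⟩) _ (mem_OO.2 c)) (mt (c'.rel <| rel_symm h ·) c)
    · exact F.inj _ (mem_OO.2 c) _ (mem_OO.2 c')
  · split_ifs with c
    · have hj' := mem_EE.2 ⟨hj, c⟩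
      obtain ⟨h4, ε', h5, h6⟩ := R j hj'
      have h7 : ∀ l, Al h 0 l → n (ρ j) l - n (ρ j) 0 = -ε' * gk k j l := fun l hl => by
        by_cases c' : l = j ∨ l = k * j
        · have := h6 _ h4
          rw [if_pos rfl] at this
          rw [T.n_rel _ c', gk_of_rel h hj c']; omega
        · rw [T.n_al R h4 hl fun hl' => mt (h3 j hj' l hl').1 c',
            gk_of_ne h (fun e => c' (.inl e)) fun e => c' (.inr e)]; simp
      refine ⟨-ε', by omega, fun l l' ha => ?_⟩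
      by_cases c' : Al h 0 l
      · linear_combination h7 l c' - h7 l' (c'.trans ha)
      · have c'' := mt (Al.trans · ha.symm) c'
        rw [F.eq _ (mem_OO.2 c') _ (mem_OO.2 c''), if_neg (h2 _ hj' _ (mem_OO.2 c')).symm,
          if_neg (h2 _ hj' _ (mem_OO.2 c'')).symm, gk_EO h c c', gk_EO h c c'']
        simp
    · have hj' := mem_OO.2 c
      refine ⟨ε, F.sgn, fun l l' ha => ?_⟩
      by_cases c' : Al h 0 l
      · rw [T.n_al R (h1 j hj') c' fun hl => h2 _ hl _ hj',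
          T.n_al R (h1 j hj') (c'.trans ha) fun hl => h2 _ hl _ hj', gk_comm h, gk_EO h c' c,
          gk_comm h, gk_EO h (c'.trans ha) c]
        simp
      · have h4 : ∀ l ∈ OO h, (if μ j = μ l then 1 else 0) = gk k j l := fun l hl => by
          simp only [F.inj j hj' l hl]
          split_ifs with c'
          exacts [(gk_of_rel h hj c').symm,
            (gk_of_ne h (fun e => c' (.inl e)) fun e => c' (.inr e)).symm]
        have c'' := mem_OO.2 (mt (Al.trans · ha.symm) c')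
        rw [F.eq _ (mem_OO.2 c') _ c'', h4 _ (mem_OO.2 c'), h4 _ c'', mul_sub]
  · simpa [(mem_EE.1 hj).2] using c j (EE_sub h hj)
  · simpa [mem_OO.1 hj] using c j (OO_sub h hj)

end TD

end CfsgH4
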