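import Cfsg.Agent.H4.Tame5

/-! 2-blocks with defect groups of maximal class: heights. -/

set_option autoImplicit false
set_option linter.unusedSectionVars false

open MonoidAlgebra Subgroup CfsgH2 Function Cfsg CfsgH3
open scoped ComplexConjugate Classical

namespace CfsgH4

theorem two_pow_eq_of_odd {s t : ℕ} {x y : ℤ} (hx : Odd x) (hy : Odd y)
    (h : 2 ^ s * x = 2 ^ t * y) : s = t := by
  wlog c : s < t generalizing s t x y
  · exact ((not_lt.1 c).eq_or_lt.resolve_right fun c' => c (this hy hx h.symm c' ▸ c')).symm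
  obtain ⟨u, rfl⟩ := Nat.exists_eq_add_of_lt c
  rw [add_assoc, pow_add, mul_assoc, mul_right_inj' (by positivity), pow_succ'] at h
  exact absurd hx (by simp [h, mul_assoc])

theorem sum_sq_four' {ι : Type*} {S H : Finset ι} {β : ι → ℤ} (hH : H ⊆ S) (hc : H.card = 4)
    (ho : ∀ x ∈ H, Odd (β x)) (h : ∑ x ∈ S, β x * β x = 4) :
    (∀ x ∈ H, β x = 1 ∨ β x = -1) ∧ ∀ x ∈ S, x ∉ H → β x = 0 := by
  rw [← Finset.sum_sdiff hH] at h
  have h1 : ∀ x ∈ H, 0 ≤ β x * β x - 1 := fun x hx => by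
    obtain ⟨c, hc⟩ := ho x hx
    have := (mul_self_pos (a := β x)).2 (by omega)
    omega
  have h2 := Finset.sum_nonneg h1
  have h3 := Finset.sum_nonneg fun x (_ : x ∈ S \ H) => mul_self_nonneg (β x)
  have h4 : ∑ x ∈ H, (β x * β x - 1) = ∑ x ∈ H, β x * β x - 4 := by simp [hc]
  exact ⟨fun x hx => Int.eq_one_or_neg_one_of_mul_eq_one (sub_eq_zero.1
    ((Finset.sum_eq_zero_iff_of_nonneg h1).1 (by omega) x hx)), fun x hx hx' => mul_self_eq_zero.1
      ((Finset.sum_eq_zero_iff_of_nonneg fun x _ => mul_self_nonneg (β x)).1 (by omega) x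
        (Finset.mem_sdiff.2 ⟨hx, hx'⟩))⟩

theorem zz_mul_of_add {r : ℕ} {i : ZN r} (hr : r ≠ 0) (h : i + i = zz r) : zz r * i = 0 := by
  obtain ⟨s, rfl⟩ := Nat.exists_eq_succ_of_ne_zero hr
  have h1 : zz s.succ * 2 ^ (s + 1) = 0 := by
    linear_combination 2 ^ s * two_mul_zz (r := s.succ)
  have h2 : 2 * (i - 2 ^ (s + 1)) = 0 := by
    rw [mul_sub, two_mul, h, zz, Nat.succ_eq_add_one]; push_cast; ring
  rcases two_mul_eq_zero.1 h2 with e | e <;> rw [sub_eq_iff_eq_add.1 e] <;>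
    simp [mul_add, h1, zz_mul_zz]

variable {M : Ideal AlgInt} [hM : M.IsMaximal] {G : Type*} [Group G] [Fintype G]
  [CharP (Res M) 2] {P : Subgroup G} {e E : (Res M)[G]} {B : Set (IrrCharacter G)}
  {χ ψ : IrrCharacter G} {τ σ : G → ℂ} {a b : P} {k m : ℤ} {r : ℕ} {h : MC ⊤ a b k m r}
  {i j l j' l' : ZN r} {O : Finset P} {W : ZN r → G → ℂ} {d : (G → ℂ) → ZN r → ℂ}
  {n : IrrCharacter G → ZN r → ℤ} {J : Finset (ZN r)} {ε : ℤ} {μ ρ f : ZN r → IrrCharacter G}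

theorem Fus.sq (he : BP 2 ⊤ P e) {u v : P} (c : Fus 2 e u v) : Fus 2 e (u * u) (v * v) := by
  simpa only [pow_two] using c.pow he 2

variable (h) in
theorem MP.exists_eta [Fintype P] (hm : MP 2 ⊤ E P e) (hr : r ≠ 0) : ∃ (η : P → ℂ) (c : ZN r),
    IsGeneralizedCharacter P η ∧ Stab 2 e η ∧ (c = 0 ∨ c = zz r) ∧
      ∀ i, η (el h i) = 3 - (ec (i * c) + ec i + ec ((k : ZN r) * i)) := by
  obtain ⟨η, c, h1, h2, h3, h4⟩ := exists_sharp h
  have h5 : ∀ i j, Fus 2 e (el h i) (el h j * b) → η (el h i) = η (el h j * b) := fun i j hf => by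
    have h6 := hf.sq hm.bp
    rw [← el_add] at h6
    rw [h3, h4]
    rcases out_sq h j with c' | c' <;> rw [c'] at h6 ⊢
    · rw [if_pos rfl]
      rcases two_mul_eq_zero.1 ((two_mul i).trans ((el_eq_one h).1 h6.symm.eq_one)) with rfl | rfl
      · rw [el_zero] at hf
        exact (el_ne h 0 j (by rw [el_zero, hf.eq_one])).elim
      · rcases h2 with rfl | rfl <;> simp [k_zz h, zz_mul_zz, ec_zz]
    · have h7 : i + i = zz r := (hm.fus_el h h6.symm).elim id fun c => c.trans (k_zz h)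
      have h8 := zz_mul_of_add hr h7
      rw [if_neg (mt (el_eq_one h).1 zz_ne), k_even h h8, show -i = i + zz r by
        linear_combination (-1) * h7 - zz_add (r := r), ec_add, ec_zz]
      rcases h2 with rfl | rfl <;> simp [mul_comm i, h8]
  refine ⟨(3 : ℤ) • (fun _ => 1) - η, c, (isGen_one.zsmul 3).sub h1, fun u v hf => ?_, h2,
    fun i => by simp [h3]⟩
  suffices η u = η v by simp [this]
  obtain ⟨i, rfl | rfl⟩ := el_cases h u <;> obtain ⟨j, rfl | rfl⟩ := el_cases h v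
  · rcases hm.fus_el h hf with rfl | rfl
    exacts [rfl, by rw [← conj_el h i 0]; exact (h1.classFun _ _).symm]
  · exact h5 _ _ hf
  · exact (h5 _ _ hf.symm).symm
  · have h6 := hf.sq hm.bp
    rw [h4, h4]
    simp only [show el h i * b * (el h i * b) = 1 ↔ el h j * b * (el h j * b) = 1 from
      ⟨fun c => (c ▸ h6).eq_one, fun c => (c ▸ h6.symm).eq_one⟩]
    congr

namespace TD
variable (T : TD e B h O W d n)
include T

theorem defect : blockDefect 2 B = r + 3 :=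
  Nat.pow_right_injective le_rfl ((card_isDef T.hB T.hm.isDef).symm.trans (card_mc h))

theorem major (hχ : χ ∈ HZ B 2) (hψ : ψ ∈ irrF B) : ∃ t : ℤ, Odd t ∧
    2 ^ (r + 3) * classInner (piU 2 P e (el h (zz r)) χ.1) ψ.1 = 2 ^ blockHeight 2 B ψ * t := by
  obtain ⟨t, h1, h2⟩ := T.hm.exists_major T.hB (z_centG h) (fun s hs => by
    obtain ⟨s, rfl⟩ := (Nat.Coprime.coprime_dvd_right (Dvd.dvd.trans (by
      rw [card_mc h]; exact Dvd.intro_left _ rfl) (card_subgroup_dvd_card P)) hs).odd_of_right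
    rw [pow_succ, pow_mul, sq, z_sq, one_pow, one_mul]
    exact Fus.refl _) (mem_HZ.1 hχ).1 (mem_HZ.1 hχ).2 (mem_irrF.1 hψ)
  rw [card_mc h] at h2
  exact ⟨t, by rwa [← Int.not_even_iff_odd, even_iff_two_dvd], by exact_mod_cast h2⟩

theorem d_of {ν : ZN r → ℤ} (hν : ∀ l l', Al h l l' → n ψ l - n ψ l' = ν l - ν l') (hi : UU h i) :
    d ψ.1 i = ∑ l, ν l * ec (i * l) := by
  rw [T.d_eq, ← sub_eq_zero, ← Finset.sum_sub_distrib]
  simp only [← sub_mul, ← Int.cast_sub]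
  have h1 : ∀ l l', Al h l l' → ((n ψ l - ν l : ℤ) : ℂ) = (n ψ l' - ν l' : ℤ) := fun l l' c => by
    rw [Int.cast_inj]; linear_combination hν l l' c
  by_cases c : i = zz r
  · simp only [fun l => h1 l 0 (.inl (hi.2 c)), ← Finset.mul_sum, mul_comm i, sum_ec]
    rw [if_neg hi.1, mul_zero]
  · exact sum_ec_eq_zero (fun l l' c => h1 l l' (.inr c)) (mem_I0.2 ⟨hi.1, c⟩)

theorem d_ex (hψ : Ex ψ h n) (hi : UU h i) : d ψ.1 i = 0 := by
  simpa using T.d_of (ν := 0) (fun l l' c => by simp [hψ l l' c]) hi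

theorem d_typ (hψ : ∀ l l', Al h l l' → n ψ l - n ψ l' = ε * gk k j l - ε * gk k j l')
    (hi : UU h i) : d ψ.1 i = ε * (ec (i * j) + ec (i * ((k : ZN r) * j))) := by
  rw [T.d_of hψ hi, ← sum_gk h j fun l => ec (i * l), Finset.mul_sum]
  simp only [Int.cast_mul, mul_assoc]

theorem d_zz (hχ : χ ∈ HZ B 2) : ∃ t : ℤ, Odd t ∧ d χ.1 (zz r) = t := by
  have h1 : d χ.1 (zz r) = (∑ l, n χ l * sg l : ℤ) := by simp [T.d_eq, ec_zz_mul]
  have h2 := (T.red_d χ (zz r)).2.2.1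
  refine ⟨_, ?_, h1⟩
  rw [← Int.not_even_iff_odd, even_iff_two_dvd, ← Nat.cast_two, ← red_intCast_eq_zero_iff (M := M),
    ← h1, h2, ← red_intCast, red_intCast_eq_zero_iff (p := 2), Nat.cast_two, ← even_iff_two_dvd,
    Int.not_even_iff_odd]
  exact (T.ht_zero (HZ_sub hχ)).1 hχ

theorem master (hr : r ≠ 0) : ∃ c : ZN r, (c = 0 ∨ c = zz r) ∧ ∀ τ, IsGeneralizedCharacter G τ →
    ∀ ψ ∈ irrF B \ HZ B 2, ∃ t : ℤ, 4 * classInner (piU 2 P e (el h (zz r)) τ) ψ.1 +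
      (2 ^ (r + 3))⁻¹ * ∑ i ∈ I0 r, (3 - (ec (i * c) + ec i + ec ((k : ZN r) * i))) * d τ i *
        conj (d ψ.1 i) = t := by
  have := Fintype.ofFinite P
  obtain ⟨η, c, h1, h2, h3, h4⟩ := T.hm.exists_eta h hr
  refine ⟨c, h3, fun τ hτ ψ hψ => ?_⟩
  obtain ⟨t, ht⟩ := (T.hm.star_isGen h1 h2 hτ).inner_int ψ.2.isGen
  have h5 := T.os.decomp T.hm (x := fun u => η u * classInner (piU 2 P e u τ) ψ.1)
    fun u v c => by simp only [h2 u v c, c.piU_eq T.hm.bp hτ.classFun]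
  simp only [smul_eq_mul] at h5
  rw [← inner_star, ht, Finset.sum_eq_zero (s := O) fun o ho => by
    rw [inner_piU_comm T.hm.bp o hτ.classFun ψ.2.classFun, T.piU_O ho
      (mem_irrF.1 (Finset.mem_sdiff.1 hψ).1) (Finset.mem_sdiff.1 hψ).2, CfsgH3.inner_zero_right,
      mul_zero], ← el_zero h, h4, h4, k_zz h, ec_zz,
    show zz r * c = 0 by rcases h3 with rfl | rfl <;> simp [zz_mul_zz]] at h5
  refine ⟨t, h5.symm ▸ ?_⟩
  rw [Finset.mul_sum, Finset.mul_sum, Finset.sum_congr rfl fun i hi => show _ = 2⁻¹ *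
    (η (el h i) * classInner (piU 2 P e (el h i) τ) ψ.1) by
      rw [h4, mul_assoc, ← T.piU_I0 hi hτ.classFun ψ.2.classFun]; field_simp; ring]
  simp; ring

theorem ht_typ (hr : r ≠ 0) (hψ : ψ ∈ irrF B \ HZ B 2) (hε : ε = 1 ∨ ε = -1)
    (ht : ∀ l l', Al h l l' → n ψ l - n ψ l' = ε * gk k j l - ε * gk k j l') :
    blockHeight 2 B ψ = 1 := by
  obtain ⟨χ, hχ⟩ := Finset.card_pos.1 (T.HZ_spec.1.symm ▸ four_pos)
  obtain ⟨c, hc, h1⟩ := T.master hr
  obtain ⟨t, h1⟩ := h1 χ.1 χ.2.isGen ψ hψ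
  obtain ⟨s, h2, h3⟩ := T.major hχ (Finset.mem_sdiff.1 hψ).1
  obtain ⟨w, h4, h5⟩ := T.d_zz hχ
  let F := fun i : ZN r => (3 - (ec (i * c) + ec i + ec ((k : ZN r) * i))) * d χ.1 i
  have h6 : fc F j = (3 * n χ j - (n χ (j - c) + n χ (j - 1) + n χ (j - k)) : ℤ) := by
    push_cast
    simp only [← T.tw.int, ← fc_mul_ec]
    simp only [fc, F, sub_mul, add_mul, Finset.sum_sub_distrib, Finset.sum_add_distrib, mul_one,
      mul_comm (k : ZN r), mul_assoc (3 : ℂ), ← Finset.mul_sum]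
    ring
  have h7 := fc_k h (f := F) (fun i => by
    simp only [F, T.tw.inv _ χ.2.classFun, k_k h, add_right_comm]
    rcases hc with rfl | rfl <;> simp [mul_comm _ (zz r), zz_k h]) j
  have h8 : ∀ l, ∑ i ∈ I0 r, F i * conj (ec (i * l)) = 2 ^ (r + 2) * fc F l - 4 * w * sg l :=
    fun l => by
      rw [fc, sum_I0, mul_inv_cancel_left₀ (pow_ne_zero _ two_ne_zero), ec_zz_mul, map_intCast]
      simp only [F, h5, k_zz h, ec_zz,
        show zz r * c = 0 by rcases hc with rfl | rfl <;> simp [zz_mul_zz]]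
      simp; ring
  rw [Finset.sum_congr rfl fun i hi => show _ = ε * (F i * conj (ec (i * j)) +
    F i * conj (ec (i * ((k : ZN r) * j)))) by
      rw [T.d_typ ht (UU_of_mem h hi), map_mul, map_add, map_intCast]; ring, ← Finset.mul_sum,
    Finset.sum_add_distrib, h8, h8, h7, h6, show sg ((k : ZN r) * j) = sg j by
      simp only [sg, zz_k h]] at h1
  generalize (3 * n χ j - (n χ (j - c) + n χ (j - 1) + n χ (j - k)) : ℤ) = q at h1
  refine two_pow_eq_of_odd (y := 2 ^ r * (t - ε * q) + ε * w * sg j) h2 ?_ ?_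
  · refine (((even_two.pow_of_ne_zero hr).mul_right _).add_odd ((Odd.mul ?_ h4).mul ?_))
    · rcases hε with rfl | rfl <;> simp
    · rcases sg_cases j with c | c <;> simp [c]
  · apply Int.cast_injective (α := ℂ)
    push_cast
    rw [← h3, ← h1]
    field_simp; ring

theorem ex_int (hr : r ≠ 0) (hψ : ψ ∈ irrF B \ HZ B 2) (hx : Ex ψ h n) (χ : IrrCharacter G) :
    ∃ t : ℤ, 4 * classInner (piU 2 P e (el h (zz r)) χ.1) ψ.1 = t := by
  obtain ⟨c, -, h1⟩ := T.master hr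
  obtain ⟨t, h1⟩ := h1 χ.1 χ.2.isGen ψ hψ
  rw [Finset.sum_eq_zero fun i hi => by rw [T.d_ex hx (UU_of_mem h hi), map_zero, mul_zero],
    mul_zero, add_zero] at h1
  exact ⟨t, h1⟩

theorem ht_ex (hr : r ≠ 0) (hψ : ψ ∈ irrF B \ HZ B 2) (hx : Ex ψ h n) :
    blockHeight 2 B ψ = r + 1 := by
  obtain ⟨χ, hχ⟩ := Finset.card_pos.1 (T.HZ_spec.1.symm ▸ four_pos)
  obtain ⟨h1, h2⟩ := Finset.mem_sdiff.1 hψ
  obtain ⟨s, h3, h4⟩ := T.major hχ h1
  obtain ⟨t, h5⟩ := T.ex_int hr hψ hx χ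
  have h6 := height_add_two_le T.hB (mem_irrF.1 h1) fun c => h2 (mem_HZ.2 ⟨mem_irrF.1 h1, c⟩)
  rw [T.defect] at h6
  obtain ⟨u, hu⟩ := Nat.exists_eq_add_of_le (show blockHeight 2 B ψ ≤ r + 1 by omega)
  have h7 : s = 2 ^ u * t := by
    apply Int.cast_injective (α := ℂ)
    apply mul_left_cancel₀ (pow_ne_zero (blockHeight 2 B ψ) two_ne_zero)
    push_cast
    rw [← h4, ← h5, ← mul_assoc, ← pow_add, ← hu]; ring
  rcases u with _ | u
  exacts [hu.symm, absurd h3 (by simp [h7, pow_succ', mul_assoc])]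

theorem ex_spec (hr : r ≠ 0) (hψ : ψ ∈ irrF B \ HZ B 2) (hx : Ex ψ h n) :
    ∃ β : IrrCharacter G → ℤ, (∀ χ, 4 * classInner (piU 2 P e (el h (zz r)) χ.1) ψ.1 = β χ) ∧
      (∀ χ ∈ HZ B 2, β χ = 1 ∨ β χ = -1) ∧ ∀ χ ∈ irrF B, χ ∉ HZ B 2 → χ ≠ ψ → β χ = 0 := by
  choose β hβ using T.ex_int hr hψ hx
  obtain ⟨h1, h2⟩ := Finset.mem_sdiff.1 hψ
  have h3 := T.hm.sum_inner_mul T.hB (el h (zz r)) ψ.2.classFun (piU 2 P e (el h (zz r)) ψ.1)
  have h4 : ∑ χ ∈ irrF B, β χ * β χ = 4 * β ψ := by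
    apply Int.cast_injective (α := ℂ)
    rw [← inner_piU_comm T.hm.bp _ (cA_classFun _) ψ.2.classFun, piU_piU T.hm.bp] at h3
    push_cast
    rw [← hβ ψ, ← h3, Finset.mul_sum, Finset.mul_sum]
    refine Finset.sum_congr rfl fun χ _ => ?_
    rw [← CfsgH3.inner_conj_symm, ← inner_piU_comm T.hm.bp _ χ.2.classFun ψ.2.classFun,
      eq_div_of_mul_eq (by norm_num) ((mul_comm _ _).trans (hβ χ))]
    simp only [map_div₀, map_intCast, map_ofNat]; ring
  obtain ⟨h5, h6⟩ := sum_sq_four' (β := fun χ => if χ = ψ then β ψ - 2 else β χ) HZ_sub T.HZ_spec.1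
    (fun χ hχ => by
      obtain ⟨s, h5, h6⟩ := T.major hχ h1
      rw [if_neg fun c : χ = ψ => h2 (c ▸ hχ), show β χ = s from ?_]
      · exact h5
      apply Int.cast_injective (α := ℂ)
      apply mul_left_cancel₀ (pow_ne_zero (r + 1) two_ne_zero)
      rw [← hβ, ← T.ht_ex hr hψ hx, ← h6, T.ht_ex hr hψ hx]; ring) (by
      rw [← Finset.add_sum_erase _ _ h1] at h4 ⊢
      rw [if_pos rfl, Finset.sum_congr rfl fun χ hχ => by rw [if_neg (Finset.mem_erase.1 hχ).1]]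
      linear_combination h4)
  exact ⟨β, hβ, fun χ hχ => by simpa [show χ ≠ ψ from fun c => h2 (c ▸ hχ)] using h5 χ hχ,
    fun χ c c' c'' => by simpa [c''] using h6 χ c c'⟩

theorem not_ex (hr : r ≠ 0) (hd : ¬ Dih h) (N : NSt B k n J) (hJ : J ⊆ I0 r) (hj : j ∈ J)
    (hl : l ∈ J) (ha : Al h j l) (c : ¬ (l = j ∨ l = k * j)) (hi : i ∈ EE h) (c1 : gk k j i = 0)
    (c2 : gk k l i = 0) (hψ : ψ ∈ irrF B \ HZ B 2) : ¬ Ex ψ h n := fun hx => by
  obtain ⟨β, h1, h2, h3⟩ := T.ex_spec hr hψ hx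
  have h4 : ∀ j l, Al h j l → ∑ χ ∈ HZ B 2, (n χ j - n χ l) * β χ = 0 := fun j l ha => by
    have := T.orth ha (u := el h (zz r)) (fun i hi c => hd (hi.2 ((T.hm.fus_el h c).elim id
      (·.trans (k_zz h))))) ψ.2.classFun
    rw [Finset.sum_subset HZ_sub fun χ c c' => ?_]
    · apply Int.cast_injective (α := ℂ)
      simp only [Int.cast_sum, Int.cast_mul, ← h1, mul_left_comm _ (4 : ℂ), ← Finset.mul_sum, this]
      simp
    by_cases c'' : χ = ψ
    · rw [c'', hx j l ha, sub_self, zero_mul]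
    · rw [h3 χ c c' c'', mul_zero]
  have h5 : ∀ g : IrrCharacter G → ℤ, ∑ χ ∈ HZ B 2, (n χ j - n χ l) * g χ =
      ∑ χ ∈ irrF B, (n χ j - n χ l) * g χ := fun g => Finset.sum_subset HZ_sub fun χ _ c => by
    rw [N.eq c hj hl, sub_self, zero_mul]
  exact no_four T.HZ_spec.1 T.HZ_spec.2.1 h2 (T.v_spec hi).1
    ((h5 _).trans (T.gram_two (hJ hj) (hJ hl) ha c)) ((h5 _).trans (T.gram_al (hJ hj) (hJ hl) ha))
    (h4 _ _ ha) ((h5 _).trans (T.gram_third (hJ hj) (hJ hl) ha (mem_EE.1 hi).2 c1 c2))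
    ((Finset.sum_subset HZ_sub fun χ c c' => by rw [T.HZ_spec.2.2 χ c c', mul_zero]).trans
      (T.gram_v hi)) (h4 _ _ (mem_EE.1 hi).2) (h4 _ _ (al_zz h))

theorem card_le (hx : ∀ ψ ∈ irrF B \ HZ B 2, ¬ Ex ψ h n) (R : RH B h n ρ)
    (F : FM k n (OO h) ε μ) :
    Nat.card B ≤ 4 + ((EE h).image ρ).card + ((OO h).image μ \ HZ B 2).card := by
  rw [← card_irrF, ← Finset.card_sdiff_add_card_eq_card (HZ_sub (p := 2)), T.HZ_spec.1, add_comm,
    add_assoc, add_le_add_iff_left]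
  refine (Finset.card_le_card fun ψ hψ => ?_).trans (Finset.card_union_le _ _)
  by_contra c
  simp only [Finset.mem_union, Finset.mem_sdiff, Finset.mem_image, not_or, not_exists, not_and,
    (Finset.mem_sdiff.1 hψ).2, not_false_eq_true, and_true] at c
  exact hx ψ hψ (T.ex_of R F hψ (fun j hj => (Ne.symm (c.1 j hj))) fun j hj => Ne.symm (c.2 j hj))

theorem card_rho (R : RH B h n ρ) (N : NSt B k n (EE h)) : ((EE h).image ρ).card ≤ 1 :=
  Finset.card_le_one.2 fun x hx y hy => by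
    obtain ⟨j, hj, rfl⟩ := Finset.mem_image.1 hx
    obtain ⟨l, hl, rfl⟩ := Finset.mem_image.1 hy
    rw [R.eq hl (R j hj).1, N.eq (Finset.mem_sdiff.1 (R j hj).1).2 hl hj, ← R.eq hj (R j hj).1]

theorem exists_STD (hr : r ≠ 0) (hd : ¬ Dih h) (hk : 2 ^ (r + 1) + 2 ≤ Nat.card B) :
    ∃ f, STD B h n f := by
  obtain ⟨h1, h2⟩ := card_OO h hd
  obtain ⟨s, rfl⟩ := Nat.exists_eq_succ_of_ne_zero hr
  have h3 : 2 ^ (s.succ + 1) = 4 * 2 ^ s := by rw [pow_succ, pow_succ]; ring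
  have h4 := Nat.one_le_two_pow (n := s)
  obtain ⟨ρ, R⟩ := T.exists_RH
  refine (T.tri fun j hj => ?_).elim id fun N => False.elim (N.elim (fun N => ?_) fun N => ?_)
  · obtain ⟨l, hl, c⟩ := Finset.exists_mem_notMem_of_card_lt_card
      ((Finset.card_le_two (a := j) (b := k * j)).trans_lt (show 2 < (OO h).card by omega))
    exact ⟨l, hl, by simpa using c⟩
  · obtain ⟨j, hj, l, hl, c⟩ := N.2
    obtain ⟨ε, μ, F⟩ := T.exists_FM (OO_sub h) (OO_k h) (OO_al h)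
    have h5 : 2 < (EE h).card := Finset.two_lt_card_iff.2 ⟨j, (k : ZN _) * j, l, hj, EE_k h j hj, hl,
      (k_ne h (EE_sub h hj)).symm, fun e => c (.inl e.symm), fun e => c (.inr e.symm)⟩
    obtain ⟨i, hi, c'⟩ := Finset.exists_mem_notMem_of_card_lt_card
      ((Finset.card_le_four (a := j) (b := k * j) (c := l) (d := k * l)).trans_lt
        (show 4 < (EE h).card by omega))
    simp only [Finset.mem_insert, Finset.mem_singleton, not_or] at c'
    have h6 := T.card_le (fun ψ => T.not_ex hr hd N (EE_sub h) hj hl (EE_al h j hj l hl) c hi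
      (gk_of_ne h c'.1 c'.2.1) (gk_of_ne h c'.2.2.1 c'.2.2.2)) R F
    have h7 := T.card_rho R N
    have h8 := two_mul_card_image_le h (OO_sub h) (OO_k h) fun j hj =>
      ((F.inj j hj _ (OO_k h j hj)).2 (.inr rfl)).symm
    have h9 := Finset.card_le_card (Finset.sdiff_subset (s := (OO h).image μ) (t := HZ B 2))
    omega
  · obtain ⟨j, hj, l, hl, c⟩ := N.2
    obtain ⟨ε, μ, F, hF⟩ := N.1
    obtain ⟨i, hi⟩ := Finset.card_pos.1 (show 0 < (EE h).card by omega)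
    have h6 := T.card_le (fun ψ => T.not_ex hr hd N (OO_sub h) hj hl (OO_al h j hj l hl) c hi
      (by rw [gk_comm h, gk_EO h (mem_EE.1 hi).2 (mem_OO.1 hj)])
      (by rw [gk_comm h, gk_EO h (mem_EE.1 hi).2 (mem_OO.1 hl)])) R F
    have h7 := two_mul_card_image_le h (EE_sub h) (EE_k h) fun j hj =>
      (T.rho_rel R hj (.inr rfl)).symm
    rw [Finset.sdiff_eq_empty_iff_subset.2 (Finset.image_subset_iff.2 hF), Finset.card_empty] at h6
    omega

theorem card_STD (S : STD B h n f) : ((I0 r).image f).card + 1 = 2 ^ (r + 1) ∧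
    Nat.card B = 2 ^ (r + 1) + 3 + ((irrF B \ HZ B 2) \ (I0 r).image f).card := by
  have h1 := two_mul_card_image_le h le_rfl (fun j => (k_mem h).2) fun j hj =>
    ((S.inj j hj _ ((k_mem h).2 hj)).2 (.inr rfl)).symm
  have h2 := card_le_two_mul_image fun j hj l hl => (S.inj j hj l hl).1
  have h3 := card_I0 (r := r)
  have h4 := Finset.card_sdiff_add_card_eq_card (HZ_sub (B := B) (p := 2))
  have h5 := Finset.card_sdiff_add_card_eq_card (Finset.image_subset_iff.2 S.mem)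
  have : 2 ^ (r + 2) = 2 ^ (r + 1) * 2 := pow_succ 2 (r + 1)
  rw [T.HZ_spec.1, card_irrF] at h4
  omega

omit T in
theorem _root_.CfsgH4.STD.ex (S : STD B h n f) (hψ : ψ ∈ (irrF B \ HZ B 2) \ (I0 r).image f) :
    Ex ψ h n := S.ext ψ (Finset.mem_sdiff.1 hψ).1 fun j hj c =>
  (Finset.mem_sdiff.1 hψ).2 (Finset.mem_image.2 ⟨j, hj, c.symm⟩)

theorem card_ex_lt (hr : r ≠ 0) (S : STD B h n f) :
    ((irrF B \ HZ B 2) \ (I0 r).image f).card + 1 ≤ lU 2 P e (el h (zz r) : P) := by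
  have h0 : f 1 ∉ (irrF B \ HZ B 2) \ (I0 r).image f := fun c =>
    (Finset.mem_sdiff.1 c).2 (Finset.mem_image_of_mem _ one_mem_I0)
  have h1 : ∀ χ ∈ insert (f 1) ((irrF B \ HZ B 2) \ (I0 r).image f), χ ∈ irrF B ∧ χ ∉ HZ B 2 :=
    fun χ c => Finset.mem_sdiff.1 ((Finset.mem_insert.1 c).elim (· ▸ S.mem 1 one_mem_I0)
      fun c => (Finset.mem_sdiff.1 c).1)
  have h2 : ∀ χ ∈ insert (f 1) ((irrF B \ HZ B 2) \ (I0 r).image f), ∀ ψ ∈ (irrF B \ HZ B 2) \
      (I0 r).image f, χ ≠ ψ → classInner (piU 2 P e (el h (zz r)) χ.1)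
        (piU 2 P e (el h (zz r)) ψ.1) = 0 := fun χ hχ ψ hψ c => by
    obtain ⟨β, h2, -, h3⟩ := T.ex_spec hr (Finset.mem_sdiff.1 hψ).1 (S.ex hψ)
    rw [← inner_piU_comm T.hm.bp _ (cA_classFun _) ψ.2.classFun, piU_piU T.hm.bp]
    simpa [h3 χ (h1 χ hχ).1 (h1 χ hχ).2 c] using h2 χ
  rw [← Finset.card_insert_of_notMem h0, ← Fintype.card_coe]
  refine T.hm.card_le_lU T.hB _ (fun χ => piU 2 P e (el h (zz r)) χ.1.1)
    (fun _ => piU_piU T.hm.bp _ _) (fun χ => T.hm.piU_ne_zero_major T.hB (z_centG h)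
      (mem_irrF.1 (h1 _ χ.2).1)) fun χ ψ c => ?_
  rcases Finset.mem_insert.1 ψ.2 with c' | c'
  · exact CfsgH3.inner_eq_zero_symm.1 (h2 _ ψ.2 _ ((Finset.mem_insert.1 χ.2).resolve_left
      fun e => c (Subtype.ext (e.trans c'.symm))) fun e => c (Subtype.ext e.symm))
  · exact h2 _ χ.2 _ c' fun e => c (Subtype.ext e)

theorem dih_not_ex (hd : Dih h) (hψ : ψ ∈ irrF B) : ¬ Ex ψ h n := fun hx => by
  obtain ⟨χ, hχ⟩ := Finset.card_pos.1 (T.HZ_spec.1.symm ▸ four_pos)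
  obtain ⟨t, h1, h2⟩ := T.major hχ hψ
  have h3 := T.piU_el (i := zz r) ⟨zz_ne, fun _ => hd⟩ χ.2.classFun ψ.2.classFun
  rw [T.d_ex hx ⟨zz_ne, fun _ => hd⟩, gk_fix h (.inr rfl)] at h3
  have h4 : (2 : ℂ) ^ blockHeight 2 B ψ * t = 0 := by rw [← h2]; simpa [pow_succ] using h3
  simp only [mul_eq_zero, pow_eq_zero_iff', two_ne_zero, false_and, false_or,
    Int.cast_eq_zero] at h4
  simp [h4] at h1

theorem dih_ht_typ (hd : Dih h) (hψ : ψ ∈ irrF B) (hε : ε = 1 ∨ ε = -1)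
    (ht : ∀ l l', Al h l l' → n ψ l - n ψ l' = ε * gk k j l - ε * gk k j l') :
    blockHeight 2 B ψ = 1 := by
  obtain ⟨χ, hχ⟩ := Finset.card_pos.1 (T.HZ_spec.1.symm ▸ four_pos)
  obtain ⟨t, h1, h2⟩ := T.major hχ hψ
  obtain ⟨w, h4, h5⟩ := T.d_zz hχ
  have h3 := T.piU_el (i := zz r) ⟨zz_ne, fun _ => hd⟩ χ.2.classFun ψ.2.classFun
  rw [T.d_typ ht ⟨zz_ne, fun _ => hd⟩, gk_fix h (.inr rfl), zz_k h, ec_zz_mul, h5] at h3
  refine two_pow_eq_of_odd (y := ε * w * sg j) h1 ((Odd.mul ?_ h4).mul ?_) ?_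
  · rcases hε with rfl | rfl <;> simp
  · rcases sg_cases j with c | c <;> simp [c]
  · apply Int.cast_injective (α := ℂ)
    simp only [map_mul, map_add, map_intCast] at h3
    push_cast at h3 ⊢
    linear_combination h3 - h2

end TD

end CfsgH4
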