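import Cfsg.Agent.H4.Tame6

/-! 2-blocks with dihedral defect groups. -/

set_option autoImplicit false
set_option linter.unusedSectionVars false

open MonoidAlgebra Subgroup CfsgH2 Function Cfsg CfsgH3
open scoped ComplexConjugate Classical

namespace CfsgH4

theorem four_dvd_card_pairs {G : Type*} [Group G] [Finite G] {z g u : G} (hz : z * z = 1)
    (hu : orderOf u = 8) (h : u ∈ zpowers g) :
    4 ∣ Nat.card {x // IsConj z x ∧ IsConj z (x⁻¹ * g⁻¹)} := by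
  have h1 : ∀ x, IsConj z x → x * x = 1 := fun x c => by
    obtain ⟨n, rfl⟩ := isConj_iff.1 c; exact conj_mul_self hz n
  have h2 : ∀ s ∈ zpowers (u ^ 2), ∀ x, IsConj z x ∧ IsConj z (x⁻¹ * g⁻¹) →
      IsConj z (s * x) ∧ IsConj z ((s * x)⁻¹ * g⁻¹) := by
    rintro _ ⟨j, rfl⟩ x ⟨c, c'⟩
    obtain ⟨l, rfl⟩ := h
    have h3 := invol_inverts (h1 _ c) (h1 _ c'.symm.symm)
    have h4 : x⁻¹ = x := inv_eq_of_mul_self (h1 _ c)
    rw [mul_inv_cancel_left, inv_inv, ← inv_inj, mul_inv_rev, mul_inv_rev, inv_inv, inv_inv,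
      ← mul_assoc] at h3
    have h5 : ((g ^ l) ^ 2) ^ j * x = g ^ (l * j) * x * (g ^ (l * j))⁻¹ := by
      rw [mul_assoc, ← zpow_neg, mul_zpow_of_inv h3]; group
    beta_reduce
    rw [h5]
    refine ⟨c.trans (isConj_iff.2 ⟨_, rfl⟩), c'.trans (isConj_iff.2 ⟨g ^ (l * j), ?_⟩)⟩
    group
  let : MulAction (zpowers (u ^ 2)) {x // IsConj z x ∧ IsConj z (x⁻¹ * g⁻¹)} :=
    { smul s x := ⟨s * x, h2 _ s.2 _ x.2⟩
      one_smul x := Subtype.ext (one_mul _)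
      mul_smul _ _ _ := Subtype.ext (mul_assoc _ _ _) }
  have h3 := index_dvd_card_of_stab (A := zpowers (u ^ 2))
    (X := {x // IsConj z x ∧ IsConj z (x⁻¹ * g⁻¹)}) ⊥ fun x s hs =>
      mem_bot.2 (Subtype.ext (mul_eq_right.1 (congrArg Subtype.val hs)))
  rwa [index_bot, Nat.card_zpowers, orderOf_pow, hu] at h3

theorem coeff_cs_sq {G : Type*} [Group G] [Fintype G] (z g : G) :
    (cs ℂ ⊤ z * cs ℂ ⊤ z).coeff g = Nat.card {x // IsConj z x ∧ IsConj z (x⁻¹ * g)} := by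
  simp [coeff_mul_left, coeff_cs, cjIn_top, Fintype.card_subtype, ← ite_and, -isConj_iff, and_comm]

section gen
variable {M : Ideal AlgInt} [hM : M.IsMaximal] {G : Type*} [Group G] {p : ℕ} [Fintype G]
  [hp : Fact p.Prime] [CharP (Res M) p] {P : Subgroup G} {e : (Res M)[G]}
  {B : Set (IrrCharacter G)} {χ : IrrCharacter G} {τ σ : G → ℂ}

theorem pow_mul_inner_cmp_mem' {H : Subgroup G} {z : H} {b : Set (IrrCharacter H)}
    (h : SubEl p H z) (hb : eSet b ∈ SG M H) (hτ : IsClassFunction G τ)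
    (hL : ∀ c : H, IsPPart p c z → τ c ∈ Loc M) (hσ : IsGeneralizedCharacter G σ) :
    (p : ℂ) ^ blockDefect p b * classInner (cmp p H b z τ) σ ∈ Loc M := by
  have := Fintype.ofFinite H
  rw [inner_cmp _ hσ.classFun, ← bp_secP hb h.central, inner_bp_left, Finset.mul_sum]
  refine sum_mem fun ξ hξ => ?_
  rw [inner_eq_om_tAll, ← mul_assoc, mul_div_assoc, mul_left_comm, ← mul_div_assoc]
  refine mul_mem (mul_mem (om_mem_Loc ξ.2 (tAll_mem_Fix (secP_classFun h.central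
    (classFun_res hτ H))) (tAll_mem_SG fun c => ?_)) (pow_deg_div_mem (mem_irrF.1 hξ)))
    ((LC.irr ξ).inner_gen (hσ.comp H.subtype))
  by_cases c' : IsPPart p c z
  · rw [secP_of _ c']; exact hL c c'
  · rw [secP_of_not _ c']; exact zero_mem _

theorem MP.red_piU_major (hm : MP p ⊤ (bId M B) P e) (hB : IsPBlock M B) {u : P}
    (hu : (u : G) ∈ centralizer (P : Set G)) (hχ : χ ∈ B) (h0 : blockHeight p B χ = 0) :
    red M ((p : ℂ) ^ blockDefect p B * piU p P e u χ.1 u /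
      Nat.card (centralizer {(u : G)})) ≠ 0 := by
  have hs := hm.bp.subEl u
  have hL : LC (Loc M) χ.1 := LC.irr χ
  have h1 := (unitOn_shf (hL.res _) hs.central hs.ord').2 ((unitOn_res (hm.induced_fb hB u)
    χ.2.classFun hL.apply_mem).2 ((unitOn_irr hB).2 ⟨hχ, h0⟩))
  rwa [unitOn_iff_deg (η := shf _ _) (isPBlock_blk (fb_mem hm.bp u.2))
    ((hL.res _).shift_central hs.central), hm.defect_fb hB hu,
    bp_shf hs.central (classFun_res χ.2.classFun _), shf_apply, mul_one,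
    ← cmp_apply hs _ (isPPart_self hs.ord')] at h1

end gen

theorem sq_cases {A ε x : ℤ} (hA : A = 1 ∨ A = -1) (hε : ε = 1 ∨ ε = -1)
    (h1 : x = 0 ∨ x = A) (h2 : x - ε = 0 ∨ x - ε = A) :
    (2 * x - A - 2 * ε) ^ 2 = 1 ∧ (2 * x - A + 2 * ε) ^ 2 = 9 := by
  rcases hA with rfl | rfl <;> rcases hε with rfl | rfl <;> rcases h1 with rfl | rfl <;>
    simp_all

variable {M : Ideal AlgInt} [hM : M.IsMaximal] {G : Type*} [Group G] [Fintype G]
  [CharP (Res M) 2] {P : Subgroup G} {e E : (Res M)[G]} {B : Set (IrrCharacter G)}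
  {χ ψ : IrrCharacter G} {τ σ : G → ℂ} {a b : P} {k m : ℤ} {r : ℕ} {h : MC ⊤ a b k m r}
  {i j l j' l' : ZN r} {O : Finset P} {W : ZN r → G → ℂ} {d : (G → ℂ) → ZN r → ℂ}
  {n : IrrCharacter G → ZN r → ℤ} {J : Finset (ZN r)} {ε : ℤ} {μ ρ f : ZN r → IrrCharacter G}

omit hM [CharP (Res M) 2] [Fintype G] in
theorem Dih.k_eq (hd : Dih h) : (k : ZN r) = -1 := by
  have h0 := hd 0
  have h1 := hd 1
  rw [out_mul_out, el_eq_one] at h0 h1
  linear_combination h1 - h0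

omit hM [CharP (Res M) 2] in
theorem FM.eq' (F : FM k n (I0 r) ε μ) (h : MC ⊤ a b k m r) (hj : j ∈ I0 r) :
    ∀ l ∈ I0 r, n (μ j) l = n (μ j) j - ε + ε * gk k j l := fun l hl => by
  have := F.eq l hl j hj (μ j)
  simp only [F.inj j hj l hl, if_true] at this
  split_ifs at this with c
  · rw [gk_of_rel h hj c]; linear_combination this
  · rw [gk_of_ne h (fun e => c (.inl e)) fun e => c (.inr e)]; linear_combination this

namespace TD
variable (T : TD e B h O W d n)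
include T

theorem deg_orth (ha : Al h j l) : ∑ χ ∈ irrF B, (n χ j - n χ l) * charDegree χ.1 = 0 := by
  have := T.V_one ha
  rw [T.V_eq ha, Finset.sum_apply] at this
  apply Int.cast_injective (α := ℂ)
  simpa [fun χ : IrrCharacter G => coe_charDegree χ.2.isChar] using this

theorem d_fam (hi : i ≠ 0) (hj : j ∈ I0 r) {c : ℤ} (hc : ∀ l ∈ I0 r, n χ l = c + ε * gk k j l) :
    d χ.1 i = n χ 0 - c + (n χ (zz r) - c) * ec (i * zz r) +
      ε * (ec (i * j) + ec (i * ((k : ZN r) * j))) := by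
  have h1 := sum_ec i
  have h2 := sum_gk h j fun l => ec (i * l)
  simp only [if_neg hi, mul_comm _ i] at h1
  rw [sum_I0] at h1 h2
  rw [gk_comm h, gk_zero h (mem_I0.1 hj).1, gk_comm h, gk_zz h (mem_I0.1 hj).2] at h2
  rw [T.d_eq, sum_I0, Finset.sum_congr rfl fun l hl => show _ = c * ec (i * l) +
    ε * (gk k j l * ec (i * l)) by rw [hc l hl]; push_cast; ring, Finset.sum_add_distrib,
    ← Finset.mul_sum, ← Finset.mul_sum]
  simp only [mul_zero, ec_zero, Int.cast_zero, zero_mul] at h1 h2 ⊢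
  linear_combination c * h1 + ε * h2

theorem apply_z (hO : O = ∅) (hχ : χ ∈ B) :
    χ.1 (el h (zz r) : P) = piU 2 P e (el h (zz r)) χ.1 (el h (zz r) : P) := by
  have := Fintype.ofFinite P
  have h1 := T.os.decomp T.hm (x := fun u => piU 2 P e u χ.1)
    fun u v c => c.piU_eq T.hm.bp χ.2.classFun
  have h2 := T.hm.star_one_irr T.hB hχ
  simp only [star_apply, Pi.one_apply, mul_one, h1, hO, Finset.sum_empty, add_zero] at h2
  have h3 : ∀ i, i ≠ zz r → piU 2 P e (el h i) χ.1 (el h (zz r) : P) = 0 := fun i hi =>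
    cmp_eq_zero_of_not_isConj _ (isPPart_self (T.hm.bp.ord _)) fun c => by
      obtain ⟨g, hg⟩ := isConj_iff.1 c
      have h4 := conj_mul_self (congrArg Subtype.val (z_sq h)) g
      rw [hg, coe_zc, ← Subgroup.coe_mul, ← el_add, OneMemClass.coe_eq_one, el_eq_one, ← two_mul,
        two_mul_eq_zero] at h4
      obtain rfl := h4.resolve_right hi
      simp [el_eq_one, zz_ne] at hg
  conv_lhs => rw [← h2]
  rw [Pi.add_apply, Pi.add_apply, Pi.smul_apply, Finset.sum_apply, ← el_zero h, h3 0 zz_ne.symm,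
    Finset.sum_eq_zero fun i hi => h3 i (mem_I0.1 hi).2, smul_zero, zero_add, add_zero]

end TD

theorem TD.not_nst16 {h : MC ⊤ a b k m 1} {W : ZN 1 → G → ℂ} {d : (G → ℂ) → ZN 1 → ℂ}
    {n : IrrCharacter G → ZN 1 → ℤ} {μ : ZN 1 → IrrCharacter G} (T : TD e B h ∅ W d n) (hd : Dih h)
    (F : FM k n (I0 1) ε μ) (hF : ∀ j ∈ I0 1, μ j ∈ HZ B 2) : False := by
  have hk := hd.k_eq
  have hA : ∀ j ∈ I0 1, ∀ l ∈ I0 1, Al h j l := fun _ _ _ _ => .inl hd
  have hz : UU h (zz 1) := ⟨zz_ne, fun _ => hd⟩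
  have m1 : (1 : ZN 1) ∈ I0 1 := one_mem_I0
  have m2 : (2 : ZN 1) ∈ I0 1 := mem_I0.2 (by decide)
  have m3 : (3 : ZN 1) ∈ I0 1 := mem_I0.2 (by decide)
  have c12 : ¬ ((2 : ZN 1) = 1 ∨ (2 : ZN 1) = k * 1) := by rw [hk]; decide
  have c13 : ¬ ((3 : ZN 1) = 1 ∨ (3 : ZN 1) = k * 1) := by rw [hk]; decide
  have c23 : ¬ ((3 : ZN 1) = 2 ∨ (3 : ZN 1) = k * 2) := by rw [hk]; decide
  have n12 := mt (F.inj _ m1 _ m2).1 c12
  have n13 := mt (F.inj _ m1 _ m3).1 c13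
  have n23 := mt (F.inj _ m2 _ m3).1 c23
  obtain ⟨χ, hχ, h1⟩ := Finset.exists_mem_notMem_of_card_lt_card
    ((Finset.card_le_three (a := μ 1) (b := μ 2) (c := μ 3)).trans_lt 
      ((Nat.lt_succ_self 3).trans_eq T.HZ_spec.1.symm))
  have hH : insert χ {μ 1, μ 2, μ 3} = HZ B 2 := Finset.eq_of_subset_of_card_le
    (by simp [Finset.subset_iff, hχ, hF _ m1, hF _ m2, hF _ m3]) (by
      rw [Finset.card_insert_of_notMem h1, Finset.card_eq_three.2 ⟨_, _, _, n12, n13, n23, rfl⟩,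
        T.HZ_spec.1])
  have hS : ∀ g : IrrCharacter G → ℂ, ∑ x ∈ HZ B 2, g x = g χ + (g (μ 1) + (g (μ 2) + g (μ 3))) :=
    fun g => by rw [← hH, Finset.sum_insert h1, Finset.sum_insert (by simp [n12, n13]),
      Finset.sum_pair n23]
  have h2 : ∀ ψ, ψ ∉ ({μ 1, μ 2, μ 3} : Finset _) → ∀ l ∈ I0 1, n ψ l = n ψ 1 + 0 * gk k 1 l :=
    fun ψ hψ l hl => by
      obtain ⟨j, hj, c⟩ : ∃ j ∈ ({1, 2, 3} : Finset (ZN 1)), l = j ∨ l = k * j := by
        rw [hk]; revert l; simp only [mem_I0]; decide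
      simp only [Finset.mem_insert, Finset.mem_singleton, not_or] at hψ hj
      rw [T.n_rel ψ c, zero_mul, add_zero, ← sub_eq_zero]
      rcases hj with rfl | rfl | rfl
      exacts [sub_self _, by simp [F.eq _ m2 _ m1, hψ], by simp [F.eq _ m3 _ m1, hψ]]
  have hE : ∀ j ∈ I0 1, j ∈ EE h := fun j hj => mem_EE.2 ⟨hj, .inl hd⟩
  -- signs and degrees
  obtain ⟨A, hA1⟩ : ∃ A, n (μ 1) 0 - n (μ 1) (zz 1) = A := ⟨_, rfl⟩
  have hA2 := (T.FM_orth F hA m1 m2 c12 (T.gram_al m1 m2 (.inl hd))).symm.trans hA1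
  have hA3 := (T.FM_orth F hA m1 m3 c13 (T.gram_al m1 m3 (.inl hd))).symm.trans hA1
  have hA' : A = 1 ∨ A = -1 := hA1 ▸ T.HZ_spec.2.1 _ (hF _ m1)
  have f2 := T.FM_orth F hA m1 m2 c12 (g := fun χ => charDegree χ.1) (T.deg_orth (.inl hd))
  have f3 := T.FM_orth F hA m1 m3 c13 (g := fun χ => charDegree χ.1) (T.deg_orth (.inl hd))
  have f0 := T.deg_orth (al_zz h)
  rw [← Finset.sum_subset HZ_sub fun ψ c c' => by rw [T.HZ_spec.2.2 ψ c c', zero_mul],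
    ← Int.cast_inj (α := ℂ), Int.cast_sum, hS, hA1, hA2, hA3, ← f2, ← f3] at f0
  obtain ⟨hA4, f4⟩ : n χ 0 - n χ (zz 1) = -A ∧ (charDegree χ.1 : ℤ) = 3 * charDegree (μ 1).1 := by
    have h3 := charDegree_pos χ.2
    have h4 := charDegree_pos (μ 1).2
    norm_cast at f0
    rcases T.HZ_spec.2.1 χ hχ with c | c <;> rw [c] at f0 ⊢ <;> rcases hA' with rfl | rfl <;> omega
  have g : ∀ ψ : IrrCharacter G, ψ.1 1 = ((charDegree ψ.1 : ℤ) : ℂ) := fun ψ => by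
    rw [Int.cast_natCast, coe_charDegree ψ.2.isChar]
  -- the values at `a` and at `z`
  have d1 : ∀ j ∈ I0 1, n (μ j) 0 - n (μ j) (zz 1) = A → d (μ j).1 1 = A + ε * (ec j + ec (-j)) :=
    fun j hj c => by
      rw [T.d_fam (mem_I0.1 m1).1 hj (F.eq' h hj), one_mul, ec_zz, hk, ← c]; simp
  have d2 : ∀ j ∈ I0 1, ∀ l ∈ I0 1, ¬ (l = j ∨ l = k * j) → n (μ j) 0 - n (μ j) (zz 1) = A →
      d (μ j).1 (zz 1) ^ 2 = if sg j = 1 then 9 else 1 := fun j hj l hl c c' => by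
    have h3 := (T.v_spec (hE j hj)).1 _ (hF j hj)
    have h4 := (T.v_spec (hE l hl)).1 _ (hF j hj)
    rw [F.eq' h hj l hl, gk_of_ne h (fun e => c (.inl e)) fun e => c (.inr e), c'] at h4
    have h5 := sq_cases hA' F.sgn h4 (by omega)
    rw [T.d_fam zz_ne hj (F.eq' h hj), zz_mul_zz, zz_k h, ec_zz_mul, show n (μ j) (zz 1) =
      n (μ j) 0 - A by omega]
    rcases sg_cases j with s | s <;> rw [s]
    · have := congrArg (Int.cast (R := ℂ)) h5.2
      rw [if_pos rfl, ec_zero]; push_cast at this ⊢; linear_combination this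
    · have := congrArg (Int.cast (R := ℂ)) h5.1
      rw [if_neg (by decide), ec_zero]; push_cast at this ⊢; linear_combination this
  have d3 : ∀ ψ, ψ ∉ ({μ 1, μ 2, μ 3} : Finset _) → d ψ.1 1 = (n ψ 0 - n ψ (zz 1) : ℤ) :=
    fun ψ hψ => by rw [T.d_fam (mem_I0.1 m1).1 m1 (h2 ψ hψ), one_mul, ec_zz]; simp
  have d4 : d χ.1 (zz 1) ^ 2 = 1 := by
    have h3 := (T.v_spec (hE 1 m1)).1 _ hχ
    rw [T.d_fam zz_ne m1 (h2 χ h1), zz_mul_zz, show n χ (zz 1) = n χ 0 + A by omega,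
      show n χ 0 = n χ 0 - n χ 1 + n χ 1 by ring]
    rw [hA4] at h3
    rcases h3 with c | c <;> rw [c] <;> rcases hA' with rfl | rfl <;> simp
  have e2 : ec (-2 : ZN 1) = -ec (2 : ZN 1) := by
    rw [show (-2 : ZN 1) = 2 + zz 1 by decide, ec_add, ec_zz]; ring
  have e3 : ec (3 : ZN 1) = -ec (-1 : ZN 1) := by
    rw [show (3 : ZN 1) = -1 + zz 1 by decide, ec_add, ec_zz]; ring
  have e4 : ec (-3 : ZN 1) = -ec (1 : ZN 1) := by
    rw [show (-3 : ZN 1) = 1 + zz 1 by decide, ec_add, ec_zz]; ring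
  obtain ⟨z, hz'⟩ : ∃ z : G, z = (el h (zz 1) : P) := ⟨_, rfl⟩
  have hw : ∀ ψ ∈ B, ψ.1 z = d ψ.1 (zz 1) / 2 * W (zz 1) z := fun ψ hψ => by
    have h3 : classInner (W (zz 1)) (W (zz 1)) = (2 ^ (1 + 2))⁻¹ * 2 := by
      rw [T.tw.ip _ hz _ (T.W_cls _), T.tw.gram _ _ hz hz, k_zz h]; norm_num
    rw [hz', T.apply_z rfl hψ, piU_rank_one T.hm.bp (T.hm.lU_el h hz) (T.tw.self _) (fun c => by
      simp [c, CfsgH3.inner_zero_left] at h3) ψ.2.classFun, h3, T.tw.ip _ hz _ ψ.2.classFun]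
    simp only [Pi.smul_apply, smul_eq_mul]; ring
  -- the class function counting products of two involutions
  let τ : G → ℂ := fun g => (cs ℂ ⊤ z * cs ℂ ⊤ z).coeff g⁻¹
  have t1 : IsClassFunction G τ := fun g x => by
    simpa [τ, mul_assoc] using mem_Fix.1 (mul_mem (cs_mem_Fix ⊤ z) (cs_mem_Fix ⊤ z)) x (mem_top x) g⁻¹
  have t2 : ∀ ψ : IrrCharacter G, classInner τ ψ.1 =
      ((centralizer {z}).index * ψ.1 z) ^ 2 / (ψ.1 1 * Nat.card G) := fun ψ => by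
    rw [inner_eq_om_tAll, show tAll τ = cs ℂ ⊤ z * cs ℂ ⊤ z from by ext; simp [τ],
      om_mul ψ.2 (cs_mem_Fix ⊤ z), om_cs ψ.2.classFun, centralChar]
    field_simp [ψ.2.one_ne_zero]
  have t3 : d τ 1 = ∑ ψ ∈ HZ B 2, classInner τ ψ.1 * d ψ.1 1 := by
    have h3 := T.tw.ip 1 (UU_of_mem h m1) τ t1
    rw [← T.bp_W, ← inner_bp_comm, inner_bp_left] at h3
    simp only [fun ψ : IrrCharacter G => T.tw.ip 1 (UU_of_mem h m1) _ ψ.2.classFun,
      mul_left_comm _ (_⁻¹ : ℂ), ← Finset.mul_sum] at h3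
    rw [← mul_left_cancel₀ (by norm_num) h3]
    refine (Finset.sum_subset HZ_sub fun ψ c c' => ?_).symm
    rw [d3 ψ fun e => c' (hH ▸ Finset.mem_insert_of_mem e), T.HZ_spec.2.2 ψ c c']; simp
  have hB := fun j hj => (mem_HZ.1 (hF j hj)).1
  simp only [hS, t2, mul_pow, div_pow, hw _ (hB _ m1), hw _ (hB _ m2), hw _ (hB _ m3),
    hw _ (mem_HZ.1 hχ).1, d4, d2 _ m1 _ m2 c12 hA1, d2 _ m2 _ m3 c23 hA2, d3 χ h1, hA4,
    d2 _ m3 _ m1 (mt (rel_symm h) c13) hA3, d1 _ m1 hA1, d1 _ m2 hA2, d1 _ m3 hA3, e2, e3, e4,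
    show sg (1 : ZN 1) = -1 by decide, show sg (2 : ZN 1) = 1 by decide,
    show sg (3 : ZN 1) = -1 by decide, g, f4, ← f2, ← f3] at t3
  have u1 := T.hm.red_piU_major T.hB (z_centG h) (mem_HZ.1 hχ).1 (mem_HZ.1 hχ).2
  have u2 := (unitOn_iff_deg T.hB (LC.irr χ)).1 ((unitOn_irr T.hB).2 (mem_HZ.1 hχ))
  rw [← T.apply_z rfl (mem_HZ.1 hχ).1, ← hz', T.defect] at u1
  rw [bp_irr_of_mem (mem_HZ.1 hχ).1, T.defect] at u2
  have x1 := pow_mul_inner_cmp_mem' (T.hm.bp.subEl (el h 1)) (T.hm.bp.blk_SG _)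
    (isClassFunction_smul 4⁻¹ t1) (fun c hc => by
      obtain ⟨q, hq⟩ := four_dvd_card_pairs (z := z) (hz' ▸ congrArg Subtype.val (z_sq h))
        (by rw [coe_zc, el_one, (mcG h).ord]; rfl) (isPPart_mem_zpowers (isPPart_coe.2 hc))
      simp only [τ, Pi.smul_apply, coeff_cs_sq, hq]; simp) χ.2.isGen
  rw [← Nat.cast_pow, T.hm.pow_defect_a h, ← cA_def, map_smul, CfsgH3.inner_smul_left,
    mul_left_comm, Nat.cast_pow, Nat.cast_ofNat, T.piU_I0 m1 t1 χ.2.classFun, d3 χ h1, hA4,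
    map_intCast] at x1
  refine red_mul_ne_zero u1 u1 ?_
  rw [← red_mul_eq_zero_left (natCast_mem _ 2) (mul_mem (neg_mem x1) (mem_Loc_of_red_ne_zero u2))
    (red_p (p := 2)), t3, hw _ (mem_HZ.1 hχ).1, g, f4, ← (centralizer {z}).index_mul_card]
  congr 1
  have h3 : ((charDegree (μ 1).1 : ℤ) : ℂ) ≠ 0 := g (μ 1) ▸ (μ 1).2.one_ne_zero
  have h4 : ((centralizer {z}).index : ℂ) ≠ 0 := Nat.cast_ne_zero.2 index_ne_zero_of_finite
  have h5 := card_ne_zero_complex (centralizer {z})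
  push_cast at h3 ⊢
  rcases hA' with rfl | rfl <;> field_simp <;> rw [d4] <;> ring

namespace TD
variable (T : TD e B h O W d n)
include T

theorem not_nst (hd : Dih h) (N : NSt B k n (EE h)) : False := by
  have hE : EE h = I0 r := Finset.filter_true_of_mem fun _ _ => .inl hd
  have hO : OO h = ∅ := by ext; simp [mem_OO, Al, hd]
  obtain ⟨ρ, R⟩ := T.exists_RH
  obtain ⟨ε', μ', F'⟩ := T.exists_FM (OO_sub h) (OO_k h) (OO_al h)
  have h1 := T.card_le (fun ψ hψ => T.dih_not_ex hd (Finset.mem_sdiff.1 hψ).1) R F'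
  have h2 := T.card_rho R N
  have h3 := T.card
  have h4 := blockRank_pos (p := 2) (block_nonempty T.hB)
  rw [hO, Finset.image_empty, Finset.empty_sdiff, Finset.card_empty] at h1
  rw [T.hm.lU_el h ⟨zz_ne, fun _ => hd⟩] at h3
  rw [hE] at N
  obtain ⟨⟨ε, μ, F, hF⟩, j, hj, l, hl, c⟩ := N
  have h5 : 2 < (I0 r).card := Finset.two_lt_card_iff.2 ⟨j, (k : ZN _) * j, l, hj, (k_mem h).2 hj,
    hl, (k_ne h hj).symm, fun e => c (.inl e.symm), fun e => c (.inr e.symm)⟩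
  have h6 := card_I0 (r := r)
  obtain rfl : r = 1 := by
    rcases r with _ | _ | r
    · omega
    · rfl
    · have := Nat.one_le_two_pow (n := r)
      simp only [pow_succ] at h3; omega
  obtain rfl : O = ∅ := Finset.card_eq_zero.1 (by omega)
  exact T.not_nst16 hd F hF

theorem dih (hd : Dih h) : Nat.card B = 2 ^ (r + 1) + 3 ∧ blockRank 2 B + O.card = 3 ∧
    ∀ χ ∈ B, blockHeight 2 B χ ≤ 1 := by
  have hO : OO h = ∅ := by ext; simp [mem_OO, Al, hd]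
  obtain ⟨f, S⟩ := ((T.tri (by simp [hO])).resolve_right
    fun N => N.elim (T.not_nst hd) fun N => by simpa [hO] using N.2)
  have h1 : ∀ ψ ∈ irrF B \ HZ B 2, ψ ∈ (I0 r).image f := fun ψ hψ => by_contra fun c =>
    T.dih_not_ex hd (Finset.mem_sdiff.1 hψ).1 (S.ex (Finset.mem_sdiff.2 ⟨hψ, c⟩))
  have h2 := (T.card_STD S).2
  have h3 := T.card
  rw [Finset.sdiff_eq_empty_iff_subset.2 h1, Finset.card_empty] at h2
  rw [T.hm.lU_el h ⟨zz_ne, fun _ => hd⟩] at h3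
  refine ⟨h2, by omega, fun χ hχ => ?_⟩
  by_cases c : χ ∈ HZ B 2
  · simp [(mem_HZ.1 c).2]
  · obtain ⟨j, hj, rfl⟩ := Finset.mem_image.1 (h1 χ (Finset.mem_sdiff.2 ⟨mem_irrF.2 hχ, c⟩))
    obtain ⟨ε, h4, h5⟩ := S.typ j hj
    exact (T.dih_ht_typ hd (mem_irrF.2 hχ) h4 h5).le

theorem card_HZ : Nat.card {χ : IrrCharacter G // χ ∈ B ∧ blockHeight 2 B (χ : G → ℂ) = 0} = 4 := by
  rw [← T.HZ_spec.1, ← Fintype.card_coe, ← Nat.card_eq_fintype_card]
  exact Nat.card_congr (Equiv.subtypeEquivRight fun _ => mem_HZ.symm)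

end TD

variable (h) in
theorem OS.exists_TD (hO : OS e h O) (hB : IsPBlock M B) (hm : MP 2 ⊤ (bId M B) P e) :
    ∃ W d n, TD e B h O W d n := by
  obtain ⟨W, d, n, hW⟩ := hm.exists_TW h
  exact ⟨W, d, n, hB, hm, hO, hW⟩

omit hM [CharP (Res M) 2] [Fintype G] in
theorem mc_top {a b : G} (h : MC P a b k m r) :
    MC (⊤ : Subgroup P) ⟨a, h.a_mem⟩ ⟨b, h.b_mem⟩ k m r :=
  ⟨h.top, by rw [← h.ord, ← orderOf_coe], h.hk⟩

theorem exists_TD (hB : IsPBlock M B) (hP : IsDef 2 ⊤ (bId M B) P) {a b : G} (h : MC P a b k m r) :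
    ∃ (e : (Res M)[G]) (O : _) (W : _) (d : _) (n : _), TD e B (mc_top h) O W d n ∧ O ⊆ {⟨b, h.b_mem⟩, ⟨a, h.a_mem⟩ * ⟨b, h.b_mem⟩} := by
  obtain ⟨e, hm⟩ := hP.exists_mp (isPrim_bId hB)
  obtain ⟨O, h1, h2⟩ := exists_OS (mc_top h) hm.bp
  obtain ⟨W, d, n, T⟩ := h1.exists_TD _ hB hm
  exact ⟨e, O, W, d, n, T, h2⟩

omit hM [CharP (Res M) 2] [Fintype G] in
theorem dih_of (h1 : (k : ZN r) = -1) (h2 : (m : ZN r) = 0) : Dih h := fun i => by
  rw [out_mul_out, el_eq_one, h1, h2]; ring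

end CfsgH4
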