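import Cfsg.Agent.H4.Tame7

/-! 2-blocks with quaternion and semidihedral defect groups. -/

set_option autoImplicit false
set_option linter.unusedSectionVars false

open MonoidAlgebra Subgroup CfsgH2 Function Cfsg CfsgH3
open scoped ComplexConjugate Classical

namespace CfsgH4

section zn
variable {r : ℕ} {i : ZN r} {S : Type*} [Group S] {a b : S} {k m : ℤ} (h : MC ⊤ a b k m r)

theorem card_half : ((I0 r).filter fun i => i + i = zz r).card = 2 := by
  have h1 : ∀ i : ZN r, i + i = zz r ↔ i = 2 ^ r ∨ i = 2 ^ r + zz r := fun i => by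
    rw [← sub_eq_zero (a := i), ← sub_eq_iff_eq_add', ← two_mul_eq_zero, mul_sub, two_mul,
      sub_eq_zero, zz]
    push_cast; rw [pow_succ' (2 : ZN r)]
  refine Eq.trans ?_ (Finset.card_pair (show (2 ^ r : ZN r) ≠ 2 ^ r + zz r by simpa using zz_ne))
  congr 1; ext i
  simp only [Finset.mem_filter, mem_I0, Finset.mem_insert, Finset.mem_singleton, ← h1,
    and_iff_right_iff_imp]
  exact fun c => ⟨fun e => zz_ne (by simpa [e] using c.symm),
    fun e => zz_ne (by simpa [e, zz_add] using c.symm)⟩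

theorem exists_two_mul (hi : zz r * i = 0) : ∃ j, i = 2 * j := by
  obtain ⟨i, rfl⟩ := ZMod.intCast_surjective i
  obtain ⟨j, rfl | rfl⟩ := Int.even_or_odd' i
  · exact ⟨j, by push_cast; rfl⟩
  · exact (zz_ne (by push_cast at hi; linear_combination hi - j * two_mul_zz)).elim

include h

theorem k_half (hi : i ∈ I0 r) : (k : ZN r) * i = zz r + i ↔ i + i = zz r := by
  refine ⟨fun c => ?_, fun c => ?_⟩
  · rcases k_cases h with e | e <;> rw [e] at c
    · linear_combination (-1) * c - zz_add (r := r)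
    · rcases zz_mul i with e' | e'
      · linear_combination (-1) * c - zz_add (r := r) + e'
      · exact (two_mul_eq_zero.1 (by linear_combination e' - c)).elim (mem_I0.1 hi).1.elim
          (mem_I0.1 hi).2.elim
  · rcases h.hk with e | ⟨e, -⟩
    · rw [e]; push_cast; linear_combination (-1) * c - zz_add (r := r)
    · rw [k_even h (zz_mul_of_add (by omega) c)]; linear_combination (-1) * c - zz_add (r := r)

theorem dih_of_sq (h1 : b * b = 1) (h2 : a * b * (a * b) = 1) : Dih h := by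
  have h3 := out_mul_out h 0 0
  have h4 := out_mul_out h 1 1
  rw [el_zero, one_mul, h1, eq_comm, el_eq_one] at h3
  rw [el_one, h2, eq_comm, el_eq_one] at h4
  intro i
  rw [out_mul_out, el_eq_one]
  linear_combination i * (h4 - h3) + h3

theorem exists_out [DecidableEq S] {c : S} (hc : c ∈ ({b, a * b} : Finset S)) : ∃ i, c = el h i * b := by
  rcases Finset.mem_insert.1 hc with rfl | hc
  exacts [⟨0, by simp⟩, ⟨1, by rw [el_one, Finset.mem_singleton.1 hc]⟩]

theorem out_conj' [DecidableEq S] (i : ZN r) : ∃ c ∈ ({b, a * b} : Finset S), ∃ g, g * c * g⁻¹ = el h i * b := by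
  rcases out_conj h i with c | c
  exacts [⟨_, by simp, c⟩, ⟨_, by simp, c⟩]

end zn

section gen
variable {M : Ideal AlgInt} [hM : M.IsMaximal] {G : Type*} [Group G] {p : ℕ} [Fintype G]
  [hp : Fact p.Prime] [CharP (Res M) p] {P : Subgroup G} {e : (Res M)[G]}
  {B : Set (IrrCharacter G)}

theorem MP.lU_central (hm : MP p ⊤ (bId M B) P e) (hB : IsPBlock M B) {u : G} (huP : u ∈ P)
    (hu : u ∈ center G) : lU p P e u = blockRank p B := by
  have h1 : centralizer {u} = ⊤ := centralizer_eq_top_iff_subset.2 (by simpa using hu)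
  rw [lU, (hm.eq_of_le_cent (fb_sl hm.bp huP) (by rw [centralizer_zpowers, h1])).2, h1, blk_top hB,
    blockRank_trSet]

omit hp hM [CharP (Res M) p] in
theorem sum_one_add_shf {z : G} (hz : z ∈ center G) (h2 : z * z = 1) [(zpowers z).Normal] :
    ∑ χ ∈ irrF B, (1 + classInner (shf z χ.1) χ.1) = 2 * Nat.card (infl (zpowers z) ⁻¹' B) := by
  have h1 : ∀ χ : IrrCharacter G, 1 + classInner (shf z χ.1) χ.1 =
      if χ.1 z = χ.1 1 then 2 else 0 := fun χ => by
    obtain ⟨ω, h3, h4, h5⟩ := exists_shf_irr χ hz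
    have h6 : χ.1 z = ω * χ.1 1 := by simpa using congrFun h4 1
    have h7 : ω * ω = 1 := by
      obtain ⟨c, hc⟩ := orderOf_dvd_of_pow_eq_one ((sq z).trans h2)
      rw [← sq, hc, pow_mul, h3, one_pow]
    rw [h4, CfsgH3.inner_smul_left, χ.2.inner_self, h6]
    rcases mul_self_eq_one_iff.1 h7 with rfl | rfl <;> norm_num [neg_eq_self, χ.2.one_ne_zero]
  rw [Finset.sum_congr rfl fun χ _ => h1 χ, ← Finset.sum_filter, Finset.sum_const, nsmul_eq_mul,
    mul_comm, ← card_irrF]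
  congr 2
  refine (Finset.card_bij (fun ψ _ => infl _ ψ) (fun ψ c => ?_) (fun _ _ _ _ c => infl_injective _ c)
    fun χ c => ?_).symm
  · exact Finset.mem_filter.2 ⟨mem_irrF.2 (mem_irrF.1 c :), infl_ker ψ z (mem_zpowers z)⟩
  · obtain ⟨ψ, rfl⟩ := exists_infl (N := zpowers z) (χ := χ) fun n hn => by
      rcases (mem_zpowers_of_mul_self h2).1 hn with rfl | rfl
      exacts [rfl, (Finset.mem_filter.1 c).2]
    exact ⟨ψ, mem_irrF.2 (mem_irrF.1 (Finset.mem_filter.1 c).1 :), rfl⟩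

end gen

variable {M : Ideal AlgInt} [hM : M.IsMaximal] {G : Type*} [Group G] [Fintype G]
  [CharP (Res M) 2] {P : Subgroup G} {e E : (Res M)[G]} {B : Set (IrrCharacter G)}
  {χ ψ : IrrCharacter G} {τ σ : G → ℂ} {a b : P} {k m : ℤ} {r : ℕ} {h : MC ⊤ a b k m r}
  {i j l j' l' : ZN r} {O : Finset P} {W : ZN r → G → ℂ} {d : (G → ℂ) → ZN r → ℂ}
  {n : IrrCharacter G → ZN r → ℤ}

theorem card_of_idx2 (hB : IsPBlock M B) (hP : IsDef 2 ⊤ (bId M B) P) {a b : G}
    (h : Idx2 P a b (-1) 0) (ho : orderOf a = 2 ^ (r + 1)) : Nat.card B = 2 ^ r + 3 := by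
  rcases r with _ | r
  · obtain ⟨e, hm⟩ := hP.exists_mp (isPrim_bId hB)
    refine (hm.klein hB (by rw [h.card, ho]; rfl) (fun x hx => ?_) rfl).2.1
    obtain ⟨i, rfl | rfl⟩ := (h.mem x).1 hx
    · rw [← zpow_add, zpow_eq_one_iff_dvd, ho]; exact ⟨i, by push_cast; ring⟩
    · rw [h.mul_eq]; simp
  · obtain ⟨e, O, W, d, m, T, -⟩ := exists_TD hB hP ⟨h, ho, .inl rfl⟩
    exact (T.dih (dih_of (by simp) (by simp))).1

theorem TD.central (T : TD e B h O W d n) (hz : ((el h (zz r) : P) : G) ∈ center G) :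
    blockRank 2 B + O.card = 3 := by
  have := Fintype.ofFinite P
  obtain ⟨z, hz'⟩ : ∃ z : G, z = (el h (zz r) : P) := ⟨_, rfl⟩
  have h2 : z * z = 1 := hz' ▸ congrArg Subtype.val (z_sq h)
  have hN : (zpowers z).Normal := ⟨fun x hx g => by
    rwa [mem_center_iff.1 (zpowers_le.2 (hz' ▸ hz) hx) g, mul_inv_cancel_right]⟩
  have := Fintype.ofFinite (G ⧸ zpowers z)
  have hG := mcG h
  have hp := isPGroup_zpowers_of_mul_self h2
  have hC : ∀ x : G, ¬ 2 ∣ orderOf x → x ∈ centralizer (zpowers z : Set G) := fun x _ => by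
    rw [centralizer_zpowers, hz']; exact mem_centralizer_singleton_iff.2 (mem_center_iff.1 hz x)
  have h3 : ∀ j : ℤ, (QuotientGroup.mk' (zpowers z) a) ^ j = 1 ↔ (2 : ℤ) ^ (r + 1) ∣ j := fun j => by
    rw [← map_zpow, QuotientGroup.mk'_apply, QuotientGroup.eq_one_iff, hz', coe_z,
      hG.mem_iff (by omega)]
  have h4 := card_of_idx2 (r := r) (isPBlock_dom hp hC T.hB) (isDef_dom hp hC T.hB T.hm.isDef)
    ((hG.toIdx2.map (QuotientGroup.mk' _) ?_).congr (k' := -1) (m' := 0) ?_ ?_) ?_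
  rotate_left
  · rintro ⟨j, c⟩
    beta_reduce at c
    rw [← map_zpow, QuotientGroup.mk'_apply, QuotientGroup.mk'_apply, QuotientGroup.eq, hz',
      coe_z] at c
    exact hG.pow_mul_notMem (-j) (by simpa using zpowers_le.2 (zpow_mem (mem_zpowers _) _) c)
  · rw [← mul_inv_eq_one, ← zpow_sub, h3, dvd_iff_zz]
    rcases k_cases h with c | c <;> simp [c]
  · rw [zpow_zero, h3, dvd_iff_zz]; exact m_cases h
  · refine orderOf_eq_prime_pow (fun c => ?_) ?_
    · have := Int.le_of_dvd (by positivity) ((h3 (2 ^ r)).1 (by exact_mod_cast c))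
      have h2 : (0 : ℤ) < 2 ^ r := by positivity
      rw [pow_succ] at this; omega
    · exact_mod_cast (h3 (2 ^ (r + 1))).2 dvd_rfl
  have h5 := sum_one_add_shf (B := B) (hz' ▸ hz) h2
  have hc := fun χ : IrrCharacter G => shf_classFun hz χ.2.classFun
  have h6 := T.os.decomp T.hm (x := fun u => ∑ χ ∈ irrF B, classInner (piU 2 P e u
    (shf ((el h (zz r) : P) : G) χ.1)) χ.1) fun u v c => by simp only [c.piU_eq T.hm.bp (hc _)]
  have h7 : ∀ u g : P, g * u * g⁻¹ = el h (zz r) * u → lU 2 P e u = 1 → ∑ χ ∈ irrF B,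
      classInner (piU 2 P e u (shf ((el h (zz r) : P) : G) χ.1)) χ.1 = 1 := fun u g c c' => by
    simp only [fun χ : IrrCharacter G => piU_shf_of T.hm.bp hz c c' χ.2.classFun,
      T.hm.trace_piU T.hB, c', Nat.cast_one]
  simp only [smul_eq_mul] at h6
  rw [T.hm.trace_shf_of_not T.hB hz fun c => zz_ne ((el_eq_one h).1 (by simpa using c.eq_one)),
    T.hm.trace_shf_of_not T.hB hz fun c => zz_ne ((el_eq_one h).1 (z_sq h ▸ c).symm.eq_one),
    Finset.sum_congr (s₁ := O) rfl fun o ho => show _ = (1 : ℂ) by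
      obtain ⟨i, rfl⟩ := T.os.out ho (Fus.refl o)
      obtain ⟨g, hg⟩ := out_conj_z h i
      exact h7 _ g hg (T.os.lU T.hm ho),
    Finset.sum_congr (s₁ := I0 r) rfl fun i hi => show _ = if i + i = zz r then (1 : ℂ) else 0 by
      split_ifs with c
      · exact h7 _ _ (by rw [conj_el h i 0, (k_half h hi).2 c, el_add])
          (T.hm.lU_el h (UU_of_mem h hi))
      · refine T.hm.trace_shf_of_not T.hB hz fun c' => ?_
        rw [← el_add] at c'
        exact (T.hm.fus_el h c').elim (fun e => zz_ne (by simpa using e))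
          fun e => c ((k_half h hi).1 e.symm),
    Finset.sum_boole, card_half] at h6
  simp only [Finset.mul_sum] at h6
  rw [Finset.sum_comm, Finset.sum_congr rfl fun χ hχ => show _ = classInner (shf z χ.1) χ.1 by
    rw [hz', ← bp_irr_of_mem (mem_irrF.1 hχ), ← inner_bp_comm, bp_irr_of_mem (mem_irrF.1 hχ),
      ← T.hm.star_one T.hB (hc χ), inner_star]; simp] at h6
  have h8 := T.card
  rw [T.hm.lU_central T.hB (el h _).2 hz] at h8
  rw [Finset.sum_add_distrib, h6, h4, Finset.sum_const, card_irrF] at h5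
  apply Nat.cast_injective (R := ℂ)
  have h9 := congrArg (Nat.cast (R := ℂ)) h8
  simp only [Finset.sum_const, nsmul_eq_mul] at h5
  push_cast at h5 h9 ⊢
  linear_combination h5 / 2 - h9 / 2

theorem loc_OS (hO : OS e h O) (hm : MP 2 ⊤ E P e) (hs : O ⊆ {b, a * b}) (hd : ¬ Dih h) :
    lU 2 P e (el h (zz r) : P) + (O ∪ ({b, a * b} : Finset P).filter fun c => c * c = 1).card = 3 := by
  have hs' := fb_sl hm.bp (el h (zz r)).2
  have hPL : P ≤ centralizer {((el h (zz r) : P) : G)} := fun x hx =>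
    mem_centralizer_singleton_iff.2 (z_centG h x hx)
  have hL : ∀ u : P, el h (zz r) ∈ zpowers u →
      centralizer {(u : G)} ≤ centralizer {((el h (zz r) : P) : G)} := fun u ⟨j, hj⟩ => by
    rw [← centralizer_zpowers, ← centralizer_zpowers]
    exact centralizer_anti (zpowers_le.2 ⟨j, congrArg Subtype.val hj⟩)
  have hm1 := hm.mp_loc hs' hPL (centralizer_zpowers _).le
    (by simpa [Cn_top, centralizer_zpowers] using hs'.left.Cn_le_stab)
  have hg : ∀ u v : P, u * u = el h (zz r) → v * v = el h (zz r) → ∀ g : G, g * u * g⁻¹ = v →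
      g ∈ centralizer {((el h (zz r) : P) : G)} := fun u v hu hv g c => by
    rw [mem_centralizer_singleton_iff, ← mul_inv_eq_iff_eq_mul]
    nth_rw 1 [← hu]
    rw [← hv, Subgroup.coe_mul, Subgroup.coe_mul, ← c]; group
  rw [lU]
  obtain ⟨L, hL'⟩ : ∃ L, L = centralizer {((el h (zz r) : P) : G)} := ⟨_, rfl⟩
  rw [← hL'] at hPL hL hm1 hg ⊢
  obtain ⟨c, e', hc, h3, rfl, hm'⟩ := hm1.exists_rel
  rw [← h3, blk_bIdS hc]
  have := Fintype.ofFinite L
  obtain ⟨ι, hι⟩ : ∃ ι : P ≃* P.subgroupOf L, ∀ u, ((ι u : L) : G) = u :=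
    ⟨(subgroupOfEquivOfLe hPL).symm, fun _ => rfl⟩
  have h' : MC ⊤ (ι a) (ι b) k m r := by simpa using h.map_inj ι.toMonoidHom ι.injective
  have h4 : ∀ i, el h' i = ι (el h i) := fun i => by
    obtain ⟨i, rfl⟩ := ZMod.intCast_surjective i
    rw [el_int, el_int, map_zpow]
  have hz : ((el h' (zz r) : P.subgroupOf L) : L) ∈ center L := mem_center_iff.2 fun g =>
    Subtype.ext (by rw [Subgroup.coe_mul, Subgroup.coe_mul, h4, hι]
                    exact mem_centralizer_singleton_iff.1 (hL'.le g.2))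
  have h5 : ∀ u v : P, u * u = el h (zz r) → v * v = el h (zz r) →
      (Fus 2 e' (ι u) (ι v) ↔ Fus 2 (emb _ L.subtype e') u v) := fun u v hu hv =>
    fus_rel hPL hm'.bp (hι u) (hι v) (hL u (hu ▸ mul_mem (mem_zpowers u) (mem_zpowers u)))
      (hL v (hv ▸ mul_mem (mem_zpowers v) (mem_zpowers v))) (hg u v hu hv)
  have h6 : ∀ c ∈ ({b, a * b} : Finset P), c * c ≠ 1 → c * c = el h (zz r) := fun c hc => by
    obtain ⟨i, rfl⟩ := exists_out h hc
    exact (out_sq h i).resolve_left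
  have h7 : ∀ {u : P} {i}, u * u = el h (zz r) → Fus 2 e' (ι u) (ι (el h i)) →
      el h i * el h i = el h (zz r) := fun {u i} hu c => by
    have := c.sq hm'.bp
    rw [← map_mul, ← map_mul, hu, ← el_add, ← h4, ← h4] at this
    rw [← el_add, (hm'.fus_el h' this).elim id (·.trans (k_zz h))]
  have hS : ∀ c ∈ O ∪ ({b, a * b} : Finset P).filter fun c => c * c = 1,
      c ∈ ({b, a * b} : Finset P) ∧ (c * c ≠ 1 → c ∈ O) := fun c hc =>
    (Finset.mem_union.1 hc).elim (fun e => ⟨hs e, fun _ => e⟩)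
      fun e => ⟨(Finset.mem_filter.1 e).1, fun e' => (e' (Finset.mem_filter.1 e).2).elim⟩
  have hO' : OS e' h' ((O ∪ ({b, a * b} : Finset P).filter fun c => c * c = 1).map
      ι.toEquiv.toEmbedding) := by
    refine ⟨fun o ho i hf => ?_, fun o ho o' ho' hf => ?_, fun v => ?_⟩
    · obtain ⟨o, h8, rfl⟩ := Finset.mem_map.1 ho
      rw [h4] at hf
      by_cases c : o * o = 1
      · have h9 := hf.sq hm'.bp
        obtain ⟨j, rfl⟩ := exists_out h (hS o h8).1
        erw [← map_mul ι, ← map_mul ι, c, map_one] at h9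
        rw [← el_add] at h9
        rcases two_mul_eq_zero.1 ((two_mul i).trans ((el_eq_one h).1
          (ι.map_eq_one_iff.1 h9.eq_one))) with rfl | rfl
        · rw [el_zero, map_one] at hf
          exact el_ne h 0 j ((el_zero h).trans (ι.map_eq_one_iff.1 hf.symm.eq_one).symm)
        · obtain ⟨g, hg⟩ := isConj_iff.1 hf.symm.isConj
          rw [← h4, mem_center_iff.1 hz g, mul_inv_cancel_right, h4] at hg
          exact el_ne h _ _ (ι.injective (Subtype.ext hg))
      · have h9 := h6 o (hS o h8).1 c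
        exact hO.ne o ((hS o h8).2 c) i ((h5 _ _ h9 (h7 h9 hf)).1 hf)
    · obtain ⟨o, h8, rfl⟩ := Finset.mem_map.1 ho
      obtain ⟨o', h8', rfl⟩ := Finset.mem_map.1 ho'
      have h9 := hf.sq hm'.bp
      erw [← map_mul ι, ← map_mul ι] at h9
      congr 1
      by_cases c : o * o = 1
      · have c' : o' * o' = 1 := by rw [c, map_one] at h9; exact ι.map_eq_one_iff.1 h9.eq_one
        have e1 := (hS o h8).1
        have e2 := (hS o' h8').1
        simp only [Finset.mem_insert, Finset.mem_singleton] at e1 e2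
        rcases e1 with rfl | rfl <;> rcases e2 with rfl | rfl
        exacts [rfl, (hd (dih_of_sq h c c')).elim, (hd (dih_of_sq h c' c)).elim, rfl]
      · have c' : o' * o' ≠ 1 := fun c' => by
          rw [c', map_one] at h9; exact c (ι.map_eq_one_iff.1 h9.symm.eq_one)
        exact hO.inj _ ((hS o h8).2 c) _ ((hS o' h8').2 c')
          ((h5 _ _ (h6 o (hS o h8).1 c) (h6 o' (hS o' h8').1 c')).1 hf)
    · obtain ⟨v, rfl⟩ := ι.surjective v
      obtain ⟨i, rfl | rfl⟩ := el_cases h v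
      · exact .inl ⟨i, h4 i ▸ Fus.refl _⟩
      obtain ⟨c, hc, g, hg⟩ := out_conj' h i
      have h8 : Fus 2 e' (ι c) (ι (el h i * b)) := by
        simpa only [← hg, map_mul, map_inv] using fus_conj hm'.bp (ι c) (ι g)
      by_cases c' : c * c = 1
      · exact .inr ⟨ι c, Finset.mem_map_of_mem _ (by simp only [Finset.mem_union,
          Finset.mem_filter, hc, c', and_self, or_true]), h8⟩
      have h9 := h6 c hc c'
      rcases hO.cov c with ⟨j, hj⟩ | ⟨o, ho, hj⟩
      · refine .inl ⟨j, h4 j ▸ ((h5 _ _ ?_ h9).2 hj).trans h8⟩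
        have := hj.symm.sq hm.bp
        rw [h9, ← el_add] at this
        rw [← el_add, (hm.fus_el h this).elim id (·.trans (k_zz h))]
      · exact .inr ⟨ι o, Finset.mem_map_of_mem _ (Finset.mem_union_left _ ho),
          ((h5 _ _ (h6 o (hs ho) fun e => c' (e ▸ hj.sq hm.bp).eq_one) h9).2 hj).trans h8⟩
  obtain ⟨W, d, n, T⟩ := hO'.exists_TD _ hc hm'
  simpa using T.central hz

theorem loc_OS' (hO : OS e h O) (hm : MP 2 ⊤ E P e) (hs : O ⊆ {b, a * b}) (hd : ¬ Dih h) :
    lU 2 P e (el h (zz r) : P) + O.card ≤ 3 ∧ 2 ≤ lU 2 P e (el h (zz r) : P) + O.card ∧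
    ((∀ i, el h i * b * (el h i * b) ≠ 1) → lU 2 P e (el h (zz r) : P) + O.card = 3) ∧
    ((∃ i, el h i * b * (el h i * b) = 1) → lU 2 P e (el h (zz r) : P) ≤ 2) := by
  have h1 := loc_OS hO hm hs hd
  have h2 := Finset.card_le_card (Finset.subset_union_left (s₁ := O)
    (s₂ := ({b, a * b} : Finset P).filter fun c => c * c = 1))
  have h3 := Finset.card_union_le O (({b, a * b} : Finset P).filter fun c => c * c = 1)
  have h4 : (({b, a * b} : Finset P).filter fun c => c * c = 1).card ≤ 1 :=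
    Finset.card_le_one.2 fun x hx y hy => by
      simp only [Finset.mem_filter, Finset.mem_insert, Finset.mem_singleton] at hx hy
      obtain ⟨rfl | rfl, c⟩ := hx <;> obtain ⟨rfl | rfl, c'⟩ := hy
      exacts [rfl, (hd (dih_of_sq h c c')).elim, (hd (dih_of_sq h c' c)).elim, rfl]
  refine ⟨by omega, by omega, fun c => ?_, fun ⟨i, c⟩ => ?_⟩
  · rwa [Finset.filter_false_of_mem fun x hx => by
      obtain ⟨i, rfl⟩ := exists_out h hx; exact c i, Finset.union_empty] at h1
  · obtain ⟨x, hx, g, hg⟩ := out_conj' h i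
    have := Finset.card_pos.2 ⟨x, Finset.mem_union_right O ((Finset.mem_filter
      (p := fun c => c * c = 1)).2 ⟨hx, by rwa [← hg, conj_mul, conj_eq_one_iff] at c⟩)⟩
    omega

theorem TD.nondih (T : TD e B h O W d n) (hr : r ≠ 0) (hd : ¬ Dih h)
    (h2 : 2 ≤ lU 2 P e (el h (zz r) : P) + O.card) : ∃ X, Nat.card B = 2 ^ (r + 1) + 3 + X ∧
      X + 1 ≤ lU 2 P e (el h (zz r) : P) ∧
      Nat.card {χ : IrrCharacter G // χ ∈ B ∧ blockHeight 2 B (χ : G → ℂ) = 1} = 2 ^ (r + 1) - 1 ∧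
      ∀ χ ∈ B, blockHeight 2 B χ = 0 ∨ blockHeight 2 B χ = 1 ∨ blockHeight 2 B χ = r + 1 := by
  have h1 := T.card
  have h3 := blockRank_pos (p := 2) (block_nonempty T.hB)
  obtain ⟨f, S⟩ := T.exists_STD hr hd (by omega)
  obtain ⟨h4, h5⟩ := T.card_STD S
  have h6 : ∀ χ ∈ (I0 r).image f, blockHeight 2 B χ = 1 := fun χ c => by
    obtain ⟨j, hj, rfl⟩ := Finset.mem_image.1 c
    obtain ⟨ε, h6, h7⟩ := S.typ j hj
    exact T.ht_typ hr (S.mem j hj) h6 h7
  have h7 : ∀ χ ∈ B, blockHeight 2 B χ ≠ 0 → χ ∉ (I0 r).image f → blockHeight 2 B χ = r + 1 :=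
    fun χ c c' c'' => by
      have := Finset.mem_sdiff.2 ⟨mem_irrF.2 c, fun e => c' (mem_HZ.1 e).2⟩
      exact T.ht_ex hr this (S.ex (Finset.mem_sdiff.2 ⟨this, c''⟩))
  refine ⟨_, h5, T.card_ex_lt hr S, ?_, fun χ c => by have := h6 χ; have := h7 χ c; tauto⟩
  rw [← h4, Nat.add_sub_cancel, ← Fintype.card_coe, ← Nat.card_eq_fintype_card]
  refine Nat.card_congr (Equiv.subtypeEquivRight fun χ => ⟨fun c => by_contra fun c' => ?_,
    fun c => ⟨?_, h6 χ c⟩⟩)
  · have := h7 χ c.1 (by omega) c'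
    omega
  · obtain ⟨j, hj, rfl⟩ := Finset.mem_image.1 c
    exact mem_irrF.1 (Finset.mem_sdiff.1 (S.mem j hj)).1

theorem TD.small {h : MC ⊤ a b k m 0} {W : ZN 0 → G → ℂ} {d : (G → ℂ) → ZN 0 → ℂ}
    {n : IrrCharacter G → ZN 0 → ℤ} (T : TD e B h O W d n) :
    Nat.card B ≤ 7 ∧ ∀ χ ∈ B, blockHeight 2 B χ ≤ 1 := by
  refine ⟨?_, fun χ hχ => by have := height_add_two_le T.hB hχ; rw [T.defect] at this; omega⟩
  have h1 := brauer_feit (p := 2) T.hB
  have h2 := Finset.card_nsmul_le_sum (irrF B \ HZ B 2) (fun χ => 2 ^ (2 * blockHeight 2 B χ)) 4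
    fun χ c => by
      obtain ⟨c, c'⟩ := Finset.mem_sdiff.1 c
      have := mt (fun e => mem_HZ.2 ⟨mem_irrF.1 c, e⟩) c'
      exact Nat.pow_le_pow_right (n := 2) (i := 2) two_pos (by omega)
  have h3 := Finset.card_nsmul_le_sum (HZ B 2) (fun χ => 2 ^ (2 * blockHeight 2 B χ)) 1
    fun χ _ => Nat.one_le_two_pow
  have h4 := Finset.card_sdiff_add_card_eq_card (HZ_sub (B := B) (p := 2))
  rw [T.defect, ← Finset.sum_sdiff (HZ_sub (p := 2))] at h1
  rw [T.HZ_spec.1] at h3 h4
  rw [card_irrF] at h4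
  simp only [smul_eq_mul] at h2 h3
  omega

end CfsgH4
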