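import Cfsg.Agent.H4.Tame8
import Cfsg.Agent.H4.PSol

/-! Tame blocks with three simple modules. -/

set_option autoImplicit false
set_option linter.unusedSectionVars false

open MonoidAlgebra Subgroup CfsgH2 Function Cfsg CfsgH3
open scoped ComplexConjugate Classical

namespace CfsgH4

theorem regPart_indFun {G : Type*} [Group G] [Fintype G] {p : ℕ} {T : Subgroup G} (θ : T → ℂ) :
    regPart p (indFun T θ) = indFun T (regPart p θ) := by
  funext g
  have h : ∀ x : G, extendByZero T (regPart p θ) (x * g * x⁻¹) =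
      if p ∣ orderOf g then 0 else extendByZero T θ (x * g * x⁻¹) := fun x => by
    simp only [ext0_eq, regPart, ← orderOf_coe, orderOf_conj']
    split_ifs <;> rfl
  simp only [regPart, indFun_apply', h]
  split_ifs <;> simp

theorem blockRank_le_of_ind {G : Type*} [Group G] [Fintype G] {p : ℕ} {T : Subgroup G}
    {B : Set (IrrCharacter G)} {c : Set (IrrCharacter T)}
    (h : ∀ χ ∈ B, ∃ ψ ∈ c, χ.1 = indFun T ψ.1) : blockRank p B ≤ blockRank p c := by
  rw [blockRank_eq, blockRank_eq]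
  refine (Submodule.finrank_mono ?_).trans (Submodule.finrank_map_le (indLin T) _)
  rw [Submodule.span_le]
  rintro _ ⟨χ, hχ, rfl⟩
  obtain ⟨ψ, h1, h2⟩ := h χ hχ
  exact ⟨_, Submodule.subset_span ⟨ψ, h1, rfl⟩, by simp only [h2, regPart_indFun, indLin_apply]⟩

variable {M : Ideal AlgInt} [hM : M.IsMaximal] {G : Type*} [Group G] [Fintype G]
  [CharP (Res M) 2] {P : Subgroup G} {e E : (Res M)[G]} {B : Set (IrrCharacter G)}
  {a b : P} {k m : ℤ} {r : ℕ} {h : MC ⊤ a b k m r}
  {O : Finset P} {W : ZN r → G → ℂ} {d : (G → ℂ) → ZN r → ℂ}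
  {n : IrrCharacter G → ZN r → ℤ}

theorem TD.of_three (T : TD e B h O W d n) (hs : O ⊆ {b, a * b}) (hr : ¬ Dih h → r ≠ 0)
    (hb : b * b = 1) (hl : 3 ≤ blockRank 2 B) : O = ∅ ∧ lU 2 P e (el h (zz r) : P) ≤ 2 := by
  by_cases hd : Dih h
  · have := (T.dih hd).2.1
    exact ⟨Finset.card_eq_zero.1 (by omega), by simp [T.hm.lU_el h ⟨zz_ne, fun _ => hd⟩]⟩
  obtain ⟨-, h2, -, h3⟩ := loc_OS' T.os T.hm hs hd
  obtain ⟨X, h4, h5, -⟩ := T.nondih (hr hd) hd h2
  have h6 := T.card
  have h7 := h3 ⟨0, by simpa using hb⟩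
  exact ⟨Finset.card_eq_zero.1 (by omega), h7⟩

theorem OS.not_sylow (hO : OS e h ∅) (hm : MP 2 ⊤ E P e) (hr : ¬ Dih h → r ≠ 0) (hb : b * b = 1)
    (hs : IsPSolvable 2 G) (hP : IsSylowIn 2 P ⊤) : False := by
  obtain ⟨S, hS⟩ := hP.of_top
  have h1 := CfsgH1.pPrimePCore_le_sylow_sup S
  rw [hS] at h1
  have h2 := CfsgH1.IsPSolvable.centralizer_le_pPrimePCore hs h1 (z_centG h)
  have hK : (pPrimePCore 2 G).Normal := inferInstance
  have h3 : ∀ u v : P, Fus 2 e u v → (u : G) ∈ pPrimePCore 2 G → (v : G) ∈ pPrimePCore 2 G :=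
    fun u v ⟨g, hg, _⟩ hu => hg ▸ hK.conj_mem _ hu g
  have h4 : ∀ i, el h i * b * (el h i * b) = 1 → Fus 2 e (el h (zz r)) (el h i * b) := fun i c => by
    obtain ⟨j, hj⟩ := (hO.cov (el h i * b)).resolve_right (by simp)
    have h5 := hj.sq hm.bp
    rw [c, ← el_add] at h5
    rcases two_mul_eq_zero.1 ((two_mul j).trans ((el_eq_one h).1 h5.symm.eq_one)) with rfl | rfl
    · rw [el_zero] at hj
      exact (el_ne h 0 i (by rw [el_zero, hj.eq_one])).elim
    · exact hj
  have h5 := h4 0 (by simpa using hb)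
  rw [el_zero, one_mul] at h5
  have h6 := h3 _ _ h5 h2
  have h7 : ((el h 1 * b : P) : G) ∈ pPrimePCore 2 G := by
    rcases out_sq h 1 with c | c
    · exact h3 _ _ (h4 1 c) h2
    obtain ⟨j, hj⟩ := (hO.cov (el h 1 * b)).resolve_right (by simp)
    have h7 := hj.symm.sq hm.bp
    rw [c, ← el_add] at h7
    obtain ⟨i, rfl⟩ := exists_two_mul (zz_mul_of_add (hr fun hd => zz_ne ((el_eq_one h).1
      (c.symm.trans (hd 1)))) ((hm.fus_el h h7).elim id (·.trans (k_zz h))))
    have h8 : el h i * b * el h (-i) = el h (i + k * -i) * b := out_mul h _ _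
    have h9 : ((el h (i + k * -i) : P) : G) ∈ pPrimePCore 2 G := by
      rw [← mul_mem_cancel_right h6, ← Subgroup.coe_mul, ← h8, show el h (-i) = (el h i)⁻¹ by
        rw [eq_inv_iff_mul_eq_one, ← el_add, neg_add_cancel, el_zero]]
      exact hK.conj_mem _ h6 _
    refine h3 _ _ hj ?_
    rcases k_cases h with c | c <;> rcases zz_mul i with c' | c'
    iterate 2 rwa [show 2 * i = i + k * -i by rw [c]; ring]
    · rwa [show 2 * i = i + k * -i by rw [c]; linear_combination c']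
    rw [show 2 * i = i + k * -i + zz r by rw [c]; linear_combination c', el_add]
    exact mul_mem h9 h2
  rw [el_one, Subgroup.coe_mul, mul_mem_cancel_right h6] at h7
  obtain ⟨g, hg, -⟩ := h5
  obtain ⟨x, hx, y, hy, h8⟩ := mem_sup_of_normal_right.1 (h1 (hK.conj_mem' _ h7 g))
  have hN : (pPrimeCore 2 G).Normal := inferInstance
  have h9 : ((b * a * b⁻¹ * a⁻¹ : P) : G) ∈ pPrimeCore 2 G := by
    have := hN.conj_mem _ (mul_mem (hN.conj_mem _ hy (el h (zz r) : P)) (inv_mem hy)) (g * x)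
    convert this using 1
    have h10 : (a : G) = g * (x * y) * g⁻¹ := by rw [h8]; group
    push_cast
    rw [← hg, h10, mul_assoc g x, ← mul_assoc x, ← mul_assoc x, ← mul_assoc x, z_centG h x hx]
    group
  obtain ⟨s, h10⟩ := hm.bp.ord (b * a * b⁻¹ * a⁻¹)
  have h11 := orderOf_eq_one_iff.1 (Nat.Coprime.eq_one_of_dvd (h10 ▸
    (CfsgH1.coprime_card_pPrimeCore 2 G).symm.pow_left s) (orderOf_dvd_natCard _ h9))
  have h12 := conj_el h 1 0
  rw [el_zero, one_mul, el_one, mul_inv_eq_one.1 (OneMemClass.coe_eq_one.1 h11)] at h12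
  exact k_ne h one_mem_I0 (el_inj h (h12.symm.trans (el_one h).symm))

omit hM [CharP (Res M) 2] in
theorem rank_le_two_of_solv (hM : IsPModular 2 M) (N : ℕ) : ∀ {G : Type*} [Group G] [Finite G]
    {B : Set (IrrCharacter G)} {P : Subgroup G} {a b : G}, Nat.card G = N → IsPSolvable 2 G →
    IsPBlock M B → IsDefectGroup 2 M B P → MC P a b k 0 r → ((k : ZN r) ≠ -1 → r ≠ 0) →
    blockRank 2 B ≤ 2 := by
  have := hM.2.1
  have := charP_of_isPModular hM
  induction N using Nat.strong_induction_on with | _ N ih => ?_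
  intro G _ _ B P a b hN hs hB hP h hr
  have := Fintype.ofFinite G
  have := Fintype.ofFinite (pPrimeCore 2 G)
  rcases fong_red hM hs hB with ⟨θ, -, -, h3⟩ | ⟨T, c, h1, -, h2, -, h3, h4, -⟩
  · obtain ⟨e, O, W, d, n, T, hO⟩ := exists_TD hB ((isDefectGroup_iff hB).1 hP) h
    have h4 : ¬ Dih (mc_top h) → r ≠ 0 := fun c => hr fun c' => c (dih_of c' (by simp))
    have h5 := (mc_top h).sq.trans (zpow_zero _)
    by_contra c
    obtain rfl := (T.of_three hO h4 h5 (by omega)).1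
    exact T.os.not_sylow T.hm h4 h5 hs ((h3 P).1 hP)
  · obtain ⟨D, hD⟩ := exists_isDefectGroup 2 h2
    obtain ⟨g, hg⟩ := exists_cj_of_defectGroup hM hB hP (h3 D hD)
    have h5 := (hg ▸ h.cj g).subgroupOf (map_subtype_le D)
    rw [subgroupOf, comap_map_eq_self_of_injective T.subtype_injective] at h5
    refine (blockRank_le_of_ind fun χ => (h4 χ).1).trans
      (ih _ ?_ rfl (CfsgH1.IsPSolvable.subgroup hs T) h2 hD h5 hr)
    have := card_lt_of_lt (lt_top_iff_ne_top.2 h1)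
    rw [card_top] at this; omega

end CfsgH4
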