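import Cfsg.Agent.H4.Ord4

/-! Small irreducible characters of 4-transitive groups; zeros in alternating groups. -/

set_option autoImplicit false
open Cfsg CfsgH3 Function MulAction
open scoped ComplexConjugate

namespace CfsgH4

theorem sum_card_smul_eq {G X : Type*} [Group G] [Fintype G] [MulAction G X] [Finite X] [Nonempty X]
    [IsPretransitive G X] (φ : X → X) : ∑ g : G, Nat.card {t : X // g • t = φ t} = Nat.card G := by
  classical
  have := Fintype.ofFinite X
  have h1 : ∀ t : X, ∑ g : G, (if g • t = φ t then 1 else 0) = Nat.card (stabilizer G t) := fun t => by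
    obtain ⟨h, hh⟩ := exists_smul_eq G t (φ t)
    rw [← Equiv.sum_comp (Equiv.mulLeft h), Nat.card_eq_fintype_card, Fintype.card_subtype, Finset.card_filter]
    exact Finset.sum_congr rfl fun g _ => by simp [← hh, mul_smul]
  simp only [Nat.card_eq_fintype_card (α := {t : X // _}), Fintype.card_subtype, Finset.card_filter]
  rw [Finset.sum_comm]
  refine Nat.eq_of_mul_eq_mul_right (Nat.card_pos (α := X)) ?_
  simp only [h1, Finset.sum_mul]
  rw [Finset.sum_congr rfl fun t _ => by
    rw [← index_stabilizer_of_transitive G t, Subgroup.card_mul_index]]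
  simp [mul_comm]

section
variable {G : Type*} (α : Type*) [Group G] [MulAction G α]

/-- number of points in 2-cycles -/
noncomputable def twoC (g : G) : ℕ := Nat.card {x : α // g • g • x = x ∧ g • x ≠ x}

theorem permChar_sq [Finite α] (g : G) : permChar α (g ^ 2) = permChar α g + twoC α g := by
  classical
  have := Fintype.ofFinite α
  simp only [permChar, twoC, ← Nat.cast_add, Nat.cast_inj, Nat.card_eq_fintype_card, Fintype.card_subtype,
    Finset.card_filter, ← Finset.sum_add_distrib, mem_fixedBy, sq, mul_smul]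
  refine Finset.sum_congr rfl fun x _ => ?_
  by_cases h : g • x = x <;> simp [h]

theorem cast_descF (a k : ℕ) : ((a.descFactorial (k + 1) : ℕ) : ℂ) = (a - k) * a.descFactorial k := by
  rw [Nat.descFactorial_succ, Nat.cast_mul]
  rcases le_or_gt k a with h | h
  · rw [Nat.cast_sub h]
  · simp [Nat.descFactorial_eq_zero_iff_lt.2 h]

variable [Fintype G] [Finite α] [IsMultiplyPretransitive G α 4] (h4 : 4 ≤ Nat.card α)
include h4

theorem sum_emb {k : ℕ} (hk : k ≤ 4) (σ : Equiv.Perm (Fin k)) :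
    ∑ g : G, Nat.card {t : Fin k ↪ α // ∀ i, g • t i = t (σ i)} = Nat.card G := by
  have := Fintype.ofFinite α
  have : IsPretransitive G (Fin k ↪ α) := isMultiplyPretransitive_of_le (n := 4) hk h4
  have : Nonempty (Fin k ↪ α) := Embedding.nonempty_of_card_le (by
    rw [Fintype.card_fin, ← Nat.card_eq_fintype_card]; omega)
  rw [← sum_card_smul_eq (G := G) fun t : Fin k ↪ α => σ.toEmbedding.trans t]
  exact Finset.sum_congr rfl fun g _ => Nat.card_congr (Equiv.subtypeEquivRight fun t => by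
    simp [Embedding.ext_iff])

theorem sum_descF {k : ℕ} (hk : k ≤ 4) :
    ∑ g : G, (((Nat.card (fixedBy α g)).descFactorial k : ℕ) : ℂ) = Nat.card G := by
  classical
  have := Fintype.ofFinite α
  rw [← sum_emb α h4 hk 1, Nat.cast_sum]
  refine Finset.sum_congr rfl fun g _ => ?_
  rw [Nat.cast_inj, eq_comm]
  refine (Nat.card_congr (Equiv.codRestrict (Fin k) (fixedBy α g))).trans ?_
  simp [Nat.card_eq_fintype_card]

theorem sum_twoC : ∑ g : G, (twoC α g : ℂ) = Nat.card G := by
  rw [← sum_emb α h4 (k := 2) (by omega) (Equiv.swap 0 1), Nat.cast_sum]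
  refine Finset.sum_congr rfl fun g _ => ?_
  rw [Nat.cast_inj, eq_comm]
  refine Nat.card_eq_of_bijective (fun t => ⟨t.1 0, by
    have h0 : g • t.1 0 = t.1 1 := t.2 0
    have h1 : g • t.1 1 = t.1 0 := t.2 1
    exact ⟨by rw [h0, h1], by rw [h0]; exact t.1.injective.ne (by decide)⟩⟩) ⟨fun s t e => ?_, fun x => ?_⟩
  · have e0 : s.1 0 = t.1 0 := congrArg Subtype.val e
    refine Subtype.ext (Embedding.ext fun i => ?_)
    fin_cases i
    · exact e0
    · exact (s.2 0).symm.trans ((congrArg (g • ·) e0).trans (t.2 0))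
  · refine ⟨⟨⟨![x.1, g • x.1], fun i j => ?_⟩, fun i => ?_⟩, rfl⟩
    · have := x.2.2
      fin_cases i <;> fin_cases j <;> simp [this, this.symm]
    · fin_cases i
      · rfl
      · exact x.2.1

theorem sum_twoC_mul : ∑ g : G, (twoC α g : ℂ) * permChar α g = Nat.card G := by
  rw [← sum_emb α h4 (k := 3) (by omega) (Equiv.swap 0 1), Nat.cast_sum]
  refine Finset.sum_congr rfl fun g _ => ?_
  rw [permChar, twoC, ← Nat.cast_mul, ← Nat.card_prod, Nat.cast_inj, eq_comm]
  refine Nat.card_eq_of_bijective (fun t => (⟨t.1 0, by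
    have h0 : g • t.1 0 = t.1 1 := t.2 0
    have h1 : g • t.1 1 = t.1 0 := t.2 1
    exact ⟨by rw [h0, h1], by rw [h0]; exact t.1.injective.ne (by decide)⟩⟩, ⟨t.1 2, t.2 2⟩))
    ⟨fun s t e => ?_, fun x => ?_⟩
  · have e0 : s.1 0 = t.1 0 := congrArg (·.1.1) e
    refine Subtype.ext (Embedding.ext fun i => ?_)
    fin_cases i
    · exact e0
    · exact (s.2 0).symm.trans ((congrArg (g • ·) e0).trans (t.2 0))
    · exact congrArg (·.2.1) e
  · have a1 := x.1.2.2
    have a2 : g • x.2.1 = x.2.1 := x.2.2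
    have a3 : x.1.1 ≠ x.2.1 := fun e => a1 (by rw [e, a2])
    have a4 : g • x.1.1 ≠ x.2.1 := fun e => a3 (smul_left_cancel g (e.trans a2.symm))
    refine ⟨⟨⟨![x.1.1, g • x.1.1, x.2.1], fun i j => ?_⟩, fun i => ?_⟩, rfl⟩
    · fin_cases i <;> fin_cases j <;> simp [a1, a1.symm, a3, a3.symm, a4, a4.symm]
    · fin_cases i
      · rfl
      · exact x.1.2.1
      · exact a2

theorem ip_poly (u v : G → ℂ) (c0 c1 c2 c3 c4 c5 c6 : ℂ) (h : ∀ g, u g * conj (v g) =
    c0 + c1 * permChar α g + c2 * ((permChar α g - 1) * permChar α g) +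
    c3 * ((permChar α g - 2) * ((permChar α g - 1) * permChar α g)) +
    c4 * ((permChar α g - 3) * ((permChar α g - 2) * ((permChar α g - 1) * permChar α g))) +
    c5 * twoC α g + c6 * (twoC α g * permChar α g)) : classInner u v = c0 + c1 + c2 + c3 + c4 + c5 + c6 := by
  have d1 := sum_descF (G := G) α h4 (k := 1) (by omega)
  have d2 := sum_descF (G := G) α h4 (k := 2) (by omega)
  have d3 := sum_descF (G := G) α h4 (k := 3) (by omega)
  have d4 := sum_descF (G := G) α h4 (k := 4) (by omega)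
  simp only [cast_descF, Nat.descFactorial_zero, Nat.cast_zero, sub_zero, Nat.cast_one, mul_one,
    Nat.cast_ofNat] at d1 d2 d3 d4
  have := card_ne_zero_complex G
  unfold classInner
  simp only [h, Finset.sum_add_distrib, ← Finset.mul_sum, sum_twoC α h4, sum_twoC_mul α h4]
  simp only [permChar, d1, d2, d3, d4, Finset.sum_const, Finset.card_univ, ← Nat.card_eq_fintype_card,
    nsmul_eq_mul]
  field_simp

theorem irr_trans4 : IsIrrCharacter G (fun g => permChar α g - 1) ∧
    IsIrrCharacter G (fun g => (permChar α g * (permChar α g - 3) + twoC α g) / 2) ∧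
    IsIrrCharacter G (fun g => ((permChar α g - 1) * (permChar α g - 2) - twoC α g) / 2) := by
  have hc : ∀ g : G, conj (permChar α g) = permChar α g := fun g => by simp [permChar]
  have ha : IsCharacter G (fun g => permChar α g - 1) := isChar_permChar.sub_constituent isIrr_one (by
    rw [ip_poly α h4 _ _ 0 1 0 0 0 0 0 fun g => by simp]; simp)
  have ha' := ha.irr_of_inner_eq_one (by
    rw [ip_poly α h4 _ _ 1 (-1) 1 0 0 0 0 fun g => by simp only [map_sub, hc, map_one]; ring]; simp)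
  have hS := (isChar_sym2 ha).sub_constituent isIrr_one (by
    rw [ip_poly α h4 _ _ 0 0 (1 / 2) 0 0 (1 / 2) 0 fun g => by
      simp only [map_one, permChar_sq]; ring]; norm_num)
  have hB := hS.sub_constituent ha' (by
    rw [ip_poly α h4 _ _ 1 (-1) (1 / 2) (1 / 2) 0 (-1 / 2) (1 / 2) fun g => by
      simp only [Pi.sub_apply, map_sub, hc, map_one, permChar_sq]; ring]; norm_num)
  have hL := isChar_alt2 ha
  replace hB : IsCharacter G (fun g => (permChar α g * (permChar α g - 3) + twoC α g) / 2) := by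
    convert hB using 2 with g
    simp only [Pi.sub_apply, permChar_sq]; ring
  replace hL : IsCharacter G (fun g => ((permChar α g - 1) * (permChar α g - 2) - twoC α g) / 2) := by
    convert hL using 2 with g
    simp only [permChar_sq]; ring
  have h1 : permChar α (1 : G) = Nat.card α := by simp [permChar]
  have h2 : twoC α (1 : G) = 0 := by simp [twoC]
  have hn : ∀ k : ℕ, k < 4 → (Nat.card α : ℂ) - k ≠ 0 := fun k hk e => by
    have : Nat.card α = k := by exact_mod_cast sub_eq_zero.1 e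
    omega
  obtain ⟨a, a1⟩ := hB.inner_nat hB
  obtain ⟨b, b1⟩ := hB.inner_nat hL
  obtain ⟨c, c1⟩ := hL.inner_nat hL
  have a2 : a ≠ 0 := fun e => by
    have := congrFun (CfsgH3.inner_self_eq_zero.1 (a1.trans (by simp [e]))) 1
    have h3 := mul_ne_zero (hn 0 (by omega)) (hn 3 (by omega))
    simp [h1, h2] at this h3; tauto
  have c2 : c ≠ 0 := fun e => by
    have := congrFun (CfsgH3.inner_self_eq_zero.1 (c1.trans (by simp [e]))) 1
    have h3 := mul_ne_zero (hn 1 (by omega)) (hn 2 (by omega))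
    simp [h1, h2] at this h3; tauto
  have h3 := ip_poly (G := G) α h4 ((fun g => (permChar α g * (permChar α g - 3) + twoC α g) / 2) +
      fun g => ((permChar α g - 1) * (permChar α g - 2) - twoC α g) / 2)
    ((fun g => (permChar α g * (permChar α g - 3) + twoC α g) / 2) +
      fun g => ((permChar α g - 1) * (permChar α g - 2) - twoC α g) / 2) 1 0 0 0 1 0 0 fun g => by
    simp only [Pi.add_apply, map_add, map_div₀, map_mul, map_sub, hc, map_one, map_natCast, map_ofNat]; ring
  rw [CfsgH3.inner_add_left, CfsgH3.inner_add_right, CfsgH3.inner_add_right, hL.inner_comm hB, a1, b1, c1] at h3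
  have h5 : a + b + (b + c) = 2 := by
    have : ((a + b + (b + c) : ℕ) : ℂ) = (2 : ℕ) := by push_cast; rw [h3]; norm_num
    exact_mod_cast this
  exact ⟨ha', hB.irr_of_inner_eq_one (by rw [a1, show a = 1 by omega]; simp),
    hL.irr_of_inner_eq_one (by rw [c1, show c = 1 by omega]; simp)⟩

end

theorem exists_zero_alt {n : ℕ} (hn : 6 ≤ n) (x : alternatingGroup (Fin n))
    (h : n - x.1.cycleType.sum = 1 ∨ (2 ∉ x.1.cycleType ∧ n - x.1.cycleType.sum ≤ 3)) :
    ∃ χ : IrrCharacter (alternatingGroup (Fin n)), χ.1 x = 0 ∧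
      ∃ ψ : IrrCharacter (Equiv.Perm (Fin n)), ∀ y : alternatingGroup (Fin n), ψ.1 y = χ.1 y := by
  have := alternatingGroup.isMultiplyPretransitive (Fin n)
  have : IsMultiplyPretransitive (alternatingGroup (Fin n)) (Fin n) 4 :=
    isMultiplyPretransitive_of_le (n := Nat.card (Fin n) - 2) (by simp; omega) (by simp)
  have := Equiv.Perm.isMultiplyPretransitive (Fin n) 4
  obtain ⟨a1, a2, a3⟩ := irr_trans4 (G := alternatingGroup (Fin n)) (Fin n) (by simp; omega)
  obtain ⟨b1, b2, b3⟩ := irr_trans4 (G := Equiv.Perm (Fin n)) (Fin n) (by simp; omega)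
  have hf : permChar (Fin n) x = (n - x.1.cycleType.sum : ℕ) := by
    have := Equiv.Perm.card_fixedPoints x.1
    rw [Fintype.card_fin, ← Nat.card_eq_fintype_card] at this
    rw [← this]; rfl
  rcases h with h | ⟨h, h'⟩
  · exact ⟨⟨_, a1⟩, by simp [hf, h], ⟨_, b1⟩, fun _ => rfl⟩
  have h2 : twoC (Fin n) x = 0 := by
    rw [twoC, Nat.card_eq_zero]
    refine Or.inl ⟨fun ⟨y, h1, h2⟩ => h ?_⟩
    have h3 : x.1 y ≠ y := h2
    have h4 := x.1.isCycle_cycleOf h3
    have h5 : x.1.cycleOf y ^ 2 = 1 := (h4.pow_eq_one_iff' (x := y) (by simpa using h3)).2 (by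
      rw [Equiv.Perm.cycleOf_pow_apply_self]; exact h1)
    have : Fact (Nat.Prime 2) := ⟨Nat.prime_two⟩
    rw [← orderOf_eq_prime h5 h4.ne_one, h4.orderOf, Equiv.Perm.cycleType_def]
    exact Multiset.mem_map.2 ⟨_, Equiv.Perm.cycleOf_mem_cycleFactorsFinset_iff.2
      (Equiv.Perm.mem_support.2 h3), rfl⟩
  obtain h3 | h3 | h3 | h3 : n - x.1.cycleType.sum = 0 ∨ n - x.1.cycleType.sum = 1 ∨
    n - x.1.cycleType.sum = 2 ∨ n - x.1.cycleType.sum = 3 := by omega
  · exact ⟨⟨_, a2⟩, by simp [hf, h3, h2], ⟨_, b2⟩, fun _ => rfl⟩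
  · exact ⟨⟨_, a1⟩, by simp [hf, h3], ⟨_, b1⟩, fun _ => rfl⟩
  · exact ⟨⟨_, a3⟩, by simp [hf, h3, h2], ⟨_, b3⟩, fun _ => rfl⟩
  · exact ⟨⟨_, a2⟩, by simp [hf, h3, h2], ⟨_, b2⟩, fun _ => rfl⟩

theorem exists_alt_cycleType {n : ℕ} (m : Multiset ℕ) (h1 : m.sum ≤ n) (h2 : ∀ a ∈ m, 2 ≤ a)
    (h3 : Even (m.sum + m.card)) : ∃ x : alternatingGroup (Fin n), x.1.cycleType = m := by
  obtain ⟨g, hg⟩ := (Equiv.Perm.exists_with_cycleType_iff (Fin n) (m := m)).2 ⟨by simpa using h1, h2⟩
  exact ⟨⟨g, by rw [Equiv.Perm.mem_alternatingGroup, Equiv.Perm.sign_of_cycleType, hg, h3.neg_one_pow]⟩, hg⟩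

theorem exists_two_elt {n : ℕ} (hn : 7 ≤ n) : ∃ x : alternatingGroup (Fin n), (∃ j, orderOf x = 2 ^ j) ∧
    (n - x.1.cycleType.sum = 1 ∨ (2 ∉ x.1.cycleType ∧ n - x.1.cycleType.sum ≤ 3)) := by
  have key : ∀ x : alternatingGroup (Fin n), (∀ a ∈ x.1.cycleType, a ∣ 2 ^ 3) → ∃ j, orderOf x = 2 ^ j :=
    fun x h => by
      obtain ⟨j, -, hj⟩ := (Nat.dvd_prime_pow Nat.prime_two).1 (Multiset.lcm_dvd.2 h)
      exact ⟨j, by rw [← hj, Equiv.Perm.lcm_cycleType, Subgroup.orderOf_coe]⟩
  rcases hn.eq_or_lt with rfl | hn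
  · obtain ⟨x, hx⟩ := exists_alt_cycleType (n := 7) {4, 2} (by decide) (by decide) (by decide)
    exact ⟨x, key x (by rw [hx]; decide), Or.inl (by rw [hx]; decide)⟩
  rcases Nat.even_or_odd' (n / 4) with ⟨k, hk | hk⟩
  · obtain ⟨x, hx⟩ := exists_alt_cycleType (n := n) (Multiset.replicate (2 * k) 4) (by simp; omega)
      (fun a ha => by rw [Multiset.eq_of_mem_replicate ha]; omega) (by simp [parity_simps])
    exact ⟨x, key x fun a ha => by rw [hx] at ha; rw [Multiset.eq_of_mem_replicate ha]; decide,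
      Or.inr ⟨by rw [hx, Multiset.mem_replicate]; omega, by rw [hx]; simp; omega⟩⟩
  · obtain ⟨l, rfl⟩ : ∃ l, k = l + 1 := ⟨k - 1, by omega⟩
    obtain ⟨x, hx⟩ := exists_alt_cycleType (n := n) (8 ::ₘ Multiset.replicate (2 * l + 1) 4)
      (by simp only [Multiset.sum_cons, Multiset.sum_replicate, smul_eq_mul]; omega)
      (fun a ha => by
        rw [Multiset.mem_cons, Multiset.mem_replicate] at ha; omega) (by
        simp only [Multiset.sum_cons, Multiset.sum_replicate, smul_eq_mul, Multiset.card_cons,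
          Multiset.card_replicate, Nat.even_iff]; omega)
    refine ⟨x, key x fun a ha => ?_, Or.inr ⟨by rw [hx, Multiset.mem_cons, Multiset.mem_replicate]; omega, by
      simp only [hx, Multiset.sum_cons, Multiset.sum_replicate, smul_eq_mul]; omega⟩⟩
    rw [hx, Multiset.mem_cons, Multiset.mem_replicate] at ha
    rcases ha with rfl | ⟨-, rfl⟩ <;> decide

theorem exists_three_elt {n : ℕ} (hn : 7 ≤ n) : ∃ x : alternatingGroup (Fin n), orderOf x = 3 ∧
    (n - x.1.cycleType.sum = 1 ∨ (2 ∉ x.1.cycleType ∧ n - x.1.cycleType.sum ≤ 3)) := by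
  obtain ⟨x, hx⟩ := exists_alt_cycleType (n := n) (Multiset.replicate (n / 3) 3) (by simp; omega)
    (fun a ha => by rw [Multiset.eq_of_mem_replicate ha]; omega) (by simp [Nat.even_iff]; omega)
  refine ⟨x, ?_, Or.inr ⟨by rw [hx, Multiset.mem_replicate]; omega, by rw [hx]; simp; omega⟩⟩
  rw [← Subgroup.orderOf_coe, ← Equiv.Perm.lcm_cycleType, hx]
  exact Nat.dvd_antisymm (Multiset.lcm_dvd.2 fun a ha => by rw [Multiset.eq_of_mem_replicate ha])
    (Multiset.dvd_lcm (Multiset.mem_replicate.2 ⟨by omega, rfl⟩))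

end CfsgH4
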