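import Mathlib
import Cfsg.Agent.H4.Vanish
import Cfsg.Agent.H3.Galois
import Cfsg.Agent.S0985

/-! `(3,3,3)` structure constants for groups with an abelian TI Sylow 3-subgroup of exponent 3. -/

set_option autoImplicit false
set_option linter.unusedSectionVars false
open Subgroup Cfsg CfsgH3
open scoped ComplexConjugate Pointwise

namespace CfsgH4

section tri
variable {G : Type*} [Group G]

theorem tri_comm {x y : G} (hx : x ^ 3 = 1) (hy : y ^ 3 = 1) (hxy : (x * y) ^ 3 = 1) :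
    Commute (x * y⁻¹) (y⁻¹ * x) := by
  have h1 : y⁻¹ * y⁻¹ = y := by
    rw [← mul_one (y⁻¹ * y⁻¹), ← hy]; simp [pow_succ, mul_assoc]
  have h2 : x * x = x⁻¹ := by
    rw [eq_inv_iff_mul_eq_one, ← hx]; simp [pow_succ]
  have h3 : x * y * x = y⁻¹ * x⁻¹ * y⁻¹ := by
    have : x * y * x * (y * x * y) = 1 := by rw [← hxy]; simp [pow_succ, mul_assoc]
    rw [eq_inv_of_mul_eq_one_left this]; simp [mul_assoc]
  show x * y⁻¹ * (y⁻¹ * x) = y⁻¹ * x * (x * y⁻¹)
  calc x * y⁻¹ * (y⁻¹ * x) = x * (y⁻¹ * y⁻¹) * x := by simp only [mul_assoc]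
    _ = y⁻¹ * (x * x) * y⁻¹ := by rw [h1, h2, h3]
    _ = _ := by simp only [mul_assoc]

theorem tri_conj {x y : G} (hx : x ^ 3 = 1) (hy : y ^ 3 = 1) (hxy : (x * y) ^ 3 = 1) (n : ℕ) :
    IsConj x ((((x * y⁻¹) ^ 3) ^ n)⁻¹ * x) := by
  have h1 := tri_comm hx hy hxy
  set a := x * y⁻¹ with ha
  have h2 : x * x = x⁻¹ := by
    rw [eq_inv_iff_mul_eq_one, ← hx]; simp [pow_succ]
  have e1 : y⁻¹ * x = x⁻¹ * a * x := by rw [ha]; group
  set b := x * a * x⁻¹ with hb
  have hab : Commute a b := by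
    have := (h1.map (MulAut.conj x)).symm
    simp only [MulAut.conj_apply] at this
    rw [e1] at this
    convert this using 1; group
  have h3 : x⁻¹ * x⁻¹ = x := by rw [← mul_inv_rev, h2, inv_inv]
  have h4 : x * y * (x * y) = y⁻¹ * x⁻¹ := by
    rw [← mul_inv_rev, eq_inv_iff_mul_eq_one, ← hxy]; simp [pow_succ]
  have e2 : x * b * x⁻¹ = b⁻¹ * a⁻¹ := by
    calc x * b * x⁻¹ = (x * x) * x * y⁻¹ * (x⁻¹ * x⁻¹) := by rw [hb, ha]; group
      _ = y⁻¹ * (x * x) * x⁻¹ := by rw [h3]; nth_rw 1 [h2]; group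
      _ = x * y * (x⁻¹ * x⁻¹) * y * x⁻¹ := by rw [h2, h3, ← h4]; group
      _ = _ := by rw [hb, ha]; group
  have e3 : (a * a * b)⁻¹ * x * (a * a * b) = (a ^ 3)⁻¹ * x := by
    calc (a * a * b)⁻¹ * x * (a * a * b) = b⁻¹ * a⁻¹ * a⁻¹ * (x * a * x⁻¹) * (x * a * x⁻¹) * (x * b * x⁻¹) * x := by group
      _ = b⁻¹ * (a⁻¹ * (a⁻¹ * b)) * a⁻¹ * x := by rw [← hb, e2]; group
      _ = _ := by
        rw [hab.inv_left.eq, ← mul_assoc a⁻¹, hab.inv_left.eq]; group
  have hc : Commute (a * a * b) (a ^ 3) := (((Commute.refl a).mul_left (Commute.refl a)).mul_left hab.symm).pow_right 3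
  induction n with
  | zero => simpa only [pow_zero, inv_one, one_mul] using IsConj.refl x
  | succ n ih =>
    refine ih.trans (isConj_iff.2 ⟨(a * a * b)⁻¹, ?_⟩)
    generalize a * a * b = c at e3 hc ⊢
    rw [inv_inv, ← mul_assoc c⁻¹, (hc.pow_right n).inv_inv.eq, mul_assoc, mul_assoc, ← mul_assoc _ x, e3, pow_succ' (a ^ 3)]
    rw [mul_inv_rev, mul_assoc]

/-- abelian Sylow 3-subgroup of exponent 3 whose normaliser contains the centralisers -/
structure L3 (T : Subgroup G) : Prop where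
  syl : ∀ g : G, g ^ 3 = 1 → ∃ h, h * g * h⁻¹ ∈ T
  mem : ∀ g ∈ normalizer (T : Set G), g ^ 3 = 1 → g ∈ T
  exp : ∀ t ∈ T, t ^ 3 = 1
  cent : ∀ t ∈ T, t ≠ 1 → ∀ g, Commute g t → g ∈ normalizer (T : Set G)
  comm : ∀ s ∈ T, ∀ t ∈ T, Commute s t

theorem conj_cube {x : G} (h : G) (hx : x ^ 3 = 1) : (h * x * h⁻¹) ^ 3 = 1 := by
  rw [conj_pow, hx]; simp

theorem commute_conj {x y : G} (h : G) (c : Commute x y) : Commute (h * x * h⁻¹) (h * y * h⁻¹) := by
  simpa only [MulAut.conj_apply] using c.map (MulAut.conj h)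

variable [Finite G] {T : Subgroup G}

theorem L3.of_sylow (P : Sylow 3 G) (he : ∀ t ∈ (P : Subgroup G), t ^ 3 = 1)
    (hc : ∀ s ∈ (P : Subgroup G), ∀ t ∈ (P : Subgroup G), Commute s t)
    (h : ∀ t ∈ (P : Subgroup G), t ≠ 1 → centralizer ({t} : Set G) ≤ normalizer ((P : Subgroup G) : Set G)) :
    L3 (P : Subgroup G) := by
  have hp : ∀ g : G, g ^ 3 = 1 → IsPGroup 3 (zpowers g) := fun g hg => by
    rintro ⟨_, k, rfl⟩
    exact ⟨1, Subtype.ext (by
      show (g ^ k) ^ (3 ^ 1) = 1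
      rw [pow_one, ← zpow_natCast, ← zpow_mul, mul_comm, zpow_mul, zpow_natCast, hg, one_zpow])⟩
  refine ⟨fun g hg => ?_, fun g hg h3 => ?_, he, fun t ht h1 g c => h t ht h1 (mem_centralizer_singleton_iff.2 c), hc⟩
  · obtain ⟨Q, hQ⟩ := (hp g hg).exists_le_sylow
    obtain ⟨k, rfl⟩ := MulAction.exists_smul_eq G Q P
    exact ⟨k, Subgroup.smul_mem_pointwise_smul _ (MulAut.conj k) _ (hQ (mem_zpowers g))⟩
  · have := (hp g h3).inf_normalizer_sylow P
    exact (this.le ⟨mem_zpowers g, hg⟩).2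

namespace L3
variable (h : L3 T)
include h

theorem ti {t g : G} (ht : t ∈ T) (h1 : t ≠ 1) (hg : g * t * g⁻¹ ∈ T) : g ∈ normalizer (T : Set G) :=
  mem_normalizer_fintype fun u hu => h.mem _ (h.cent _ hg (by simpa using h1) _
    (commute_conj g (h.comm u hu t ht))) (conj_cube g (h.exp u hu))

theorem tri {x y : G} (hx : x ^ 3 = 1) (hy : y ^ 3 = 1) (hxy : (x * y) ^ 3 = 1) (hn : ¬ IsConj x y) :
    Commute x y := by
  by_cases c : 3 ∣ orderOf (x * y⁻¹)
  swap
  · obtain ⟨n, hn'⟩ := exists_pow_eq_self_of_coprime ((Nat.Prime.coprime_iff_not_dvd Nat.prime_three).2 c)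
    have := tri_conj hx hy hxy n
    rw [hn'] at this
    exact (hn (by simpa using this)).elim
  obtain ⟨k, hk⟩ := c
  have h1 := tri_comm hx hy hxy
  set a := x * y⁻¹ with ha
  have hpos := orderOf_pos a
  have s3 : (a ^ k) ^ 3 = 1 := by rw [← pow_mul, mul_comm, ← hk, pow_orderOf_eq_one]
  have s1 : a ^ k ≠ 1 := pow_ne_one_of_lt_orderOf (by omega) (by omega)
  obtain ⟨g, hg⟩ := h.syl _ s3
  have s1' : g * a ^ k * g⁻¹ ≠ 1 := by simpa using s1
  have e1 : (y⁻¹ * x) ^ k = x⁻¹ * a ^ k * x⁻¹⁻¹ := by rw [← conj_pow, ha]; congr 1; group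
  have m1 : g * (y⁻¹ * x) ^ k * g⁻¹ ∈ T := h.mem _ (h.cent _ hg s1' _ (commute_conj g (h1.symm.pow_pow k k)))
    (conj_cube g (by rw [e1]; exact conj_cube _ s3))
  have m2 : g * x * g⁻¹ ∈ normalizer (T : Set G) := by
    rw [← inv_mem_iff]
    refine h.ti hg s1' ?_
    convert m1 using 1; rw [e1]; group
  have m3 : g * a * g⁻¹ ∈ normalizer (T : Set G) := h.cent _ hg s1' _ (commute_conj g (Commute.self_pow a k))
  have m4 : g * y * g⁻¹ ∈ normalizer (T : Set G) := by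
    convert mul_mem (inv_mem m3) m2 using 1; rw [ha]; group
  have := commute_conj g⁻¹ (h.comm _ (h.mem _ m2 (conj_cube g hx)) _ (h.mem _ m4 (conj_cube g hy)))
  simpa [mul_assoc] using this

theorem index_mod (P : Sylow 3 G) (hP : (P : Subgroup G) = T) :
    (normalizer (T : Set G)).index ≡ 1 [MOD Nat.card T] := by
  subst hP
  obtain ⟨k, hk⟩ := P.isPGroup'.exists_card_eq
  rw [show (normalizer ((P : Subgroup G) : Set G)).index = Nat.card (Sylow 3 G) from P.card_eq_index_normalizer.symm, hk]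
  by_contra c
  obtain ⟨Q, R, hne, hi⟩ := Cfsg.Agent.S0985.result 3 k c
  have k0 : k ≠ 0 := by rintro rfl; exact c (by simp [Nat.modEq_one])
  have hQ : Nat.card Q = 3 ^ k := by rw [← hk]; exact Nat.card_congr (Sylow.equiv Q P).toEquiv
  have : (R : Subgroup G).subgroupOf Q ≠ ⊥ := fun e => by
    rw [e, index_bot, hQ] at hi
    exact absurd hi (not_le.2 (Nat.pow_lt_pow_right (by norm_num) (by omega)))
  obtain ⟨⟨t, htQ⟩, htR, ht1⟩ := (Subgroup.bot_or_exists_ne_one _).resolve_left this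
  have t1 : t ≠ 1 := fun e => ht1 (Subtype.ext e)
  obtain ⟨g, hg⟩ := MulAction.exists_smul_eq G Q P
  obtain ⟨k, hk⟩ := MulAction.exists_smul_eq G R P
  have m1 : g * t * g⁻¹ ∈ (P : Subgroup G) := hg ▸ Subgroup.smul_mem_pointwise_smul _ (MulAut.conj g) _ htQ
  have m2 : k * t * k⁻¹ ∈ (P : Subgroup G) := hk ▸ Subgroup.smul_mem_pointwise_smul _ (MulAut.conj k) _ htR
  have m3 := h.ti (g := k * g⁻¹) m1 (by simpa using t1) (by convert m2 using 1; group)
  have m4 := Sylow.smul_eq_iff_mem_normalizer.2 m3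
  apply hne
  rw [← smul_left_cancel_iff k, hk, ← m4, ← hg, smul_smul]; simp

end L3
end tri

section cnt
variable {G : Type*} [Group G] [Fintype G]

open Classical in
theorem cubic (x y w : G) :
    (Nat.card G : ℂ) * ∑ χ : IrrCharacter G, (χ : G → ℂ) x * (χ : G → ℂ) y * (χ : G → ℂ) w / (χ : G → ℂ) 1 =
      Nat.card (centralizer ({x} : Set G)) * Nat.card (centralizer ({y} : Set G)) *
        (Finset.univ.filter fun u => IsConj x u ∧ IsConj y (u⁻¹ * w⁻¹)).card := by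
  have hG := card_ne_zero_complex G
  have e1 : ∑ g, ∑ h, (if g * x * g⁻¹ * (h * y * h⁻¹ * w) = 1 then (Nat.card G : ℂ) else 0) =
      Nat.card G * (Nat.card G * ∑ χ : IrrCharacter G,
        (χ : G → ℂ) x * (χ : G → ℂ) y * (χ : G → ℂ) w / (χ : G → ℂ) 1) := by
    simp only [← sum_irr_deg_mul']
    rw [Finset.sum_comm]
    simp only [Finset.sum_comm (s := (Finset.univ : Finset G)) (t := (Finset.univ : Finset (IrrCharacter G)))]
    rw [Finset.mul_sum, Finset.mul_sum]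
    refine Finset.sum_congr rfl fun χ _ => ?_
    have h0 := χ.2.one_ne_zero
    have := sum_conj_mul χ.2 w y
    rw [Finset.sum_congr rfl fun h _ => (Finset.mul_sum _ _ _).symm.trans (sum_conj_mul χ.2 (h * y * h⁻¹ * w) x),
      ← Finset.mul_sum, ← Finset.sum_mul, ← mul_right_inj' h0]
    field_simp
    linear_combination ((χ : G → ℂ) x) * this
  rw [← mul_right_inj' hG, ← e1]
  have e2 : ∀ u : G, ∑ h, (if u * (h * y * h⁻¹ * w) = 1 then (Nat.card G : ℂ) else 0) =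
      Nat.card (centralizer ({y} : Set G)) * if IsConj y (u⁻¹ * w⁻¹) then (Nat.card G : ℂ) else 0 := fun u => by
    rw [sum_conj_eq y fun v => if u * (v * w) = 1 then (Nat.card G : ℂ) else 0]
    congr 1
    rw [Finset.sum_eq_single (u⁻¹ * w⁻¹) (fun v _ hv => ?_) (by simp)]
    · simp
    · rw [if_neg (c := u * (v * w) = 1), ite_self]
      intro e; apply hv; rw [← mul_assoc, mul_eq_one_iff_eq_inv] at e; rw [← e]; group
  simp only [e2]
  rw [sum_conj_eq x fun u => Nat.card (centralizer ({y} : Set G)) * if IsConj y (u⁻¹ * w⁻¹) then (Nat.card G : ℂ) else 0,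
    Finset.card_filter]
  push_cast
  simp only [Finset.mul_sum]
  refine Finset.sum_congr rfl fun u _ => ?_
  by_cases c1 : IsConj x u <;> by_cases c2 : IsConj y (u⁻¹ * w⁻¹) <;> simp only [c1, c2, if_true, if_false, and_self, and_false, false_and] <;> ring

/-- integer value of a character -/
noncomputable def zv (χ : IrrCharacter G) (g : G) : ℤ := ⌊((χ : G → ℂ) g).re⌋

theorem zv_spec (χ : IrrCharacter G) {g : G} (h3 : g ^ 3 = 1) (hc : IsConj g g⁻¹) : (zv χ g : ℂ) = (χ : G → ℂ) g := by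
  obtain ⟨n, hn⟩ := χ.2.isChar.isGen.exists_int_of_pow (g := g) fun k hk => by
    rw [pow_eq_pow_mod k h3]
    have : k % 3 = 0 ∨ k % 3 = 1 ∨ k % 3 = 2 := by omega
    rcases this with e | e | e <;> rw [e]
    · rcases (Nat.dvd_prime Nat.prime_three).1 (orderOf_dvd_of_pow_eq_one h3) with c | c
      · rw [orderOf_eq_one_iff.1 c, one_pow]
      · rw [c] at hk
        have := Nat.Coprime.eq_one_of_dvd hk.symm (Nat.dvd_of_mod_eq_zero e); omega
    · rw [pow_one]
    · rw [χ.2.classFun.of_isConj hc, show g ^ 2 = g⁻¹ by rw [eq_inv_iff_mul_eq_one, ← h3]; simp [pow_succ]]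
  rw [zv, hn]; simp

theorem zv_one (χ : IrrCharacter G) : zv χ 1 = deg χ := by rw [zv, deg_spec]; simp

theorem deg_sq_le (χ : IrrCharacter G) : deg χ ^ 2 ≤ Nat.card G :=
  sum_deg_sq (G := G) ▸ Finset.single_le_sum (f := fun χ : IrrCharacter G => deg χ ^ 2) (fun _ _ => Nat.zero_le _)
    (Finset.mem_univ χ)

theorem card_le_of_eq (χ : IrrCharacter G) {p : ℤ} {M : ℕ} (h : (Nat.card G : ℚ) * (p / deg χ) = -M) (hM : 0 < M) :
    Nat.card G ≤ M ^ 2 := by
  have hd := deg_pos χ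
  have h1 : (Nat.card G : ℤ) * p = -M * deg χ := by
    have : (deg χ : ℚ) ≠ 0 := by positivity
    have h2 : (Nat.card G : ℚ) * p = -M * deg χ := by rw [← h]; field_simp
    exact_mod_cast h2
  have h2 : p ≤ -1 := by
    by_contra c
    have : 0 ≤ (Nat.card G : ℤ) * p := mul_nonneg (by positivity) (by omega)
    have : (0 : ℤ) < M * deg χ := by positivity
    linarith
  have h3 : (Nat.card G : ℤ) ≤ M * deg χ := by nlinarith [Nat.card_pos (α := G)]
  have h4 : ((deg χ : ℤ)) ^ 2 ≤ Nat.card G := by exact_mod_cast deg_sq_le χ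
  have h5 : (deg χ : ℤ) ≤ M := by
    have : (0 : ℤ) < deg χ := by exact_mod_cast hd
    nlinarith
  have : (Nat.card G : ℤ) ≤ M ^ 2 := by nlinarith
  exact_mod_cast this

theorem single_of_sum {ι : Type*} [Fintype ι] {f : ι → ℤ} (h0 : ∀ i, 0 ≤ f i) (h1 : ∑ i, f i = 1) :
    ∃ i, f i = 1 ∧ ∀ j, j ≠ i → f j = 0 := by
  classical
  obtain ⟨i, -, hi⟩ := Finset.exists_ne_zero_of_sum_ne_zero (h1 ▸ one_ne_zero : ∑ i, f i ≠ 0)
  rw [← Finset.add_sum_erase _ _ (Finset.mem_univ i)] at h1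
  have h2 : 0 ≤ ∑ j ∈ Finset.univ.erase i, f j := Finset.sum_nonneg fun j _ => h0 j
  have h3 := h0 i
  refine ⟨i, by omega, fun j hj => ?_⟩
  exact (Finset.sum_eq_zero_iff_of_nonneg (s := Finset.univ.erase i) fun j _ => h0 j).1 (by omega) j (by simpa using hj)

end cnt

/-- coordinates on `T` together with class representatives -/
structure Md {G : Type*} [Group G] (T : Subgroup G) {V : Type} [AddCommGroup V] (ι : V → G) (r : V → V) : Prop
    extends L3 T where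
  add : ∀ s t, ι (s + t) = ι s * ι t
  inj : Function.Injective ι
  range : ∀ g, g ∈ T ↔ ∃ s, ι s = g
  fus : ∀ s t, IsConj (ι s) (ι t) ↔ r s = r t

namespace Md
variable {G : Type*} [Group G] [Fintype G] {T : Subgroup G} {V : Type} [AddCommGroup V] [Fintype V] [DecidableEq V]
  {ι : V → G} {r : V → V} (h : Md T ι r)
include h

theorem zero : ι 0 = 1 := by simpa using h.add 0 0

theorem neg (s : V) : ι (-s) = (ι s)⁻¹ := by rw [eq_inv_iff_mul_eq_one, ← h.add]; simpa using h.zero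

theorem memT (s : V) : ι s ∈ T := (h.range _).2 ⟨s, rfl⟩

theorem ne_one {s : V} (hs : s ≠ 0) : ι s ≠ 1 := fun e => hs (h.inj (e.trans h.zero.symm))

theorem cube (s : V) : ι s ^ 3 = 1 := h.exp _ (h.memT s)

theorem spec (χ : IrrCharacter G) {s : V} (hs : r s = r (-s)) : (zv χ (ι s) : ℂ) = (χ : G → ℂ) (ι s) :=
  zv_spec χ (h.cube s) (h.neg s ▸ (h.fus _ _).2 hs)

theorem card_cent {s : V} (hs : s ≠ 0) {n : ℕ} (hn : (Finset.univ.filter fun t => r s = r t).card = n) :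
    Nat.card (centralizer ({ι s} : Set G)) * n = Nat.card (normalizer (T : Set G)) := by
  classical
  have e := sum_conj_eq (ι s) fun v => if v ∈ T then 1 else 0
  rw [Finset.sum_congr rfl (g := fun g => if g ∈ normalizer (T : Set G) then (1 : ℂ) else 0) fun g _ =>
    if_congr ⟨h.toL3.ti (h.memT s) (h.ne_one hs), fun hg => (mem_normalizer_iff.1 hg _).1 (h.memT s)⟩ rfl rfl] at e
  simp only [← ite_and, Finset.sum_boole] at e
  rw [Nat.card_eq_fintype_card (α := normalizer _), Fintype.card_subtype, ← hn]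
  have e2 : (Finset.univ.filter fun t => r s = r t).card = (Finset.univ.filter fun v => IsConj (ι s) v ∧ v ∈ T).card := by
    refine Finset.card_bij (fun t _ => ι t) (fun t ht => ?_) (fun a _ b _ e => h.inj e) fun v hv => ?_
    · simp only [Finset.mem_filter, Finset.mem_univ, true_and] at ht ⊢
      exact ⟨(h.fus _ _).2 ht, h.memT t⟩
    · simp only [Finset.mem_filter, Finset.mem_univ, true_and] at hv
      obtain ⟨t, rfl⟩ := (h.range _).1 hv.2
      exact ⟨t, by simpa using (h.fus _ _).1 hv.1, rfl⟩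
  rw [e2]
  exact_mod_cast e.symm

theorem gram {s t : V} (hs : r s = r (-s)) (ht : r t = r (-t)) :
    ∑ χ : IrrCharacter G, zv χ (ι s) * zv χ (ι t) =
      if r s = r t then (Nat.card (centralizer ({ι s} : Set G)) : ℤ) else 0 := by
  have e : ((∑ χ : IrrCharacter G, zv χ (ι s) * zv χ (ι t) : ℤ) : ℂ) =
      ∑ χ : IrrCharacter G, (χ : G → ℂ) (ι s) * conj ((χ : G → ℂ) (ι t)) := by
    push_cast
    exact Finset.sum_congr rfl fun χ _ => by rw [← h.spec χ hs, ← h.spec χ ht]; simp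
  split_ifs with c
  · rw [sum_irr_mul_conj_of_isConj ((h.fus _ _).2 c)] at e; exact_mod_cast e
  · rw [sum_irr_mul_conj_of_not_isConj (fun k => c ((h.fus _ _).1 k))] at e; exact_mod_cast e

theorem gram_deg {s : V} (h0 : s ≠ 0) (hs : r s = r (-s)) :
    ∑ χ : IrrCharacter G, (deg χ : ℤ) * zv χ (ι s) = 0 := by
  have e := sum_irr_deg_mul (h.ne_one h0)
  simp only [← h.spec _ hs, deg_spec] at e
  exact_mod_cast e

theorem cub {s t w : V} (hs : r s = r (-s)) (ht : r t = r (-t)) (hw : r w = r (-w)) (hw0 : w ≠ 0)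
    (hst : r s ≠ r t) {n : ℕ} (hn : (Finset.univ.filter fun u => r s = r u ∧ r t = r (-u - w)).card = n) :
    (Nat.card G : ℚ) * ∑ χ : IrrCharacter G, (zv χ (ι s) * zv χ (ι t) * zv χ (ι w) : ℚ) / deg χ =
      Nat.card (centralizer ({ι s} : Set G)) * Nat.card (centralizer ({ι t} : Set G)) * n := by
  classical
  have e := cubic (ι s) (ι t) (ι w)
  have e2 : (Finset.univ.filter fun u => r s = r u ∧ r t = r (-u - w)).card =
      (Finset.univ.filter fun u => IsConj (ι s) u ∧ IsConj (ι t) (u⁻¹ * (ι w)⁻¹)).card := by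
    have k : ∀ u, (ι u)⁻¹ * (ι w)⁻¹ = ι (-u - w) := fun u => by rw [sub_eq_add_neg, h.add, h.neg, h.neg]
    refine Finset.card_bij (fun t _ => ι t) (fun t ht => ?_) (fun a _ b _ e => h.inj e) fun v hv => ?_
    · simp only [Finset.mem_filter, Finset.mem_univ, true_and] at ht ⊢
      rwa [k, h.fus, h.fus]
    · simp only [Finset.mem_filter, Finset.mem_univ, true_and] at hv
      have c3 : ∀ {a : V} {v : G}, IsConj (ι a) v → v ^ 3 = 1 := fun {a v} hv => by
        obtain ⟨c, rfl⟩ := isConj_iff.1 hv; exact conj_cube c (h.cube a)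
      have c := h.toL3.tri (c3 hv.1) (c3 hv.2) (by simp [h.cube]) fun c => hst
        ((h.fus _ _).1 (hv.1.trans (c.trans hv.2.symm)))
      have c' : Commute v (ι w) := by
        have := ((Commute.refl v).mul_right c).inv_right
        simpa using this
      obtain ⟨u, rfl⟩ := (h.range _).1 (h.mem _ (h.cent _ (h.memT w) (h.ne_one hw0) _ c') (c3 hv.1))
      refine ⟨u, ?_, rfl⟩
      simp only [Finset.mem_filter, Finset.mem_univ, true_and]
      rwa [k, h.fus, h.fus] at hv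
  rw [← e2, hn] at e
  simp only [← h.spec _ hs, ← h.spec _ ht, ← h.spec _ hw, deg_spec] at e
  exact_mod_cast e

theorem three (χ : IrrCharacter G) {s : V} (hs : r s = r (-s)) : (3 : ℤ) ∣ zv χ (ι s) - deg χ := by
  let φ : Multiplicative (ZMod 3) →* G := MonoidHom.mk' (fun p => ι s ^ p.toAdd.val) fun a b => by
    rw [toAdd_mul, ZMod.val_add, ← pow_eq_pow_mod _ (h.cube s), pow_add]
  obtain ⟨n, hn⟩ := (χ.2.isChar.comp φ).inner_nat isChar_one
  rw [inner_one_right, ← Multiplicative.ofAdd.sum_comp] at hn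
  have e : ∑ i : ZMod 3, (χ : G → ℂ) (φ (Multiplicative.ofAdd i)) =
      (χ : G → ℂ) (ι s ^ 0) + (χ : G → ℂ) (ι s ^ 1) + (χ : G → ℂ) (ι s ^ 2) := Fin.sum_univ_three _
  have e2 : ι s ^ 2 = ι (-s) := by rw [h.neg, eq_inv_iff_mul_eq_one, ← h.cube s]; simp [pow_succ]
  rw [e, e2, ← χ.2.classFun.of_isConj ((h.fus _ _).2 hs), pow_zero, pow_one, deg_spec, ← h.spec χ hs] at hn
  have e3 : ((deg χ + zv χ (ι s) + zv χ (ι s) : ℤ) : ℂ) = 3 * n := by
    rw [← hn]; simp
  have e4 : deg χ + zv χ (ι s) + zv χ (ι s) = 3 * n := by exact_mod_cast e3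
  omega

theorem nine (χ : IrrCharacter G) (hr : ∀ s, r (r s) = r s) (s t : V) : ∃ n : ℕ,
    (deg χ : ℂ) + (χ : G → ℂ) (ι (r s)) + (χ : G → ℂ) (ι (r (s + s))) + (χ : G → ℂ) (ι (r t)) + (χ : G → ℂ) (ι (r (s + t))) +
      (χ : G → ℂ) (ι (r (s + s + t))) + (χ : G → ℂ) (ι (r (t + t))) + (χ : G → ℂ) (ι (r (s + t + t))) +
      (χ : G → ℂ) (ι (r (s + s + t + t))) = 9 * n := by
  have c := h.comm _ (h.memT s) _ (h.memT t)
  let φ : Multiplicative (ZMod 3 × ZMod 3) →* G :=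
    MonoidHom.mk' (fun p => ι s ^ p.toAdd.1.val * ι t ^ p.toAdd.2.val) fun a b => by
      rw [toAdd_mul, Prod.fst_add, Prod.snd_add, ZMod.val_add, ZMod.val_add, ← pow_eq_pow_mod _ (h.cube s),
        ← pow_eq_pow_mod _ (h.cube t), pow_add, pow_add]
      exact ((c.pow_pow _ _).mul_mul_mul_comm _ _)
  obtain ⟨n, hn⟩ := (χ.2.isChar.comp φ).inner_nat isChar_one
  rw [inner_one_right, ← Multiplicative.ofAdd.sum_comp, Fintype.sum_prod_type] at hn
  have e : ∀ f : ℕ → ℂ, ∑ i : ZMod 3, f i.val = f 0 + f 1 + f 2 := fun f => Fin.sum_univ_three _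
  have e1 : ∑ i : ZMod 3, ∑ j : ZMod 3, (χ : G → ℂ) (φ (Multiplicative.ofAdd (i, j))) =
      ∑ i : ZMod 3, ∑ j : ZMod 3, (χ : G → ℂ) (ι s ^ i.val * ι t ^ j.val) := rfl
  rw [e1, e fun i => ∑ j : ZMod 3, (χ : G → ℂ) (ι s ^ i * ι t ^ j.val), e fun j => (χ : G → ℂ) (ι s ^ 0 * ι t ^ j),
    e fun j => (χ : G → ℂ) (ι s ^ 1 * ι t ^ j), e fun j => (χ : G → ℂ) (ι s ^ 2 * ι t ^ j)] at hn
  have e2 : ∀ v, (χ : G → ℂ) (ι (r v)) = (χ : G → ℂ) (ι v) := fun v => χ.2.classFun.of_isConj ((h.fus _ _).2 (hr v))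
  refine ⟨n, ?_⟩
  simp only [e2, h.add, ← deg_spec]
  simp only [pow_zero, pow_one, pow_two, one_mul, mul_one, ← mul_assoc] at hn
  rw [← hn]; simp; ring

end Md
end CfsgH4
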