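import Cfsg.Agent.H4.Tri

/-! Numerical cores for the `(3,3,3)` method. -/

set_option autoImplicit false
set_option linter.unusedSectionVars false
open Subgroup Cfsg CfsgH3

namespace CfsgH4

theorem four_le_sq {y z : ℤ} (h : y * z < 0) : 4 ≤ (y - z) ^ 2 := by
  have h1 : y ≠ 0 := by rintro rfl; simp at h
  have h2 : z ≠ 0 := by rintro rfl; simp at h
  have := Int.one_le_abs h1
  have := Int.one_le_abs h2
  nlinarith [sq_abs y, sq_abs z]

theorem nonneg_of_sum_lt {ι : Type*} [Fintype ι] {y z : ι → ℤ} (h : ∑ i, (y i - z i) ^ 2 < 4) (i : ι) : 0 ≤ y i * z i := by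
  by_contra c
  have := Finset.single_le_sum (f := fun i => (y i - z i) ^ 2) (fun _ _ => sq_nonneg _) (Finset.mem_univ i)
  have := four_le_sq (not_le.1 c)
  linarith

theorem nonneg_of_sum_le {ι : Type*} [Fintype ι] {y z : ι → ℤ} {d : ι → ℕ} (hd : ∀ i, 0 < d i)
    (h : ∑ i, (y i - z i) ^ 2 ≤ 4) (h0 : ∑ i, (y i * z i * (y i - z i) : ℚ) / d i = 0) (i : ι) : 0 ≤ y i * z i := by
  classical
  by_contra c
  have h4 := four_le_sq (not_le.1 c)
  rw [← Finset.add_sum_erase _ _ (Finset.mem_univ i)] at h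
  have h2 : 0 ≤ ∑ j ∈ Finset.univ.erase i, (y j - z j) ^ 2 := Finset.sum_nonneg fun j _ => sq_nonneg _
  have h3 := (Finset.sum_eq_zero_iff_of_nonneg (s := Finset.univ.erase i) fun j _ => sq_nonneg (y j - z j)).1 (by omega)
  rw [Finset.sum_eq_single i (fun j _ hj => ?_) (by simp)] at h0
  · have hi : (d i : ℚ) ≠ 0 := by have := hd i; positivity
    have h5 : y i * z i * (y i - z i) = 0 := by exact_mod_cast (div_eq_zero_iff.1 h0).resolve_right hi
    rcases mul_eq_zero.1 h5 with e | e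
    · omega
    · rw [e] at h4; omega
  · have : y j - z j = 0 := pow_eq_zero_iff two_ne_zero |>.1 (h3 j (by simpa using hj))
    have : (y j - z j : ℚ) = 0 := by exact_mod_cast this
    rw [this]; simp

variable {G : Type*} [Group G] [Fintype G] {T : Subgroup G}

theorem card_le_of_single {y z p : IrrCharacter G → ℤ} (h0 : ∀ i, 0 ≤ y i * z i) (h1 : ∑ i, y i * z i = 1) {M : ℕ}
    (hM : 0 < M) (h : (Nat.card G : ℚ) * ∑ i, (y i * z i * p i : ℚ) / deg i = -M) : Nat.card G ≤ M ^ 2 := by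
  obtain ⟨i, hi, hj⟩ := single_of_sum h0 h1
  rw [Finset.sum_eq_single i (fun j _ c => ?_) (by simp)] at h
  · refine card_le_of_eq i (p := p i) ?_ hM
    rw [← h, show (y i * z i : ℚ) = 1 by exact_mod_cast hi, one_mul]
  · rw [show (y j * z j : ℚ) = 0 by exact_mod_cast hj j c]; simp

abbrev V2 := ZMod 3 × ZMod 3
abbrev V3 := ZMod 3 × ZMod 3 × ZMod 3

def r1 (p : V2) : V2 := (p.1 ^ 2, p.2 ^ 2)
def r2 (p : V2) : V2 := if p.1 = 0 then (0, p.2 ^ 2) else (1, p.1 * p.2)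
def r4 (p : V2) : V2 := if p.1 * p.2 = 0 then (if p = 0 then 0 else (1, 0)) else (1, 1)
def r3 (p : V3) : V3 := if p.1 * p.2.1 * p.2.2 = 2 then (2, 2, 2) else (p.1 ^ 2, p.2.1 ^ 2, p.2.2 ^ 2)

theorem core1 {ι : V2 → G} (h : Md T ι r1) (hN : Nat.card (normalizer (T : Set G)) = 36) : Nat.card G ≤ 18 ^ 2 := by
  have k1 := h.card_cent (s := (1, 0)) (by decide) (n := 2) (by decide)
  have k2 := h.card_cent (s := (0, 1)) (by decide) (n := 2) (by decide)
  have k3 := h.card_cent (s := (1, 1)) (by decide) (n := 4) (by decide)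
  have g11 := h.gram (s := (1, 0)) (t := (1, 0)) (by decide) (by decide)
  have g22 := h.gram (s := (0, 1)) (t := (0, 1)) (by decide) (by decide)
  have g33 := h.gram (s := (1, 1)) (t := (1, 1)) (by decide) (by decide)
  have g12 := h.gram (s := (1, 0)) (t := (0, 1)) (by decide) (by decide)
  have g13 := h.gram (s := (1, 0)) (t := (1, 1)) (by decide) (by decide)
  have g23 := h.gram (s := (0, 1)) (t := (1, 1)) (by decide) (by decide)
  have c1 := h.cub (s := (1, 0)) (t := (0, 1)) (w := (1, 0)) (by decide) (by decide) (by decide) (by decide) (by decide) (n := 0) (by decide)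
  have c2 := h.cub (s := (1, 0)) (t := (0, 1)) (w := (0, 1)) (by decide) (by decide) (by decide) (by decide) (by decide) (n := 0) (by decide)
  have c3 := h.cub (s := (1, 0)) (t := (0, 1)) (w := (1, 1)) (by decide) (by decide) (by decide) (by decide) (by decide) (n := 1) (by decide)
  have c4 := h.cub (s := (1, 0)) (t := (1, 1)) (w := (1, 0)) (by decide) (by decide) (by decide) (by decide) (by decide) (n := 0) (by decide)
  have c5 := h.cub (s := (1, 0)) (t := (1, 1)) (w := (1, 1)) (by decide) (by decide) (by decide) (by decide) (by decide) (n := 1) (by decide)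
  have c6 := h.cub (s := (0, 1)) (t := (1, 1)) (w := (0, 1)) (by decide) (by decide) (by decide) (by decide) (by decide) (n := 0) (by decide)
  have c7 := h.cub (s := (0, 1)) (t := (1, 1)) (w := (1, 1)) (by decide) (by decide) (by decide) (by decide) (by decide) (n := 1) (by decide)
  rw [if_pos rfl] at g11 g22 g33
  rw [if_neg (by decide)] at g12 g13 g23
  rw [show Nat.card (centralizer ({ι (1, 0)} : Set G)) = 18 by omega] at *
  rw [show Nat.card (centralizer ({ι (0, 1)} : Set G)) = 18 by omega] at *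
  rw [show Nat.card (centralizer ({ι (1, 1)} : Set G)) = 9 by omega] at *
  have t1 := fun χ => h.three χ (s := (1, 0)) (by decide)
  have t2 := fun χ => h.three χ (s := (0, 1)) (by decide)
  have t3 := fun χ => h.three χ (s := (1, 1)) (by decide)
  choose y hy using fun χ => (⟨(zv χ (ι (1, 0)) - zv χ (ι (1, 1))) / 3, by have := t1 χ; have := t3 χ; omega⟩ :
    ∃ y, zv χ (ι (1, 0)) = zv χ (ι (1, 1)) + 3 * y)
  choose z hz using fun χ => (⟨(zv χ (ι (0, 1)) - zv χ (ι (1, 1))) / 3, by have := t2 χ; have := t3 χ; omega⟩ :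
    ∃ y, zv χ (ι (0, 1)) = zv χ (ι (1, 1)) + 3 * y)
  have e1 : 9 * ∑ χ, y χ * z χ = 0 - 0 - 0 + (9 : ℕ) := by
    nth_rw 1 [← g12]; nth_rw 1 [← g13]; nth_rw 1 [← g23]; rw [← g33]
    simp only [Finset.mul_sum, ← Finset.sum_sub_distrib, ← Finset.sum_add_distrib]
    exact Finset.sum_congr rfl fun χ _ => by rw [hy, hz]; ring
  have e2 : 9 * ∑ χ, (y χ - z χ) ^ 2 = (18 : ℕ) + (18 : ℕ) - 2 * 0 := by
    nth_rw 1 [← g11]; rw [← g22, ← g12]
    simp only [Finset.mul_sum, ← Finset.sum_sub_distrib, ← Finset.sum_add_distrib]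
    exact Finset.sum_congr rfl fun χ _ => by rw [hy, hz]; ring
  have hG : (Nat.card G : ℚ) ≠ 0 := by have := Nat.card_pos (α := G); positivity
  simp only [hy, hz, Finset.mul_sum] at c1 c2 c3 c4 c5 c6 c7
  have e3 : 9 * ((Nat.card G : ℚ) * ∑ χ, (y χ * z χ * zv χ (ι (1, 0)) : ℚ) / deg χ) =
      (18 : ℕ) * (18 : ℕ) * (0 : ℕ) - (18 : ℕ) * (9 : ℕ) * (0 : ℕ) - (18 : ℕ) * (18 : ℕ) * (1 : ℕ) + (18 : ℕ) * (9 : ℕ) * (1 : ℕ) := by
    rw [← c1, ← c4, ← c3, ← c5]
    simp only [Finset.mul_sum, ← Finset.sum_sub_distrib, ← Finset.sum_add_distrib]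
    exact Finset.sum_congr rfl fun χ _ => by rw [hy]; push_cast; ring
  have e4 : 9 * ((Nat.card G : ℚ) * ∑ χ, (y χ * z χ * zv χ (ι (0, 1)) : ℚ) / deg χ) =
      (18 : ℕ) * (18 : ℕ) * (0 : ℕ) - (18 : ℕ) * (9 : ℕ) * (0 : ℕ) - (18 : ℕ) * (18 : ℕ) * (1 : ℕ) + (18 : ℕ) * (9 : ℕ) * (1 : ℕ) := by
    rw [← c2, ← c6, ← c3, ← c7]
    simp only [Finset.mul_sum, ← Finset.sum_sub_distrib, ← Finset.sum_add_distrib]
    exact Finset.sum_congr rfl fun χ _ => by rw [hz]; push_cast; ring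
  refine card_le_of_single (y := y) (z := z) (p := fun χ => zv χ (ι (1, 0)))
    (nonneg_of_sum_le deg_pos (by omega) ?_) (by omega) (by norm_num) (by push_cast at e3 ⊢; linarith)
  have e5 : 3 * ∑ χ, (y χ * z χ * (y χ - z χ) : ℚ) / deg χ = ∑ χ, (y χ * z χ * zv χ (ι (1, 0)) : ℚ) / deg χ -
      ∑ χ, (y χ * z χ * zv χ (ι (0, 1)) : ℚ) / deg χ := by
    simp only [Finset.mul_sum, ← Finset.sum_sub_distrib]
    exact Finset.sum_congr rfl fun χ _ => by rw [hy, hz]; push_cast; ring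
  have := mul_left_cancel₀ hG (mul_left_cancel₀ (by norm_num) (e3.trans e4.symm))
  linarith

theorem core2 {ι : V2 → G} (h : Md T ι r2) (hN : Nat.card (normalizer (T : Set G)) = 18) : Nat.card G ≤ 9 ^ 2 := by
  have k1 := h.card_cent (s := (1, 0)) (by decide) (n := 2) (by decide)
  have k2 := h.card_cent (s := (0, 1)) (by decide) (n := 2) (by decide)
  have k3 := h.card_cent (s := (1, 1)) (by decide) (n := 2) (by decide)
  have k4 := h.card_cent (s := (1, 2)) (by decide) (n := 2) (by decide)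
  have g11 := h.gram (s := (1, 0)) (t := (1, 0)) (by decide) (by decide)
  have g22 := h.gram (s := (0, 1)) (t := (0, 1)) (by decide) (by decide)
  have g33 := h.gram (s := (1, 1)) (t := (1, 1)) (by decide) (by decide)
  have g12 := h.gram (s := (1, 0)) (t := (0, 1)) (by decide) (by decide)
  have g13 := h.gram (s := (1, 0)) (t := (1, 1)) (by decide) (by decide)
  have g23 := h.gram (s := (0, 1)) (t := (1, 1)) (by decide) (by decide)
  have c1 := h.cub (s := (1, 0)) (t := (1, 2)) (w := (1, 0)) (by decide) (by decide) (by decide) (by decide) (by decide) (n := 0) (by decide)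
  have c2 := h.cub (s := (1, 0)) (t := (1, 2)) (w := (1, 1)) (by decide) (by decide) (by decide) (by decide) (by decide) (n := 1) (by decide)
  have c3 := h.cub (s := (0, 1)) (t := (1, 2)) (w := (1, 0)) (by decide) (by decide) (by decide) (by decide) (by decide) (n := 1) (by decide)
  have c4 := h.cub (s := (0, 1)) (t := (1, 2)) (w := (1, 1)) (by decide) (by decide) (by decide) (by decide) (by decide) (n := 1) (by decide)
  rw [if_pos rfl] at g11 g22 g33
  rw [if_neg (by decide)] at g12 g13 g23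
  rw [show Nat.card (centralizer ({ι (1, 0)} : Set G)) = 9 by omega] at *
  rw [show Nat.card (centralizer ({ι (0, 1)} : Set G)) = 9 by omega] at *
  rw [show Nat.card (centralizer ({ι (1, 1)} : Set G)) = 9 by omega] at *
  rw [show Nat.card (centralizer ({ι (1, 2)} : Set G)) = 9 by omega] at *
  have t1 := fun χ => h.three χ (s := (1, 0)) (by decide)
  have t2 := fun χ => h.three χ (s := (0, 1)) (by decide)
  have t3 := fun χ => h.three χ (s := (1, 1)) (by decide)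
  choose y hy using fun χ => (⟨(zv χ (ι (0, 1)) - zv χ (ι (1, 0))) / 3, by have := t1 χ; have := t2 χ; omega⟩ :
    ∃ y, zv χ (ι (0, 1)) = zv χ (ι (1, 0)) + 3 * y)
  choose z hz using fun χ => (⟨(zv χ (ι (1, 1)) - zv χ (ι (1, 0))) / 3, by have := t1 χ; have := t3 χ; omega⟩ :
    ∃ y, zv χ (ι (1, 1)) = zv χ (ι (1, 0)) + 3 * y)
  have e1 : 9 * ∑ χ, y χ * z χ = 0 - 0 - 0 + (9 : ℕ) := by
    nth_rw 1 [← g23]; nth_rw 1 [← g13]; nth_rw 1 [← g12]; rw [← g11]
    simp only [Finset.mul_sum, ← Finset.sum_sub_distrib, ← Finset.sum_add_distrib]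
    exact Finset.sum_congr rfl fun χ _ => by rw [hy, hz]; ring
  have e2 : 9 * ∑ χ, (y χ - z χ) ^ 2 = (9 : ℕ) + (9 : ℕ) - 2 * 0 := by
    nth_rw 1 [← g22]; rw [← g33, ← g23]
    simp only [Finset.mul_sum, ← Finset.sum_sub_distrib, ← Finset.sum_add_distrib]
    exact Finset.sum_congr rfl fun χ _ => by rw [hy, hz]; ring
  simp only [hy, hz, Finset.mul_sum] at c1 c2 c3 c4
  have e3 : 9 * ((Nat.card G : ℚ) * ∑ χ, (y χ * z χ * zv χ (ι (1, 2)) : ℚ) / deg χ) =
      (9 : ℕ) * (9 : ℕ) * (0 : ℕ) - (9 : ℕ) * (9 : ℕ) * (1 : ℕ) - (9 : ℕ) * (9 : ℕ) * (1 : ℕ) + (9 : ℕ) * (9 : ℕ) * (1 : ℕ) := by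
    nth_rw 1 [← c1]; nth_rw 1 [← c2]; nth_rw 1 [← c3]; rw [← c4]
    simp only [Finset.mul_sum, ← Finset.sum_sub_distrib, ← Finset.sum_add_distrib]
    exact Finset.sum_congr rfl fun χ _ => by push_cast; ring
  exact card_le_of_single (y := y) (z := z) (p := fun χ => zv χ (ι (1, 2)))
    (nonneg_of_sum_lt (by omega)) (by omega) (by norm_num) (by push_cast at e3 ⊢; linarith)

theorem ineq4 {u v : ℤ} {d n : ℕ} (hd : 0 < d) (hu : u * u ≤ 9) (hv : v * v ≤ 9) (h1 : (3 : ℤ) ∣ u - d) (h2 : (3 : ℤ) ∣ v - d)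
    (h3 : d + 4 * u + 4 * v = 9 * n) :
    (0 : ℚ) ≤ (u * v * u + u * v * v) / d + (8 * (u - v) ^ 2 + 5 * (2 * u ^ 2 + 5 * u * v + 2 * v ^ 2)) / 180 := by
  have hd' : (0 : ℚ) < d := by exact_mod_cast hd
  have e : (0 : ℤ) ≤ (u * v * u + u * v * v) * 180 + d * (8 * (u - v) ^ 2 + 5 * (2 * u ^ 2 + 5 * u * v + 2 * v ^ 2)) := by
    have a1 : -3 ≤ u := by nlinarith
    have a2 : u ≤ 3 := by nlinarith
    have a3 : -3 ≤ v := by nlinarith
    have a4 : v ≤ 3 := by nlinarith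
    interval_cases u <;> interval_cases v <;> omega
  rw [div_add_div _ _ hd'.ne' (by norm_num)]
  exact div_nonneg (by exact_mod_cast e) (by positivity)

theorem core4 {ι : V2 → G} (h : Md T ι r4) (hN : Nat.card (normalizer (T : Set G)) = 36) : Nat.card G ≤ 720 := by
  have k1 := h.card_cent (s := (1, 0)) (by decide) (n := 4) (by decide)
  have k2 := h.card_cent (s := (1, 1)) (by decide) (n := 4) (by decide)
  have g11 := h.gram (s := (1, 0)) (t := (1, 0)) (by decide) (by decide)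
  have g22 := h.gram (s := (1, 1)) (t := (1, 1)) (by decide) (by decide)
  have g12 := h.gram (s := (1, 0)) (t := (1, 1)) (by decide) (by decide)
  have c1 := h.cub (s := (1, 0)) (t := (1, 1)) (w := (1, 0)) (by decide) (by decide) (by decide) (by decide) (by decide) (n := 2) (by decide)
  have c2 := h.cub (s := (1, 0)) (t := (1, 1)) (w := (1, 1)) (by decide) (by decide) (by decide) (by decide) (by decide) (n := 2) (by decide)
  rw [if_pos rfl] at g11 g22
  rw [if_neg (by decide)] at g12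
  rw [show Nat.card (centralizer ({ι (1, 0)} : Set G)) = 9 by omega] at *
  rw [show Nat.card (centralizer ({ι (1, 1)} : Set G)) = 9 by omega] at *
  have t1 := fun χ => h.three χ (s := (1, 0)) (by decide)
  have t2 := fun χ => h.three χ (s := (1, 1)) (by decide)
  have s1 := fun χ => h.spec χ (s := (1, 0)) (by decide)
  have s2 := fun χ => h.spec χ (s := (1, 1)) (by decide)
  have t3 : ∀ χ : IrrCharacter G, ∃ n : ℕ, deg χ + 4 * zv χ (ι (1, 0)) + 4 * zv χ (ι (1, 1)) = 9 * n := fun χ => by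
    obtain ⟨n, hn⟩ := h.nine χ (by decide) (1, 0) (0, 1)
    change _ + (χ : G → ℂ) (ι (1, 0)) + (χ : G → ℂ) (ι (1, 0)) + (χ : G → ℂ) (ι (1, 0)) + (χ : G → ℂ) (ι (1, 1)) +
      (χ : G → ℂ) (ι (1, 1)) + (χ : G → ℂ) (ι (1, 0)) + (χ : G → ℂ) (ι (1, 1)) + (χ : G → ℂ) (ι (1, 1)) = _ at hn
    rw [← s1, ← s2] at hn
    refine ⟨n, ?_⟩
    have : ((deg χ + 4 * zv χ (ι (1, 0)) + 4 * zv χ (ι (1, 1)) : ℤ) : ℂ) = (9 * n : ℤ) := by
      push_cast; linear_combination hn
    exact_mod_cast this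
  set u := fun χ : IrrCharacter G => zv χ (ι (1, 0)) with hu
  set v := fun χ : IrrCharacter G => zv χ (ι (1, 1)) with hv
  let F : IrrCharacter G → ℚ := fun χ => (u χ * v χ * u χ + u χ * v χ * v χ) / deg χ +
    (8 * (u χ - v χ) ^ 2 + 5 * (2 * u χ ^ 2 + 5 * u χ * v χ + 2 * v χ ^ 2)) / 180
  have b1 := fun χ => Finset.single_le_sum (f := fun χ => u χ * u χ) (fun _ _ => mul_self_nonneg _) (Finset.mem_univ χ)
  have b2 := fun χ => Finset.single_le_sum (f := fun χ => v χ * v χ) (fun _ _ => mul_self_nonneg _) (Finset.mem_univ χ)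
  have e0 := Finset.single_le_sum (f := F) (fun χ _ => by
    obtain ⟨n, hn⟩ := t3 χ
    exact ineq4 (deg_pos χ) ((b1 χ).trans g11.le) ((b2 χ).trans g22.le) (t1 χ) (t2 χ) hn)
    (Finset.mem_univ (⟨fun _ => 1, isIrr_one⟩ : IrrCharacter G))
  have e1 : F ⟨fun _ => 1, isIrr_one⟩ = 9 / 4 := by
    have : deg (⟨fun _ => 1, isIrr_one⟩ : IrrCharacter G) = 1 := by
      have : (1 : ℂ) = _ := deg_spec (⟨fun _ => 1, isIrr_one⟩ : IrrCharacter G)
      exact_mod_cast this.symm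
    simp only [F, hu, hv, zv, this]; norm_num
  have q11 : ∑ χ, (u χ * u χ : ℚ) = 9 := by exact_mod_cast g11
  have q22 : ∑ χ, (v χ * v χ : ℚ) = 9 := by exact_mod_cast g22
  have q12 : ∑ χ, (u χ * v χ : ℚ) = 0 := by exact_mod_cast g12
  have e2 : ∑ χ, F χ = ∑ χ, (u χ * v χ * u χ : ℚ) / deg χ + ∑ χ, (u χ * v χ * v χ : ℚ) / deg χ +
      (∑ χ, (u χ * u χ : ℚ)) / 10 + (∑ χ, (v χ * v χ : ℚ)) / 10 + (∑ χ, (u χ * v χ : ℚ)) / 20 := by
    simp only [Finset.sum_div, ← Finset.sum_add_distrib]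
    exact Finset.sum_congr rfl fun χ _ => by simp only [F]; ring
  rw [q11, q22, q12] at e2
  have hG : (0 : ℚ) < Nat.card G := by have := Nat.card_pos (α := G); positivity
  have : (Nat.card G : ℚ) ≤ 720 := by
    push_cast at c1 c2
    have := mul_le_mul_of_nonneg_left (e1 ▸ e0) hG.le
    rw [e2] at this
    nlinarith
  exact_mod_cast this

theorem core3 {ι : V3 → G} (h : Md T ι r3) (hN : Nat.card (normalizer (T : Set G)) = 108) : Nat.card G ≤ 54 ^ 2 := by
  have k1 := h.card_cent (s := (1, 0, 0)) (by decide) (n := 2) (by decide)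
  have k2 := h.card_cent (s := (0, 1, 0)) (by decide) (n := 2) (by decide)
  have k3 := h.card_cent (s := (0, 0, 1)) (by decide) (n := 2) (by decide)
  have k4 := h.card_cent (s := (1, 1, 0)) (by decide) (n := 4) (by decide)
  have k5 := h.card_cent (s := (1, 0, 1)) (by decide) (n := 4) (by decide)
  have k6 := h.card_cent (s := (0, 1, 1)) (by decide) (n := 4) (by decide)
  have k1' : Nat.card (centralizer ({ι (1, 0, 0)} : Set G)) = 54 := by omega
  have k2' : Nat.card (centralizer ({ι (0, 1, 0)} : Set G)) = 54 := by omega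
  have k3' : Nat.card (centralizer ({ι (0, 0, 1)} : Set G)) = 54 := by omega
  have k4' : Nat.card (centralizer ({ι (1, 1, 0)} : Set G)) = 27 := by omega
  have k5' : Nat.card (centralizer ({ι (1, 0, 1)} : Set G)) = 27 := by omega
  have k6' : Nat.card (centralizer ({ι (0, 1, 1)} : Set G)) = 27 := by omega
  have sp := fun χ (s : V3) (hs : r3 s = r3 (-s)) => h.spec χ hs
  have n9 : ∀ χ : IrrCharacter G, ∃ y z : ℤ,
      zv χ (ι (1, 0, 1)) = zv χ (ι (1, 1, 0)) + zv χ (ι (0, 0, 1)) - zv χ (ι (0, 1, 0)) - 9 * y ∧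
      zv χ (ι (0, 1, 1)) = zv χ (ι (1, 1, 0)) + zv χ (ι (0, 0, 1)) - zv χ (ι (1, 0, 0)) - 9 * z := fun χ => by
    obtain ⟨n1, h1⟩ := h.nine χ (by decide) (1, 2, 0) (0, 0, 1)
    obtain ⟨n2, h2⟩ := h.nine χ (by decide) (1, 0, 2) (0, 1, 0)
    obtain ⟨n3, h3⟩ := h.nine χ (by decide) (0, 1, 2) (1, 0, 0)
    change _ + (χ : G → ℂ) (ι (1, 1, 0)) + (χ : G → ℂ) (ι (1, 1, 0)) + (χ : G → ℂ) (ι (0, 0, 1)) + (χ : G → ℂ) (ι (2, 2, 2)) +
      (χ : G → ℂ) (ι (2, 2, 2)) + (χ : G → ℂ) (ι (0, 0, 1)) + (χ : G → ℂ) (ι (1, 1, 1)) + (χ : G → ℂ) (ι (1, 1, 1)) = _ at h1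
    change _ + (χ : G → ℂ) (ι (1, 0, 1)) + (χ : G → ℂ) (ι (1, 0, 1)) + (χ : G → ℂ) (ι (0, 1, 0)) + (χ : G → ℂ) (ι (2, 2, 2)) +
      (χ : G → ℂ) (ι (2, 2, 2)) + (χ : G → ℂ) (ι (0, 1, 0)) + (χ : G → ℂ) (ι (1, 1, 1)) + (χ : G → ℂ) (ι (1, 1, 1)) = _ at h2
    change _ + (χ : G → ℂ) (ι (0, 1, 1)) + (χ : G → ℂ) (ι (0, 1, 1)) + (χ : G → ℂ) (ι (1, 0, 0)) + (χ : G → ℂ) (ι (2, 2, 2)) +
      (χ : G → ℂ) (ι (2, 2, 2)) + (χ : G → ℂ) (ι (1, 0, 0)) + (χ : G → ℂ) (ι (1, 1, 1)) + (χ : G → ℂ) (ι (1, 1, 1)) = _ at h3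
    rw [← sp χ (1, 1, 0) (by decide), ← sp χ (0, 0, 1) (by decide)] at h1
    rw [← sp χ (1, 0, 1) (by decide), ← sp χ (0, 1, 0) (by decide)] at h2
    rw [← sp χ (0, 1, 1) (by decide), ← sp χ (1, 0, 0) (by decide)] at h3
    have a1 : ((2 * (zv χ (ι (1, 1, 0)) + zv χ (ι (0, 0, 1)) - zv χ (ι (0, 1, 0)) - zv χ (ι (1, 0, 1))) : ℤ) : ℂ) =
      (9 * (n1 - n2) : ℤ) := by push_cast; linear_combination h1 - h2
    have a2 : ((2 * (zv χ (ι (1, 1, 0)) + zv χ (ι (0, 0, 1)) - zv χ (ι (1, 0, 0)) - zv χ (ι (0, 1, 1))) : ℤ) : ℂ) =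
      (9 * (n1 - n3) : ℤ) := by push_cast; linear_combination h1 - h3
    have a3 := Int.cast_injective a1
    have a4 := Int.cast_injective a2
    exact ⟨(n1 - n2) / 2, (n1 - n3) / 2, by omega, by omega⟩
  choose y z hy hz using n9
  have g : ∀ s t : V3, r3 s = r3 (-s) → r3 t = r3 (-t) → r3 s ≠ r3 t → ∑ χ : IrrCharacter G, zv χ (ι s) * zv χ (ι t) = 0 :=
    fun s t hs ht c => by rw [h.gram hs ht, if_neg c]
  have g' : ∀ s : V3, r3 s = r3 (-s) → ∑ χ : IrrCharacter G, zv χ (ι s) * zv χ (ι s) =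
      Nat.card (centralizer ({ι s} : Set G)) := fun s hs => by rw [h.gram hs hs, if_pos rfl]
  have e1 : 81 * ∑ χ, y χ * z χ = 81 := by
    have : 81 * ∑ χ, y χ * z χ = ∑ χ : IrrCharacter G,
        (zv χ (ι (1, 1, 0)) + zv χ (ι (0, 0, 1)) - zv χ (ι (0, 1, 0)) - zv χ (ι (1, 0, 1))) *
        (zv χ (ι (1, 1, 0)) + zv χ (ι (0, 0, 1)) - zv χ (ι (1, 0, 0)) - zv χ (ι (0, 1, 1))) := by
      rw [Finset.mul_sum]; exact Finset.sum_congr rfl fun χ _ => by rw [hy, hz]; ring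
    rw [this]
    simp (disch := decide) only [mul_add, add_mul, mul_sub, sub_mul, Finset.sum_add_distrib, Finset.sum_sub_distrib, g', g,
      k3', k4']
    norm_num
  have e2 : 81 * ∑ χ, (y χ - z χ) ^ 2 = 162 := by
    have : 81 * ∑ χ, (y χ - z χ) ^ 2 = ∑ χ : IrrCharacter G,
        (zv χ (ι (1, 0, 0)) + zv χ (ι (0, 1, 1)) - zv χ (ι (0, 1, 0)) - zv χ (ι (1, 0, 1))) *
        (zv χ (ι (1, 0, 0)) + zv χ (ι (0, 1, 1)) - zv χ (ι (0, 1, 0)) - zv χ (ι (1, 0, 1))) := by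
      rw [Finset.mul_sum]; exact Finset.sum_congr rfl fun χ _ => by rw [hy, hz]; ring
    rw [this]
    simp (disch := decide) only [mul_add, add_mul, mul_sub, sub_mul, Finset.sum_add_distrib, Finset.sum_sub_distrib, g', g,
      k1', k2', k5', k6']
    norm_num
  have c : ∀ s w : V3, r3 s = r3 (-s) → r3 w = r3 (-w) → w ≠ 0 → r3 s ≠ r3 (1, 0, 0) →
      ∑ χ : IrrCharacter G, (Nat.card G : ℚ) * ((zv χ (ι s) * zv χ (ι (1, 0, 0)) * zv χ (ι w) : ℚ) / deg χ) =
      Nat.card (centralizer ({ι s} : Set G)) * 54 *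
        (Finset.univ.filter fun u => r3 s = r3 u ∧ r3 (1, 0, 0) = r3 (-u - w)).card := fun s w h1 h2 h3 h4 => by
    rw [← Finset.mul_sum, h.cub h1 (by decide) h2 h3 h4 rfl, k1']; rfl
  have e3 : 81 * ((Nat.card G : ℚ) * ∑ χ, (y χ * z χ * zv χ (ι (1, 0, 0)) : ℚ) / deg χ) = -(54 * 81) := by
    have : 81 * ((Nat.card G : ℚ) * ∑ χ, (y χ * z χ * zv χ (ι (1, 0, 0)) : ℚ) / deg χ) = ∑ χ : IrrCharacter G,
        (Nat.card G : ℚ) * (((zv χ (ι (1, 1, 0)) + zv χ (ι (0, 0, 1)) - zv χ (ι (0, 1, 0)) - zv χ (ι (1, 0, 1))) *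
        zv χ (ι (1, 0, 0)) *
        (zv χ (ι (1, 1, 0)) + zv χ (ι (0, 0, 1)) - zv χ (ι (1, 0, 0)) - zv χ (ι (0, 1, 1))) : ℚ) / deg χ) := by
      rw [Finset.mul_sum, Finset.mul_sum]; exact Finset.sum_congr rfl fun χ _ => by rw [hy, hz]; push_cast; ring
    rw [this]
    simp (disch := decide) only [mul_add, add_mul, mul_sub, sub_mul, add_div, sub_div, Finset.sum_add_distrib,
      Finset.sum_sub_distrib, c, k2', k3', k4', k5']
    have f : ∀ s ∈ [((1, 1, 0) : V3), (0, 0, 1), (0, 1, 0), (1, 0, 1)], ∀ w ∈ [((1, 1, 0) : V3), (0, 0, 1), (1, 0, 0), (0, 1, 1)],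
      (Finset.univ.filter fun u => r3 s = r3 u ∧ r3 (1, 0, 0) = r3 (-u - w)).card =
        if s = (1, 0, 1) ∧ w = (0, 0, 1) then 2 else if (s = (1, 1, 0) ∨ s = (0, 1, 0)) ∧ w = (1, 1, 0) then 1 else 0 := by
      decide
    simp (disch := decide) only [f]
    simp (decide := true) only [if_true, if_false]
    norm_num
  exact card_le_of_single (y := y) (z := z) (p := fun χ => zv χ (ι (1, 0, 0)))
    (nonneg_of_sum_lt (by omega)) (by omega) (by norm_num) (by push_cast at e3 ⊢; linarith)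

end CfsgH4
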