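import Cfsg.Agent.H4.Tri2
import Cfsg.Agent.H8.BSW6

/-! Three-local characterisations by the `(3,3,3)` method. -/

set_option autoImplicit false
set_option linter.unusedSectionVars false
open Subgroup Cfsg CfsgH3

namespace CfsgH4

section
variable {G : Type*} [Group G]

def io2 (a b : G) (p : V2) : G := a ^ p.1.val * b ^ p.2.val

theorem io2_add {a b : G} (ha : a ^ 3 = 1) (hb : b ^ 3 = 1) (c : Commute a b) (s t : V2) :
    io2 a b (s + t) = io2 a b s * io2 a b t := by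
  rw [io2, io2, io2, Prod.fst_add, Prod.snd_add, ZMod.val_add, ZMod.val_add, ← pow_eq_pow_mod _ ha,
    ← pow_eq_pow_mod _ hb, pow_add, pow_add]
  exact ((c.pow_pow _ _).symm.mul_mul_mul_comm _ _).symm

theorem io2_10 (a b : G) : io2 a b (1, 0) = a := by
  show a ^ 1 * b ^ 0 = a; simp

theorem io2_01 (a b : G) : io2 a b (0, 1) = b := by
  show a ^ 0 * b ^ 1 = b; simp

theorem inj_of_ker {V : Type} [AddCommGroup V] {ι : V → G} (h : ∀ s t, ι (s + t) = ι s * ι t)
    (h0 : ∀ s, ι s = 1 → s = 0) : Function.Injective ι := fun s t e => by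
  have := h (s - t) t
  rw [sub_add_cancel, e, eq_comm, mul_eq_right] at this
  exact sub_eq_zero.1 (h0 _ this)

theorem io2_inj {a b : G} (ha : a ^ 3 = 1) (hb : b ^ 3 = 1) (c : Commute a b) (h1 : a ≠ 1) (h2 : b ∉ zpowers a) :
    Function.Injective (io2 a b) := inj_of_ker (io2_add ha hb c) fun ⟨i, j⟩ e => by
  have e1 : b ^ j.val ∈ zpowers a := by
    rw [eq_inv_of_mul_eq_one_right e]; exact inv_mem (pow_mem (mem_zpowers a) _)
  have hj : j = 0 := by
    by_contra c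
    have := pow_mem e1 j.val
    rw [← pow_mul, pow_eq_pow_mod _ hb, (by decide : ∀ j : ZMod 3, ¬ j = 0 → j.val * j.val % 3 = 1) j c, pow_one] at this
    exact h2 this
  subst hj
  have hi : i = 0 := by
    by_contra c
    have e2 : a ^ i.val = 1 := by simpa [io2] using e
    have := congrArg (· ^ i.val) e2
    simp only [← pow_mul, one_pow] at this
    rw [pow_eq_pow_mod _ ha, (by decide : ∀ j : ZMod 3, ¬ j = 0 → j.val * j.val % 3 = 1) i c, pow_one] at this
    exact h1 this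
  subst hi; rfl

theorem range_of_card [Finite G] {T : Subgroup G} {V : Type} [Fintype V] {ι : V → G} (hi : Function.Injective ι)
    (hm : ∀ s, ι s ∈ T) (hc : Nat.card T = Fintype.card V) (g : G) : g ∈ T ↔ ∃ s, ι s = g := by
  refine ⟨fun hg => ?_, by rintro ⟨s, rfl⟩; exact hm s⟩
  have hb : Function.Bijective fun s => (⟨ι s, hm s⟩ : T) :=
    (Nat.bijective_iff_injective_and_card _).2 ⟨fun a b e => hi (congrArg Subtype.val e), by simp [hc]⟩
  obtain ⟨s, hs⟩ := hb.2 ⟨g, hg⟩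
  exact ⟨s, congrArg Subtype.val hs⟩

theorem io_nsmul {V : Type} [AddCommGroup V] {ι : V → G} (h : ∀ s t, ι (s + t) = ι s * ι t) (s : V) (n : ℕ) :
    ι (n • s) = ι s ^ n := by
  induction n with
  | zero => simpa using h 0 0
  | succ n ih => rw [succ_nsmul, h, ih, pow_succ]

theorem io2_conj {a b g : G} (h : ∀ s t, io2 a b (s + t) = io2 a b s * io2 a b t) {u v : V2}
    (hu : g * a * g⁻¹ = io2 a b u) (hv : g * b * g⁻¹ = io2 a b v) (s : V2) :
    g * io2 a b s * g⁻¹ = io2 a b (s.1.val • u + s.2.val • v) := by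
  rw [h, io_nsmul h, io_nsmul h, ← hu, ← hv, conj_pow, conj_pow, io2]; group

variable [Fintype G] {T : Subgroup G} {V : Type} [AddCommGroup V] [Fintype V] [DecidableEq V] {ι : V → G} {r : V → V}

theorem Md.of_act (h : L3 T) (h1 : ∀ s t, ι (s + t) = ι s * ι t) (h2 : Function.Injective ι)
    (h3 : ∀ g, g ∈ T ↔ ∃ s, ι s = g) (hA : ∀ s, IsConj (ι s) (ι (r s)))
    (hB : ∀ g ∈ normalizer (T : Set G), ∀ s t, g * ι s * g⁻¹ = ι t → r s = r t) : Md T ι r := by
  refine ⟨h, h1, h2, h3, fun s t => ⟨fun c => ?_, fun e => (hA s).trans (e ▸ (hA t).symm)⟩⟩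
  obtain ⟨g, hg⟩ := isConj_iff.1 c
  by_cases c1 : ι s = 1
  · rw [h2 (c1.trans (by rw [← hg, c1]; simp) : ι s = ι t)]
  · exact hB g (h.ti ((h3 _).2 ⟨s, rfl⟩) c1 (hg ▸ (h3 _).2 ⟨t, rfl⟩)) s t hg

open Classical in
theorem card_class (h : L3 T) (h1 : ∀ s t, ι (s + t) = ι s * ι t) (h2 : Function.Injective ι)
    (h3 : ∀ g, g ∈ T ↔ ∃ s, ι s = g) {s : V} (hs : s ≠ 0) :
    Nat.card (centralizer ({ι s} : Set G)) * (Finset.univ.filter fun t => IsConj (ι s) (ι t)).card =
      Nat.card (normalizer (T : Set G)) := by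
  let r : V → V := fun s => Classical.epsilon fun t => IsConj (ι s) (ι t)
  have hr : ∀ s, IsConj (ι s) (ι (r s)) := fun s => Classical.epsilon_spec (p := fun t => IsConj (ι s) (ι t)) ⟨s, IsConj.refl _⟩
  have e : ∀ s t, IsConj (ι s) (ι t) ↔ r s = r t := fun s t => ⟨fun c => by
    have : (fun u => IsConj (ι s) (ι u)) = fun u => IsConj (ι t) (ι u) :=
      funext fun u => propext ⟨fun k => c.symm.trans k, fun k => c.trans k⟩
    simp only [r, this], fun e => (hr s).trans (e ▸ (hr t).symm)⟩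
  exact (⟨h, h1, h2, h3, e⟩ : Md T ι r).card_cent hs (by simp only [e])

theorem top_of_bound (h : L3 T) (P : Sylow 3 G) (hP : (P : Subgroup G) = T)
    (hb : Nat.card G < Nat.card (normalizer (T : Set G)) * (Nat.card T + 1)) : normalizer (T : Set G) = ⊤ := by
  have h1 := h.index_mod P hP
  have h2 := (normalizer (T : Set G)).card_mul_index
  rw [← h2, Nat.mul_lt_mul_left Nat.card_pos] at hb
  have h3 := (normalizer (T : Set G)).index_ne_zero_of_finite
  rw [← index_eq_one]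
  by_contra c
  have := Nat.le_of_dvd (by omega) ((Nat.modEq_iff_dvd' (by omega)).1 h1.symm)
  omega

end

section S3805
variable {G : Type*} [Group G] [Fintype G] {T : Subgroup G}

theorem four_core (h : L3 T) (hT : Nat.card T = 9) (hC : centralizer (T : Set G) = T)
    (hsq : ∀ g ∈ normalizer (T : Set G), g * g ∈ T) {σ g : G} (hσ : σ ∈ normalizer (T : Set G))
    (hg : g ∈ normalizer (T : Set G)) (h1 : σ ∉ T) (h2 : g ∉ T) (h3 : σ⁻¹ * g ∉ T)
    (h4 : ¬ ∀ t ∈ T, σ * t * σ⁻¹ = t⁻¹) : ∃ ι : V2 → G, Md T ι r1 := by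
  have nm : ∀ g ∈ normalizer (T : Set G), ∀ t ∈ T, g * t * g⁻¹ ∈ T := fun g hg t ht => (mem_normalizer_iff.1 hg t).1 ht
  have ce : ∀ g, (∀ t ∈ T, g * t * g⁻¹ = t) → g ∈ T := fun g hg => hC ▸ mem_centralizer_iff.2 fun t ht => by
    rw [← mul_inv_eq_iff_eq_mul.1 (hg t ht)]
  have sq : ∀ g ∈ normalizer (T : Set G), ∀ t ∈ T, g * (g * t * g⁻¹) * g⁻¹ = t := fun g hg t ht => by
    have := (h.comm _ (hsq g hg) _ ht).eq
    calc g * (g * t * g⁻¹) * g⁻¹ = g * g * t * (g * g)⁻¹ := by group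
      _ = t := by rw [this]; group
  have cm : ∀ g ∈ normalizer (T : Set G), ∀ t ∈ T, σ * (g * t * g⁻¹) * σ⁻¹ = g * (σ * t * σ⁻¹) * g⁻¹ := fun g hg t ht => by
    have e1 := sq _ (mul_mem hσ hg) _ (nm g hg _ (nm σ hσ _ ht))
    have e2 := sq g hg _ (nm σ hσ _ ht)
    have e3 := sq σ hσ _ ht
    rw [← e1]
    calc σ * (g * t * g⁻¹) * σ⁻¹ = σ * (g * (σ * (σ * t * σ⁻¹) * σ⁻¹) * g⁻¹) * σ⁻¹ := by rw [e3]
      _ = σ * (g * (σ * (g * (g * (σ * t * σ⁻¹) * g⁻¹) * g⁻¹) * σ⁻¹) * g⁻¹) * σ⁻¹ := by rw [e2]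
      _ = _ := by group
  obtain ⟨t, ht, ht1⟩ : ∃ t ∈ T, σ * t * σ⁻¹ ≠ t := by
    by_contra c; push Not at c; exact h1 (ce σ c)
  obtain ⟨u, hu, hu1⟩ : ∃ t ∈ T, σ * t * σ⁻¹ ≠ t⁻¹ := by
    by_contra c; push Not at c; exact h4 c
  set a := t * (σ * t * σ⁻¹)⁻¹ with ha
  set b := u * (σ * u * σ⁻¹) with hb
  have aT : a ∈ T := mul_mem ht (inv_mem (nm σ hσ t ht))
  have bT : b ∈ T := mul_mem hu (nm σ hσ u hu)
  have sa : σ * a * σ⁻¹ = a⁻¹ := by
    calc σ * a * σ⁻¹ = (σ * t * σ⁻¹) * (σ * (σ * t * σ⁻¹) * σ⁻¹)⁻¹ := by rw [ha]; group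
      _ = _ := by rw [sq σ hσ t ht, ha]; group
  have sb : σ * b * σ⁻¹ = b := by
    calc σ * b * σ⁻¹ = (σ * u * σ⁻¹) * (σ * (σ * u * σ⁻¹) * σ⁻¹) := by rw [hb]; group
      _ = _ := by rw [sq σ hσ u hu, (h.comm _ (nm σ hσ u hu) _ hu).eq]
  have a1 : a ≠ 1 := fun e => ht1 (mul_inv_eq_one.1 e).symm
  have b1 : b ∉ zpowers a := by
    rintro ⟨k, hk⟩
    have e : b = b⁻¹ := by
      nth_rw 1 [← sb]; rw [← hk]; simp only; rw [← conj_zpow, sa, inv_zpow]
    have e3 := h.exp b bT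
    rw [pow_succ, pow_two, eq_inv_iff_mul_eq_one.1 e, one_mul] at e3
    exact hu1 (eq_inv_of_mul_eq_one_right e3)
  have ad := io2_add (h.exp a aT) (h.exp b bT) (h.comm a aT b bT)
  have ij := io2_inj (h.exp a aT) (h.exp b bT) (h.comm a aT b bT) a1 b1
  have rg := range_of_card ij (fun s => mul_mem (pow_mem aT _) (pow_mem bT _)) (by rw [hT]; rfl)
  have ng : ∀ s, io2 a b (-s) = (io2 a b s)⁻¹ := fun s => by
    rw [eq_inv_iff_mul_eq_one, ← ad, neg_add_cancel]; simp [io2]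
  have z0 : io2 a b 0 = 1 := by simp [io2]
  have aσ : ∀ s, σ * io2 a b s * σ⁻¹ = io2 a b (-s.1, s.2) := fun s => by
    rw [io2_conj ad (u := -(1, 0)) (v := (0, 1)) (by rw [ng, io2_10, sa]) (by rw [io2_01, sb])]
    congr 1; revert s; decide
  have act : ∀ g ∈ normalizer (T : Set G), ∃ e f : ZMod 3, e ≠ 0 ∧ f ≠ 0 ∧
      ∀ s, g * io2 a b s * g⁻¹ = io2 a b (e * s.1, f * s.2) := fun g hg => by
    obtain ⟨x, hx⟩ := (rg _).1 (nm g hg a aT)
    obtain ⟨y, hy⟩ := (rg _).1 (nm g hg b bT)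
    have x1 : (-x.1, x.2) = -x := ij (by rw [← aσ, ng, hx, cm g hg a aT, sa]; group)
    have y1 : (-y.1, y.2) = y := ij (by rw [← aσ, hy, cm g hg b bT, sb])
    have x0 : x ≠ 0 := by rintro rfl; exact a1 (by simpa [z0] using hx.symm)
    have y0 : y ≠ 0 := by rintro rfl; exact b1 (by rw [show b = 1 by simpa [z0] using hy.symm]; exact one_mem _)
    refine ⟨x.1, y.2, by clear hx; revert x; decide, by clear hy; revert y; decide, fun s => ?_⟩
    rw [io2_conj ad hx.symm hy.symm]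
    congr 1; clear hx hy; revert x y s; decide
  refine ⟨_, Md.of_act h ad ij rg (fun s => ?_) fun g hg s t e => ?_⟩
  · obtain ⟨e, f, he, hf, hs⟩ := act g hg
    have c1 : ∀ s : V2, IsConj (io2 a b s) (io2 a b (-s.1, s.2)) := fun s => isConj_iff.2 ⟨σ, aσ s⟩
    have c2 : ∀ s : V2, IsConj (io2 a b s) (io2 a b (e * s.1, f * s.2)) := fun s => isConj_iff.2 ⟨g, hs s⟩
    have f1 : f = -1 := by
      by_contra c
      obtain rfl : f = 1 := by clear hs c2; revert f; decide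
      by_cases c' : e = 1
      · subst c'
        exact h2 (ce g fun t ht => by obtain ⟨s, rfl⟩ := (rg _).1 ht; rw [hs]; simp)
      · obtain rfl : e = -1 := by clear hs c2; revert e; decide
        refine h3 (ce _ fun t ht => ?_)
        obtain ⟨s, rfl⟩ := (rg _).1 ht
        have := (hs s).trans (by rw [aσ]; simp : _ = σ * io2 a b s * σ⁻¹)
        calc σ⁻¹ * g * io2 a b s * (σ⁻¹ * g)⁻¹ = σ⁻¹ * (g * io2 a b s * g⁻¹) * σ := by group
          _ = _ := by rw [this]; group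
    subst f1
    have : r1 s = s ∨ r1 s = (-s.1, s.2) ∨ r1 s = (e * s.1, -1 * s.2) ∨ r1 s = (-(e * s.1), -1 * s.2) := by
      clear hs c2; revert e s; decide
    rcases this with k | k | k | k <;> rw [k]
    exacts [c1 s, c2 s, (c2 s).trans (c1 _)]
  · obtain ⟨e', f, he, hf, hs⟩ := act g hg
    rw [← ij ((hs s).symm.trans e)]
    clear hs e; revert e' f s; decide

theorem four_normal (P : Sylow 3 G) (hP : (P : Subgroup G) = T) (h : L3 T) (hT : Nat.card T = 9)
    (hC : centralizer (T : Set G) = T) [hn : (T.subgroupOf (normalizer (T : Set G))).Normal]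
    (hK : IsKleinFour (normalizer (T : Set G) ⧸ T.subgroupOf (normalizer (T : Set G)))) :
    normalizer (T : Set G) = ⊤ := by
  classical
  have hN : Nat.card (normalizer (T : Set G)) = 36 := by
    rw [card_eq_card_quotient_mul_card_subgroup (T.subgroupOf (normalizer (T : Set G))), hK.card_four,
      Nat.card_congr (subgroupOfEquivOfLe le_normalizer).toEquiv, hT]
  have hsq : ∀ g ∈ normalizer (T : Set G), g * g ∈ T := fun g hg =>
    (QuotientGroup.eq_one_iff (N := T.subgroupOf (normalizer (T : Set G))) (⟨g, hg⟩ * ⟨g, hg⟩)).1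
      (by rw [QuotientGroup.mk_mul]; exact IsKleinFour.mul_self _)
  obtain ⟨ι, hι⟩ : ∃ ι : V2 → G, Md T ι r1 := by
    obtain ⟨x, y, hx, hy, hxy⟩ : ∃ x y : normalizer (T : Set G) ⧸ T.subgroupOf (normalizer (T : Set G)),
        x ≠ 1 ∧ y ≠ 1 ∧ x ≠ y := by
      have := Fintype.ofFinite (normalizer (T : Set G) ⧸ T.subgroupOf (normalizer (T : Set G)))
      obtain ⟨x, hx, y, hy, e⟩ := Finset.one_lt_card.1 (show 1 < ((Finset.univ : Finset (normalizer (T : Set G) ⧸
        T.subgroupOf (normalizer (T : Set G)))).erase 1).card by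
          rw [Finset.card_erase_of_mem (Finset.mem_univ _), Finset.card_univ, ← Nat.card_eq_fintype_card, hK.card_four]
          norm_num)
      exact ⟨x, y, Finset.ne_of_mem_erase hx, Finset.ne_of_mem_erase hy, e⟩
    obtain ⟨⟨x, hx'⟩, rfl⟩ := QuotientGroup.mk_surjective x
    obtain ⟨⟨y, hy'⟩, rfl⟩ := QuotientGroup.mk_surjective y
    have x1 : x ∉ T := fun c => hx ((QuotientGroup.eq_one_iff _).2 c)
    have y1 : y ∉ T := fun c => hy ((QuotientGroup.eq_one_iff _).2 c)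
    have xy : x⁻¹ * y ∉ T := fun c => hxy (QuotientGroup.eq.2 c)
    by_cases c : ∀ t ∈ T, x * t * x⁻¹ = t⁻¹
    · refine four_core h hT hC hsq hy' hx' y1 x1 (fun k => xy (by simpa using inv_mem k)) fun k => xy ?_
      rw [← hC, mem_centralizer_iff]
      intro t ht
      have := (c t ht).trans (k t ht).symm
      calc t * (x⁻¹ * y) = x⁻¹ * (x * t * x⁻¹) * y := by group
        _ = _ := by rw [this]; group
    · exact four_core h hT hC hsq hx' hy' x1 y1 xy c
  exact top_of_bound h P hP ((core1 hι hN).trans_lt (by rw [hN, hT]; norm_num))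

end S3805

section S3701
open Equiv

def pA : Perm (Fin 9) := swap 0 1 * swap 1 2
def pB : Perm (Fin 9) := swap 3 4 * swap 4 5
def pC : Perm (Fin 9) := swap 6 7 * swap 7 8
def pI : Perm (Fin 9) := swap 0 1 * swap 3 4
def pJ : Perm (Fin 9) := swap 0 1 * swap 6 7
def io9 (v : V3) : Perm (Fin 9) := pA ^ v.1.val * io2 pB pC v.2
def ka9 (e : Bool × Bool) : Perm (Fin 9) := (if e.1 then pI else 1) * (if e.2 then pJ else 1)
def ac9 (e : Bool × Bool) (v : V3) : V3 :=
  (if xor e.1 e.2 then -v.1 else v.1, if e.1 then -v.2.1 else v.2.1, if e.2 then -v.2.2 else v.2.2)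
def xo (e f : Bool × Bool) : Bool × Bool := (xor e.1 f.1, xor e.2 f.2)

theorem io9_add (s t : V3) : io9 (s + t) = io9 s * io9 t := by
  have ha : pA ^ 3 = 1 := by decide
  have c1 : Commute pA pB := by unfold Commute SemiconjBy; decide
  have c2 : Commute pA pC := by unfold Commute SemiconjBy; decide
  rw [io9, io9, io9, Prod.fst_add, Prod.snd_add, ZMod.val_add, ← pow_eq_pow_mod _ ha, pow_add,
    io2_add (by decide) (by decide) (by unfold Commute SemiconjBy; decide)]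
  exact (((c1.pow_pow _ _).mul_right (c2.pow_pow _ _)).symm.mul_mul_mul_comm _ _).symm

theorem ka9_conj : ∀ e v, ka9 e * io9 v * (ka9 e)⁻¹ = io9 (ac9 e v) := by decide +kernel
theorem ka9_mul : ∀ e f, ka9 e * ka9 f = ka9 (xo e f) := by decide +kernel
theorem ka9_inv : ∀ e, (ka9 e)⁻¹ = ka9 e := by decide +kernel
theorem io9_ker : ∀ v e, io9 v = ka9 e → v = 0 ∧ e = (false, false) := by decide +kernel
theorem io9_pow : ∀ v e, (io9 v * ka9 e) ^ 27 = 1 → e = (false, false) := by decide +kernel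

theorem mem_cl9 {x : Perm (Fin 9)} : x ∈ closure ({pA, pB, pC, pI, pJ} : Set (Perm (Fin 9))) ↔
    ∃ v e, x = io9 v * ka9 e := by
  constructor
  · intro hx
    induction hx using closure_induction with
    | mem x hx =>
      rcases hx with rfl | rfl | rfl | rfl | rfl
      exacts [⟨(1, 0, 0), (false, false), by decide⟩, ⟨(0, 1, 0), (false, false), by decide⟩,
        ⟨(0, 0, 1), (false, false), by decide⟩, ⟨0, (true, false), by decide⟩, ⟨0, (false, true), by decide⟩]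
    | one => exact ⟨0, (false, false), by decide⟩
    | mul x y _ _ hx hy =>
      obtain ⟨v, e, rfl⟩ := hx
      obtain ⟨w, f, rfl⟩ := hy
      exact ⟨v + ac9 e w, xo e f, by rw [io9_add, ← ka9_conj, ← ka9_mul]; group⟩
    | inv x _ hx =>
      obtain ⟨v, e, rfl⟩ := hx
      refine ⟨ac9 e (-v), e, ?_⟩
      have : io9 (-v) = (io9 v)⁻¹ := by rw [eq_inv_iff_mul_eq_one, ← io9_add, neg_add_cancel]; decide
      rw [← ka9_conj, this, mul_inv_rev, ka9_inv, mul_assoc, ka9_mul]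
      rw [(by decide : ∀ e, ka9 (xo e e) = 1) e, mul_one]
  · rintro ⟨v, ⟨e, f⟩, rfl⟩
    have m : ∀ x ∈ ({pA, pB, pC, pI, pJ} : Set (Perm (Fin 9))), x ∈ closure ({pA, pB, pC, pI, pJ} : Set (Perm (Fin 9))) :=
      fun x hx => subset_closure hx
    refine mul_mem (mul_mem (pow_mem (m _ (by simp)) _) (mul_mem (pow_mem (m _ (by simp)) _) (pow_mem (m _ (by simp)) _)))
      (mul_mem ?_ ?_)
    · cases e; exacts [one_mem _, m _ (by simp)]
    · cases f; exacts [one_mem _, m _ (by simp)]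

theorem astill27 {G : Type*} [Group G] [Finite G] (H : Subgroup G)
    (φ : H ≃* closure ({pA, pB, pC, pI, pJ} : Set (Perm (Fin 9))))
    (T : Subgroup G) (hTH : T ≤ H) (hT : Nat.card T = 27) (hN : normalizer (T : Set G) = H)
    (hC : ∀ t ∈ T, t ≠ 1 → centralizer ({t} : Set G) ≤ H) : H = ⊤ := by
  classical
  have := Fintype.ofFinite G
  have k0 : ka9 (false, false) = 1 := by decide
  have i0 : io9 0 = 1 := by decide
  have m1 : ∀ v, io9 v ∈ closure ({pA, pB, pC, pI, pJ} : Set (Perm (Fin 9))) :=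
    fun v => mem_cl9.2 ⟨v, (false, false), by rw [k0, mul_one]⟩
  have m2 : ∀ e, ka9 e ∈ closure ({pA, pB, pC, pI, pJ} : Set (Perm (Fin 9))) :=
    fun e => mem_cl9.2 ⟨0, e, by rw [i0, one_mul]⟩
  let ψ : closure ({pA, pB, pC, pI, pJ} : Set (Perm (Fin 9))) →* G := H.subtype.comp φ.symm.toMonoidHom
  have ψi : Function.Injective ψ := Subtype.val_injective.comp φ.symm.injective
  let ι : V3 → G := fun v => ψ ⟨io9 v, m1 v⟩
  let κ : Bool × Bool → G := fun e => ψ ⟨ka9 e, m2 e⟩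
  have ad : ∀ s t, ι (s + t) = ι s * ι t := fun s t => by
    rw [← map_mul]; exact congrArg ψ (Subtype.ext (io9_add s t))
  have ij : Function.Injective ι := inj_of_ker ad fun s e =>
    (io9_ker s (false, false) (k0 ▸ congrArg Subtype.val (ψi (e.trans (map_one ψ).symm)))).1
  have cj : ∀ e v, κ e * ι v * (κ e)⁻¹ = ι (ac9 e v) := fun e v => by
    rw [← map_mul, ← map_inv, ← map_mul]; exact congrArg ψ (Subtype.ext (ka9_conj e v))
  have nf : ∀ g ∈ H, ∃ v e, g = ι v * κ e := fun g hg => by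
    obtain ⟨v, e, h⟩ := mem_cl9.1 (φ ⟨g, hg⟩).2
    refine ⟨v, e, ?_⟩
    rw [← map_mul, show (⟨io9 v, m1 v⟩ * ⟨ka9 e, m2 e⟩ : Subgroup.closure _) = φ ⟨g, hg⟩ from Subtype.ext h.symm]
    simp [ψ]
  have hH : Nat.card H = 108 := by
    rw [Nat.card_congr φ.toEquiv, ← Nat.card_congr (Equiv.ofBijective
      (fun p : V3 × Bool × Bool => (⟨io9 p.1 * ka9 p.2, mul_mem (m1 _) (m2 _)⟩ : Subgroup.closure _)) ⟨?_, ?_⟩)]
    · simp
    · rintro ⟨v, e⟩ ⟨w, f⟩ h
      have h1 : io9 v * ka9 e = io9 w * ka9 f := congrArg Subtype.val h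
      have h2 : io9 (-w + v) = ka9 (xo f e) := by
        have : io9 (-w) = (io9 w)⁻¹ := by rw [eq_inv_iff_mul_eq_one, ← io9_add, neg_add_cancel, i0]
        rw [io9_add, this, ← ka9_mul, ← ka9_inv e, eq_mul_inv_iff_mul_eq, mul_assoc, h1]; group
      obtain ⟨h3, h4⟩ := io9_ker _ _ h2
      rw [neg_add_eq_zero.1 h3, (by decide : ∀ e f, xo f e = (false, false) → e = f) e f h4]
    · rintro ⟨x, hx⟩
      obtain ⟨v, e, rfl⟩ := mem_cl9.1 hx
      exact ⟨(v, e), rfl⟩
  have sub : ∀ t ∈ T, ∃ v, ι v = t := fun t ht => by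
    obtain ⟨v, e, rfl⟩ := nf t (hTH ht)
    have h1 : (ι v * κ e) ^ 27 = 1 := hT ▸ orderOf_dvd_iff_pow_eq_one.1 (T.orderOf_dvd_natCard ht)
    rw [← map_mul, ← map_pow, ← map_one ψ] at h1
    obtain rfl := io9_pow v e (congrArg Subtype.val (ψi h1))
    exact ⟨v, by rw [show κ (false, false) = 1 from (congrArg ψ (Subtype.ext k0)).trans (map_one ψ), mul_one]⟩
  have rg : ∀ g, g ∈ T ↔ ∃ s, ι s = g := by
    choose f hf using fun t : T => sub t t.2
    have fb : Function.Bijective f := (Nat.bijective_iff_injective_and_card _).2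
      ⟨fun a b e => Subtype.ext (by rw [← hf, ← hf, e]), by rw [hT]; simp⟩
    refine fun g => ⟨sub g, ?_⟩
    rintro ⟨s, rfl⟩
    obtain ⟨t, rfl⟩ := fb.2 s
    exact hf t ▸ t.2
  have h3 : ¬ 3 ∣ T.index := by
    have h1 := Sylow.card_normalizer_modEq_card (p := 3) (n := 3) hT
    rw [hN, hH, ← T.card_mul_index, hT] at h1
    unfold Nat.ModEq at h1; omega
  let P := (IsPGroup.of_card (p := 3) (n := 3) hT).toSylow h3
  have hL : L3 T := L3.of_sylow P (fun t ht => by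
      obtain ⟨s, rfl⟩ := sub t ht
      rw [← io_nsmul ad, (by decide : ∀ s : V3, 3 • s = 0) s]; simpa using ad 0 0)
    (fun s hs t ht => by
      obtain ⟨s, rfl⟩ := sub s hs
      obtain ⟨t, rfl⟩ := sub t ht
      show ι s * ι t = ι t * ι s
      rw [← ad, ← ad, add_comm]) fun t ht h1 => (hC t ht h1).trans hN.ge
  have hM : Md T ι r3 := Md.of_act hL ad ij rg (fun s => by
    obtain ⟨e, he⟩ : ∃ e, r3 s = ac9 e s := by revert s; decide
    exact isConj_iff.2 ⟨κ e, he ▸ cj e s⟩) fun g hg s t e => by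
      obtain ⟨v, f, rfl⟩ := nf g (hN ▸ hg)
      have : ι v * (κ f * ι s * (κ f)⁻¹) * (ι v)⁻¹ = ι t := by rw [← e]; group
      rw [cj, ← ad, add_comm, ad, mul_inv_cancel_right] at this
      rw [← ij this]; clear this e hg; revert f s; decide
  rw [← hN] at hH ⊢
  exact top_of_bound hL P rfl ((core3 hM hH).trans_lt (by rw [hH, hT]; norm_num))

end S3701
end CfsgH4
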