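import Cfsg.Agent.H4.Tri3

/-! Higman's characterisation of `A₆` by a self-centralising Sylow 3-subgroup of order 9. -/

set_option autoImplicit false
set_option linter.unusedSectionVars false
open Subgroup Cfsg CfsgH3

namespace CfsgH4
variable {G : Type*} [Group G] [Fintype G] {T : Subgroup G}

open Classical in
theorem L3.card_cl (h : L3 T) {x : G} (hx : x ∈ T) (h1 : x ≠ 1) :
    Nat.card (centralizer ({x} : Set G)) * (Finset.univ.filter fun v => IsConj x v ∧ v ∈ T).card =
      Nat.card (normalizer (T : Set G)) := by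
  have e := sum_conj_eq x fun v => if v ∈ T then 1 else 0
  rw [Finset.sum_congr rfl (g := fun g => if g ∈ normalizer (T : Set G) then (1 : ℂ) else 0) fun g _ =>
    if_congr ⟨h.ti hx h1, fun hg => (mem_normalizer_iff.1 hg _).1 hx⟩ rfl rfl] at e
  simp only [← ite_and, Finset.sum_boole] at e
  rw [Nat.card_eq_fintype_card (α := normalizer _), Fintype.card_subtype]
  exact_mod_cast e.symm

open Classical in
theorem Md.of_card {V : Type} [AddCommGroup V] [Fintype V] [DecidableEq V] {ι : V → G} {r : V → V} (h : L3 T)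
    (h1 : ∀ s t, ι (s + t) = ι s * ι t) (h2 : Function.Injective ι)
    (h3 : ∀ g, g ∈ T ↔ ∃ s, ι s = g) (hA : ∀ s, IsConj (ι s) (ι (r s)))
    (hB : ∀ s, s ≠ 0 → (Finset.univ.filter fun t => IsConj (ι s) (ι t)).card ≤ (Finset.univ.filter fun t => r s = r t).card) :
    Md T ι r := by
  have k : ∀ s t, r s = r t → IsConj (ι s) (ι t) := fun s t e => (hA s).trans (e ▸ (hA t).symm)
  refine ⟨h, h1, h2, h3, fun s t => ⟨fun c => ?_, k s t⟩⟩
  by_cases c1 : s = 0
  · have z : ι 0 = 1 := by simpa using h1 0 0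
    subst c1
    rw [z, isConj_one_right, ← z] at c
    rw [h2 c]
  · have := Finset.eq_of_subset_of_card_le (s := Finset.univ.filter fun t => r s = r t) (fun t ht => by
      simp only [Finset.mem_filter, Finset.mem_univ, true_and] at ht ⊢; exact k s t ht) (hB s c1)
    have m : t ∈ Finset.univ.filter fun t => r s = r t := this ▸ Finset.mem_filter.2 ⟨Finset.mem_univ _, c⟩
    exact (Finset.mem_filter.1 m).2

theorem mem_zpowers_three {a b : G} (ha : a ^ 3 = 1) (h : b ∈ zpowers a) : b = 1 ∨ b = a ∨ b = a⁻¹ := by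
  obtain ⟨k, rfl⟩ := mem_powers_iff_mem_zpowers.2 h
  simp only
  rw [pow_eq_pow_mod k ha]
  have : k % 3 = 0 ∨ k % 3 = 1 ∨ k % 3 = 2 := by omega
  rcases this with e | e | e <;> rw [e]
  · simp
  · simp
  · right; right; rw [eq_inv_iff_mul_eq_one, ← ha]; simp [pow_succ]

theorem not_simple_of_sylow [IsSimpleGroup G] {p : ℕ} [Fact p.Prime] (P : Sylow p G)
    (hN : normalizer ((P : Subgroup G) : Set G) = ⊤) (h1 : Nat.card P ≠ 1) (h2 : Nat.card P ≠ Nat.card G) : False := by
  rcases (normalizer_eq_top_iff.1 hN).eq_bot_or_eq_top with e | e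
  · exact h1 (by rw [e]; simp)
  · exact h2 (by rw [e]; simp)

theorem higman_A6 [IsSimpleGroup G] (P : Sylow 3 G) (hP : T = P) (hc : ∀ s ∈ T, ∀ t ∈ T, Commute s t)
    (he : ∀ a ∈ T, a ^ 3 = 1) (hT : Nat.card T = 9)
    (hcl : ∃ a b : G, orderOf a = 3 ∧ orderOf b = 3 ∧ ∀ g : G, g * a * g⁻¹ ≠ b)
    (hC : ∀ s ∈ T, s ≠ 1 → centralizer ({s} : Set G) = T) : Nonempty (G ≃* alternatingGroup (Fin 6)) := by
  classical
  subst hP
  have h : L3 (P : Subgroup G) := L3.of_sylow P he hc fun t ht h1 => (hC t ht h1).le.trans le_normalizer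
  have hG : Nat.card P ≠ Nat.card G := fun e => by
    have e1 := (card_eq_iff_eq_top _).1 e
    let _ : CommGroup G := { (inferInstance : Group G) with mul_comm := fun a b => hc a (e1 ▸ mem_top a) b (e1 ▸ mem_top b) }
    have := IsSimpleGroup.prime_card (α := G)
    rw [← e, hT] at this; norm_num at this
  have hN : normalizer ((P : Subgroup G) : Set G) ≠ ⊤ := fun e => not_simple_of_sylow P e (by omega) hG
  obtain ⟨e, he9⟩ : 9 ∣ Nat.card (normalizer ((P : Subgroup G) : Set G)) := hT ▸ card_dvd_of_le le_normalizer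
  have cl : ∀ x ∈ (P : Subgroup G), x ≠ 1 → (Finset.univ.filter fun v => IsConj x v ∧ v ∈ (P : Subgroup G)).card = e :=
    fun x hx h1 => by have := h.card_cl hx h1; rw [hC x hx h1, hT] at this; omega
  have cP : ((Finset.univ.filter fun v => v ∈ (P : Subgroup G)).erase 1).card = 8 := by
    rw [Finset.card_erase_of_mem (by simp), ← Fintype.card_subtype, ← Nat.card_eq_fintype_card, hT]
  have e4 : e ≤ 4 := by
    obtain ⟨a, b, ha, hb, hab⟩ := hcl
    obtain ⟨g, hg⟩ := h.syl a (ha ▸ pow_orderOf_eq_one a)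
    obtain ⟨k, hk⟩ := h.syl b (hb ▸ pow_orderOf_eq_one b)
    have a1 : g * a * g⁻¹ ≠ 1 := by rw [Ne, conj_eq_one_iff]; rintro rfl; simp at ha
    have b1 : k * b * k⁻¹ ≠ 1 := by rw [Ne, conj_eq_one_iff]; rintro rfl; simp at hb
    have := Finset.card_le_card (s := (Finset.univ.filter fun v => IsConj (g * a * g⁻¹) v ∧ v ∈ (P : Subgroup G)) ∪
      (Finset.univ.filter fun v => IsConj (k * b * k⁻¹) v ∧ v ∈ (P : Subgroup G)))
      (t := (Finset.univ.filter fun v => v ∈ (P : Subgroup G)).erase 1) fun v hv => by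
        simp only [Finset.mem_union, Finset.mem_filter, Finset.mem_univ, true_and, Finset.mem_erase] at hv ⊢
        rcases hv with hv | hv <;> refine ⟨?_, hv.2⟩ <;> rintro rfl
        exacts [a1 (isConj_one_left.1 hv.1), b1 (isConj_one_left.1 hv.1)]
    rw [Finset.card_union_of_disjoint (Finset.disjoint_filter.2 fun v _ h1 h2 => ?_), cl _ hg a1, cl _ hk b1, cP] at this
    · omega
    · obtain ⟨c, hc⟩ := isConj_iff.1 ((isConj_iff.2 ⟨g, rfl⟩ : IsConj a _).trans (h1.1.trans (h2.1.symm.trans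
        (isConj_iff.2 ⟨k, rfl⟩ : IsConj b _).symm)))
      exact hab c hc
  have e3 : ¬ 3 ∣ e := fun c => P.not_dvd_index (by
    have h1 := (P : Subgroup G).card_mul_index
    have h2 := (normalizer ((P : Subgroup G) : Set G)).card_mul_index
    rw [he9, ← h1, hT, mul_assoc] at h2
    rw [← Nat.eq_of_mul_eq_mul_left (by norm_num) h2]; exact c.mul_right _)
  have e1 : e ≠ 1 := by
    rintro rfl
    have h1 : normalizer ((P : Subgroup G) : Set G) = P := (eq_of_le_of_card_ge le_normalizer (by omega)).symm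
    have h2 := MonoidHom.ker_transferSylow_isComplement' P (h1.le.trans fun x hx => mem_centralizer_iff.2 fun y hy => hc y hy x hx)
    have h3 := h2.card_mul_card
    rcases (MonoidHom.normal_ker (MonoidHom.transferSylow P _)).eq_bot_or_eq_top with c | c <;> rw [c] at h3
    · exact hG (by simpa using h3)
    · rw [card_top, hT] at h3; have := Nat.card_pos (α := G); omega
  have e0 : e ≠ 0 := by rintro rfl; exact Nat.card_pos.ne' he9
  obtain ⟨⟨t, ht⟩, ht2⟩ := exists_prime_orderOf_dvd_card' (G := normalizer ((P : Subgroup G) : Set G)) 2 (by omega)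
  rw [← orderOf_coe] at ht2
  have tt : t * t = 1 := by rw [← pow_two, ← ht2]; exact pow_orderOf_eq_one t
  have inv : ∀ s ∈ (P : Subgroup G), IsConj s s⁻¹ := fun s hs => by
    have m := (mem_normalizer_iff.1 ht s).1 hs
    refine isConj_iff.2 ⟨t, eq_inv_of_mul_eq_one_right ?_⟩
    by_contra c
    have h1 : t ∈ (P : Subgroup G) := hC _ (mul_mem hs m) c ▸ mem_centralizer_singleton_iff.2 (by
      have ti : t⁻¹ = t := inv_eq_of_mul_eq_one_right tt
      calc t * (s * (t * s * t⁻¹)) = (t * s * t⁻¹ * s) * t := by rw [ti]; group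
        _ = _ := by rw [(hc _ hs _ m).eq])
    have := he t h1
    rw [pow_succ, pow_two, tt, one_mul] at this
    simp [this] at ht2
  obtain ⟨a, ha, a1⟩ : ∃ a ∈ (P : Subgroup G), a ≠ 1 := by
    obtain ⟨a, ha⟩ := Finset.card_pos.1 (cP ▸ (by norm_num : 0 < 8))
    exact ⟨a, by simpa using Finset.mem_of_mem_erase ha, Finset.ne_of_mem_erase ha⟩
  have mk : ∀ b ∈ (P : Subgroup G), b ≠ 1 → b ≠ a → b ≠ a⁻¹ → (∀ s t, io2 a b (s + t) = io2 a b s * io2 a b t) ∧
      Function.Injective (io2 a b) ∧ (∀ g, g ∈ (P : Subgroup G) ↔ ∃ s, io2 a b s = g) ∧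
      (∀ s, IsConj (io2 a b s) (io2 a b (-s))) ∧
      ∀ s, s ≠ 0 → (Finset.univ.filter fun t => IsConj (io2 a b s) (io2 a b t)).card = e := fun b hb b1 b2 b3 => by
    have ad := io2_add (he a ha) (he b hb) (hc a ha b hb)
    have ij := io2_inj (he a ha) (he b hb) (hc a ha b hb) a1 fun c => by
      rcases mem_zpowers_three (he a ha) c with c | c | c <;> contradiction
    have rg := range_of_card ij (fun s => mul_mem (pow_mem ha _) (pow_mem hb _)) (by rw [hT]; rfl)
    refine ⟨ad, ij, rg, fun s => ?_, fun s hs => ?_⟩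
    · rw [show io2 a b (-s) = (io2 a b s)⁻¹ by rw [eq_inv_iff_mul_eq_one, ← ad, neg_add_cancel]; simp [io2]]
      exact inv _ ((rg _).2 ⟨s, rfl⟩)
    · have := card_class h ad ij rg hs
      rw [hC _ ((rg _).2 ⟨s, rfl⟩) fun c => hs (ij (c.trans (by simp [io2]))), hT] at this
      omega
  have pick : ∀ S : Finset G, 2 < S.card → ∃ b ∈ S, b ≠ a ∧ b ≠ a⁻¹ := fun S hS => by
    by_contra c; push Not at c
    have := Finset.card_le_card (s := S) (t := {a, a⁻¹}) fun b hb => by
      by_cases k : b = a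
      · simp [k]
      · simp [c b hb k]
    have := Finset.card_le_two (a := a) (b := a⁻¹); omega
  obtain rfl | rfl : e = 2 ∨ e = 4 := by omega
  · obtain ⟨b, hb, b2, b3⟩ := pick _ (cP ▸ (by norm_num : 2 < 8))
    obtain ⟨ad, ij, rg, ng, ct⟩ := mk b (by simpa using Finset.mem_of_mem_erase hb) (Finset.ne_of_mem_erase hb) b2 b3
    have hM : Md (P : Subgroup G) (io2 a b) r2 := Md.of_card h ad ij rg (fun s => by
      rcases (by decide : ∀ s, r2 s = s ∨ r2 s = -s) s with k | k <;> rw [k]
      exact ng s) fun s hs => by rw [ct s hs]; clear ct; revert s; decide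
    exact (hN (top_of_bound h P rfl ((core2 hM he9).trans_lt (by rw [he9, hT]; norm_num)))).elim
  obtain ⟨b, hb, b2, b3⟩ := pick _ ((cl a ha a1).symm ▸ (by norm_num : 2 < 4))
  simp only [Finset.mem_filter, Finset.mem_univ, true_and] at hb
  obtain ⟨ad, ij, rg, ng, ct⟩ := mk b hb.2 (by rintro rfl; exact a1 (isConj_one_left.1 hb.1)) b2 b3
  have A1 : ∀ s, r4 s = (1, 0) → IsConj (io2 a b (1, 0)) (io2 a b s) := fun s hs => by
    have k : IsConj (io2 a b (1, 0)) (io2 a b (0, 1)) := by rw [io2_10, io2_01]; exact hb.1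
    rcases (by decide : ∀ s, r4 s = (1, 0) → s = (1, 0) ∨ s = -(1, 0) ∨ s = (0, 1) ∨ s = -(0, 1)) s hs with rfl | rfl | rfl | rfl
    exacts [IsConj.refl _, ng _, k, k.trans (ng _)]
  have B1 : (Finset.univ.filter fun s => r4 s = (1, 0)) = Finset.univ.filter fun t => IsConj (io2 a b (1, 0)) (io2 a b t) :=
    Finset.eq_of_subset_of_card_le (fun t ht => by
      simp only [Finset.mem_filter, Finset.mem_univ, true_and] at ht ⊢; exact A1 t ht) (by rw [ct _ (by decide)]; decide)
  have B2 : (Finset.univ.filter fun t => IsConj (io2 a b (1, 1)) (io2 a b t)) = Finset.univ.filter fun s => r4 s = (1, 1) :=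
    Finset.eq_of_subset_of_card_le (fun t ht => by
      simp only [Finset.mem_filter, Finset.mem_univ, true_and] at ht ⊢
      rcases (by decide : ∀ s, s = 0 ∨ r4 s = (1, 0) ∨ r4 s = (1, 1)) t with rfl | k | k
      · have z : io2 a b 0 = 1 := by simp [io2]
        rw [z, isConj_one_left, ← z] at ht
        exact absurd (ij ht) (by decide)
      · have : ((1, 1) : V2) ∈ Finset.univ.filter fun s => r4 s = (1, 0) :=
          B1 ▸ Finset.mem_filter.2 ⟨Finset.mem_univ _, (A1 t k).trans ht.symm⟩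
        exact absurd this (by decide)
      · exact k) (by rw [ct _ (by decide)]; decide)
  have hM : Md (P : Subgroup G) (io2 a b) r4 := Md.of_card h ad ij rg (fun s => by
      rcases (by decide : ∀ s, r4 s = s ∨ r4 s = (1, 0) ∨ r4 s = (1, 1)) s with k | k | k
      · rw [k]
      · exact k ▸ (A1 s k).symm
      · have : s ∈ Finset.univ.filter fun t => IsConj (io2 a b (1, 1)) (io2 a b t) :=
          B2 ▸ Finset.mem_filter.2 ⟨Finset.mem_univ _, k⟩
        exact k ▸ (Finset.mem_filter.1 this).2.symm) fun s hs => by rw [ct s hs]; clear ct; revert s; decide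
  have b1 := core4 hM he9
  have b2 := h.index_mod P rfl
  have b3 := (normalizer ((P : Subgroup G) : Set G)).card_mul_index
  have b4 : (normalizer ((P : Subgroup G) : Set G)).index ≠ 1 := fun c => hN (index_eq_one.1 c)
  rw [hT, Nat.ModEq] at b2
  rw [he9] at b3
  obtain b5 | b5 : (normalizer ((P : Subgroup G) : Set G)).index = 10 ∨ Nat.card G = 684 := by omega
  swap
  · have : Fact (Nat.Prime 19) := ⟨by norm_num⟩
    obtain ⟨Q⟩ : Nonempty (Sylow 19 G) := inferInstance
    have q1 : Nat.card Q = 19 := by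
      rw [Q.card_eq_multiplicity, b5, show 684 = 19 * 36 by norm_num, Nat.factorization_mul (by norm_num) (by norm_num)]
      simp [Nat.Prime.factorization_self this.out, Nat.factorization_eq_zero_of_not_dvd (by norm_num : ¬ 19 ∣ 36)]
    have q2 := Q.card_dvd_index
    have q3 := card_sylow_modEq_one 19 G
    have q4 := (Q : Subgroup G).card_mul_index
    rw [show (Q : Subgroup G).index = 36 by rw [b5] at q4; change Nat.card Q * _ = _ at q4; rw [q1] at q4; omega] at q2
    have q5 := Nat.le_of_dvd (by norm_num) q2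
    have q6 : Nat.card (Sylow 19 G) = 1 := by
      rw [Nat.ModEq] at q3
      obtain c | c : Nat.card (Sylow 19 G) = 1 ∨ Nat.card (Sylow 19 G) = 20 := by omega
      · exact c
      · rw [c] at q2; norm_num at q2
    rw [Q.card_eq_index_normalizer, index_eq_one] at q6
    exact (not_simple_of_sylow Q q6 (by omega) (by omega)).elim
  have n10 : Nat.card (Sylow 3 G) = 10 := P.card_eq_index_normalizer.trans b5
  obtain ⟨Z, hK⟩ := CfsgH8.z3_of_cc P hC (by omega) (by omega)
  obtain ⟨Q, hQ⟩ : ∃ Q : Sylow 3 G, Q ≠ P := by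
    have := Finite.one_lt_card_iff_nontrivial.1 (show 1 < Nat.card (Sylow 3 G) by omega)
    exact exists_ne P
  have c4 := (hK P).card_G Z hQ
  rw [hT] at c4
  have c9 : Nat.card (GaloisField 3 2) = 9 := GaloisField.card 3 2 two_ne_zero
  obtain ⟨f⟩ := Z.psl_of_even hQ.symm (show Even _ from ⟨2, by omega⟩) (by omega) (GaloisField 3 2) (by omega)
  obtain ⟨f'⟩ := CfsgH8.alt_six_psl (GaloisField 3 2) c9
  exact ⟨f.trans f'.symm⟩

end CfsgH4
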