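import Mathlib
import Cfsg.Agent.H4.PSol
import Cfsg.Agent.H4.Ext2
import Cfsg.Agent.H1.Solv
import Cfsg.Agent.H2.PGroup

/-! Principal blocks for two primes in solvable-type groups. -/

set_option autoImplicit false
open Subgroup Function Cfsg CfsgH3 CfsgH1 Pointwise

namespace CfsgH4
universe u
variable {G : Type u} [Group G] [Finite G] {p : ℕ} [hp : Fact p.Prime]

theorem le_of_le_frattini (hs : IsPSolvable p G) (h0 : pPrimeCore p G = ⊥) {A B : Subgroup G} [A.Normal] [B.Normal]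
    (hB : B ≤ frattini G) (hc : (B.relIndex A).Coprime p) : A ≤ B := by
  have hsA := piSep_of_isPSolvable (IsPSolvable.subgroup hs A)
  obtain ⟨W, hW, -⟩ := hsA.exists_hallOf_ge (K := ⊥) bot_le (by simpa using IsPiNum.one) False.elim
  obtain ⟨h1, h2, h3⟩ := isPiHallOf_iff.1 hW
  have h4 : A ≤ W ⊔ B := relIndex_eq_one.1 (IsPiNum.eq_one (π := {p}ᶜ)
    (((IsPiNum.compl_singleton_iff hp.out).2 hc).of_dvd (relIndex_dvd_of_le_left _ le_sup_right))
    (h3.of_dvd (relIndex_dvd_of_le_left _ le_sup_left)))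
  have h5 : normalizer (W : Set G) ⊔ B = ⊤ := eq_top_iff.2 fun g _ => by
    obtain ⟨m, hm, e⟩ := hsA.hallOf_conj (IsPiHallOf.conj hW (g := g) (by rw [normalizer_eq_top]; trivial)) hW False.elim
    rw [← mul_smul, ← map_mul] at e
    have : m * g ∈ normalizer (W : Set G) := conjAct_pointwise_smul_iff.1 e
    rw [show g = m⁻¹ * (m * g) by group]
    exact mul_mem (inv_mem (sup_le_sup_right le_normalizer _ (h4 hm))) (mem_sup_left this)
  have := normalizer_eq_top_iff.1 (eq_top_of_sup_le_frattini hB h5)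
  have h6 := le_pPrimeCore ((IsPiNum.compl_singleton_iff hp.out).1 h2)
  rwa [le_bot_iff.1 (h6.trans h0.le), bot_sup_eq] at h4

theorem map_le_frattini {L : Subgroup G} [L.Normal]
    (h : ∀ χ : IrrCharacter G, (∀ n ∈ pPrimeCore p G, χ.1 n = χ.1 1) → ¬ p ∣ charDegree χ.1 → ∀ n ∈ L, χ.1 n = χ.1 1) :
    L.map (QuotientGroup.mk' (pPrimeCore p G)) ≤ frattini (G ⧸ pPrimeCore p G) := by
  obtain ⟨P⟩ : Nonempty (Sylow p (G ⧸ pPrimeCore p G)) := inferInstance
  obtain ⟨N, hN, h1, h2⟩ := exists_pKer_le (CfsgH2.IsSylowIn.of_sylow_top P)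
  have h3 := le_pPrimeCore ((Nat.Prime.coprime_iff_not_dvd hp.out).2 (not_dvd_card_of_cent P.isPGroup' h1)).symm
  rw [pPrimeCore_quotient_pPrimeCore, le_bot_iff] at h3
  rw [h3, bot_sup_eq] at h2
  have := (QuotientGroup.mk'_surjective (pPrimeCore p G))
  have : (L.map (QuotientGroup.mk' (pPrimeCore p G))).Normal := Normal.map inferInstance _ this
  refine le_frattini_of_le_map_frattini (le_trans ?_ (h2.trans (CfsgH2.commutator_le_map_frattini P.isPGroup')))
  rintro _ ⟨n, hn, rfl⟩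
  exact mem_pKer.2 fun χ hχ => h ⟨_, χ.2.comp_surjective _ (QuotientGroup.mk'_surjective _)⟩
    (fun k hk => by simp [(QuotientGroup.eq_one_iff k).2 hk]) (by rwa [charDegree_comp]) n hn

theorem twoP_le (hs : IsPSolvable p G) {L U : Subgroup G} [L.Normal] [U.Normal]
    (h : L.map (QuotientGroup.mk' (pPrimeCore p G)) ≤ frattini (G ⧸ pPrimeCore p G))
    (hc : ((pPrimeCore p G ⊔ L).relIndex U).Coprime p) : U ≤ pPrimeCore p G ⊔ L := by
  have hf := QuotientGroup.mk'_surjective (pPrimeCore p G)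
  have : (L.map (QuotientGroup.mk' (pPrimeCore p G))).Normal := Normal.map inferInstance _ hf
  have : (U.map (QuotientGroup.mk' (pPrimeCore p G))).Normal := Normal.map inferInstance _ hf
  have := le_of_le_frattini (A := U.map (QuotientGroup.mk' _)) (IsPSolvable.quotient hs _) (pPrimeCore_quotient_pPrimeCore p G) h
    (by rwa [← relIndex_comap, comap_map_mk', sup_comm])
  rwa [map_le_iff_le_comap, comap_map_mk', sup_comm] at this

theorem eq_of_principal_eq {q : ℕ} [hq : Fact q.Prime] (hd : p ∣ Nat.card G) (hps : IsPSolvable p G) (hqs : IsPSolvable q G)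
    {Mp Mq : Ideal AlgInt} (hMp : IsPModular p Mp) (hMq : IsPModular q Mq) (h : ∀ χ : IrrCharacter G,
      (χ ∈ principalBlock Mp G ∧ ¬ p ∣ charDegree χ.1) ↔ (χ ∈ principalBlock Mq G ∧ ¬ q ∣ charDegree χ.1)) : p = q := by
  by_contra c
  simp only [mem_principal_iff_psolv hMp hps, mem_principal_iff_psolv hMq hqs] at h
  have h1 := map_le_frattini (p := p) (L := pPrimeCore q G) fun χ a b => ((h χ).1 ⟨a, b⟩).1
  have h2 := map_le_frattini (p := q) (L := pPrimeCore p G) fun χ a b => ((h χ).2 ⟨a, b⟩).1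
  set T := pPrimeCore p G ⊔ pPrimeCore q G with hT
  have h3 : T ≠ ⊤ := fun e => by
    have : Nontrivial (G ⧸ pPrimeCore p G) := QuotientGroup.nontrivial_iff.2 fun e' =>
      (Nat.Prime.coprime_iff_not_dvd hp.out).1 (pPrimeCore_eq_top_iff.1 e').symm hd
    refine frattini_ne_top (eq_top_iff.2 (le_trans ?_ h1))
    rw [← map_top_of_surjective _ (QuotientGroup.mk'_surjective (pPrimeCore p G)), ← e, hT, Subgroup.map_sup,
      (map_mk'_eq_bot_iff _).2 le_rfl, bot_sup_eq]
  have : Nontrivial (G ⧸ T) := QuotientGroup.nontrivial_iff.2 h3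
  obtain ⟨M, hM, h4, -, h5⟩ := IsPSolvable.exists_normal_le (IsPSolvable.quotient hps T) ⊤ top_ne_bot
  refine h4 ?_
  rw [← map_comap_eq_self_of_surjective (QuotientGroup.mk'_surjective T) M, map_mk'_eq_bot_iff]
  rcases h5 with h5 | h5
  · exact twoP_le hps h1 (by rwa [relIndex_comap_mk'])
  · refine (twoP_le hqs h2 ?_).trans (sup_comm _ _).le
    rw [sup_comm, relIndex_comap_mk']
    exact IsPGroup.coprime_card_of_coprime h5 ((Nat.coprime_primes hq.out hp.out).2 (Ne.symm c))

end CfsgH4
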